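import Mathlib
import Cfsg.Agent.Lib.Helper6.SzCh.Defs
import Cfsg.Agent.Lib.Helper78.CharOrtho
import Cfsg.Agent.Lib.Helper78.CharMore
import Cfsg.Agent.Lib.Helper52.BL.Gen
import Cfsg.Agent.Lib.Helper75.Clifford
import Cfsg.Agent.S0148

/-!
helper86: project SZCH (helper6), module [X-FAM], core: `exc_family_of` = the sheet statement `exc_family`
with the facts of the modules [EXC-TI], [G-COPRIME], [MACKEY], [B-LIN] that it uses as hypotheses.
-/

set_option autoImplicit false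

namespace Cfsg.Agent.Lib.Helper86.SzCh

open Cfsg Cfsg.Agent.Lib.Helper6.SzCh
open scoped ComplexConjugate Classical

universe u

variable {G : Type u} [Group G]

/-- `sumNe` of a function that is constant on `A \ 1`. -/
theorem sumNe_const [Finite G] (A : Subgroup G) (f : G → ℂ) (c : ℂ)
    (hf : ∀ y ∈ A, y ≠ 1 → f y = c) : sumNe A f = ((Nat.card A : ℂ) - 1) * c := by
  unfold sumNe
  have h1 : (fun x : {x : G // x ∈ A ∧ x ≠ 1} => f (x : G)) = fun _ => c := by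
    funext x; exact hf x.1 x.2.1 x.2.2
  rw [h1]
  have : Fintype {x : G // x ∈ A ∧ x ≠ 1} := Fintype.ofFinite _
  rw [finsum_eq_sum_of_fintype, Finset.sum_const, Finset.card_univ, nsmul_eq_mul]
  congr 1
  have hcard : Fintype.card {x : G // x ∈ A ∧ x ≠ 1} + 1 = Nat.card A := by
    rw [← Nat.card_eq_fintype_card]
    have hset : Nat.card {x : G // x ∈ A ∧ x ≠ 1} = ((A : Set G) \ {1}).ncard := by
      rw [← Nat.card_coe_set_eq]
      apply Nat.card_congr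
      exact Equiv.subtypeEquivRight (fun x => by simp)
    rw [hset, Set.ncard_sdiff_singleton_add_one (A.one_mem) (Set.toFinite _)]
    exact Nat.card_coe_set_eq _
  rw [← hcard]
  push_cast
  ring

/-- Core of [X-FAM]. -/
theorem exc_family_of [Fintype G] (D : SzData G) [Fintype ↥D.B] (A : Subgroup G) (hA : A = D.A₁ ∨ A = D.A₂)
    (hbig : 13 ≤ Nat.card A)
    -- [EXC-TI] for `A`, `e = 4`
    (hexc : ∃ (δ d : ℤ) (Y : Finset (IrrCharacter G)) (v : IrrCharacter G → ℤ),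
      (δ = 1 ∨ δ = -1) ∧
      Y.card * 4 + 1 = Nat.card A ∧
      (∀ χ ∈ Y, (χ : G → ℂ) ≠ fun _ => 1) ∧
      (∀ χ : IrrCharacter G, χ ∉ Y → ∀ y ∈ A, y ≠ 1 → (χ : G → ℂ) y = (v χ : ℂ)) ∧
      (∀ χ ∈ Y, sumNe A (fun y => (χ : G → ℂ) y * conj ((χ : G → ℂ) y)) =
        ((Nat.card A : ℂ) - 1) * (d : ℂ) ^ 2 - 2 * ((4 : ℕ) : ℂ) * (d : ℂ) * (δ : ℂ) +
          ((4 : ℕ) : ℂ) * ((Nat.card A : ℂ) - ((4 : ℕ) : ℂ))) ∧
      ((d - δ) ^ 2 + ((Y.card : ℤ) - 1) * d ^ 2 +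
        ∑ χ ∈ Finset.univ.filter (fun χ : IrrCharacter G => χ ∉ Y), v χ ^ 2 = ((4 : ℕ) : ℤ) + 1) ∧
      (∀ g : G, (∀ x : G, x * g * x⁻¹ ∈ A → g = 1) →
        ∀ χ ∈ Y, ∀ χ' ∈ Y, (χ : G → ℂ) g = (χ' : G → ℂ) g))
    -- [G-COPRIME]
    (hcop : ∀ {b : G}, b ∈ D.B → ∀ x : G, x * b * x⁻¹ ∈ D.A₁ ∨ x * b * x⁻¹ ∈ D.A₂ → b = 1)
    -- [MACKEY]
    (hmackey : ∀ α β : ↥D.B → ℂ, IsClassFunction ↥D.B α → IsClassFunction ↥D.B β →
      classInner (indFun D.B α) (indFun D.B β) = classInner α β +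
        (Nat.card D.K : ℂ)⁻¹ * ∑ᶠ k : ↥D.K, α ⟨(k : G), D.K_le k.2⟩ *
          conj (β ⟨(k : G)⁻¹, D.K_le (D.K.inv_mem k.2)⟩))
    -- [B-LIN]
    (hinv : ∀ {lam : ↥D.B → ℂ}, IsLinQ D lam → ∀ x : ↥D.B, lam x⁻¹ = conj (lam x))
    (hsumK : ∀ {lam mu : ↥D.B → ℂ}, IsLinQ D lam → IsLinQ D mu →
      (Nat.card D.K : ℂ)⁻¹ * ∑ᶠ k : ↥D.K, lam ⟨(k : G), D.K_le k.2⟩ * mu ⟨(k : G), D.K_le k.2⟩ =
        if mu = (fun x => conj (lam x)) then 1 else 0) :
    ∃ Y : Finset (IrrCharacter G), Y.card * 4 + 1 = Nat.card A ∧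
      (∀ χ ∈ Y, IsCusp D χ.1) ∧
      (∀ χ ∈ Y, ∀ χ' ∈ Y, resB D χ.1 = resB D χ'.1) ∧
      (25 ≤ Nat.card A →
        (∀ χ ∈ Y, sumNe A (fun y => (χ : G → ℂ) y * conj ((χ : G → ℂ) y)) = 4 * (Nat.card A : ℂ) - 16) ∧
        (∀ χ : IrrCharacter G, χ ∉ Y → ∃ v : ℤ,
          sumNe A (fun y => (χ : G → ℂ) y * conj ((χ : G → ℂ) y)) = ((Nat.card A : ℂ) - 1) * (v : ℂ) ^ 2)) := by
  obtain ⟨δ, d, Y, v, hδ, hYcard, hYne, hv, hsum, hnorm, hagree⟩ := hexc
  -- members of `Y` agree on `B`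
  have hres : ∀ χ ∈ Y, ∀ χ' ∈ Y, resB D χ.1 = resB D χ'.1 := by
    intro χ hχ χ' hχ'
    funext b
    unfold resB
    apply hagree (b : G) _ χ hχ χ' hχ'
    intro x hx
    apply hcop b.2 x
    rcases hA with h | h
    · left; rw [← h]; exact hx
    · right; rw [← h]; exact hx
  have hY3 : 3 ≤ Y.card := by omega
  refine ⟨Y, hYcard, ?_, hres, ?_⟩
  · -- cuspidal
    intro χ₀ hχ₀ lam hl
    have hlchar : IsCharacter ↥D.B lam := Cfsg.Agent.Lib.Helper78.IsIrrCharacter.isCharacter hl.1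
    have hlcf : IsClassFunction ↥D.B lam := Cfsg.Agent.Lib.Helper78.IsCharacter.isClassFunction hlchar
    set I : G → ℂ := indFun D.B lam with hI
    have hIchar : IsCharacter G I := Cfsg.Agent.S0148.result D.B lam hlchar
    -- multiplicities
    have hm : ∀ χ : IrrCharacter G,
        classInner (fun b : ↥D.B => (χ : G → ℂ) (b : G)) lam =
          (Cfsg.Agent.Lib.Helper52.BL.mult I (χ : G → ℂ) : ℂ) := by
      intro χ
      have h1 := Cfsg.Agent.Lib.Helper75.frobenius_reciprocity' D.B lam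
        (Cfsg.Agent.Lib.Helper78.isClassFunction_irr χ)
      rw [← h1]
      exact Cfsg.Agent.Lib.Helper52.BL.mult_spec' hIchar χ.2
    set n : ℕ := Cfsg.Agent.Lib.Helper52.BL.mult I (χ₀ : G → ℂ) with hn
    have hmY : ∀ χ ∈ Y, Cfsg.Agent.Lib.Helper52.BL.mult I (χ : G → ℂ) = n := by
      intro χ hχ
      have h1 := hm χ
      have h2 := hm χ₀
      have h3 : (fun b : ↥D.B => (χ : G → ℂ) (b : G)) = fun b : ↥D.B => (χ₀ : G → ℂ) (b : G) :=
        hres χ hχ χ₀ hχ₀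
      rw [h3, h2] at h1
      exact_mod_cast h1.symm
    -- Mackey
    have hII := hmackey lam lam hlcf hlcf
    have hll : classInner lam lam = 1 := Cfsg.Agent.Lib.Helper78.classInner_irr_self hl.1
    have hK : (Nat.card D.K : ℂ)⁻¹ * ∑ᶠ k : ↥D.K, lam ⟨(k : G), D.K_le k.2⟩ *
        conj (lam ⟨(k : G)⁻¹, D.K_le (D.K.inv_mem k.2)⟩) =
        if lam = (fun x => conj (lam x)) then 1 else 0 := by
      rw [← hsumK hl hl]
      congr 1
      apply finsum_congr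
      intro k
      congr 1
      have : (⟨(k : G)⁻¹, D.K_le (D.K.inv_mem k.2)⟩ : ↥D.B) = (⟨(k : G), D.K_le k.2⟩ : ↥D.B)⁻¹ := rfl
      rw [this, hinv hl, Complex.conj_conj]
    rw [hll, hK, Cfsg.Agent.Lib.Helper52.BL.classInner_eq_sum_mult hIchar hIchar] at hII
    have hle : (∑ ψ : IrrCharacter G, Cfsg.Agent.Lib.Helper52.BL.mult I (ψ : G → ℂ) *
        Cfsg.Agent.Lib.Helper52.BL.mult I (ψ : G → ℂ)) ≤ 2 := by
      split_ifs at hII
      · have : ((∑ ψ : IrrCharacter G, Cfsg.Agent.Lib.Helper52.BL.mult I (ψ : G → ℂ) *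
            Cfsg.Agent.Lib.Helper52.BL.mult I (ψ : G → ℂ) : ℕ) : ℂ) = ((2 : ℕ) : ℂ) := by
          rw [hII]; norm_num
        exact (Nat.cast_injective this).le
      · have : ((∑ ψ : IrrCharacter G, Cfsg.Agent.Lib.Helper52.BL.mult I (ψ : G → ℂ) *
            Cfsg.Agent.Lib.Helper52.BL.mult I (ψ : G → ℂ) : ℕ) : ℂ) = ((1 : ℕ) : ℂ) := by
          rw [hII]; norm_num
        have := Nat.cast_injective this
        omega
    have hYle : ∑ ψ ∈ Y, Cfsg.Agent.Lib.Helper52.BL.mult I (ψ : G → ℂ) *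
        Cfsg.Agent.Lib.Helper52.BL.mult I (ψ : G → ℂ) ≤ 2 :=
      le_trans (Finset.sum_le_sum_of_subset (Finset.subset_univ Y)) hle
    have hYsum : ∑ ψ ∈ Y, Cfsg.Agent.Lib.Helper52.BL.mult I (ψ : G → ℂ) *
        Cfsg.Agent.Lib.Helper52.BL.mult I (ψ : G → ℂ) = Y.card * (n * n) := by
      rw [Finset.sum_congr rfl (fun ψ hψ => by rw [hmY ψ hψ]), Finset.sum_const, smul_eq_mul]
    rw [hYsum] at hYle
    have hn0 : n = 0 := by
      by_contra hne
      have : 1 ≤ n * n := Nat.one_le_iff_ne_zero.2 (Nat.mul_ne_zero hne hne)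
      nlinarith
    have := hm χ₀
    rw [← hn, hn0] at this
    simpa using this
  · -- the case `25 ≤ |A|`
    intro h25
    have hY6 : 6 ≤ Y.card := by omega
    -- the principal character
    set χ₁ : IrrCharacter G := ⟨fun _ => 1, Cfsg.Agent.Lib.Helper78.isIrrCharacter_one⟩ with hχ₁
    have hχ₁Y : χ₁ ∉ Y := fun h => hYne χ₁ h rfl
    obtain ⟨y, hyA, hy1⟩ : ∃ y ∈ A, y ≠ 1 := by
      by_contra hcon
      push Not at hcon
      have : A = ⊥ := (Subgroup.eq_bot_iff_forall A).2 hcon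
      rw [this, Subgroup.card_bot] at hbig
      omega
    have hv1 : v χ₁ = 1 := by
      have := hv χ₁ hχ₁Y y hyA hy1
      have h1 : ((1 : ℤ) : ℂ) = (v χ₁ : ℂ) := by simpa using this
      exact_mod_cast h1.symm
    have hge : (1 : ℤ) ≤ ∑ χ ∈ Finset.univ.filter (fun χ : IrrCharacter G => χ ∉ Y), v χ ^ 2 := by
      have hmem : χ₁ ∈ Finset.univ.filter (fun χ : IrrCharacter G => χ ∉ Y) := by
        simp [hχ₁Y]
      have := Finset.single_le_sum (f := fun χ : IrrCharacter G => v χ ^ 2)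
        (fun χ _ => sq_nonneg (v χ)) hmem
      simpa [hv1] using this
    have hd0 : d = 0 := by
      by_contra hne
      have hd1 : 1 ≤ d ^ 2 := by
        have := sq_nonneg d
        have h0 : d ^ 2 ≠ 0 := pow_ne_zero 2 hne
        omega
      have hY : (5 : ℤ) ≤ (Y.card : ℤ) - 1 := by
        have : (6 : ℤ) ≤ (Y.card : ℤ) := by exact_mod_cast hY6
        omega
      have h2 := sq_nonneg (d - δ)
      push_cast at hnorm
      nlinarith
    refine ⟨?_, ?_⟩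
    · intro χ hχ
      rw [hsum χ hχ, hd0]
      push_cast
      ring
    · intro χ hχ
      refine ⟨v χ, ?_⟩
      rw [sumNe_const A _ ((v χ : ℂ) ^ 2)]
      intro y hy hy1
      rw [hv χ hχ y hy hy1]
      simp [sq]

end Cfsg.Agent.Lib.Helper86.SzCh
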