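import Mathlib
import Cfsg.Agent.Lib.Helper86.SzChXFamCore
import Cfsg.Agent.Lib.Helper25.SzChGCoprime
import Cfsg.Agent.Lib.Helper25.SzChBLin
import Cfsg.Agent.Lib.Helper41.SzChMackey
import Cfsg.Agent.Lib.Helper73.SzChExcTI

/-!
helper86: project SZCH (helper6), module [X-FAM]: the exceptional families of `A₁`, `A₂` are cuspidal.
-/

set_option autoImplicit false

namespace Cfsg.Agent.Lib.Helper86.SzCh

open Cfsg Cfsg.Agent.Lib.Helper6.SzCh
open scoped ComplexConjugate Classical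

universe u

variable {G : Type u} [Group G]

/-! ## SZCH-[X-FAM] : the exceptional families of `A₁`, `A₂` are cuspidal -/

theorem exc_family [Fintype G] (D : SzData G) [Fintype ↥D.B] (A : Subgroup G) (hA : A = D.A₁ ∨ A = D.A₂)
    (hbig : 13 ≤ Nat.card A) :
    ∃ Y : Finset (IrrCharacter G), Y.card * 4 + 1 = Nat.card A ∧
      (∀ χ ∈ Y, IsCusp D χ.1) ∧
      (∀ χ ∈ Y, ∀ χ' ∈ Y, resB D χ.1 = resB D χ'.1) ∧
      (25 ≤ Nat.card A →
        (∀ χ ∈ Y, sumNe A (fun y => (χ : G → ℂ) y * conj ((χ : G → ℂ) y)) = 4 * (Nat.card A : ℂ) - 16) ∧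
        (∀ χ : IrrCharacter G, χ ∉ Y → ∃ v : ℤ,
          sumNe A (fun y => (χ : G → ℂ) y * conj ((χ : G → ℂ) y)) = ((Nat.card A : ℂ) - 1) * (v : ℂ) ^ 2)) := by
  have hcent : ∀ a ∈ A, a ≠ 1 → Subgroup.centralizer ({a} : Set G) = A := by
    rcases hA with h | h
    · rw [h]; exact D.cent_A₁
    · rw [h]; exact D.cent_A₂
  have hnorm : Nat.card ↥(Subgroup.normalizer (A : Set G)) = 4 * Nat.card A := by
    rcases hA with h | h
    · rw [h]; exact D.card_norm_A₁
    · rw [h]; exact D.card_norm_A₂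
  have hexc := Cfsg.Agent.Lib.Helper73.SzCh.exc_TI A 4 hcent hnorm (by omega)
  exact exc_family_of D A hA hbig hexc
    (fun {b} hb x h => Cfsg.Agent.Lib.Helper25.SzCh.not_conj_B_A D hb x h)
    (fun α β hα hβ => Cfsg.Agent.Lib.Helper41.SzCh.mackey D α β hα hβ)
    (fun {lam} hl x => Cfsg.Agent.Lib.Helper25.SzCh.isLinQ_inv D hl x)
    (fun {lam mu} hl hm => by
      have h := Cfsg.Agent.Lib.Helper25.SzCh.isLinQ_sum_K D hl hm
      convert h)

end Cfsg.Agent.Lib.Helper86.SzCh
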