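/-
helper86: control of weak closure of elements in fusion systems (after Diaz-Glesser-Mazza-Park), basics.
`Fix F z`: every map of `F` whose source contains `z` fixes `z`.  `FixN F X z`: the same for the maps of the
normalizer system `N_F(X)` (given through `normalizerHom`, so no system over `N_S(X)` is needed).
-/
import Cfsg.Agent.Lib.Helper88.FusionAut
import Cfsg.Agent.Lib.Helper88.FusionNilpFunctor
import Cfsg.Agent.Lib.Helper87.FusionKNormSat
import Cfsg.Agent.Lib.Helper85.FusionNC
import Cfsg.Agent.Lib.Helper85.FusionNormal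

set_option autoImplicit false
set_option linter.unusedSectionVars false
set_option linter.style.haveILetI false

universe u

namespace Cfsg.Agent.Lib.Helper86.WC

open Cfsg Cfsg.FusionSystem Cfsg.Agent.Lib.Helper87

variable {Ω : Type*} [Group Ω] {S : Subgroup Ω}

/-- Every map of the system whose source contains `z` fixes `z`. -/
def Fix (F : FusionSystem S) (z : Ω) : Prop :=
  ∀ (P : Subgroup Ω) (φ : P →* Ω), φ ∈ F.Hom P → ∀ h : z ∈ P, φ ⟨z, h⟩ = z

/-- Every map of the normalizer system of `X` whose source contains `z` fixes `z`. -/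
def FixN (F : FusionSystem S) (X : Subgroup Ω) (z : Ω) : Prop :=
  ∀ (P : Subgroup Ω) (φ : P →* Ω), φ ∈ F.normalizerHom X P → ∀ h : z ∈ P, φ ⟨z, h⟩ = z

theorem fix_of_mem_center [Finite S] (F : FusionSystem S) {z : Ω} (hz : z ∈ F.center) : Fix F z := by
  intro P φ hφ h
  obtain ⟨ψ, -, h1, h2⟩ := (Cfsg.Agent.Lib.Helper85.isCentral_center F).2 P φ hφ
  have e1 := h1 ⟨z, h⟩
  have e2 := h2 ⟨z, hz⟩
  rw [← e1]
  exact e2

theorem fixN_of_fix {F : FusionSystem S} {X : Subgroup Ω} {N : FusionSystem (normalizerIn S X)}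
    (hN : F.IsNormalizerSystem X N) {z : Ω} (h : Fix N z) : FixN F X z := by
  intro P φ hφ hz
  rw [← hN P] at hφ
  exact h P φ hφ hz

theorem fix_of_fixN {F : FusionSystem S} {X : Subgroup Ω} {N : FusionSystem (normalizerIn S X)}
    (hN : F.IsNormalizerSystem X N) {z : Ω} (h : FixN F X z) : Fix N z := by
  intro P φ hφ hz
  rw [hN P] at hφ
  exact h P φ hφ hz

/-- Maps of the normalizer system of `X` in a subsystem are maps of the normalizer system of `X`. -/
theorem normalizerHom_mono {T : Subgroup Ω} (F : FusionSystem S) (E : FusionSystem T) (hTS : T ≤ S)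
    (hEF : ∀ P : Subgroup Ω, E.Hom P ⊆ F.Hom P) (X P : Subgroup Ω) :
    E.normalizerHom X P ⊆ F.normalizerHom X P := by
  rintro φ ⟨hφ, hPN, hφN, ψ, hψ, h1, h2⟩
  have hle : normalizerIn T X ≤ normalizerIn S X := inf_le_inf_right _ hTS
  exact ⟨hEF _ hφ, hPN.trans hle, fun x => hle (hφN x), ψ, hEF _ hψ, h1, h2⟩

theorem fixN_mono {T : Subgroup Ω} (F : FusionSystem S) (E : FusionSystem T) (hTS : T ≤ S)
    (hEF : ∀ P : Subgroup Ω, E.Hom P ⊆ F.Hom P) {X : Subgroup Ω} {z : Ω} (h : FixN F X z) : FixN E X z :=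
  fun P φ hφ hz => h P φ (normalizerHom_mono F E hTS hEF X P hφ) hz

/-- A map of the system from `X` into `X` is a map of the normalizer system of `X`. -/
theorem mem_normalizerHom_self (F : FusionSystem S) {X : Subgroup Ω} [Finite X] {φ : X →* Ω}
    (hφ : φ ∈ F.Hom X) (hX : ∀ x : X, φ x ∈ X) : φ ∈ F.normalizerHom X X := by
  have hXS : X ≤ S := hom_le F hφ
  have hXN : X ≤ normalizerIn S X := le_normalizerIn hXS
  have hle : X ⊔ X ≤ X := sup_le le_rfl le_rfl
  refine ⟨hφ, hXN, fun x => hXN (hX x), φ.comp (Subgroup.inclusion hle), restrict_mem F hφ hle,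
    fun x => ?_, ?_⟩
  · show φ (Subgroup.inclusion hle (Subgroup.inclusion le_sup_left x)) = φ x
    congr 1
  · -- `φ` maps `X` onto `X`
    have hinj : Function.Injective (φ.codRestrict X hX) := by
      intro a b hab
      exact F.injective_of_mem hφ (congrArg (fun z : X => (z : Ω)) hab)
    have hsurj : Function.Surjective (φ.codRestrict X hX) := Finite.surjective_of_injective hinj
    apply le_antisymm
    · rintro _ ⟨y, -, rfl⟩
      exact hX _
    · intro x hx
      obtain ⟨y, hy⟩ := hsurj ⟨x, hx⟩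
      refine ⟨Subgroup.inclusion le_sup_left y, ?_, ?_⟩
      · show Subgroup.inclusion le_sup_left y ∈ X.subgroupOf (X ⊔ X)
        rw [Subgroup.mem_subgroupOf]
        exact y.2
      · show φ (Subgroup.inclusion hle (Subgroup.inclusion le_sup_left y)) = x
        have : (Subgroup.inclusion hle (Subgroup.inclusion le_sup_left y) : X) = y := Subtype.ext rfl
        rw [this]
        exact congrArg (fun z : X => (z : Ω)) hy

/-- An automorphism in `Aut_F(X)` fixes `z ∈ X` as soon as `N_F(X)` does. -/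
theorem aut_fix_of_fixN (F : FusionSystem S) {X : Subgroup Ω} [Finite X] (hXS : X ≤ S) {z : Ω}
    (h : FixN F X z) {α : MulAut X} (hα : α ∈ F.autGroup X) (hz : z ∈ X) : ((α ⟨z, hz⟩ : X) : Ω) = z := by
  have hαF : X.subtype.comp (α : X ≃* X).toMonoidHom ∈ F.Hom X := (mem_autGroup_iff F hXS).1 hα
  exact h X _ (mem_normalizerHom_self F hαF (fun x => (α x).2)) hz

section functor

variable {p : ℕ} [Fact p.Prime]

/-- Central elements of `S` lie in `W(S)`. -/
theorem center_le_inducedFunctor {W : ∀ (Q : Type u) [Group Q], Subgroup Q}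
    (hWZ : ∀ (Q : Type u) [Group Q] [Finite Q], IsPGroup p Q → Subgroup.center Q ≤ W Q)
    {Ω : Type u} [Group Ω] {S : Subgroup Ω} [Finite S] (hS : IsPGroup p S) {y : Ω}
    (hy : y ∈ S ⊓ Subgroup.centralizer (S : Set Ω)) : y ∈ inducedFunctor W S := by
  refine ⟨⟨y, hy.1⟩, hWZ ↥S hS ?_, rfl⟩
  rw [Subgroup.mem_center_iff]
  intro s
  apply Subtype.ext
  exact (Subgroup.mem_centralizer_iff.1 hy.2) s s.2

end functor

end Cfsg.Agent.Lib.Helper86.WC
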