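/-
helper86: control of weak closure of elements, the local step: if `Q` is normal in the saturated system `F`, then an
admissible element of `Q` fixed by `N_F(W(S))` is fixed by `F`.  Generic in a predicate `A` on (subgroup, element)
and in the model-case hypothesis `WCHyp.hmod`.
-/
import Cfsg.Agent.Lib.Helper86.WCBasic
import Cfsg.Agent.Lib.Helper88.FusionNilpQuot
import Cfsg.Agent.Lib.Helper84.ModelSub
import Cfsg.Agent.S5090

set_option autoImplicit false
set_option linter.unusedSectionVars false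
set_option linter.style.haveILetI false

universe u

namespace Cfsg.Agent.Lib.Helper86.WC

open Cfsg Cfsg.FusionSystem Cfsg.Agent.Lib.Helper87 Cfsg.Agent.Lib.Helper88 Cfsg.Agent.Lib.Helper88.NilpRed

/-- The hypotheses of the reduction: `W` is a positive characteristic `p`-functor containing the centre, `A` is a
predicate selecting central elements, inherited by subgroups containing the centre, and the model case holds. -/
structure WCHyp (p : ℕ) (W : ∀ (Q : Type u) [Group Q], Subgroup Q) {Ω : Type u} [Group Ω]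
    (A : Subgroup Ω → Ω → Prop) : Prop where
  hW : IsCharPFunctor p W
  hWZ : ∀ (Q : Type u) [Group Q] [Finite Q], IsPGroup p Q → Subgroup.center Q ≤ W Q
  a1 : ∀ (S : Subgroup Ω) (z : Ω), A S z → z ∈ S ⊓ Subgroup.centralizer (S : Set Ω)
  a2 : ∀ (S T : Subgroup Ω) (z : Ω), A S z → T ≤ S → S ⊓ Subgroup.centralizer (S : Set Ω) ≤ T → A T z
  hmod : ∀ (S : Subgroup Ω) [Finite S], IsPGroup p S → ∀ (F : FusionSystem S) (L : Type u) [Group L]
    (ι : S →* L), F.IsModel p L ι → ∀ z : Ω, A S z → FixN F (inducedFunctor W S) z → Fix F z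

variable {p : ℕ} [Fact p.Prime] {W : ∀ (Q : Type u) [Group Q], Subgroup Q} {Ω : Type u} [Group Ω]
  {A : Subgroup Ω → Ω → Prop}

/-- A subgroup normal in `S` is fully normalized. -/
theorem isFullyNormalized_of_normalizerIn_eq {S : Subgroup Ω} [Finite S] (F : FusionSystem S) {R : Subgroup Ω}
    (hRS : R ≤ S) (hN : normalizerIn S R = S) : F.IsFullyNormalized R := by
  refine ⟨hRS, fun R' _ => ?_⟩
  haveI : Finite ↥(normalizerIn S R) := finite_of_le inf_le_left
  have hle : normalizerIn S R' ≤ normalizerIn S R := by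
    rw [hN]
    exact inf_le_left
  exact Nat.card_le_card_of_injective (Subgroup.inclusion hle) (Subgroup.inclusion_injective _)

/-- **Local step.** -/
theorem fix_of_normal (H : WCHyp p W A) : ∀ (n : ℕ) (S : Subgroup Ω) [Finite S], IsPGroup p S →
    ∀ F : FusionSystem S, F.IsSaturated p → ∀ Q : Subgroup Ω, F.IsNormal Q →
      Nat.card S - Nat.card Q = n → ∀ z ∈ Q, A S z → FixN F (inducedFunctor W S) z → Fix F z := by
  intro n
  induction n using Nat.strong_induction_on with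
  | _ n IH =>
  intro S _ hS F hF Q hQ hn z hzQ hA hfix
  have hQS : Q ≤ S := hQ.1
  by_cases hQc : F.IsCentric Q
  · obtain ⟨L, _, ι, hM⟩ := Cfsg.Agent.S5090.result p hS F ⟨hF, Q, hQ, hQc⟩
    exact H.hmod S hS F L ι hM z hA hfix
  -- the non-centric case
  have hwc : F.WeaklyClosed Q := weaklyClosed_of_isNormal F hQ
  obtain ⟨c, hcC, hcQ⟩ : ∃ c ∈ centralizerIn S Q, c ∉ Q := by
    unfold FusionSystem.IsCentric at hQc
    push Not at hQc
    obtain ⟨Q', hQQ', hnot⟩ := hQc hQS
    obtain ⟨χ, hχ, hχr⟩ := hQQ'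
    have : Q' = Q := by rw [← hχr]; exact hwc.2 χ hχ
    subst this
    exact SetLike.not_le_iff_exists.mp hnot
  have hSNQ : S ≤ Subgroup.normalizer (Q : Set Ω) := Cfsg.Agent.Lib.Helper84.Model.le_normalizer_of_isNormal F hQ
  have hCS : centralizerIn S Q ≤ S := inf_le_left
  have hRS : Q ⊔ centralizerIn S Q ≤ S := sup_le hQS hCS
  haveI : Finite ↥(Q ⊔ centralizerIn S Q) := finite_of_le hRS
  haveI : Finite ↥Q := finite_of_le hQS
  -- `|Q| < |R|`
  have hlt : Nat.card Q < Nat.card ↥(Q ⊔ centralizerIn S Q) := by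
    by_contra hge
    push Not at hge
    have h := Subgroup.eq_of_le_of_card_ge (le_sup_left : Q ≤ Q ⊔ centralizerIn S Q) hge
    apply hcQ
    rw [h]
    exact le_sup_right (a := Q) hcC
  -- `R` is normal in `S`
  have hconjC : ∀ g ∈ S, ∀ x ∈ centralizerIn S Q, g * x * g⁻¹ ∈ centralizerIn S Q := by
    intro g hg x hx
    refine Subgroup.mem_inf.2 ⟨S.mul_mem (S.mul_mem hg hx.1) (S.inv_mem hg), ?_⟩
    rw [Subgroup.mem_centralizer_iff]
    intro q hq
    have hq' : g⁻¹ * q * g ∈ Q := by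
      have := (Subgroup.mem_normalizer_iff.1 (Subgroup.inv_mem _ (hSNQ hg)) q).1 hq
      simpa using this
    have h1 := (Subgroup.mem_centralizer_iff.1 hx.2) _ hq'
    have e1 : q * (g * x * g⁻¹) = g * ((g⁻¹ * q * g) * x) * g⁻¹ := by group
    have e2 : g * x * g⁻¹ * q = g * (x * (g⁻¹ * q * g)) * g⁻¹ := by group
    rw [e1, e2, h1]
  have hNR : normalizerIn S (Q ⊔ centralizerIn S Q) = S := by
    apply le_antisymm inf_le_left
    intro g hg
    refine ⟨hg, ?_⟩
    apply Cfsg.Agent.Lib.Helper88.mem_normalizer_of_conj_mem_of_finite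
    intro x hx
    have hx' : x ∈ Q ⊔ centralizerIn S Q := hx
    have : Q ⊔ centralizerIn S Q ≤ (Q ⊔ centralizerIn S Q).comap (MulAut.conj g).toMonoidHom := by
      refine sup_le ?_ ?_
      · intro q hq
        rw [Subgroup.mem_comap]
        exact le_sup_left (b := centralizerIn S Q) ((Subgroup.mem_normalizer_iff.1 (hSNQ hg) q).1 hq)
      · intro q hq
        rw [Subgroup.mem_comap]
        exact le_sup_right (a := Q) (hconjC g hg q hq)
    exact this hx'
  have hRfn : F.IsFullyNormalized (Q ⊔ centralizerIn S Q) := isFullyNormalized_of_normalizerIn_eq F hRS hNR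
  -- the normalizer system of `R`
  have hN := isNormalizerSystem_normalizerSystem F (Q ⊔ centralizerIn S Q) hRS
  have hNsat := isSaturated_of_isNormalizerSystem F hS hF hRfn hN
  have hNn := isNormal_of_isNormalizerSystem F hRS hN
  have hTS : normalizerIn S (Q ⊔ centralizerIn S Q) ≤ S := inf_le_left
  haveI : Finite ↥(normalizerIn S (Q ⊔ centralizerIn S Q)) := finite_of_le hTS
  have hT : IsPGroup p ↥(normalizerIn S (Q ⊔ centralizerIn S Q)) := hS.to_le hTS
  have hcardT : Nat.card ↥(normalizerIn S (Q ⊔ centralizerIn S Q)) = Nat.card S := by rw [hNR]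
  have hcardRS : Nat.card ↥(Q ⊔ centralizerIn S Q) ≤ Nat.card S := Subgroup.card_le_of_le hRS
  have hZT : S ⊓ Subgroup.centralizer (S : Set Ω) ≤ normalizerIn S (Q ⊔ centralizerIn S Q) := by
    rw [hNR]
    exact inf_le_left
  have hfixN : FixN (normalizerSystem F (Q ⊔ centralizerIn S Q) hRS)
      (inducedFunctor W (normalizerIn S (Q ⊔ centralizerIn S Q))) z := by
    have e : inducedFunctor W (normalizerIn S (Q ⊔ centralizerIn S Q)) = inducedFunctor W S :=
      congrArg (inducedFunctor W) hNR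
    rw [e]
    refine fixN_mono F _ hTS (fun P φ hφ => ?_) hfix
    rw [hN P] at hφ
    exact hφ.1
  have hFixN : Fix (normalizerSystem F (Q ⊔ centralizerIn S Q) hRS) z :=
    IH (Nat.card ↥(normalizerIn S (Q ⊔ centralizerIn S Q)) - Nat.card ↥(Q ⊔ centralizerIn S Q)) (by omega)
      (normalizerIn S (Q ⊔ centralizerIn S Q)) hT _ hNsat _ hNn rfl z (le_sup_left (b := centralizerIn S Q) hzQ)
      (H.a2 S _ z hA hTS hZT) hfixN
  -- every map of `F` fixes `z`
  intro P φ hφ hzP
  obtain ⟨ψ, hψ, hψ1, α, hα, hαψ⟩ := exists_extension_aut_of_isNormal F hQ hφ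
  have e1 : φ ⟨z, hzP⟩ = ((α ⟨z, hzQ⟩ : Q) : Ω) := by
    rw [← hψ1 ⟨z, hzP⟩, hαψ ⟨z, hzQ⟩]
    congr 1
  rw [e1]
  have hQr : F.IsReceptive Q := (fullyAutomized_receptive_of_weaklyClosed F p hF hwc).2
  have hφ₀F : Q.subtype.comp (α : Q ≃* Q).toMonoidHom ∈ F.Hom Q := (Cfsg.Agent.Lib.Helper87.mem_autGroup_iff F hQS).1 hα
  have hφ₀r : (Q.subtype.comp (α : Q ≃* Q).toMonoidHom).range = Q := range_subtype_comp (α : Q ≃* Q)
  obtain ⟨χ, hχ, hχφ⟩ := hQr.2 Q _ hφ₀F hφ₀r
  have hQext : Q ≤ extender S Q (Q.subtype.comp (α : Q ≃* Q).toMonoidHom) := by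
    intro x hx
    rw [Cfsg.Agent.Lib.Helper85.mem_extender_iff]
    refine ⟨hQS hx, Subgroup.le_normalizer hx, ((α ⟨x, hx⟩ : Q) : Ω), hQS (α ⟨x, hx⟩).2, fun y hy => ?_⟩
    have : (⟨x * (y : Ω) * x⁻¹, hy⟩ : Q) = ⟨x, hx⟩ * y * ⟨x, hx⟩⁻¹ := Subtype.ext rfl
    rw [this, map_mul, map_mul, map_inv]
    rfl
  have hCext : centralizerIn S Q ≤ extender S Q (Q.subtype.comp (α : Q ≃* Q).toMonoidHom) := by
    intro x hx
    rw [Cfsg.Agent.Lib.Helper85.mem_extender_iff]
    refine ⟨hx.1, Subgroup.centralizer_le_normalizer _ hx.2, 1, S.one_mem, fun y hy => ?_⟩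
    have hc : (y : Ω) * x = x * (y : Ω) := (Subgroup.mem_centralizer_iff.mp hx.2) (y : Ω) y.2
    have : (⟨x * (y : Ω) * x⁻¹, hy⟩ : Q) = y := by
      apply Subtype.ext
      show x * (y : Ω) * x⁻¹ = (y : Ω)
      rw [← hc]; group
    rw [this]; simp
  have hRext : Q ⊔ centralizerIn S Q ≤ extender S Q (Q.subtype.comp (α : Q ≃* Q).toMonoidHom) :=
    sup_le hQext hCext
  have hγ : χ.comp (Subgroup.inclusion hRext) ∈ F.Hom (Q ⊔ centralizerIn S Q) := restrict_mem F hχ hRext
  -- `γ` agrees with `α` on `Q`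
  have hγQ : ∀ x : Q, (χ.comp (Subgroup.inclusion hRext)) (Subgroup.inclusion le_sup_left x) = ((α x : Q) : Ω) := by
    intro x
    exact hχφ (x : Ω) x.2 (hRext (le_sup_left (b := centralizerIn S Q) x.2))
  -- `γ` maps `R` into `R`
  have hγR : ∀ x : ↥(Q ⊔ centralizerIn S Q), (χ.comp (Subgroup.inclusion hRext)) x ∈ Q ⊔ centralizerIn S Q := by
    refine map_sup_mem _ (fun x => ?_) (fun x => ?_)
    · rw [hγQ x]
      exact le_sup_left (b := centralizerIn S Q) (α x).2
    · refine le_sup_right (a := Q) (Subgroup.mem_inf.2 ⟨hom_map_mem F hγ _, ?_⟩)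
      rw [Subgroup.mem_centralizer_iff]
      intro q hq
      obtain ⟨q', rfl⟩ : ∃ q' : Q, ((α q' : Q) : Ω) = q := ⟨α.symm ⟨q, hq⟩, by simp⟩
      rw [← hγQ q', ← map_mul, ← map_mul]
      congr 1
      apply Subtype.ext
      exact (Subgroup.mem_centralizer_iff.1 x.2.2) q' q'.2
  have hγN : χ.comp (Subgroup.inclusion hRext) ∈
      (normalizerSystem F (Q ⊔ centralizerIn S Q) hRS).Hom (Q ⊔ centralizerIn S Q) := by
    rw [hN _]
    exact mem_normalizerHom_self F hγ hγR
  have h2 := hFixN _ _ hγN (le_sup_left (b := centralizerIn S Q) hzQ)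
  rw [← hγQ ⟨z, hzQ⟩]
  exact h2

end Cfsg.Agent.Lib.Helper86.WC
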