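/-
helper86: towers `T₀ = U`, `T_{i+1} = W(N_S(T_i))` in a fusion system and well-placed conjugates: every `U ≤ S` is
carried by a map of the saturated system defined on `N_S(U)` onto a subgroup all of whose tower terms (up to a given
level) are fully normalized.
-/
import Cfsg.Agent.Lib.Helper86.WCBasic
import Cfsg.Agent.Lib.Helper84.Alperin
import Cfsg.Agent.Lib.Helper88.FusionFC

set_option autoImplicit false
set_option linter.unusedSectionVars false
set_option linter.style.haveILetI false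

universe u

namespace Cfsg.Agent.Lib.Helper86.WC

open Cfsg Cfsg.FusionSystem Cfsg.Agent.Lib.Helper87 Cfsg.Agent.Lib.Helper88 Cfsg.Agent.Lib.Helper88.NilpRed

section im

variable {Ω : Type*} [Group Ω] {S : Subgroup Ω}

/-- The image of the subgroup `X` under a homomorphism defined on `M`. -/
def im {M : Subgroup Ω} (θ : M →* Ω) (X : Subgroup Ω) : Subgroup Ω := (X.subgroupOf M).map θ

theorem mem_im_iff {M : Subgroup Ω} (θ : M →* Ω) {X : Subgroup Ω} (hXM : X ≤ M) (y : Ω) :
    y ∈ im θ X ↔ ∃ (x : Ω) (hx : x ∈ X), θ ⟨x, hXM hx⟩ = y := by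
  constructor
  · rintro ⟨m, hm, rfl⟩
    exact ⟨m, Subgroup.mem_subgroupOf.1 hm, rfl⟩
  · rintro ⟨x, hx, rfl⟩
    exact ⟨⟨x, hXM hx⟩, Subgroup.mem_subgroupOf.2 hx, rfl⟩

theorem im_mono {M : Subgroup Ω} (θ : M →* Ω) {X Y : Subgroup Ω} (h : X ≤ Y) : im θ X ≤ im θ Y := by
  rintro _ ⟨m, hm, rfl⟩
  exact ⟨m, Subgroup.mem_subgroupOf.2 (h (Subgroup.mem_subgroupOf.1 hm)), rfl⟩

/-- The isomorphism of `Y ≤ M` onto its image under an injective homomorphism. -/
noncomputable def imEquiv {M : Subgroup Ω} (θ : M →* Ω) (hθ : Function.Injective θ) {Y : Subgroup Ω}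
    (hYM : Y ≤ M) : Y ≃* im θ Y :=
  (Subgroup.subgroupOfEquivOfLe hYM).symm.trans ((Y.subgroupOf M).equivMapOfInjective θ hθ)

theorem coe_imEquiv {M : Subgroup Ω} (θ : M →* Ω) (hθ : Function.Injective θ) {Y : Subgroup Ω}
    (hYM : Y ≤ M) (y : Y) : ((imEquiv θ hθ hYM y : im θ Y) : Ω) = θ ⟨y, hYM y.2⟩ := rfl

theorem im_le (F : FusionSystem S) {M : Subgroup Ω} {θ : M →* Ω} (hθ : θ ∈ F.Hom M) (X : Subgroup Ω) :
    im θ X ≤ S := by
  rintro _ ⟨m, -, rfl⟩
  exact hom_map_mem F hθ m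

/-- Image under a composite. -/
theorem im_comp {M M' : Subgroup Ω} (θ : M →* Ω) (χ : M' →* Ω) (h : ∀ x : M, θ x ∈ M') (X : Subgroup Ω) :
    im (χ.comp (θ.codRestrict M' h)) X = im χ (im θ X) := by
  ext y
  constructor
  · rintro ⟨m, hm, rfl⟩
    exact ⟨⟨θ m, h m⟩, Subgroup.mem_subgroupOf.2 ⟨m, hm, rfl⟩, rfl⟩
  · rintro ⟨m', hm', rfl⟩
    obtain ⟨m, hm, hmm'⟩ := Subgroup.mem_subgroupOf.1 hm'
    refine ⟨m, hm, ?_⟩
    show χ ⟨θ m, h m⟩ = χ m'
    congr 1
    exact Subtype.ext hmm'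

/-- `X` is conjugate in the system to its image. -/
theorem isConj_im (F : FusionSystem S) {M : Subgroup Ω} {θ : M →* Ω} (hθ : θ ∈ F.Hom M) {X : Subgroup Ω}
    (hXM : X ≤ M) : F.IsConj X (im θ X) := by
  refine ⟨θ.comp (Subgroup.inclusion hXM), restrict_mem F hθ hXM, ?_⟩
  ext y
  constructor
  · rintro ⟨x, rfl⟩
    exact (mem_im_iff θ hXM _).2 ⟨x, x.2, rfl⟩
  · intro hy
    obtain ⟨x, hx, rfl⟩ := (mem_im_iff θ hXM y).1 hy
    exact ⟨⟨x, hx⟩, rfl⟩

/-- Moving a fully normalized subgroup together with its normalizer. -/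
theorem normalizerIn_im (F : FusionSystem S) [Finite S] {M X : Subgroup Ω} {θ : M →* Ω} (hθ : θ ∈ F.Hom M)
    (hXM : X ≤ M) (hNM : normalizerIn S X ≤ M) (hX : F.IsFullyNormalized X) :
    normalizerIn S (im θ X) = im θ (normalizerIn S X) ∧ F.IsFullyNormalized (im θ X) := by
  have hMS : M ≤ S := hom_le F hθ
  have hinj : Function.Injective θ := F.injective_of_mem hθ
  have hconj : F.IsConj X (im θ X) := isConj_im F hθ hXM
  have himS : im θ X ≤ S := im_le F hθ X
  haveI : Finite ↥(im θ X) := finite_of_le himS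
  haveI : Finite ↥(normalizerIn S X) := finite_of_le inf_le_left
  haveI : Finite ↥(normalizerIn S (im θ X)) := finite_of_le inf_le_left
  have hle : im θ (normalizerIn S X) ≤ normalizerIn S (im θ X) := by
    intro y hy
    obtain ⟨g, hg, rfl⟩ := (mem_im_iff θ hNM y).1 hy
    refine ⟨hom_map_mem F hθ _, ?_⟩
    apply mem_normalizer_of_conj_mem_of_finite
    intro x' hx'
    obtain ⟨x, hx, rfl⟩ := (mem_im_iff θ hXM x').1 hx'
    have hgx : g * x * g⁻¹ ∈ X := (Subgroup.mem_normalizer_iff.1 hg.2 x).1 hx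
    refine (mem_im_iff θ hXM _).2 ⟨g * x * g⁻¹, hgx, ?_⟩
    have : (⟨g * x * g⁻¹, hXM hgx⟩ : M) = ⟨g, hNM hg⟩ * ⟨x, hXM hx⟩ * ⟨g, hNM hg⟩⁻¹ := Subtype.ext rfl
    rw [this, map_mul, map_mul, map_inv]
  have hcard1 : Nat.card ↥(im θ (normalizerIn S X)) = Nat.card ↥(normalizerIn S X) :=
    (Nat.card_congr (imEquiv θ hinj hNM).toEquiv).symm
  have hcard2 : Nat.card ↥(normalizerIn S (im θ X)) ≤ Nat.card ↥(normalizerIn S X) := hX.2 _ hconj
  have heq : im θ (normalizerIn S X) = normalizerIn S (im θ X) :=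
    Subgroup.eq_of_le_of_card_ge hle (by omega)
  refine ⟨heq.symm, himS, fun X'' hc => ?_⟩
  have h1 := hX.2 X'' (IsConj_trans hconj hc)
  rw [← heq, hcard1]
  exact h1

end im

section tower

variable {p : ℕ} [Fact p.Prime] {W : ∀ (Q : Type u) [Group Q], Subgroup Q} {Ω : Type u} [Group Ω]
  {S : Subgroup Ω}

/-- The tower of `U`: `T₀ = U`, `T_{i+1} = W(N_S(T_i))`. -/
def tow (W : ∀ (Q : Type u) [Group Q], Subgroup Q) (S U : Subgroup Ω) : ℕ → Subgroup Ω
  | 0 => U
  | i + 1 => inducedFunctor W (normalizerIn S (tow W S U i))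

theorem tow_zero (S U : Subgroup Ω) : tow W S U 0 = U := rfl

theorem tow_succ (S U : Subgroup Ω) (i : ℕ) :
    tow W S U (i + 1) = inducedFunctor W (normalizerIn S (tow W S U i)) := rfl

theorem tow_le {U : Subgroup Ω} (hU : U ≤ S) (i : ℕ) : tow W S U i ≤ S := by
  cases i with
  | zero => exact hU
  | succ i => exact (inducedFunctor_le W _).trans inf_le_left

/-- `W` commutes with images under maps of the system. -/
theorem inducedFunctor_im (hW : IsCharPFunctor p W) [Finite S] (hS : IsPGroup p S) (F : FusionSystem S)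
    {M Y : Subgroup Ω} {θ : M →* Ω} (hθ : θ ∈ F.Hom M) (hYM : Y ≤ M) :
    inducedFunctor W (im θ Y) = im θ (inducedFunctor W Y) := by
  have hMS : M ≤ S := hom_le F hθ
  have hinj : Function.Injective θ := F.injective_of_mem hθ
  have hYS : Y ≤ S := hYM.trans hMS
  haveI : Finite ↥Y := finite_of_le hYS
  have hY : IsPGroup p ↥Y := hS.to_le hYS
  have hWY : inducedFunctor W Y ≤ Y := inducedFunctor_le W Y
  have key := inducedFunctor_equiv hW hY (imEquiv θ hinj hYM)
  ext y
  constructor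
  · intro hy
    have hy' : y ∈ im θ Y := inducedFunctor_le W _ hy
    obtain ⟨x, hx, rfl⟩ := (mem_im_iff θ hYM y).1 hy'
    have h1 := (key ⟨x, hx⟩).2 hy
    exact (mem_im_iff θ (hWY.trans hYM) _).2 ⟨x, h1, rfl⟩
  · intro hy
    obtain ⟨x, hx, rfl⟩ := (mem_im_iff θ (hWY.trans hYM) y).1 hy
    exact (key ⟨x, hWY hx⟩).1 hx

/-- The normalizers of the tower terms increase. -/
theorem normalizerIn_tow_le_succ (hW : IsCharPFunctor p W) [Finite S] (hS : IsPGroup p S) (U : Subgroup Ω)
    (i : ℕ) : normalizerIn S (tow W S U i) ≤ normalizerIn S (tow W S U (i + 1)) := by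
  intro g hg
  have hNS : normalizerIn S (tow W S U i) ≤ S := inf_le_left
  haveI : Finite ↥(normalizerIn S (tow W S U i)) := finite_of_le hNS
  exact ⟨hg.1, inducedFunctor_normalizer hW (hS.to_le hNS) (Subgroup.le_normalizer hg)⟩

theorem normalizerIn_tow_mono (hW : IsCharPFunctor p W) [Finite S] (hS : IsPGroup p S) (U : Subgroup Ω)
    {i j : ℕ} (hij : i ≤ j) : normalizerIn S (tow W S U i) ≤ normalizerIn S (tow W S U j) := by
  induction j, hij using Nat.le_induction with
  | base => exact le_rfl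
  | succ j _ ih => exact ih.trans (normalizerIn_tow_le_succ hW hS U j)

/-- The normalizers of the tower terms strictly increase until they reach `S`. -/
theorem card_normalizerIn_tow_lt (hW : IsCharPFunctor p W) [Finite S] (hS : IsPGroup p S) (U : Subgroup Ω)
    (i : ℕ) (hne : normalizerIn S (tow W S U i) ≠ S) :
    Nat.card ↥(normalizerIn S (tow W S U i)) < Nat.card ↥(normalizerIn S (tow W S U (i + 1))) := by
  have hNS : normalizerIn S (tow W S U i) ≤ S := inf_le_left
  haveI : Finite ↥(normalizerIn S (tow W S U i)) := finite_of_le hNS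
  haveI : Finite ↥(normalizerIn S (tow W S U (i + 1))) := finite_of_le inf_le_left
  have h1 := card_lt_card_normalizerIn hS hNS hne
  have h2 : normalizerIn S (normalizerIn S (tow W S U i)) ≤ normalizerIn S (tow W S U (i + 1)) := by
    intro g hg
    exact ⟨hg.1, inducedFunctor_normalizer hW (hS.to_le hNS) hg.2⟩
  exact lt_of_lt_of_le h1 (Subgroup.card_le_of_le h2)

/-- Conjugating a tower term by term. -/
theorem tow_im (hW : IsCharPFunctor p W) [Finite S] (hS : IsPGroup p S) (F : FusionSystem S)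
    {M U : Subgroup Ω} {θ : M →* Ω} (hθ : θ ∈ F.Hom M) (m : ℕ) (hUM : U ≤ M)
    (hfn : ∀ i < m, F.IsFullyNormalized (tow W S U i))
    (hNM : ∀ i < m, normalizerIn S (tow W S U i) ≤ M) :
    ∀ i ≤ m, tow W S (im θ U) i = im θ (tow W S U i) := by
  have hMS : M ≤ S := hom_le F hθ
  intro i
  induction i with
  | zero => intro _; rfl
  | succ i ih =>
    intro hi
    have hTS : tow W S U i ≤ S := tow_le (hUM.trans hMS) i
    have hTM : tow W S U i ≤ M := (le_normalizerIn hTS).trans (hNM i (by omega))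
    rw [tow_succ, ih (by omega), (normalizerIn_im F hθ hTM (hNM i (by omega)) (hfn i (by omega))).1,
      inducedFunctor_im hW hS F hθ (hNM i (by omega)), tow_succ]

/-- Every subgroup of `S` is carried onto a fully normalized subgroup by a map defined on its normalizer. -/
theorem exists_hom_fullyNormalized [Finite S] (hS : IsPGroup p S) (F : FusionSystem S) (hF : F.IsSaturated p)
    {U : Subgroup Ω} (hUS : U ≤ S) :
    ∃ θ ∈ F.Hom (normalizerIn S U), F.IsFullyNormalized (im θ U) := by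
  obtain ⟨U', hUU', hU'a, hU'r⟩ := hF U hUS
  obtain ⟨ψ, e, hψ, he, hψe⟩ := exists_extension F hS hU'a hU'r hUU'
  have hUN : U ≤ normalizerIn S U := le_normalizerIn hUS
  have him : im ψ U = U' := by
    ext y
    constructor
    · intro hy
      obtain ⟨x, hx, rfl⟩ := (mem_im_iff ψ hUN y).1 hy
      rw [hψe x hx (hUN hx)]
      exact (e ⟨x, hx⟩).2
    · intro hy
      refine (mem_im_iff ψ hUN y).2 ⟨(e.symm ⟨y, hy⟩ : U), (e.symm ⟨y, hy⟩).2, ?_⟩
      rw [hψe _ (e.symm ⟨y, hy⟩).2 (hUN (e.symm ⟨y, hy⟩).2)]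
      simp
  refine ⟨ψ, hψ, ?_⟩
  rw [him]
  exact Cfsg.Agent.Lib.Helper84.isFullyNormalized_of_fullyAutomized_receptive F hS hU'a hU'r

/-- **Well-placed conjugates.** -/
theorem exists_hom_tow_fullyNormalized (hW : IsCharPFunctor p W) [Finite S] (hS : IsPGroup p S)
    (F : FusionSystem S) (hF : F.IsSaturated p) (m : ℕ) : ∀ U : Subgroup Ω, U ≤ S →
    ∃ θ ∈ F.Hom (normalizerIn S U), ∀ i ≤ m, F.IsFullyNormalized (tow W S (im θ U) i) := by
  induction m with
  | zero =>
    intro U hUS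
    obtain ⟨θ, hθ, hfn⟩ := exists_hom_fullyNormalized hS F hF hUS
    refine ⟨θ, hθ, fun i hi => ?_⟩
    have : i = 0 := by omega
    subst this
    exact hfn
  | succ m ih =>
    intro U hUS
    obtain ⟨θ, hθ, hfn⟩ := ih U hUS
    have hU'S : im θ U ≤ S := im_le F hθ U
    have hXS : tow W S (im θ U) (m + 1) ≤ S := tow_le hU'S (m + 1)
    obtain ⟨χ, hχ, hχfn⟩ := exists_hom_fullyNormalized hS F hF hXS
    -- the normalizers of the lower terms lie in the source of `χ`
    have hNM : ∀ i < m + 1 + 1, normalizerIn S (tow W S (im θ U) i) ≤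
        normalizerIn S (tow W S (im θ U) (m + 1)) :=
      fun i hi => normalizerIn_tow_mono hW hS _ (by omega)
    have hU'M : im θ U ≤ normalizerIn S (tow W S (im θ U) (m + 1)) :=
      (le_normalizerIn hU'S).trans (hNM 0 (by omega))
    have htow := tow_im hW hS F hχ (m + 1) hU'M (fun i hi => hfn i (by omega)) (fun i hi => hNM i (by omega))
    -- `θ` maps `N_S(U)` into the source of `χ`
    have hθN : ∀ x : ↥(normalizerIn S U), θ x ∈ normalizerIn S (tow W S (im θ U) (m + 1)) := by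
      intro x
      have hUN : U ≤ normalizerIn S U := le_normalizerIn hUS
      haveI : Finite ↥(im θ U) := finite_of_le hU'S
      have h1 : θ x ∈ normalizerIn S (im θ U) := by
        refine ⟨hom_map_mem F hθ x, ?_⟩
        apply mem_normalizer_of_conj_mem_of_finite
        intro y' hy'
        obtain ⟨y, hy, rfl⟩ := (mem_im_iff θ hUN y').1 hy'
        have hgy : (x : Ω) * y * (x : Ω)⁻¹ ∈ U := (Subgroup.mem_normalizer_iff.1 x.2.2 y).1 hy
        refine (mem_im_iff θ hUN _).2 ⟨(x : Ω) * y * (x : Ω)⁻¹, hgy, ?_⟩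
        have : (⟨(x : Ω) * y * (x : Ω)⁻¹, hUN hgy⟩ : ↥(normalizerIn S U)) = x * ⟨y, hUN hy⟩ * x⁻¹ :=
          Subtype.ext rfl
        rw [this, map_mul, map_mul, map_inv]
      exact hNM 0 (by omega) h1
    refine ⟨χ.comp (θ.codRestrict _ hθN), F.comp_mem hθ hχ hθN, fun i hi => ?_⟩
    rw [im_comp θ χ hθN U, htow i hi]
    rcases Nat.lt_or_ge i (m + 1) with hlt | hge
    · have hTS : tow W S (im θ U) i ≤ S := tow_le hU'S i
      have hTM : tow W S (im θ U) i ≤ normalizerIn S (tow W S (im θ U) (m + 1)) :=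
        (le_normalizerIn hTS).trans (hNM i (by omega))
      exact (normalizerIn_im F hχ hTM (hNM i (by omega)) (hfn i (by omega))).2
    · have : i = m + 1 := by omega
      subst this
      exact hχfn

end tower

end Cfsg.Agent.Lib.Helper86.WC
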