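/-
helper86: control of weak closure of elements, the global step (after Diaz-Glesser-Mazza-Park): under `WCHyp`, an
admissible element fixed by `N_F(W(S))` lies in the centre of the saturated system `F`.
-/
import Cfsg.Agent.Lib.Helper86.WCLocal
import Cfsg.Agent.Lib.Helper86.WCTower

set_option autoImplicit false
set_option linter.unusedSectionVars false
set_option linter.style.haveILetI false

universe u

namespace Cfsg.Agent.Lib.Helper86.WC

open Cfsg Cfsg.FusionSystem Cfsg.Agent.Lib.Helper87 Cfsg.Agent.Lib.Helper88 Cfsg.Agent.Lib.Helper88.NilpRed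

variable {p : ℕ} [Fact p.Prime] {W : ∀ (Q : Type u) [Group Q], Subgroup Q} {Ω : Type u} [Group Ω]
  {A : Subgroup Ω → Ω → Prop} {S : Subgroup Ω}

theorem center_le_normalizerIn {X : Subgroup Ω} (hXS : X ≤ S) :
    S ⊓ Subgroup.centralizer (S : Set Ω) ≤ normalizerIn S X := by
  intro z hz
  exact ⟨hz.1, Subgroup.centralizer_le_normalizer _ (Subgroup.centralizer_le hXS hz.2)⟩

/-- Admissible elements lying in `U` lie in all the tower terms. -/
theorem mem_tow (H : WCHyp p W A) [Finite S] (hS : IsPGroup p S) {z : Ω} (hA : A S z) {U : Subgroup Ω}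
    (hUS : U ≤ S) (hzU : z ∈ U) (i : ℕ) : z ∈ tow W S U i := by
  cases i with
  | zero => exact hzU
  | succ i =>
    have hz := H.a1 S z hA
    have hTS : tow W S U i ≤ S := tow_le hUS i
    have hNS : normalizerIn S (tow W S U i) ≤ S := inf_le_left
    haveI : Finite ↥(normalizerIn S (tow W S U i)) := finite_of_le hNS
    refine center_le_inducedFunctor H.hWZ (hS.to_le hNS) ?_
    exact ⟨center_le_normalizerIn hTS hz, Subgroup.centralizer_le hNS hz.2⟩

/-- One step down a tower. -/
theorem fixN_step (H : WCHyp p W A) [Finite S] (hS : IsPGroup p S) (F : FusionSystem S) (hF : F.IsSaturated p)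
    {z : Ω} (hA : A S z) {X : Subgroup Ω} (hX : F.IsFullyNormalized X) (hzX : z ∈ X)
    (h : FixN F (inducedFunctor W (normalizerIn S X)) z) : FixN F X z := by
  have hXS : X ≤ S := hX.1
  have hN := isNormalizerSystem_normalizerSystem F X hXS
  have hNsat := isSaturated_of_isNormalizerSystem F hS hF hX hN
  have hNn := isNormal_of_isNormalizerSystem F hXS hN
  have hTS : normalizerIn S X ≤ S := inf_le_left
  haveI : Finite ↥(normalizerIn S X) := finite_of_le hTS
  have hT : IsPGroup p ↥(normalizerIn S X) := hS.to_le hTS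
  have hAT : A (normalizerIn S X) z := H.a2 S _ z hA hTS (center_le_normalizerIn hXS)
  have hfixN : FixN (normalizerSystem F X hXS) (inducedFunctor W (normalizerIn S X)) z := by
    refine fixN_mono F _ hTS (fun P φ hφ => ?_) h
    rw [hN P] at hφ
    exact hφ.1
  exact fixN_of_fix hN (fix_of_normal H _ (normalizerIn S X) hT _ hNsat X hNn rfl z hzX hAT hfixN)

/-- Descent along a tower whose terms are fully normalized. -/
theorem fixN_tow (H : WCHyp p W A) [Finite S] (hS : IsPGroup p S) (F : FusionSystem S) (hF : F.IsSaturated p)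
    {z : Ω} (hA : A S z) (hfix : FixN F (inducedFunctor W S) z) {U : Subgroup Ω} (hUS : U ≤ S) (hzU : z ∈ U)
    (m : ℕ) (hfn : ∀ i ≤ m, F.IsFullyNormalized (tow W S U i)) :
    ∀ d i : ℕ, Nat.card S - Nat.card ↥(normalizerIn S (tow W S U i)) = d → i + d ≤ m →
      FixN F (tow W S U i) z := by
  intro d
  induction d using Nat.strong_induction_on with
  | _ d IH =>
  intro i hd him
  have hnext : FixN F (tow W S U (i + 1)) z := by
    by_cases hNS : normalizerIn S (tow W S U i) = S
    · rw [tow_succ, hNS]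
      exact hfix
    · have hlt := card_normalizerIn_tow_lt H.hW hS U i hNS
      have hle : Nat.card ↥(normalizerIn S (tow W S U (i + 1))) ≤ Nat.card S :=
        Subgroup.card_le_of_le inf_le_left
      exact IH (Nat.card S - Nat.card ↥(normalizerIn S (tow W S U (i + 1)))) (by omega) (i + 1) rfl (by omega)
  exact fixN_step H hS F hF hA (hfn i (by omega)) (mem_tow H hS hA hUS hzU i) hnext

/-- An automorphism of `S` in the system is a map of the normalizer system of `W(S)`. -/
theorem top_aut_mem_normalizerHom (hW : IsCharPFunctor p W) [Finite S] (hS : IsPGroup p S) (F : FusionSystem S)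
    {α : MulAut S} (hα : α ∈ F.autGroup S) :
    S.subtype.comp (α : S ≃* S).toMonoidHom ∈ F.normalizerHom (inducedFunctor W S) S := by
  have hαF : S.subtype.comp (α : S ≃* S).toMonoidHom ∈ F.Hom S :=
    (Cfsg.Agent.Lib.Helper87.mem_autGroup_iff F le_rfl).1 hα
  have hSN : S ≤ normalizerIn S (inducedFunctor W S) :=
    fun s hs => ⟨hs, inducedFunctor_normalizer hW hS (Subgroup.le_normalizer hs)⟩
  have hle : S ⊔ inducedFunctor W S ≤ S := sup_le le_rfl (inducedFunctor_le W S)
  refine ⟨hαF, hSN, fun x => hSN (α x).2, _, restrict_mem F hαF hle, fun x => ?_, ?_⟩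
  · show ((α (Subgroup.inclusion hle (Subgroup.inclusion le_sup_left x)) : S) : Ω) = ((α x : S) : Ω)
    congr 2
  · have key := inducedFunctor_equiv hW hS (α : S ≃* S)
    apply le_antisymm
    · rintro _ ⟨y, hy, rfl⟩
      have hy' : (y : Ω) ∈ inducedFunctor W S := Subgroup.mem_subgroupOf.1 hy
      exact (key (Subgroup.inclusion hle y)).1 hy'
    · intro x hx
      have hxS : x ∈ S := inducedFunctor_le W S hx
      have h1 : ((α.symm ⟨x, hxS⟩ : S) : Ω) ∈ inducedFunctor W S := by
        have h2 := (key (α.symm ⟨x, hxS⟩)).2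
        apply h2
        have : (α : S ≃* S) (α.symm ⟨x, hxS⟩) = ⟨x, hxS⟩ := MulEquiv.apply_symm_apply _ _
        rw [this]
        exact hx
      refine ⟨Subgroup.inclusion le_sup_left (α.symm ⟨x, hxS⟩), Subgroup.mem_subgroupOf.2 h1, ?_⟩
      show ((α (Subgroup.inclusion hle (Subgroup.inclusion le_sup_left (α.symm ⟨x, hxS⟩))) : S) : Ω) = x
      have e : Subgroup.inclusion hle (Subgroup.inclusion le_sup_left (α.symm ⟨x, hxS⟩)) = α.symm ⟨x, hxS⟩ :=
        Subtype.ext rfl
      rw [e]
      have : α (α.symm ⟨x, hxS⟩) = ⟨x, hxS⟩ := MulEquiv.apply_symm_apply _ _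
      rw [this]

/-- **Control of weak closure of elements.** -/
theorem mem_center_of_fixN (H : WCHyp p W A) [Finite S] (hS : IsPGroup p S) (F : FusionSystem S)
    (hF : F.IsSaturated p) {z : Ω} (hA : A S z) (hfix : FixN F (inducedFunctor W S) z) : z ∈ F.center := by
  have hzZ := H.a1 S z hA
  have hzS : z ∈ S := hzZ.1
  have hZS : Subgroup.zpowers z ≤ S := Subgroup.zpowers_le.2 hzS
  have hZC : Subgroup.zpowers z ≤ Subgroup.centralizer (S : Set Ω) := Subgroup.zpowers_le.2 hzZ.2
  have key : ∀ P : Subgroup Ω, F.Hom P ⊆ (Cfsg.Agent.Lib.Helper85.centralizerSystem F (Subgroup.zpowers z) hZS).Hom P := by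
    refine alperin_weak' F _ hS hF ?_
    intro R hRa hRr IH α hα
    have hRS : R ≤ S := hRa.1
    haveI : Finite ↥R := finite_of_le hRS
    by_cases hRc : F.IsCentric R
    · have hzR : z ∈ R := hRc.2 R (isConj_refl F hRS) ⟨hzS, Subgroup.centralizer_le hRS hzZ.2⟩
      have hαF : R.subtype.comp (α : R ≃* R).toMonoidHom ∈ F.Hom R :=
        (Cfsg.Agent.Lib.Helper87.mem_autGroup_iff F hRS).1 hα
      -- the main point: `α` fixes `z`
      have hαz : ((α ⟨z, hzR⟩ : R) : Ω) = z := by
        by_cases hRtop : R = S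
        · subst hRtop
          exact hfix _ _ (top_aut_mem_normalizerHom H.hW hS F hα) hzR
        · have hlt : Nat.card R < Nat.card ↥(normalizerIn S R) := card_lt_card_normalizerIn hS hRS hRtop
          have hRN : R ≤ normalizerIn S R := le_normalizerIn hRS
          obtain ⟨θ, hθ, hfn⟩ := exists_hom_tow_fullyNormalized H.hW hS F hF (Nat.card S) R hRS
          have hinj : Function.Injective θ := F.injective_of_mem hθ
          have hθE := IH _ hlt hθ
          have hzN : z ∈ normalizerIn S R := hRN hzR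
          have hθz : θ ⟨z, hzN⟩ = z := by
            obtain ⟨-, -, -, ψ, -, h1, h2⟩ := hθE
            rw [← h1 ⟨z, hzN⟩]
            exact h2 ⟨z, Subgroup.mem_zpowers z⟩
          have hzR' : z ∈ im θ R := (mem_im_iff θ hRN z).2 ⟨z, hzR, hθz⟩
          have hR'S : im θ R ≤ S := im_le F hθ R
          haveI : Finite ↥(im θ R) := finite_of_le hR'S
          have hfixR' : FixN F (im θ R) z :=
            fixN_tow H hS F hF hA hfix hR'S hzR' (Nat.card S) hfn _ 0 rfl (by omega)
          have he : IsIso F (imEquiv θ hinj hRN) :=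
            isIso_of_restrict F hθ hRN (imEquiv θ hinj hRN) (fun x hx hx' => rfl)
          have hα' : IsIso F ((imEquiv θ hinj hRN).symm.trans (((α : R ≃* R)).trans (imEquiv θ hinj hRN))) :=
            he.symm.trans (((Cfsg.Agent.Lib.Helper87.mem_autGroup_iff F hRS).1 hα).trans he)
          have h1 := hfixR' _ _ (mem_normalizerHom_self F hα' (fun x => Subtype.property _)) hzR'
          have h2 : (imEquiv θ hinj hRN).symm ⟨z, hzR'⟩ = ⟨z, hzR⟩ := by
            rw [MulEquiv.symm_apply_eq]
            exact Subtype.ext hθz.symm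
          have h3 : θ ⟨((α ⟨z, hzR⟩ : R) : Ω), hRN (α ⟨z, hzR⟩).2⟩ = z := by
            have : ((imEquiv θ hinj hRN ((α : R ≃* R) ((imEquiv θ hinj hRN).symm ⟨z, hzR'⟩)) : ↥(im θ R)) : Ω) = z := h1
            rw [h2] at this
            exact this
          have h4 := hinj (h3.trans hθz.symm)
          exact congrArg (fun s : ↥(normalizerIn S R) => (s : Ω)) h4
      -- conclusion of the centric case
      have hRcent : R ≤ centralizerIn S (Subgroup.zpowers z) := by
        intro x hx
        refine Subgroup.mem_inf.2 ⟨hRS hx, ?_⟩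
        rw [Subgroup.mem_centralizer_iff]
        intro h hh
        exact ((Subgroup.mem_centralizer_iff.1 (hZC hh)) x (hRS hx)).symm
      have hle : R ⊔ Subgroup.zpowers z ≤ R := sup_le le_rfl (Subgroup.zpowers_le.2 hzR)
      show R.subtype.comp (α : R ≃* R).toMonoidHom ∈ F.centralizerHom (Subgroup.zpowers z) R
      refine ⟨hαF, hRcent, fun x => hRcent (α x).2, _, restrict_mem F hαF hle, fun x => ?_, fun x => ?_⟩
      · show ((α (Subgroup.inclusion hle (Subgroup.inclusion le_sup_left x)) : R) : Ω) = ((α x : R) : Ω)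
        congr 2
      · obtain ⟨k, hk⟩ := Subgroup.mem_zpowers_iff.1 x.2
        show ((α (Subgroup.inclusion hle (Subgroup.inclusion le_sup_right x)) : R) : Ω) = (x : Ω)
        have e : Subgroup.inclusion hle (Subgroup.inclusion le_sup_right x) = (⟨z, hzR⟩ : R) ^ k := by
          apply Subtype.ext
          rw [Subgroup.coe_zpow]
          exact hk.symm
        have hfixz : α ⟨z, hzR⟩ = ⟨z, hzR⟩ := Subtype.ext hαz
        rw [e, map_zpow, hfixz, Subgroup.coe_zpow]
        exact hk
    · obtain ⟨N, hRN, φ, hφ, hφα⟩ := Cfsg.Agent.Lib.Helper84.exists_extension_of_not_centric F hRr hRc hα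
      have hNS : N ≤ S := hom_le F hφ
      haveI : Finite ↥N := finite_of_le hNS
      have hcard : Nat.card R < Nat.card N := by
        by_contra hge
        push Not at hge
        exact hRN.ne (Subgroup.eq_of_le_of_card_ge hRN.le hge)
      have hφE := IH N hcard hφ
      exact restrict_mem' _ hφE hRN.le (fun x => (hφα x).symm)
  have hcentral : F.IsCentral (Subgroup.zpowers z) := by
    refine ⟨hZS, fun P φ hφ => ?_⟩
    obtain ⟨-, -, -, ψ, hψ, h1, h2⟩ := key P hφ
    exact ⟨ψ, hψ, h1, h2⟩
  exact Cfsg.Agent.Lib.Helper85.le_center_of_isCentral F hcentral (Subgroup.mem_zpowers z)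

end Cfsg.Agent.Lib.Helper86.WC
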