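/-
helper86: group-theoretic core of the `p`-th-power weak closure theorem (Glauberman; the model case of S5253).
Let `W` be an isomorphism-invariant functor on `p`-groups such that in every finite group `G` with Sylow `p`-subgroup `P` in
which `W(P)` is not normal some `g ∈ P ∖ O_p(G)` acts quadratically on `Z(O_p(G))`.  Then in every finite group `L` with
`C_L(O_p(L)) ≤ O_p(L)`, every `p`-th power of an element of `Z(P)` that is centralized by `N_L(W(P))` is central in `L`
(`quad_center`).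
-/
import Cfsg.Agent.Lib.Helper76.PCore
import Cfsg.Agent.Lib.Helper47.SylowLemmas
import Cfsg.Prelude.Def_CaseTheorems

set_option autoImplicit false
set_option linter.unusedSectionVars false
set_option linter.style.haveILetI false

universe u

open scoped commutatorElement

namespace Cfsg.Agent.Lib.Helper86.QuadCenter

open Cfsg

section basic

variable {G : Type*} [Group G]

/-- If `t` acts quadratically on the abelian subgroup `A` (`[t, a] ∈ A` commutes with `t`) and `t ^ p` centralizes `A`,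
then `t` centralizes the `p`-th powers of the elements of `A`. -/
theorem commute_pow_of_quadratic {A : Subgroup G} (hAc : ∀ a ∈ A, ∀ b ∈ A, a * b = b * a) (t : G) (p : ℕ)
    (h1 : ∀ a ∈ A, t * a * t⁻¹ * a⁻¹ ∈ A)
    (h2 : ∀ a ∈ A, t * (t * a * t⁻¹ * a⁻¹) = (t * a * t⁻¹ * a⁻¹) * t)
    (h3 : ∀ a ∈ A, t ^ p * a = a * t ^ p) (a : G) (ha : a ∈ A) : t * a ^ p = a ^ p * t := by
  have hd : t * a * t⁻¹ * a⁻¹ ∈ A := h1 a ha
  have hdt : Commute t (t * a * t⁻¹ * a⁻¹) := h2 a ha
  have hda : Commute (t * a * t⁻¹ * a⁻¹) a := hAc _ hd a ha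
  have key : ∀ k : ℕ, t ^ k * a * (t ^ k)⁻¹ = (t * a * t⁻¹ * a⁻¹) ^ k * a := by
    intro k
    induction k with
    | zero => simp
    | succ k ih =>
      have e1 : t ^ (k + 1) * a * (t ^ (k + 1))⁻¹ = t * (t ^ k * a * (t ^ k)⁻¹) * t⁻¹ := by
        rw [pow_succ']
        group
      rw [e1, ih]
      have e2 : t * ((t * a * t⁻¹ * a⁻¹) ^ k * a) * t⁻¹ =
          (t * (t * a * t⁻¹ * a⁻¹) ^ k * t⁻¹) * (t * a * t⁻¹) := by group
      rw [e2]
      have e3 : t * (t * a * t⁻¹ * a⁻¹) ^ k * t⁻¹ = (t * a * t⁻¹ * a⁻¹) ^ k := by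
        have := (hdt.pow_right k).eq
        rw [this, mul_inv_cancel_right]
      rw [e3, pow_succ]
      group
  have hp1 : (t * a * t⁻¹ * a⁻¹) ^ p = 1 := by
    have h4 := key p
    have h5 : t ^ p * a * (t ^ p)⁻¹ = a := by
      rw [h3 a ha, mul_inv_cancel_right]
    rw [h5] at h4
    exact (mul_eq_right (a := (t * a * t⁻¹ * a⁻¹) ^ p) (b := a)).1 h4.symm
  have h6 : t * a ^ p * t⁻¹ = a ^ p := by
    have e4 : t * a ^ p * t⁻¹ = (t * a * t⁻¹) ^ p := (conj_pow).symm
    have e5 : t * a * t⁻¹ = (t * a * t⁻¹ * a⁻¹) * a := by group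
    rw [e4, e5, hda.mul_pow, hp1, one_mul]
  calc t * a ^ p = (t * a ^ p * t⁻¹) * t := by group
    _ = a ^ p * t := by rw [h6]

theorem mem_normalizer_of_conj_mem' {P : Subgroup G} [Finite P] {h : G}
    (hh : ∀ y ∈ P, h * y * h⁻¹ ∈ P) : h ∈ Subgroup.normalizer (P : Set G) := by
  rw [Subgroup.mem_normalizer_iff]
  intro y
  refine ⟨hh y, fun hy => ?_⟩
  let f : P → P := fun y => ⟨h * y * h⁻¹, hh y y.2⟩
  have hinj : Function.Injective f := by
    intro a b hab
    have h1 : h * (a : G) * h⁻¹ = h * (b : G) * h⁻¹ := congrArg Subtype.val hab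
    apply Subtype.ext
    have h2 := mul_left_cancel (mul_right_cancel h1)
    exact h2
  obtain ⟨x, hx⟩ := (Finite.injective_iff_surjective.1 hinj) ⟨h * y * h⁻¹, hy⟩
  have h3 : h * (x : G) * h⁻¹ = h * y * h⁻¹ := congrArg Subtype.val hx
  have h4 : (x : G) = y := mul_left_cancel (mul_right_cancel h3)
  rw [← h4]
  exact x.2

end basic

variable {p : ℕ} [Fact p.Prime]

/-- The centre of `O_p(L)`, inside `L`. -/
def zCore (p : ℕ) (L : Type*) [Group L] : Subgroup L :=
  (Subgroup.center ↥(pCore p L)).map (pCore p L).subtype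

theorem mem_zCore_iff {L : Type*} [Group L] (a : L) :
    a ∈ zCore p L ↔ a ∈ pCore p L ∧ ∀ q ∈ pCore p L, q * a = a * q := by
  unfold zCore
  constructor
  · rintro ⟨x, hx, rfl⟩
    refine ⟨x.2, fun q hq => ?_⟩
    have := (Subgroup.mem_center_iff.1 hx) ⟨q, hq⟩
    exact congrArg Subtype.val this
  · rintro ⟨haQ, hc⟩
    refine ⟨⟨a, haQ⟩, ?_, rfl⟩
    show (⟨a, haQ⟩ : ↥(pCore p L)) ∈ Subgroup.center ↥(pCore p L)
    rw [Subgroup.mem_center_iff]
    intro q
    exact Subtype.ext (hc q q.2)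

theorem conj_mem_zCore {L : Type*} [Group L] {a : L} (ha : a ∈ zCore p L) (l : L) :
    l * a * l⁻¹ ∈ zCore p L := by
  rw [mem_zCore_iff] at ha ⊢
  have hn : (pCore p L).Normal := inferInstance
  refine ⟨hn.conj_mem a ha.1 l, fun q hq => ?_⟩
  have hq' : l⁻¹ * q * l ∈ pCore p L := by
    have := hn.conj_mem q hq l⁻¹
    rwa [inv_inv] at this
  have h1 := ha.2 _ hq'
  calc q * (l * a * l⁻¹) = l * ((l⁻¹ * q * l) * a) * l⁻¹ := by group
    _ = l * (a * (l⁻¹ * q * l)) * l⁻¹ := by rw [h1]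
    _ = l * a * l⁻¹ * q := by group

theorem zCore_comm {L : Type*} [Group L] {a b : L} (ha : a ∈ zCore p L) (hb : b ∈ zCore p L) :
    a * b = b * a := by
  rw [mem_zCore_iff] at ha hb
  exact hb.2 a ha.1


/-- Subgroups of `L` containing a Sylow `p`-subgroup inherit `C(O_p) ≤ O_p`. -/
theorem constrained_of_le {L : Type*} [Group L] [Finite L] (P : Sylow p L)
    (hcen : Subgroup.centralizer ((pCore p L : Subgroup L) : Set L) ≤ pCore p L) (H : Subgroup L)
    (hPH : (P : Subgroup L) ≤ H) :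
    Subgroup.centralizer ((pCore p ↥H : Subgroup ↥H) : Set ↥H) ≤ pCore p ↥H := by
  have hQP : pCore p L ≤ (P : Subgroup L) := Cfsg.Agent.Lib.Helper76.pCore_le_sylow p P
  have hQ'le : (pCore p L).subgroupOf H ≤ pCore p ↥H := by
    apply Cfsg.Agent.Lib.Helper76.le_pCore p
    · infer_instance
    · exact IsPGroup.of_equiv (Cfsg.Agent.Lib.Helper76.pCore_isPGroup p)
        ((pCore p L).subgroupOfEquivOfLe (hQP.trans hPH)).symm
  intro c hc
  apply hQ'le
  rw [Subgroup.mem_subgroupOf]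
  apply hcen
  rw [Subgroup.mem_centralizer_iff]
  intro q hq
  have hqH : q ∈ H := hPH (hQP hq)
  have h1 := (Subgroup.mem_centralizer_iff.1 hc) ⟨q, hqH⟩ (hQ'le (Subgroup.mem_subgroupOf.2 hq))
  exact congrArg Subtype.val h1

variable (W : ∀ (Q : Type u) [Group Q], Subgroup Q)

/-- `W(P)` computed in a subgroup `H ≥ P` and in `L` agree. -/
theorem map_W_subtype (hW2 : ∀ (Q R : Type u) [Group Q] [Group R] [Finite Q], IsPGroup p Q → ∀ φ : Q ≃* R,
      (W Q).map φ.toMonoidHom = W R) {L : Type u} [Group L] [Finite L] (P : Sylow p L) (H : Subgroup L)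
    (hPH : (P : Subgroup L) ≤ H) :
    ((W ↥((P.subtype hPH : Sylow p ↥H) : Subgroup ↥H)).map
      ((P.subtype hPH : Sylow p ↥H) : Subgroup ↥H).subtype).map H.subtype =
      (W ↥(P : Subgroup L)).map (P : Subgroup L).subtype := by
  have hp' : IsPGroup p ↥((P.subtype hPH : Sylow p ↥H) : Subgroup ↥H) := (P.subtype hPH).isPGroup'
  have e0 : ((P.subtype hPH : Sylow p ↥H) : Subgroup ↥H) = (P : Subgroup L).subgroupOf H := Sylow.coe_subtype _ _
  -- the isomorphism `P' ≃* P`
  let e : ↥((P.subtype hPH : Sylow p ↥H) : Subgroup ↥H) ≃* ↥(P : Subgroup L) :=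
    (MulEquiv.subgroupCongr e0).trans ((P : Subgroup L).subgroupOfEquivOfLe hPH)
  have h1 := hW2 _ _ hp' e
  rw [← h1, Subgroup.map_map, Subgroup.map_map]
  congr 1

/-- **Model case of the `p`-th power weak closure theorem.** -/
theorem quad_center_aux
    (hW2 : ∀ (Q R : Type u) [Group Q] [Group R] [Finite Q], IsPGroup p Q → ∀ φ : Q ≃* R,
      (W Q).map φ.toMonoidHom = W R)
    (hq : ∀ (G : Type u) [Group G] [Finite G] (P : Sylow p G),
      ¬ (((W ↥(P : Subgroup G)).map (P : Subgroup G).subtype : Subgroup G)).Normal →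
      ∃ g : G, g ∈ (P : Subgroup G) ∧ g ∉ Cfsg.pCore p G ∧
        ⁅⁅Subgroup.center ↥(Cfsg.pCore p G) |>.map (Cfsg.pCore p G).subtype, Subgroup.zpowers g⁆,
          Subgroup.zpowers g⁆ = ⊥) :
    ∀ (n : ℕ) (L : Type u) [Group L] [Finite L], Nat.card L = n → ∀ (P : Sylow p L),
      Subgroup.centralizer ((pCore p L : Subgroup L) : Set L) ≤ pCore p L →
      ∀ y ∈ (P : Subgroup L) ⊓ Subgroup.centralizer ((P : Subgroup L) : Set L),
        (∀ h ∈ Subgroup.normalizer (((W ↥(P : Subgroup L)).map (P : Subgroup L).subtype : Subgroup L) : Set L),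
          h * y ^ p = y ^ p * h) →
        ∀ h : L, h * y ^ p = y ^ p * h := by
  intro n
  induction n using Nat.strong_induction_on with
  | _ n IH =>
  intro L _ _ hn P hcen y hy hN
  by_cases hWn : (((W ↥(P : Subgroup L)).map (P : Subgroup L).subtype : Subgroup L)).Normal
  · intro h
    apply hN h
    rw [Subgroup.normalizer_eq_top]
    exact Subgroup.mem_top h
  obtain ⟨g, hgP, hgQ, hquad⟩ := hq L P hWn
  have hQP : pCore p L ≤ (P : Subgroup L) := Cfsg.Agent.Lib.Helper76.pCore_le_sylow p P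
  have hQn : (pCore p L).Normal := inferInstance
  -- `y ∈ Z(O_p(L))`
  have hyA : y ∈ zCore p L := by
    rw [mem_zCore_iff]
    have hyc : ∀ q ∈ pCore p L, q * y = y * q := fun q hq => (Subgroup.mem_centralizer_iff.1 hy.2) q (hQP hq)
    refine ⟨hcen ?_, hyc⟩
    rw [Subgroup.mem_centralizer_iff]
    exact hyc
  -- Claim 1: proper overgroups of `P` centralize `y ^ p`
  have claim1 : ∀ H : Subgroup L, (P : Subgroup L) ≤ H → H ≠ ⊤ → ∀ h ∈ H, h * y ^ p = y ^ p * h := by
    intro H hPH hHne h hh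
    have hlt : Nat.card ↥H < n := by
      rw [← hn]
      by_contra hge
      push Not at hge
      apply hHne
      apply Subgroup.eq_top_of_card_eq
      exact le_antisymm (Subgroup.card_le_card_group H) hge
    have hyH : y ∈ H := hPH hy.1
    have key := IH _ hlt ↥H rfl (P.subtype hPH) (constrained_of_le P hcen H hPH) ⟨y, hyH⟩ ?_ ?_ ⟨h, hh⟩
    · exact congrArg Subtype.val key
    · rw [Sylow.coe_subtype]
      refine ⟨Subgroup.mem_subgroupOf.2 hy.1, ?_⟩
      apply Subgroup.mem_centralizer_iff.2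
      intro x hx
      apply Subtype.ext
      exact (Subgroup.mem_centralizer_iff.1 hy.2) (x : L) (Subgroup.mem_subgroupOf.1 hx)
    · intro h' hh'
      apply Subtype.ext
      show (h' : L) * y ^ p = y ^ p * (h' : L)
      apply hN
      rw [← map_W_subtype W hW2 P H hPH]
      apply mem_normalizer_of_conj_mem'
      rintro _ ⟨x, hx, rfl⟩
      exact ⟨h' * x * h'⁻¹, (Subgroup.mem_normalizer_iff.1 hh' x).1 hx, rfl⟩
  -- the quadratic element with `p`-th power centralizing `Z(O_p(L))`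
  have hquad' : ∀ (k m : ℕ) (a : L), a ∈ zCore p L → Commute ⁅a, g ^ k⁆ (g ^ m) := by
    intro k m a ha
    have h1 : ⁅a, g ^ k⁆ ∈ ⁅zCore p L, Subgroup.zpowers g⁆ :=
      Subgroup.commutator_mem_commutator ha (Subgroup.pow_mem _ (Subgroup.mem_zpowers g) k)
    have h2 : ⁅⁅a, g ^ k⁆, g ^ m⁆ ∈ ⁅⁅zCore p L, Subgroup.zpowers g⁆, Subgroup.zpowers g⁆ :=
      Subgroup.commutator_mem_commutator h1 (Subgroup.pow_mem _ (Subgroup.mem_zpowers g) m)
    have h3 : ⁅⁅a, g ^ k⁆, g ^ m⁆ = 1 := by
      have : ⁅⁅zCore p L, Subgroup.zpowers g⁆, Subgroup.zpowers g⁆ = ⊥ := hquad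
      rw [this] at h2
      exact Subgroup.mem_bot.1 h2
    exact commutatorElement_eq_one_iff_commute.1 h3
  have hexg : ∃ g' : L, g' ∈ (P : Subgroup L) ∧ g' ∉ pCore p L ∧
      (∀ a ∈ zCore p L, Commute ⁅a, g'⁆ g') ∧ ∀ a ∈ zCore p L, g' ^ p * a = a * g' ^ p := by
    -- the powers `g ^ p ^ j`
    have hfin : ∃ j : ℕ, ∀ a ∈ zCore p L, (g ^ p ^ j) * a = a * (g ^ p ^ j) := by
      obtain ⟨j, hj⟩ := (P.isPGroup' ⟨g, hgP⟩)
      refine ⟨j, fun a _ => ?_⟩
      have : g ^ p ^ j = 1 := by simpa using congrArg Subtype.val hj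
      rw [this, one_mul, mul_one]
    classical
    let j := Nat.find hfin
    have hj : ∀ a ∈ zCore p L, (g ^ p ^ j) * a = a * (g ^ p ^ j) := Nat.find_spec hfin
    rcases Nat.eq_zero_or_pos j with hj0 | hjpos
    · refine ⟨g, hgP, hgQ, fun a ha => ?_, fun a ha => ?_⟩
      · have := hquad' 1 1 a ha
        simpa using this
      · have h0 : ∀ a ∈ zCore p L, g * a = a * g := by
          intro a ha
          have := hj a ha
          rw [hj0] at this
          simpa using this
        have hc : Commute g a := h0 a ha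
        exact (hc.pow_left p).eq
    · have hmin : ¬ ∀ a ∈ zCore p L, (g ^ p ^ (j - 1)) * a = a * (g ^ p ^ (j - 1)) :=
        Nat.find_min hfin (Nat.sub_lt hjpos Nat.one_pos)
      refine ⟨g ^ p ^ (j - 1), Subgroup.pow_mem _ hgP _, ?_, fun a ha => hquad' _ _ a ha, fun a ha => ?_⟩
      · intro hmem
        apply hmin
        intro a ha
        exact ((mem_zCore_iff a).1 ha).2 _ hmem
      · have e : (g ^ p ^ (j - 1)) ^ p = g ^ p ^ j := by
          rw [← pow_mul, ← pow_succ]
          congr 2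
          omega
        rw [e]
        exact hj a ha
  obtain ⟨g', hg'P, hg'Q, hg'q, hg'p⟩ := hexg
  -- every conjugate of `g'` centralizes `y ^ p`
  have hconj : ∀ l : L, (l * g' * l⁻¹) * y ^ p = y ^ p * (l * g' * l⁻¹) := by
    intro l
    have hya : l⁻¹ * y * l ∈ zCore p L := by
      have := conj_mem_zCore hyA l⁻¹
      rwa [inv_inv] at this
    have h1 : g' * (l⁻¹ * y * l) ^ p = (l⁻¹ * y * l) ^ p * g' := by
      apply commute_pow_of_quadratic (A := zCore p L) (fun a ha b hb => zCore_comm ha hb) g' p ?_ ?_ hg'p _ hya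
      · intro a ha
        exact Subgroup.mul_mem _ (conj_mem_zCore ha g') (Subgroup.inv_mem _ ha)
      · intro a ha
        have h2 := hg'q a ha
        have h3 : g' * a * g'⁻¹ * a⁻¹ = (⁅a, g'⁆)⁻¹ := by
          rw [commutatorElement_def]
          group
        rw [h3]
        exact (h2.inv_left.symm).eq
    have e1 : (l⁻¹ * y * l) ^ p = l⁻¹ * y ^ p * l := by
      have := conj_pow (a := l⁻¹) (b := y) (i := p)
      rw [inv_inv] at this
      exact this
    rw [e1] at h1
    calc l * g' * l⁻¹ * y ^ p = l * (g' * (l⁻¹ * y ^ p * l)) * l⁻¹ := by group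
      _ = l * ((l⁻¹ * y ^ p * l) * g') * l⁻¹ := by rw [h1]
      _ = y ^ p * (l * g' * l⁻¹) := by group
  -- the normal closure `X` of `g'` centralizes `y ^ p`
  have hXC : Subgroup.normalClosure {g'} ≤ Subgroup.centralizer {y ^ p} := by
    unfold Subgroup.normalClosure
    rw [Subgroup.closure_le]
    intro x hx
    rw [Group.mem_conjugatesOfSet_iff] at hx
    obtain ⟨b, hb, hbx⟩ := hx
    rw [Set.mem_singleton_iff] at hb
    subst hb
    obtain ⟨c, hc⟩ := isConj_iff.1 hbx
    rw [SetLike.mem_coe, Subgroup.mem_centralizer_iff]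
    intro w hw
    rw [Set.mem_singleton_iff] at hw
    subst hw
    rw [← hc]
    exact (hconj c).symm
  have hPC : (P : Subgroup L) ≤ Subgroup.centralizer {y ^ p} := by
    intro x hx
    rw [Subgroup.mem_centralizer_iff]
    intro w hw
    rw [Set.mem_singleton_iff] at hw
    subst hw
    have hc : Commute x y := (Subgroup.mem_centralizer_iff.1 hy.2) x hx
    exact ((hc.pow_right p).eq).symm
  -- Frattini
  have hXn : (Subgroup.normalClosure ({g'} : Set L)).Normal := Subgroup.normalClosure_normal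
  obtain ⟨R, hR⟩ := Cfsg.Agent.Lib.Helper47.exists_sylow_eq_subgroupOf_of_normal P
    (Subgroup.normalClosure ({g'} : Set L))
  have hfr := Sylow.normalizer_sup_eq_top R
  have hRmap : (R : Subgroup ↥(Subgroup.normalClosure ({g'} : Set L))).map
      (Subgroup.normalClosure ({g'} : Set L)).subtype =
      (P : Subgroup L) ⊓ Subgroup.normalClosure ({g'} : Set L) := by
    rw [hR, Subgroup.subgroupOf_map_subtype]
  rw [hRmap] at hfr
  -- `P ∩ X` is not normal in `L`
  have hne : Subgroup.normalizer (((P : Subgroup L) ⊓ Subgroup.normalClosure ({g'} : Set L) : Subgroup L) : Set L)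
      ≠ ⊤ := by
    intro htop
    have hnor : ((P : Subgroup L) ⊓ Subgroup.normalClosure ({g'} : Set L)).Normal :=
      Subgroup.normalizer_eq_top_iff.1 htop
    have hle : (P : Subgroup L) ⊓ Subgroup.normalClosure ({g'} : Set L) ≤ pCore p L :=
      Cfsg.Agent.Lib.Helper76.le_pCore p _ hnor (P.isPGroup'.to_le inf_le_left)
    exact hg'Q (hle ⟨hg'P, Subgroup.subset_normalClosure (Set.mem_singleton g')⟩)
  have hPN : (P : Subgroup L) ≤
      Subgroup.normalizer (((P : Subgroup L) ⊓ Subgroup.normalClosure ({g'} : Set L) : Subgroup L) : Set L) := by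
    intro x hx
    apply mem_normalizer_of_conj_mem'
    intro w hw
    exact ⟨Subgroup.mul_mem _ (Subgroup.mul_mem _ hx hw.1) (Subgroup.inv_mem _ hx), hXn.conj_mem w hw.2 x⟩
  have hNC := claim1 _ hPN hne
  intro h
  have hmem : h ∈ Subgroup.normalizer (((P : Subgroup L) ⊓ Subgroup.normalClosure ({g'} : Set L) : Subgroup L) : Set L)
      ⊔ Subgroup.normalClosure ({g'} : Set L) := by
    rw [hfr]
    exact Subgroup.mem_top h
  have hle : Subgroup.normalizer (((P : Subgroup L) ⊓ Subgroup.normalClosure ({g'} : Set L) : Subgroup L) : Set L)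
      ⊔ Subgroup.normalClosure ({g'} : Set L) ≤ Subgroup.centralizer {y ^ p} := by
    apply sup_le _ hXC
    intro x hx
    rw [Subgroup.mem_centralizer_iff]
    intro w hw
    rw [Set.mem_singleton_iff] at hw
    subst hw
    exact (hNC x hx).symm
  have h1 := (Subgroup.mem_centralizer_iff.1 (hle hmem)) (y ^ p) (Set.mem_singleton _)
  exact h1.symm

end Cfsg.Agent.Lib.Helper86.QuadCenter
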