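/-
helper86: Thompson's normal `p`-complement theorem for fusion systems, part A: the test predicate
(`p` odd or `S₄`-free; `C_F(Z(S))` and `N_F(J(S))` have only `p`-automorphisms) and its heredity, climbing and
factor properties, relative to the inheritance of `S₄`-freeness (`FreeHyp`).
-/
import Cfsg.Agent.Lib.Helper86.NilpRed2
import Cfsg.Agent.Lib.Helper88.FusionNilpFunctor
import Cfsg.Agent.Lib.Helper47.ThompsonA
import Cfsg.Agent.Lib.Helper50.CentrallyLarge
import Cfsg.Prelude.Def_FusionReduction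

set_option autoImplicit false
set_option linter.unusedSectionVars false
set_option linter.style.haveILetI false

universe u

namespace Cfsg.Agent.Lib.Helper86.ThompsonFus

open Cfsg Cfsg.FusionSystem Cfsg.Agent.Lib.Helper87 Cfsg.Agent.Lib.Helper88.NilpRed

/-- The centre functor. -/
def zF (Q : Type u) [Group Q] : Subgroup Q := Subgroup.center Q

/-- The Thompson subgroup functor (abelian version). -/
def jF (Q : Type u) [Group Q] : Subgroup Q := thompsonSubgroupA Q

theorem inducedFunctor_zF {G : Type u} [Group G] (P : Subgroup G) :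
    inducedFunctor zF P = P ⊓ Subgroup.centralizer (P : Set G) :=
  Cfsg.Agent.Lib.Helper50.map_center_eq P

theorem inducedFunctor_jF {G : Type u} [Group G] (P : Subgroup G) :
    inducedFunctor jF P = thompsonSubgroupAOf P := rfl

theorem isCharPFunctor_jF (p : ℕ) : IsCharPFunctor.{u} p jF :=
  Cfsg.Agent.Lib.Helper47.isCharPFunctor_thompsonA p

theorem isCharPFunctor_zF (p : ℕ) [Fact p.Prime] : IsCharPFunctor.{u} p zF := by
  constructor
  · intro Q _ _ hQ hnt
    have hc : Nontrivial (Subgroup.center Q) := hQ.center_nontrivial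
    exact (Subgroup.nontrivial_iff_ne_bot _).1 hc
  · intro Q R _ _ _ _ φ
    ext x
    constructor
    · rintro ⟨y, hy, rfl⟩
      show φ y ∈ Subgroup.center R
      rw [Subgroup.mem_center_iff]
      intro r
      obtain ⟨q, rfl⟩ := φ.surjective r
      rw [← map_mul, ← map_mul, (Subgroup.mem_center_iff.1 hy) q]
    · intro hx
      refine ⟨φ.symm x, ?_, φ.apply_symm_apply x⟩
      show φ.symm x ∈ Subgroup.center Q
      rw [Subgroup.mem_center_iff]
      intro q
      apply φ.injective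
      rw [map_mul, map_mul, φ.apply_symm_apply]
      exact (Subgroup.mem_center_iff.1 hx) (φ q)

variable {Ω : Type*} [Group Ω] {S : Subgroup Ω}

/-- Every automorphism of the centralizer system `C_F(U)` is a `p`-element, stated inside `F`. -/
def CPAut (F : FusionSystem S) (p : ℕ) (U : Subgroup Ω) : Prop :=
  ∀ R : Subgroup Ω, U ≤ R → R ≤ centralizerIn S U → ∀ β ∈ F.autGroup R,
    (∀ x : R, (x : Ω) ∈ U → ((β x : R) : Ω) = x) → ∃ k : ℕ, β ^ p ^ k = 1

theorem centralizerIn_le_normalizerIn (S U : Subgroup Ω) : centralizerIn S U ≤ normalizerIn S U := by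
  intro x hx
  exact ⟨hx.1, Subgroup.centralizer_le_normalizer (s := (U : Set Ω)) hx.2⟩

theorem cpaut_of_npaut {p : ℕ} (F : FusionSystem S) {U : Subgroup Ω} (h : NPAut F p U) : CPAut F p U := by
  intro R hUR hRC β hβ hfix
  refine h R hUR (hRC.trans (centralizerIn_le_normalizerIn S U)) β hβ (fun x => ⟨fun hx => ?_, fun hx => ?_⟩)
  · rw [hfix x hx]
    exact hx
  · have h1 := hfix ⟨((β x : R) : Ω), hUR hx⟩ hx
    have h2 : β ⟨((β x : R) : Ω), hUR hx⟩ = β x := Subtype.ext h1
    have h3 : (⟨((β x : R) : Ω), hUR hx⟩ : R) = x := β.injective h2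
    rw [← h3]
    exact hx

theorem cpaut_of_cpaut_normalizer {p : ℕ} (F : FusionSystem S) {U X : Subgroup Ω}
    {E : FusionSystem (normalizerIn S U)} (hE : F.IsNormalizerSystem U E) (h : CPAut F p X) : CPAut E p X := by
  intro R hXR hRC β hβ hβX
  have hRT : R ≤ normalizerIn S U := hRC.trans inf_le_left
  have hRS : R ≤ S := hRT.trans inf_le_left
  refine h R hXR (fun x hx => ⟨hRS hx, (hRC hx).2⟩) β ?_ hβX
  rw [mem_autGroup_iff F hRS]
  have h1 : R.subtype.comp (β : R ≃* R).toMonoidHom ∈ E.Hom R := (mem_autGroup_iff E hRT).1 hβ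
  rw [hE R] at h1
  exact h1.1

/-- `p` is odd or the system is `S₄`-free. -/
def Free (p : ℕ) {Ω : Type u} [Group Ω] {S : Subgroup Ω} (F : FusionSystem S) : Prop :=
  p ≠ 2 ∨ F.IsSectionFree p (Equiv.Perm (Fin 4))

/-- Inheritance of `Free` by normalizer systems of fully normalized subgroups and by factor systems. -/
structure FreeHyp (p : ℕ) : Prop where
  norm : ∀ {Ω : Type u} [Group Ω] {S : Subgroup Ω} [Finite S], IsPGroup p S → ∀ (F : FusionSystem S),
    F.IsSaturated p → Free p F → ∀ Q : Subgroup Ω, F.IsFullyNormalized Q →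
    ∀ N : FusionSystem (normalizerIn S Q), F.IsNormalizerSystem Q N → Free p N
  quot : ∀ {Ω : Type u} [Group Ω] {S : Subgroup Ω} [Finite S], IsPGroup p S → ∀ (F : FusionSystem S),
    F.IsSaturated p → Free p F → ∀ Q : Subgroup Ω, F.IsNormal Q →
    ∀ {Ω' : Type u} [Group Ω'] {S' : Subgroup Ω'} (θ : S →* Ω') (E : FusionSystem S'),
    F.IsFactorSystem Q θ E → Free p E

theorem freeHyp_of_ne_two {p : ℕ} (hp : p ≠ 2) : FreeHyp.{u} p where
  norm := fun _ _ _ _ _ _ _ _ => Or.inl hp
  quot := fun _ _ _ _ _ _ _ _ _ _ _ _ => Or.inl hp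

/-- The test predicate. -/
def TTest (p : ℕ) {Ω : Type u} [Group Ω] {S : Subgroup Ω} (F : FusionSystem S) : Prop :=
  Free p F ∧ CPAut F p (inducedFunctor zF S) ∧ NPAut F p (inducedFunctor jF S)

section t123

variable {p : ℕ} [Fact p.Prime]

theorem ttest_t1 (hI : FreeHyp.{u} p) {Ω : Type u} [Group Ω] {S : Subgroup Ω} [Finite S] (hS : IsPGroup p S)
    (F : FusionSystem S) (hF : F.IsSaturated p) (Q : Subgroup Ω) (hQS : Q ≤ S) (hN : normalizerIn S Q = S)
    (E : FusionSystem (normalizerIn S Q)) (hE : F.IsNormalizerSystem Q E) (h : TTest p F) : TTest p E := by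
  obtain ⟨h1, h2, h3⟩ := h
  have hQfn : F.IsFullyNormalized Q := by
    refine ⟨hQS, fun Q' _ => ?_⟩
    rw [hN]
    exact Nat.card_le_card_of_injective (Subgroup.inclusion inf_le_left) (Subgroup.inclusion_injective _)
  refine ⟨hI.norm hS F hF h1 Q hQfn E hE, ?_, ?_⟩
  · have e1 : inducedFunctor zF (normalizerIn S Q) = inducedFunctor zF S := congrArg _ hN
    rw [e1]
    exact cpaut_of_cpaut_normalizer F hE h2
  · have e1 : inducedFunctor jF (normalizerIn S Q) = inducedFunctor jF S := congrArg _ hN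
    rw [e1]
    exact npaut_of_npaut_normalizer F hE h3

theorem ttest_t2 (hI : FreeHyp.{u} p) {Ω : Type u} [Group Ω] {S : Subgroup Ω} [Finite S] (hS : IsPGroup p S)
    (F : FusionSystem S) (hF : F.IsSaturated p) (hT : TTest p F) (U : Subgroup Ω) (hUfn : F.IsFullyNormalized U)
    (hUne : U ≠ ⊥) (E : FusionSystem (normalizerIn S U)) (hE : F.IsNormalizerSystem U E) (h : ¬ TTest p E) :
    ∃ X : Subgroup Ω, X ≠ ⊥ ∧ X ≤ normalizerIn S U ∧
      normalizerIn S (normalizerIn S U) ≤ normalizerIn S X ∧ ¬ NPAut F p X := by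
  have hfree : Free p E := hI.norm hS F hF hT.1 U hUfn E hE
  by_cases hz : NPAut E p (inducedFunctor zF (normalizerIn S U))
  · by_cases hj : NPAut E p (inducedFunctor jF (normalizerIn S U))
    · exact absurd ⟨hfree, cpaut_of_npaut E hz, hj⟩ h
    · exact wtest_t2 (isCharPFunctor_jF p) hS F U hUfn.1 hUne E hE hj
  · exact wtest_t2 (isCharPFunctor_zF p) hS F U hUfn.1 hUne E hE hz

theorem ttest_t3 (hI : FreeHyp.{u} p) {Ω : Type u} [Group Ω] {S : Subgroup Ω} [Finite S] (hS : IsPGroup p S)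
    (F : FusionSystem S) (hF : F.IsSaturated p) (hT : TTest p F) (Q : Subgroup Ω) (hQ : F.IsNormal Q)
    {Ω' : Type u} [Group Ω'] {S' : Subgroup Ω'} (θ : S →* Ω') (E : FusionSystem S') (hE : F.IsFactorSystem Q θ E)
    (h : ¬ TTest p E) :
    ∃ L : Subgroup Ω, Q ≤ L ∧ Nat.card Q < Nat.card L ∧ L ≤ S ∧ normalizerIn S L = S ∧ ¬ NPAut F p L := by
  have hfree : Free p E := hI.quot hS F hF hT.1 Q hQ θ E hE
  have hQsc := Cfsg.Agent.Lib.Helper84.stronglyClosed_of_isNormal F hQ
  by_cases hz : NPAut E p (inducedFunctor zF S')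
  · by_cases hj : NPAut E p (inducedFunctor jF S')
    · exact absurd ⟨hfree, cpaut_of_npaut E hz, hj⟩ h
    · exact wtest_t3 (isCharPFunctor_jF p) hS F Q hQsc θ E hE hj
  · exact wtest_t3 (isCharPFunctor_zF p) hS F Q hQsc θ E hE hz

end t123

end Cfsg.Agent.Lib.Helper86.ThompsonFus
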