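/-
helper86: Thompson's normal `p`-complement theorem for fusion systems, part B: the model case.
* `hasNPC_of_local`: local `p`-nilpotency in a group realizing `F` from `p`-automorphism conditions in `F`
  (after helper88's `wtest_t4`).
* `paut_of_hasNPC`: a system realized on a Sylow subgroup of a `p`-nilpotent group has only `p`-automorphisms.
* `not_involves_of_isModel`: a model of an `H`-free system does not involve `H`.
* `ttest_t4`, `testHyp2_ttest`, `thompson_paut`.
-/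
import Cfsg.Agent.Lib.Helper86.ThompsonFusA
import Cfsg.Agent.Lib.Helper88.FusionModelBasic
import Cfsg.Agent.Lib.Helper88.FusionFC
import Cfsg.Agent.Lib.Helper84.ModelSub
import Cfsg.Agent.Lib.Helper2.Burnside
import Cfsg.Agent.S0071
import Cfsg.Agent.S2800

set_option autoImplicit false
set_option linter.unusedSectionVars false
set_option linter.style.haveILetI false

universe u

namespace Cfsg.Agent.Lib.Helper86.ThompsonFus

open Cfsg Cfsg.FusionSystem Cfsg.Agent.Lib.Helper87 Cfsg.Agent.Lib.Helper88 Cfsg.Agent.Lib.Helper88.NilpRed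
  Cfsg.Agent.Lib.Helper85

variable {p : ℕ} [Fact p.Prime]

theorem mem_map_subgroupOf_iff {Ω : Type*} [Group Ω] {S : Subgroup Ω} {G : Type*} [Group G] {ι : S →* G}
    (hι : Function.Injective ι) (X : Subgroup Ω) (s : S) :
    ι s ∈ (X.subgroupOf S).map ι ↔ (s : Ω) ∈ X := by
  constructor
  · rintro ⟨s', hs', h⟩
    rw [← hι h]
    exact Subgroup.mem_subgroupOf.1 hs'
  · intro h
    exact ⟨s, Subgroup.mem_subgroupOf.2 h, rfl⟩

/-- Local `p`-nilpotency in a group realizing `F`. -/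
theorem hasNPC_of_local {Ω : Type u} [Group Ω] {S : Subgroup Ω} [Finite S] (F : FusionSystem S)
    {G : Type u} [Group G] [Finite G] {ι : S →* G} (hR : F.IsRealizedBy ι) (T : Sylow p G)
    (hTr : (T : Subgroup G) = ι.range) (X : Subgroup Ω) (hXS : X ≤ S) (H : Subgroup G)
    (hTH : (T : Subgroup G) ≤ H)
    (hHX : ∀ h ∈ H, h ∈ Subgroup.normalizer (((X.subgroupOf S).map ι : Subgroup G) : Set G))
    (hloc : ∀ (R : Subgroup Ω) (_ : X ≤ R) (hRS : R ≤ S) (β : MulAut R), β ∈ F.autGroup R → ∀ h ∈ H,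
      (∀ x : R, ι ⟨(β x : R), hRS (β x).2⟩ = h * ι ⟨x, hRS x.2⟩ * h⁻¹) → ∃ k : ℕ, β ^ p ^ k = 1) :
    HasNormalPComplement p ↥H := by
  have hι : Function.Injective ι := hR.1
  have hWT : (X.subgroupOf S).map ι ≤ ι.range := by
    rintro _ ⟨s, -, rfl⟩
    exact ⟨s, rfl⟩
  refine ⟨T.subtype hTH, ?_⟩
  apply (Cfsg.Agent.S0071.result (T.subtype hTH)).2
  intro V hV h hhN hcop
  have hVT : V.map H.subtype ≤ ι.range := by
    rintro _ ⟨v, hv, rfl⟩
    have h1 := hV hv
    rw [Sylow.coe_subtype, Subgroup.mem_subgroupOf] at h1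
    exact hTr ▸ h1
  have hgV : (h : G) ∈ Subgroup.normalizer ((V.map H.subtype : Subgroup G) : Set G) := by
    apply mem_normalizer_of_conj_mem_of_finite
    rintro _ ⟨v, hv, rfl⟩
    exact ⟨h * v * h⁻¹, (Subgroup.mem_normalizer_iff.1 hhN v).1 hv, rfl⟩
  have hgW : (h : G) ∈ Subgroup.normalizer (((X.subgroupOf S).map ι : Subgroup G) : Set G) := hHX h h.2
  have hgVW := mem_normalizer_sup hgV hgW
  have hsup : V.map H.subtype ⊔ (X.subgroupOf S).map ι ≤ ι.range := sup_le hVT hWT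
  have hRS : preimageAlong ι (V.map H.subtype ⊔ (X.subgroupOf S).map ι) ≤ S := preimageAlong_le ι _
  have hXR : X ≤ preimageAlong ι (V.map H.subtype ⊔ (X.subgroupOf S).map ι) := by
    intro x hx
    rw [mem_preimageAlong_iff]
    exact ⟨hXS hx, le_sup_right (a := V.map H.subtype) ⟨⟨x, hXS hx⟩, Subgroup.mem_subgroupOf.2 hx, rfl⟩⟩
  have hmemR : ∀ x : ↥(preimageAlong ι (V.map H.subtype ⊔ (X.subgroupOf S).map ι)),
      ι ⟨x, hRS x.2⟩ ∈ V.map H.subtype ⊔ (X.subgroupOf S).map ι :=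
    fun x => ((mem_preimageAlong_iff ι _ x).1 x.2).2
  have hconj' : ∀ x : ↥(preimageAlong ι (V.map H.subtype ⊔ (X.subgroupOf S).map ι)),
      (h : G) * ι ⟨x, hRS x.2⟩ * (h : G)⁻¹ ∈ V.map H.subtype ⊔ (X.subgroupOf S).map ι :=
    fun x => (Subgroup.mem_normalizer_iff.1 hgVW _).1 (hmemR x)
  have hconj : ∀ x : ↥(preimageAlong ι (V.map H.subtype ⊔ (X.subgroupOf S).map ι)),
      (h : G) * ι ⟨x, hRS x.2⟩ * (h : G)⁻¹ ∈ ι.range := fun x => hsup (hconj' x)
  have hφ := Model.conjThrough_mem_hom F hR hRS (h : G) hconj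
  have hφR : ∀ x, Model.conjThrough ι hι hRS (h : G) hconj x ∈
      preimageAlong ι (V.map H.subtype ⊔ (X.subgroupOf S).map ι) := by
    intro x
    rw [mem_preimageAlong_iff]
    refine ⟨Model.conjThrough_mem ι hι hRS (h : G) hconj x, ?_⟩
    rw [Model.ι_conjThrough]
    exact hconj' x
  haveI : Finite ↥(preimageAlong ι (V.map H.subtype ⊔ (X.subgroupOf S).map ι)) := finite_of_le hRS
  obtain ⟨β, hβ, hβx⟩ := exists_aut_of_maps_into' F hφ hφR
  have hιβ : ∀ x : ↥(preimageAlong ι (V.map H.subtype ⊔ (X.subgroupOf S).map ι)),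
      ι ⟨(β x : ↥(preimageAlong ι (V.map H.subtype ⊔ (X.subgroupOf S).map ι))),
        hRS (β x).2⟩ = (h : G) * ι ⟨x, hRS x.2⟩ * (h : G)⁻¹ := by
    intro x
    have h1 : (⟨(β x : ↥(preimageAlong ι (V.map H.subtype ⊔ (X.subgroupOf S).map ι))),
        hRS (β x).2⟩ : S) = ⟨Model.conjThrough ι hι hRS (h : G) hconj x,
          Model.conjThrough_mem ι hι hRS (h : G) hconj x⟩ := Subtype.ext (hβx x)
    rw [h1]
    exact Model.ι_conjThrough ι hι hRS (h : G) hconj x
  obtain ⟨k, hk⟩ := hloc _ hXR hRS β hβ (h : G) h.2 hιβ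
  -- `h ^ p ^ k` centralizes the image of `V`
  have hcent : ∀ v ∈ V, (h : G) ^ p ^ k * (v : G) = (v : G) * (h : G) ^ p ^ k := by
    intro v hv
    have hvr : (v : G) ∈ ι.range := hVT ⟨v, hv, rfl⟩
    obtain ⟨s, hs⟩ := hvr
    have hsR : (s : Ω) ∈ preimageAlong ι (V.map H.subtype ⊔ (X.subgroupOf S).map ι) := by
      rw [mem_preimageAlong_iff]
      refine ⟨s.2, le_sup_left (b := (X.subgroupOf S).map ι) ?_⟩
      rw [hs]
      exact ⟨v, hv, rfl⟩
    have h1 := ι_pow_apply ι hRS β (h : G) hιβ (p ^ k) ⟨s, hsR⟩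
    rw [hk] at h1
    have h2 : ι ⟨(s : Ω), hRS hsR⟩ = (v : G) := hs
    have h1' : ι ⟨(s : Ω), hRS hsR⟩ =
        (h : G) ^ p ^ k * ι ⟨(s : Ω), hRS hsR⟩ * ((h : G) ^ p ^ k)⁻¹ := h1
    rw [h2] at h1'
    have h6 : (h : G) ^ p ^ k * (v : G) =
        ((h : G) ^ p ^ k * (v : G) * ((h : G) ^ p ^ k)⁻¹) * (h : G) ^ p ^ k := by group
    rw [h6, ← h1']
  have hcop' : (p ^ k).Coprime (orderOf (h : G)) := by
    rw [Subgroup.orderOf_coe]
    exact (Nat.Coprime.pow_left k hcop.symm)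
  obtain ⟨m, hm⟩ := exists_pow_eq_self_of_coprime hcop'
  rw [Subgroup.mem_centralizer_iff]
  intro v hv
  apply Subtype.ext
  show (v : G) * (h : G) = (h : G) * (v : G)
  have h4 : Commute ((h : G) ^ p ^ k) (v : G) := hcent v hv
  have h5 : Commute (((h : G) ^ p ^ k) ^ m) (v : G) := h4.pow_left m
  rw [hm] at h5
  exact h5.eq.symm

/-- A system realized on a Sylow subgroup of a group with a normal `p`-complement has only `p`-automorphisms. -/
theorem paut_of_hasNPC {Ω : Type u} [Group Ω] {S : Subgroup Ω} [Finite S] (F : FusionSystem S)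
    {G : Type u} [Group G] [Finite G] {ι : S →* G} (hR : F.IsRealizedBy ι) (T : Sylow p G)
    (hTr : (T : Subgroup G) = ι.range) (hnpcG : HasNormalPComplement p G) : PAut F p := by
  have hι : Function.Injective ι := hR.1
  obtain ⟨N, hNn, hNc⟩ := Cfsg.Agent.Lib.Helper2.exists_normal_complement_of_hasNormalPComplement hnpcG T
  have hfrob := (Cfsg.Agent.S0071.result T).1 ⟨N, hNn, hNc⟩
  intro P hP α hα
  have hαF : P.subtype.comp (α : P ≃* P).toMonoidHom ∈ F.Hom P :=
    (Cfsg.Agent.Lib.Helper87.mem_autGroup_iff F hP).1 hα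
  obtain ⟨g, hg⟩ := (hR.2 P hP _ (fun x => hP (α x).2)).1 hαF
  have hg' : ∀ x : P, ι ⟨(α x : P), hP (α x).2⟩ = g * ι ⟨x, hP x.2⟩ * g⁻¹ := fun x => hg x
  have hQT : (P.subgroupOf S).map ι ≤ (T : Subgroup G) := by
    rintro _ ⟨s, -, rfl⟩
    rw [hTr]
    exact ⟨s, rfl⟩
  have hgN : g ∈ Subgroup.normalizer (((P.subgroupOf S).map ι : Subgroup G) : Set G) := by
    apply mem_normalizer_of_conj_mem_of_finite
    rintro _ ⟨s, hs, rfl⟩
    have hsP : (s : Ω) ∈ P := Subgroup.mem_subgroupOf.1 hs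
    have h1 := hg' ⟨s, hsP⟩
    exact Subgroup.mem_map.2 ⟨⟨(α ⟨s, hsP⟩ : P), hP (α ⟨s, hsP⟩).2⟩,
      Subgroup.mem_subgroupOf.2 (α ⟨s, hsP⟩).2, h1⟩
  have hp : p.Prime := Fact.out
  obtain ⟨e', m, hm, hord⟩ := Nat.exists_eq_pow_mul_and_not_dvd (orderOf_pos g).ne' p hp.ne_one
  have hpow : (g ^ p ^ e') ^ m = 1 := by
    rw [← pow_mul, ← hord, pow_orderOf_eq_one]
  have hdvd : orderOf (g ^ p ^ e') ∣ m := orderOf_dvd_of_pow_eq_one hpow
  have hcop : (orderOf (g ^ p ^ e')).Coprime p :=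
    Nat.Coprime.coprime_dvd_left hdvd ((Nat.Prime.coprime_iff_not_dvd hp).2 hm).symm
  have hcen := hfrob _ hQT (g ^ p ^ e') (Subgroup.pow_mem _ hgN _) hcop
  refine ⟨e', ?_⟩
  ext x
  have h1 := ι_pow_apply ι hP α g hg' (p ^ e') x
  have h2 : ι ⟨x, hP x.2⟩ ∈ (P.subgroupOf S).map ι := ⟨⟨x, hP x.2⟩, Subgroup.mem_subgroupOf.2 x.2, rfl⟩
  have h3 := (Subgroup.mem_centralizer_iff.1 hcen) _ h2
  rw [← h3, mul_inv_cancel_right] at h1
  have h4 := hι h1
  exact congrArg (fun z : S => (z : Ω)) h4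

/-- A model of an `H`-free system does not involve `H`. -/
theorem not_involves_of_isModel {Ω : Type u} [Group Ω] {S : Subgroup Ω} [Finite S] (F : FusionSystem S)
    {G : Type u} [Group G] {ι : S →* G} (hM : F.IsModel p G ι) {H : Type*} [Group H]
    (hfree : F.IsSectionFree p H) : ¬ Involves H G := by
  obtain ⟨hfin, hR, ⟨T, hTr⟩, hcen⟩ := hM
  haveI := hfin
  have hQn : F.IsNormal (Model.coreSub p ι) := Model.coreSub_isNormal F hR T hTr
  have hQc : F.IsCentric (Model.coreSub p ι) := Model.coreSub_isCentric F hR T hTr hcen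
  have hQS : Model.coreSub p ι ≤ S := Model.coreSub_le
  have hSN : S ≤ normalizerIn S (Model.coreSub p ι) :=
    fun s hs => ⟨hs, Cfsg.Agent.Lib.Helper84.Model.le_normalizer_of_isNormal F hQn hs⟩
  have hNS : normalizerIn S (Model.coreSub p ι) ≤ S := inf_le_left
  have hQfn : F.IsFullyNormalized (Model.coreSub p ι) := by
    refine ⟨hQS, fun Q' _ => ?_⟩
    haveI : Finite ↥(normalizerIn S (Model.coreSub p ι)) := finite_of_le hNS
    exact Nat.card_le_card_of_injective (Subgroup.inclusion ((inf_le_left : normalizerIn S Q' ≤ S).trans hSN))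
      (Subgroup.inclusion_injective _)
  have hN := isNormalizerSystem_normalizerSystem F (Model.coreSub p ι) hQS
  refine hfree _ hQfn hQc _ hN G (ι.comp (Subgroup.inclusion hNS)) ⟨hfin, ⟨?_, ?_⟩, ⟨T, ?_⟩, hcen⟩
  · exact hR.1.comp (Subgroup.inclusion_injective hNS)
  · intro P hP φ hφ
    rw [hN P]
    have key := hR.2 P (hP.trans hNS) φ (fun x => hNS (hφ x))
    constructor
    · rintro ⟨h1, -⟩
      exact key.1 h1
    · intro h1
      have h2 := key.2 h1
      exact ⟨h2, hP, hφ, hQn.2 P φ h2⟩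
  · rw [hTr]
    apply le_antisymm
    · rintro _ ⟨s, rfl⟩
      exact ⟨⟨(s : Ω), hSN s.2⟩, rfl⟩
    · rintro _ ⟨s, rfl⟩
      exact ⟨_, rfl⟩

theorem map_inducedFunctor {W : ∀ (Q : Type u) [Group Q], Subgroup Q} (hW : IsCharPFunctor p W)
    {Ω : Type u} [Group Ω] {S : Subgroup Ω} [Finite S] (hS : IsPGroup p S)
    {G : Type u} [Group G] {ι : S →* G} (hι : Function.Injective ι) (T : Subgroup G) (hTr : T = ι.range) :
    ((inducedFunctor W S).subgroupOf S).map ι = inducedFunctor W T := by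
  have hWiff : ∀ s : S, (s : Ω) ∈ inducedFunctor W S ↔ ι s ∈ inducedFunctor W T := fun s =>
    inducedFunctor_equiv hW hS ((MonoidHom.ofInjective hι).trans (MulEquiv.subgroupCongr hTr.symm)) s
  ext y
  constructor
  · rintro ⟨s, hs, rfl⟩
    exact (hWiff s).1 (Subgroup.mem_subgroupOf.1 hs)
  · intro hy
    have hyT : y ∈ ι.range := hTr ▸ inducedFunctor_le W T hy
    obtain ⟨s, rfl⟩ := hyT
    exact ⟨s, Subgroup.mem_subgroupOf.2 ((hWiff s).2 hy), rfl⟩

/-- The constrained case. -/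
theorem ttest_t4 {Ω : Type u} [Group Ω] {S : Subgroup Ω} [Finite S] (hS : IsPGroup p S) (F : FusionSystem S)
    (G : Type u) [Group G] (ι : S →* G) (hM : F.IsModel p G ι) (hT : TTest p F) : PAut F p := by
  have hM' := hM
  obtain ⟨hfin, hR, ⟨T, hTr⟩, -⟩ := hM
  haveI := hfin
  have hι : Function.Injective ι := hR.1
  have hpT : IsPGroup p (T : Subgroup G) := T.isPGroup'
  have hmapZ := map_inducedFunctor (isCharPFunctor_zF p) hS hι (T : Subgroup G) hTr
  have hmapJ := map_inducedFunctor (isCharPFunctor_jF p) hS hι (T : Subgroup G) hTr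
  rw [inducedFunctor_zF (T : Subgroup G)] at hmapZ
  rw [inducedFunctor_jF (T : Subgroup G)] at hmapJ
  -- the `S₄` clause
  have h4 : p ≠ 2 ∨ ¬ Involves (Equiv.Perm (Fin 4)) G := by
    rcases hT.1 with h | h
    · exact Or.inl h
    · exact Or.inr (not_involves_of_isModel F hM' h)
  -- `C_G(Z(T))`
  have hC : HasNormalPComplement p ↥(Subgroup.centralizer
      ((((T : Subgroup G) ⊓ Subgroup.centralizer ((T : Subgroup G) : Set G) : Subgroup G)) : Set G)) := by
    refine hasNPC_of_local F hR T hTr (inducedFunctor zF S) (inducedFunctor_le zF S) _ ?_ ?_ ?_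
    · intro t ht
      rw [Subgroup.mem_centralizer_iff]
      intro z hz
      exact ((Subgroup.mem_centralizer_iff.1 hz.2) t ht).symm
    · intro h hh
      rw [hmapZ]
      exact Subgroup.centralizer_le_normalizer (s := ((((T : Subgroup G) ⊓ Subgroup.centralizer ((T : Subgroup G) : Set G) : Subgroup G)) : Set G)) hh
    · intro R hXR hRS β hβ h hh hιβ
      refine hT.2.1 R hXR ?_ β hβ ?_
      · intro x hx
        refine ⟨hRS hx, ?_⟩
        show x ∈ Subgroup.centralizer ((inducedFunctor zF S : Subgroup Ω) : Set Ω)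
        rw [Subgroup.mem_centralizer_iff]
        intro z hz
        rw [SetLike.mem_coe, inducedFunctor_zF] at hz
        exact ((Subgroup.mem_centralizer_iff.1 hz.2) x (hRS hx)).symm
      · intro x hx
        have h1 := hιβ x
        have h2 : ι ⟨x, hRS x.2⟩ ∈ ((inducedFunctor zF S).subgroupOf S).map ι :=
          (mem_map_subgroupOf_iff hι _ ⟨x, hRS x.2⟩).2 hx
        rw [hmapZ] at h2
        have h3 := (Subgroup.mem_centralizer_iff.1 hh) _ h2
        rw [← h3, mul_inv_cancel_right] at h1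
        exact congrArg (fun z : S => (z : Ω)) (hι h1)
  -- `N_G(J(T))`
  have hSNJ : S ≤ normalizerIn S (inducedFunctor jF S) :=
    fun s hs => ⟨hs, inducedFunctor_normalizer (isCharPFunctor_jF p) hS (Subgroup.le_normalizer hs)⟩
  have hN : HasNormalPComplement p
      ↥(Subgroup.normalizer ((thompsonSubgroupAOf (T : Subgroup G) : Subgroup G) : Set G)) := by
    refine hasNPC_of_local F hR T hTr (inducedFunctor jF S) (inducedFunctor_le jF S) _ ?_ ?_ ?_
    · intro t ht
      have := inducedFunctor_normalizer (isCharPFunctor_jF p) hpT (Subgroup.le_normalizer ht)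
      rwa [inducedFunctor_jF] at this
    · intro h hh
      rw [hmapJ]
      exact hh
    · intro R hXR hRS β hβ h hh hιβ
      refine hT.2.2 R hXR (hRS.trans hSNJ) β hβ ?_
      intro x
      have e1 := mem_map_subgroupOf_iff hι (inducedFunctor jF S) ⟨x, hRS x.2⟩
      have e2 := mem_map_subgroupOf_iff hι (inducedFunctor jF S) ⟨(β x : R), hRS (β x).2⟩
      rw [hmapJ] at e1 e2
      rw [hιβ x] at e2
      exact e1.symm.trans ((Subgroup.mem_normalizer_iff.1 hh _).trans e2)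
  exact paut_of_hasNPC F hR T hTr (Cfsg.Agent.S2800.result T h4 hC hN)

/-- The test satisfies the hypotheses of the reduction, given inheritance of `S₄`-freeness. -/
theorem testHyp2_ttest (hI : FreeHyp.{u} p) : NilpRed2.TestHyp2.{u} p (@TTest.{u} p) where
  t1 := fun hS F hF Q hQS hN E hE h => ttest_t1 hI hS F hF Q hQS hN E hE h
  t2 := fun hS F hF hT U hUfn hUne _ E hE h => ttest_t2 hI hS F hF hT U hUfn hUne E hE h
  t3 := fun hS F hF hT Q hQ _ _ _ θ E hE h => ttest_t3 hI hS F hF hT Q hQ θ E hE h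
  t4 := fun hS F G _ ι hM h => ttest_t4 hS F G ι hM h

/-- **Thompson's normal `p`-complement theorem for fusion systems**, in `PAut` form, relative to `FreeHyp`. -/
theorem thompson_paut (hI : FreeHyp.{u} p) {Ω : Type u} [Group Ω] {S : Subgroup Ω} [Finite S] (hS : IsPGroup p S)
    (F : FusionSystem S) (hF : F.IsSaturated p) (h : TTest p F) : PAut F p :=
  NilpRed2.paut_of_test2 (@TTest.{u} p) (testHyp2_ttest hI) (Nat.card S) rfl hS F hF h

end Cfsg.Agent.Lib.Helper86.ThompsonFus
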