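/-
helper86: control of weak closure of elements, the model case for `p`-th powers of central elements
(bridge from `quad_center_aux` to fusion systems).
-/
import Cfsg.Agent.Lib.Helper86.WCBasic
import Cfsg.Agent.Lib.Helper86.QuadCenter
import Cfsg.Agent.Lib.Helper86.ThompsonFusB

set_option autoImplicit false
set_option linter.unusedSectionVars false
set_option linter.style.haveILetI false

universe u

namespace Cfsg.Agent.Lib.Helper86.WC

open Cfsg Cfsg.FusionSystem Cfsg.Agent.Lib.Helper87 Cfsg.Agent.Lib.Helper88 Cfsg.Agent.Lib.Helper88.NilpRed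

variable {p : ℕ} [Fact p.Prime]

/-- **Model case**: in a system with a model, `p`-th powers of central elements of `S` fixed by `N_F(W(S))` are fixed
by the whole system, provided `W` has the quadratic-element property. -/
theorem fix_of_model_quad {W : ∀ (Q : Type u) [Group Q], Subgroup Q} (hW : IsCharPFunctor p W)
    (hWZ : ∀ (Q : Type u) [Group Q] [Finite Q], IsPGroup p Q → Subgroup.center Q ≤ W Q)
    (hq : ∀ (G : Type u) [Group G] [Finite G] (P : Sylow p G),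
      ¬ (((W ↥(P : Subgroup G)).map (P : Subgroup G).subtype : Subgroup G)).Normal →
      ∃ g : G, g ∈ (P : Subgroup G) ∧ g ∉ Cfsg.pCore p G ∧
        ⁅⁅Subgroup.center ↥(Cfsg.pCore p G) |>.map (Cfsg.pCore p G).subtype, Subgroup.zpowers g⁆,
          Subgroup.zpowers g⁆ = ⊥)
    {Ω : Type u} [Group Ω] {S : Subgroup Ω} [Finite S] (hS : IsPGroup p S) (F : FusionSystem S)
    (L : Type u) [Group L] (ι : S →* L) (hM : F.IsModel p L ι) {y : Ω}
    (hy : y ∈ S ⊓ Subgroup.centralizer (S : Set Ω)) (hfix : FixN F (inducedFunctor W S) (y ^ p)) :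
    Fix F (y ^ p) := by
  obtain ⟨hfin, hR, ⟨T, hTr⟩, hcen⟩ := hM
  haveI := hfin
  have hι : Function.Injective ι := hR.1
  have hmapW := ThompsonFus.map_inducedFunctor hW hS hι (T : Subgroup L) hTr
  have hXS : inducedFunctor W S ≤ S := inducedFunctor_le W S
  haveI : Finite ↥(inducedFunctor W S) := finite_of_le hXS
  have hyX : y ∈ inducedFunctor W S := center_le_inducedFunctor hWZ hS hy
  have hzX : y ^ p ∈ inducedFunctor W S := Subgroup.pow_mem _ hyX p
  have hzS : y ^ p ∈ S := hXS hzX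
  have hιz : ι ⟨y ^ p, hzS⟩ = ι ⟨y, hy.1⟩ ^ p := by
    rw [← map_pow]
    congr 1
  -- `ι y ∈ Z(T)`
  have hyT : ι ⟨y, hy.1⟩ ∈ (T : Subgroup L) ⊓ Subgroup.centralizer ((T : Subgroup L) : Set L) := by
    refine Subgroup.mem_inf.2 ⟨hTr ▸ ⟨_, rfl⟩, ?_⟩
    rw [Subgroup.mem_centralizer_iff]
    intro t ht
    rw [SetLike.mem_coe, hTr] at ht
    obtain ⟨s, rfl⟩ := ht
    rw [← map_mul, ← map_mul]
    congr 1
    apply Subtype.ext
    exact (Subgroup.mem_centralizer_iff.1 hy.2) s s.2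
  -- `N_L(W(T))` centralizes `ι z`
  have hN : ∀ h ∈ Subgroup.normalizer (((W ↥(T : Subgroup L)).map (T : Subgroup L).subtype : Subgroup L) : Set L),
      h * ι ⟨y, hy.1⟩ ^ p = ι ⟨y, hy.1⟩ ^ p * h := by
    intro h hh
    have hh' : h ∈ Subgroup.normalizer (((((inducedFunctor W S).subgroupOf S).map ι : Subgroup L)) : Set L) := by
      rw [hmapW]
      exact hh
    have hmem : ∀ x : ↥(inducedFunctor W S), ι ⟨x, hXS x.2⟩ ∈ ((inducedFunctor W S).subgroupOf S).map ι :=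
      fun x => (ThompsonFus.mem_map_subgroupOf_iff hι _ ⟨x, hXS x.2⟩).2 x.2
    have hconj' : ∀ x : ↥(inducedFunctor W S),
        h * ι ⟨x, hXS x.2⟩ * h⁻¹ ∈ ((inducedFunctor W S).subgroupOf S).map ι :=
      fun x => (Subgroup.mem_normalizer_iff.1 hh' _).1 (hmem x)
    have hconj : ∀ x : ↥(inducedFunctor W S), h * ι ⟨x, hXS x.2⟩ * h⁻¹ ∈ ι.range := by
      intro x
      obtain ⟨s, -, hs⟩ := hconj' x
      exact ⟨s, hs⟩
    have hφ := Model.conjThrough_mem_hom F hR hXS h hconj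
    have hφX : ∀ x, Model.conjThrough ι hι hXS h hconj x ∈ inducedFunctor W S := by
      intro x
      have h1 := hconj' x
      rw [← Model.ι_conjThrough ι hι hXS h hconj x] at h1
      exact (ThompsonFus.mem_map_subgroupOf_iff hι _ _).1 h1
    have h2 := hfix _ _ (mem_normalizerHom_self F hφ hφX) hzX
    have h3 := Model.ι_conjThrough ι hι hXS h hconj ⟨y ^ p, hzX⟩
    have h4 : (⟨Model.conjThrough ι hι hXS h hconj ⟨y ^ p, hzX⟩,
        Model.conjThrough_mem ι hι hXS h hconj ⟨y ^ p, hzX⟩⟩ : S) = ⟨y ^ p, hzS⟩ := Subtype.ext h2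
    rw [h4] at h3
    have h5 : ι ⟨y ^ p, hzS⟩ = h * ι ⟨y ^ p, hzS⟩ * h⁻¹ := h3
    rw [hιz] at h5
    have h6 : h * ι ⟨y, hy.1⟩ ^ p = (h * ι ⟨y, hy.1⟩ ^ p * h⁻¹) * h := by group
    rw [h6, ← h5]
  have hcentral := QuadCenter.quad_center_aux W hW.2 hq (Nat.card L) L rfl T hcen _ hyT hN
  -- conclusion
  intro P φ hφ hz
  have hP : P ≤ S := hom_le F hφ
  obtain ⟨g, hg⟩ := (hR.2 P hP φ (fun x => hom_map_mem F hφ x)).1 hφ
  have h1 := hg ⟨y ^ p, hz⟩
  have h2 : ι ⟨((⟨y ^ p, hz⟩ : P) : Ω), hP hz⟩ = ι ⟨y, hy.1⟩ ^ p := hιz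
  rw [h2, hcentral g, mul_inv_cancel_right, ← hιz] at h1
  exact congrArg (fun s : S => (s : Ω)) (hι h1)

end Cfsg.Agent.Lib.Helper86.WC
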