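/-
helper86: Thompson's normal `p`-complement theorem for fusion systems, part C: the statement in terms of the
centralizer system of `Z(S)` and the normalizer system of `J(S)` being inner (relative to `FreeHyp`).
-/
import Cfsg.Agent.Lib.Helper86.ThompsonFusB
import Cfsg.Agent.Lib.Helper85.FusionNC

set_option autoImplicit false
set_option linter.unusedSectionVars false
set_option linter.style.haveILetI false

universe u

namespace Cfsg.Agent.Lib.Helper86.ThompsonFus

open Cfsg Cfsg.FusionSystem Cfsg.Agent.Lib.Helper87 Cfsg.Agent.Lib.Helper88.NilpRed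

/-- If the centralizer system `C_F(U)` is `PAut` then `CPAut F p U`. -/
theorem cpaut_of_paut {Ω : Type*} [Group Ω] {S : Subgroup Ω} {p : ℕ} (F : FusionSystem S) {U : Subgroup Ω}
    {E : FusionSystem (centralizerIn S U)} (hE : F.IsCentralizerSystem U E) (h : PAut E p) : CPAut F p U := by
  intro R hUR hRC β hβ hfix
  have hRS : R ≤ S := hRC.trans inf_le_left
  apply h R hRC β
  rw [mem_autGroup_iff E hRC]
  show R.subtype.comp (β : R ≃* R).toMonoidHom ∈ E.Hom R
  rw [hE R]
  have hβF : R.subtype.comp (β : R ≃* R).toMonoidHom ∈ F.Hom R := (mem_autGroup_iff F hRS).1 hβ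
  have hle : R ⊔ U ≤ R := sup_le le_rfl hUR
  refine ⟨hβF, hRC, fun x => hRC (β x).2, _, Cfsg.Agent.Lib.Helper85.restrict_mem F hβF hle, fun x => rfl, ?_⟩
  intro x
  exact hfix ⟨(x : Ω), hUR x.2⟩ x.2

variable {p : ℕ} [Fact p.Prime]

/-- **Thompson's normal `p`-complement theorem for fusion systems**, relative to `FreeHyp`. -/
theorem thompson_inner (hI : FreeHyp.{u} p) {Ω : Type u} [Group Ω] {S : Subgroup Ω} [Finite S]
    (hS : IsPGroup p S) (F : FusionSystem S) (hF : F.IsSaturated p)
    (hp : p ≠ 2 ∨ F.IsSectionFree p (Equiv.Perm (Fin 4)))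
    (hC : ∀ C : FusionSystem (centralizerIn S (S ⊓ Subgroup.centralizer (S : Set Ω))),
      F.IsCentralizerSystem (S ⊓ Subgroup.centralizer (S : Set Ω)) C → ∀ P : Subgroup Ω,
        C.Hom P = (innerFusionSystem (centralizerIn S (S ⊓ Subgroup.centralizer (S : Set Ω)))).Hom P)
    (hN : ∀ N : FusionSystem (normalizerIn S (thompsonSubgroupAOf S)),
      F.IsNormalizerSystem (thompsonSubgroupAOf S) N → ∀ P : Subgroup Ω,
        N.Hom P = (innerFusionSystem (normalizerIn S (thompsonSubgroupAOf S))).Hom P) :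
    ∀ P : Subgroup Ω, F.Hom P = (innerFusionSystem S).Hom P := by
  apply inner_of_paut hS F hF
  apply thompson_paut hI hS F hF
  refine ⟨hp, ?_, ?_⟩
  · rw [inducedFunctor_zF]
    have hZS : S ⊓ Subgroup.centralizer (S : Set Ω) ≤ S := inf_le_left
    have hE := Cfsg.Agent.Lib.Helper85.isCentralizerSystem_centralizerSystem F _ hZS
    have hCS : centralizerIn S (S ⊓ Subgroup.centralizer (S : Set Ω)) ≤ S := inf_le_left
    exact cpaut_of_paut F hE (paut_of_inner (hS.to_le hCS) _ (hC _ hE))
  · rw [inducedFunctor_jF]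
    have hJS : thompsonSubgroupAOf S ≤ S := Cfsg.Agent.Lib.Helper47.thompsonSubgroupAOf_le' S
    have hE := Cfsg.Agent.Lib.Helper87.isNormalizerSystem_normalizerSystem F _ hJS
    have hNS : normalizerIn S (thompsonSubgroupAOf S) ≤ S := inf_le_left
    exact npaut_of_paut F hE (paut_of_inner (hS.to_le hNS) _ (hN _ hE))

end Cfsg.Agent.Lib.Helper86.ThompsonFus
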