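/-
helper86: inheritance of `H`-freeness to normalizer systems (helper84's proof of S5240, copied with an arbitrary
group `H` in place of `Qd(p)`) and to factor systems (helper85's `isSectionFree_of_isFactorSystem`), giving the
hypothesis `FreeHyp` of the Thompson-type reductions unconditionally.
-/
import Cfsg.Agent.Lib.Helper86.ThompsonFusC
import Cfsg.Agent.Lib.Helper84.ModelNormalizer
import Cfsg.Agent.Lib.Helper85.QuotModelFree
import Cfsg.Agent.Lib.Helper88.Involves

set_option autoImplicit false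
set_option linter.unusedSectionVars false
set_option linter.style.haveILetI false

universe u w

namespace Cfsg.Agent.Lib.Helper86.ThompsonFus

open Cfsg Cfsg.FusionSystem

/-- Normalizer systems of fully normalized subgroups of `H`-free saturated systems are `H`-free
(helper84's proof of S5240 with `H` arbitrary). -/
theorem isSectionFree_normalizerSystem {Ω : Type u} [Group Ω] {S : Subgroup Ω} [Finite S] (p : ℕ) [Fact p.Prime]
    (hS : IsPGroup p S) (F : FusionSystem S) (hF : F.IsSaturated p) (H : Type w) [Group H]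
    (hfree : F.IsSectionFree p H) (Q : Subgroup Ω) (hQ : F.IsFullyNormalized Q)
    (N : FusionSystem (normalizerIn S Q)) (hN : F.IsNormalizerSystem Q N) : N.IsSectionFree p H := by
  intro P hPn hPc N' hN' L' _ ι' hM' hinv
  have hQS : Q ≤ S := hQ.1
  have hTfin : Finite (Cfsg.FusionSystem.normalizerIn S Q) :=
    Cfsg.Agent.Lib.Helper87.finite_of_le (Cfsg.Agent.Lib.Helper87.normalizerIn_le S Q)
  have hTp : IsPGroup p (Cfsg.FusionSystem.normalizerIn S Q) :=
    Cfsg.Agent.Lib.Helper88.isPGroup_of_le hS (Cfsg.Agent.Lib.Helper87.normalizerIn_le S Q)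
  have : Finite Q := Cfsg.Agent.Lib.Helper87.finite_of_le hQS
  have hNsat : N.IsSaturated p := Cfsg.Agent.Lib.Helper87.isSaturated_of_isNormalizerSystem F hS hF hQ hN
  have hQnorm : N.IsNormal Q := Cfsg.Agent.S5126.isNormal_of_isNormalizerSystem F hQS hN
  obtain ⟨P₁, hP₁n, hP₁c, hP₁r, hall⟩ :=
    Cfsg.Agent.Lib.Helper84.Model.exists_radical_embedding hTp N hNsat hPn hPc hN' hM'
  have hQP₁ : Q ≤ P₁ := Cfsg.Agent.Lib.Helper84.Model.le_of_isNormal_of_centric_radical hTp N hQnorm hP₁c hP₁r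
  have hN₁ := Cfsg.Agent.Lib.Helper87.isNormalizerSystem_normalizerSystem N P₁ hP₁c.1
  obtain ⟨R, hRn, hRc, hR⟩ :=
    Cfsg.Agent.Lib.Helper84.Model.exists_submodel_of_normalizerSystem hS F hF hQ hN hP₁n hP₁c hQP₁ hN₁
  have hE := Cfsg.Agent.Lib.Helper87.isNormalizerSystem_normalizerSystem F R hRn.1
  have hRfin : Finite (Cfsg.FusionSystem.normalizerIn S R) :=
    Cfsg.Agent.Lib.Helper87.finite_of_le (Cfsg.Agent.Lib.Helper87.normalizerIn_le S R)
  have C := Cfsg.Agent.Lib.Helper84.Model.ctx_of_isNormalizerSystem hS F hF hRn hRc hE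
  obtain ⟨L, hL, ι, hM⟩ := C.exists_isModel
  obtain ⟨M, ιM, hMM⟩ := hR _ hE L ι hM
  obtain ⟨f, hf⟩ := hall _ hN₁ M ιM hMM
  exact hfree R hRn hRc _ hE L ι hM
    (Cfsg.Agent.Lib.Helper88.Involves.of_subgroup M (Cfsg.Agent.Lib.Helper88.Involves.of_injective f hf hinv))

/-- `FreeHyp` holds. -/
theorem freeHyp (p : ℕ) [Fact p.Prime] : FreeHyp.{u} p where
  norm := by
    intro Ω _ S _ hS F hF hfree Q hQ N hN
    rcases hfree with h | h
    · exact Or.inl h
    · exact Or.inr (isSectionFree_normalizerSystem p hS F hF _ h Q hQ N hN)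
  quot := by
    intro Ω _ S _ hS F hF hfree Q hQ Ω' _ S' θ E hE
    rcases hfree with h | h
    · exact Or.inl h
    · exact Or.inr (Cfsg.Agent.Lib.Helper85.isSectionFree_of_isFactorSystem p hS F hF Q hQ _ h θ E hE)

end Cfsg.Agent.Lib.Helper86.ThompsonFus
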