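/-
helper86: group theory around essential subgroups: if `Out = A / Inn(H)` (for `A ≤ Aut(H)`, `H` a finite `p`-group)
has a strongly `p`-embedded subgroup, then `H` has no `A`-invariant chain of normal subgroups with all factors of order `p`,
and `Out` is not commutative.
All declarations live in `Cfsg.Agent.Lib.Helper86`.
-/
import Mathlib
import Cfsg.Prelude.Def_EvenType
import Cfsg.Prelude.Def_KGroupFacts
import Cfsg.Agent.Lib.Helper84.StrongEmb
import Cfsg.Agent.Lib.Helper87.FusionNormal
import Cfsg.Agent.S5185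
import Cfsg.Agent.S0012

set_option autoImplicit false

namespace Cfsg.Agent.Lib.Helper86

open Cfsg

/-- An automorphism of `p`-power order that preserves subgroups `C ≤ B` with `|B : C| = p` (`C` normal in the whole group)
acts trivially on `B / C`. -/
theorem inv_mul_apply_mem_of_relIndex_prime {H : Type*} [Group H] [Finite H] {p : ℕ} [hp : Fact p.Prime]
    (C B : Subgroup H) [C.Normal] (hidx : C.relIndex B = p)
    (α : MulAut H) (hαC : ∀ x ∈ C, α x ∈ C) (hαB : ∀ x ∈ B, α x ∈ B) (m : ℕ) (hα : α ^ (p ^ m) = 1)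
    (b : H) (hb : b ∈ B) : b⁻¹ * α b ∈ C := by
  by_cases hbC : b ∈ C
  · exact C.mul_mem (C.inv_mem hbC) (hαC b hbC)
  set π := QuotientGroup.mk' C with hπ
  have hker : π.ker = C := QuotientGroup.ker_mk' C
  set x : H ⧸ C := π b with hx
  have hx1 : x ≠ 1 := by
    intro h
    apply hbC
    rw [← hker]; exact h
  -- the image of `B` has order `p`
  have hcard : Nat.card (B.map π) = p := by
    have h1 := Subgroup.relIndex_comap (⊥ : Subgroup (H ⧸ C)) π B
    rw [Subgroup.relIndex_bot_left] at h1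
    have h2 : Subgroup.comap π ⊥ = C := hker
    rw [← h1, h2, hidx]
  have hxB : x ∈ B.map π := Subgroup.mem_map_of_mem π hb
  have hyB : π (α b) ∈ B.map π := Subgroup.mem_map_of_mem π (hαB b hb)
  have hx1' : (⟨x, hxB⟩ : B.map π) ≠ 1 := by
    intro h; apply hx1; exact congrArg Subtype.val h
  obtain ⟨k, hk⟩ := mem_powers_of_prime_card (G := B.map π) hcard (g := ⟨x, hxB⟩) (g' := ⟨π (α b), hyB⟩) hx1'
  have hk' : x ^ k = π (α b) := by
    have := congrArg Subtype.val hk
    simpa using this
  have hxp : x ^ p = 1 := by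
    have h : (⟨x, hxB⟩ : B.map π) ^ p = 1 := by rw [← hcard]; exact pow_card_eq_one'
    have := congrArg Subtype.val h
    simpa using this
  have hord : orderOf x = p := orderOf_eq_prime hxp hx1
  have hCone : ∀ c ∈ C, π c = 1 := fun c hc => by
    have : c ∈ π.ker := by rw [hker]; exact hc
    exact this
  -- iterate
  have claim : ∀ n : ℕ, π ((α ^ n) b) = x ^ (k ^ n) := by
    intro n
    induction n with
    | zero => simp [hx]
    | succ n ih =>
      set y := (α ^ n) b with hy
      have h1 : π y = π (b ^ (k ^ n)) := by rw [ih, map_pow]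
      have h2 : (b ^ (k ^ n))⁻¹ * y ∈ C := by
        have := QuotientGroup.eq.mp h1.symm
        exact this
      have h3 : y = b ^ (k ^ n) * ((b ^ (k ^ n))⁻¹ * y) := by group
      have h4 : (α ^ (n + 1)) b = α y := by rw [pow_succ', MulAut.mul_apply]
      rw [h4, h3, map_mul, map_mul, map_pow, map_pow, ← hk', hCone _ (hαC _ h2), mul_one, ← pow_mul, pow_succ']
  have h5 := claim (p ^ m)
  rw [hα, MulAut.one_apply] at h5
  have h6 : x ^ (k ^ (p ^ m)) = x ^ 1 := by rw [← h5, pow_one]
  rw [pow_eq_pow_iff_modEq, hord] at h6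
  have h7 : ((k : ZMod p)) ^ (p ^ m) = 1 := by
    have := (ZMod.natCast_eq_natCast_iff _ _ _).mpr h6
    simpa using this
  rw [ZMod.pow_card_pow] at h7
  have h8 : k ≡ 1 [MOD p] := by
    apply (ZMod.natCast_eq_natCast_iff _ _ _).mp
    simpa using h7
  have h9 : x ^ k = x ^ 1 := by rw [pow_eq_pow_iff_modEq, hord]; exact h8
  rw [pow_one, hk'] at h9
  exact QuotientGroup.eq.mp h9.symm


/-- A group with a strongly `p`-embedded subgroup is not commutative. -/
theorem exists_not_commute_of_spe {X : Type*} [Group X] [Finite X] {p : ℕ} [Fact p.Prime] (E : Subgroup X)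
    (hE : IsStronglyPEmbedded p E) : ∃ x g : X, g * x ≠ x * g := by
  obtain ⟨x, g, -, hxg⟩ := Cfsg.Agent.S5185.exists_two_of_spe E hE
  refine ⟨x, g, fun h => hxg ?_⟩
  rw [h, mul_inv_cancel_right]
  exact Subgroup.mem_zpowers x

/-- **No invariant chain with factors of order `p`.** Let `H` be a finite `p`-group and `A ≤ Aut(H)` such that
`A / Inn(H)` has a strongly `p`-embedded subgroup. Then `H` has no `A`-invariant chain
`H = c 0 ≥ c 1 ≥ … ≥ c t = 1` of normal subgroups with all indices `|c j : c (j+1)| = p`. -/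
theorem false_of_chain {H : Type*} [Group H] [Finite H] {p : ℕ} [hp : Fact p.Prime] (hH : IsPGroup p H)
    (A : Subgroup (MulAut H)) [hn : ((Cfsg.Inn H).subgroupOf A).Normal]
    (E : Subgroup (A ⧸ (Cfsg.Inn H).subgroupOf A)) (hE : IsStronglyPEmbedded p E)
    (t : ℕ) (c : ℕ → Subgroup H) (h0 : c 0 = ⊤) (ht : c t = ⊥)
    (hnorm : ∀ j ≤ t, (c j).Normal)
    (hidx : ∀ j < t, (c (j + 1)).relIndex (c j) = p)
    (hinv : ∀ j ≤ t, ∀ α ∈ A, ∀ x ∈ c j, α x ∈ c j) : False := by
  classical
  have hfin : Finite (MulAut H) := Finite.of_injective (fun α : MulAut H => (α : H → H)) DFunLike.coe_injective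
  set I := (Cfsg.Inn H).subgroupOf A with hI
  set N := Helper87.chainStab A t c hinv with hN
  have hNp : IsPGroup p N := Helper87.chainStab_isPGroup hH A t c h0 ht hinv
  set π := QuotientGroup.mk' I with hπ
  set N' : Subgroup A := N.subgroupOf A with hN'
  have hN'n : N'.Normal := ⟨fun n hn g => by
    rw [hN', Subgroup.mem_subgroupOf]
    exact Helper87.chainStab_conj_mem A t c hinv g.2 (Subgroup.mem_subgroupOf.mp hn)⟩
  have hN'p : IsPGroup p N' := hNp.comap_subtype
  set N'' := N'.map π with hN''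
  have hN''n : N''.Normal := Subgroup.Normal.map hN'n π (QuotientGroup.mk'_surjective I)
  have hN''p : IsPGroup p N'' := hN'p.map π
  have hbot : N'' = ⊥ := Helper84.normal_pgroup_eq_bot hE N'' hN''p
  obtain ⟨x, hx⟩ := exists_prime_orderOf_dvd_card' p hE.1
  obtain ⟨a, rfl⟩ := QuotientGroup.mk'_surjective I x
  obtain ⟨e, m, hm, hem⟩ := Nat.exists_eq_pow_mul_and_not_dvd (orderOf_pos a).ne' p hp.out.ne_one
  have hpow : ((a ^ m : A) : MulAut H) ^ (p ^ e) = 1 := by
    have : (a ^ m) ^ (p ^ e) = 1 := by rw [← pow_mul, mul_comm, ← hem, pow_orderOf_eq_one]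
    have := congrArg Subtype.val this
    simpa using this
  have ham : ((a ^ m : A) : MulAut H) ∈ N := by
    refine ⟨(a ^ m).2, fun j hj r hr => ?_⟩
    have := hnorm (j + 1) hj
    exact inv_mul_apply_mem_of_relIndex_prime (c (j + 1)) (c j) (hidx j hj) _
      (hinv (j + 1) hj _ (a ^ m).2) (hinv j hj.le _ (a ^ m).2) e hpow r hr
  have h1 : π (a ^ m) ∈ N'' := Subgroup.mem_map_of_mem π (Subgroup.mem_subgroupOf.mpr ham)
  rw [hbot, Subgroup.mem_bot, map_pow] at h1
  have h2 : orderOf (π a) ∣ m := orderOf_dvd_of_pow_eq_one h1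
  rw [hx] at h2
  exact hm h2


/-- a subgroup lying strictly above a subgroup of prime index is everything -/
theorem eq_top_of_index_prime {G : Type*} [Group G] {p : ℕ} [hp : Fact p.Prime] (B K : Subgroup G) (hBK : B ≤ K)
    (hidx : B.index = p) (b : G) (hbK : b ∈ K) (hbB : b ∉ B) : K = ⊤ := by
  have h1 := Subgroup.relIndex_mul_index hBK
  rw [hidx] at h1
  have h2 : K.index ∣ p := Dvd.intro_left _ h1
  rcases (Nat.dvd_prime hp.out).mp h2 with h | h
  · exact Subgroup.index_eq_one.mp h
  · exfalso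
    rw [h] at h1
    have h3 : B.relIndex K = 1 := by
      have hp0 : 0 < p := hp.out.pos
      exact Nat.eq_of_mul_eq_mul_right hp0 (by rw [h1, one_mul])
    exact hbB (Subgroup.relIndex_eq_one.mp h3 hbK)

theorem frattini_ne_top {G : Type*} [Group G] [Finite G] [Nontrivial G] : frattini G ≠ ⊤ := by
  intro h
  have h1 : (⊥ : Subgroup G) ⊔ frattini G = ⊤ := by rw [h, bot_sup_eq]
  have h2 := frattini_nongenerating h1
  exact bot_ne_top h2

theorem isCyclic_of_frattini_index_prime {G : Type*} [Group G] [Finite G] {p : ℕ} [hp : Fact p.Prime]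
    (hidx : (frattini G).index = p) : IsCyclic G := by
  have hne : frattini G ≠ ⊤ := by
    intro h
    rw [h, Subgroup.index_top] at hidx
    exact hp.out.one_lt.ne hidx
  obtain ⟨g, hg⟩ : ∃ g : G, g ∉ frattini G := by
    by_contra h
    push Not at h
    exact hne (eq_top_iff.mpr fun x _ => h x)
  have h1 : Subgroup.zpowers g ⊔ frattini G = ⊤ :=
    eq_top_of_index_prime (frattini G) _ le_sup_right hidx g
      (le_sup_left (a := Subgroup.zpowers g) (Subgroup.mem_zpowers g)) hg
  have h2 := frattini_nongenerating h1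
  exact isCyclic_iff_exists_zpowers_eq_top.mpr ⟨g, h2⟩

theorem false_of_mulAut_comm {H : Type*} [Group H] [Finite H] {p : ℕ} [hp : Fact p.Prime]
    (A : Subgroup (MulAut H)) [hn : ((Cfsg.Inn H).subgroupOf A).Normal]
    (E : Subgroup (A ⧸ (Cfsg.Inn H).subgroupOf A)) (hE : IsStronglyPEmbedded p E)
    (hcomm : ∀ α β : MulAut H, α ∈ A → β ∈ A → α * β = β * α) : False := by
  have hfin : Finite (MulAut H) := Finite.of_injective (fun α : MulAut H => (α : H → H)) DFunLike.coe_injective
  obtain ⟨x, g, hxg⟩ := exists_not_commute_of_spe E hE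
  obtain ⟨a, rfl⟩ := QuotientGroup.mk_surjective x
  obtain ⟨c, rfl⟩ := QuotientGroup.mk_surjective g
  apply hxg
  have : c * a = a * c := Subtype.ext (hcomm _ _ c.2 a.2)
  rw [← QuotientGroup.mk_mul, ← QuotientGroup.mk_mul, this]

theorem false_of_cyclic {H : Type*} [Group H] [Finite H] {p : ℕ} [hp : Fact p.Prime] (hc : IsCyclic H)
    (A : Subgroup (MulAut H)) [hn : ((Cfsg.Inn H).subgroupOf A).Normal]
    (E : Subgroup (A ⧸ (Cfsg.Inn H).subgroupOf A)) (hE : IsStronglyPEmbedded p E) : False := by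
  apply false_of_mulAut_comm A E hE
  intro α β _ _
  have e := hc.mulAutMulEquiv H
  apply e.injective
  rw [map_mul, map_mul, mul_comm]

theorem frattini_apply_mem {G : Type*} [Group G] (α : MulAut G) (x : G) (hx : x ∈ frattini G) : α x ∈ frattini G := by
  have h := (frattini_characteristic (G := G))
  have h2 := (Subgroup.characteristic_iff_map_le.mp h) α
  exact h2 (Subgroup.mem_map_of_mem _ hx)

end Cfsg.Agent.Lib.Helper86
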