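import Mathlib
import Cfsg.Agent.Lib.Helper92.BPChar
import Cfsg.Agent.Lib.Helper3.BPL0Poly
import Cfsg.Agent.Lib.Helper80.BPUnit
import Cfsg.Agent.Lib.Helper1.BPEqv
import Cfsg.Agent.Lib.Helper11.BPRank

/-!
# PROJECT BP, module BP-[L3-LIFT] (helper86): idempotents lift from `k[H]` to `R[H]`
-/

set_option autoImplicit false
set_option linter.unusedSectionVars false
set_option linter.unusedVariables false

namespace Cfsg.Agent.Lib.Helper86.BP

open Cfsg.Agent.Lib.Helper92.BP

section L3b
variable {R : Type*} [CommRing R] [IsDomain R] [IsLocalRing R] [Algebra R ℂ]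

theorem coeff_red' {H : Type*} [Group H] (a : MonoidAlgebra R H) (x : H) :
    (red R H a).coeff x = IsLocalRing.residue R (a.coeff x) :=
  MonoidAlgebra.coeff_mapRingHom _ _ _

theorem red_surjective {H : Type*} [Group H] [Finite H] : Function.Surjective (red R H) := by
  classical
  intro y
  have hsurj := IsLocalRing.residue_surjective (R := R)
  let s : IsLocalRing.ResidueField R → R := Function.surjInv hsurj
  have hs : ∀ c, IsLocalRing.residue R (s c) = c := Function.surjInv_eq hsurj
  let a₀ : MonoidAlgebra R H :=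
    MonoidAlgebra.ofCoeff (Finsupp.equivFunOnFinite.symm fun x => s (y.coeff x))
  have ha₀ : ∀ x, a₀.coeff x = s (y.coeff x) := by intro x; simp [a₀]
  refine ⟨a₀, ?_⟩
  apply MonoidAlgebra.coeff_injective
  ext x
  rw [coeff_red', ha₀, hs]

theorem mem_smul_top_of_red_eq_zero {H : Type*} [Group H] [Finite H] (a : MonoidAlgebra R H)
    (h : red R H a = 0) :
    a ∈ (IsLocalRing.maximalIdeal R • ⊤ : Submodule R (MonoidAlgebra R H)) := by
  classical
  have := Fintype.ofFinite H
  have hc : ∀ x : H, a.coeff x ∈ IsLocalRing.maximalIdeal R := by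
    intro x
    have := congrArg (fun b : MonoidAlgebra (IsLocalRing.ResidueField R) H => b.coeff x) h
    simp only [coeff_red', MonoidAlgebra.coeff_zero, Finsupp.coe_zero, Pi.zero_apply] at this
    exact (IsLocalRing.residue_eq_zero_iff _).mp this
  have hsum : a = ∑ r : H, a.coeff r • MonoidAlgebra.of R H r := by
    apply MonoidAlgebra.coeff_injective
    ext y
    rw [MonoidAlgebra.coeff_sum, Finsupp.finsetSum_apply]
    simp only [MonoidAlgebra.coeff_smul, Finsupp.smul_apply, MonoidAlgebra.of_apply,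
      MonoidAlgebra.coeff_single, smul_eq_mul]
    rw [Finset.sum_eq_single y]
    · simp
    · intro b _ hb
      simp [Finsupp.single_eq_of_ne' hb]
    · intro hy
      exact absurd (Finset.mem_univ y) hy
  rw [hsum]
  apply Submodule.sum_mem
  intro r _
  exact Submodule.smul_mem_smul (hc r) Submodule.mem_top

theorem noZeroSMulDivisors_monoidAlgebra {H : Type*} [Group H] :
    NoZeroSMulDivisors R (MonoidAlgebra R H) := by
  constructor
  intro c x h
  by_cases hc : c = 0
  · exact Or.inl hc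
  · right
    apply MonoidAlgebra.coeff_injective
    ext g
    have h1 : (c • x).coeff g = 0 := by
      rw [h]; rfl
    have h2 : (c • x).coeff g = c * x.coeff g := rfl
    rw [h2] at h1
    exact (mul_eq_zero.mp h1).resolve_left hc

/-- BP-[L3-LIFT] : idempotents lift from `k[H]` to `R[H]` -/
theorem exists_idem_red_eq {H : Type*} [Group H] [Finite H] (hR : MonicSplits R)
    (y : MonoidAlgebra (IsLocalRing.ResidueField R) H) (hy : IsIdempotentElem y) :
    ∃ a : MonoidAlgebra R H, IsIdempotentElem a ∧ red R H a = y := by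
  obtain ⟨a₀, rfl⟩ := red_surjective (R := R) y
  have hint : IsIntegral R a₀ := IsIntegral.of_finite R a₀
  have hI : a₀ * a₀ - a₀ ∈ RingHom.ker (red R H) := by
    rw [RingHom.mem_ker, map_sub, map_mul, hy.eq, sub_self]
  obtain ⟨e, he, heI, -, -⟩ :=
    Cfsg.Agent.Lib.Helper3.BP.exists_idem_lift hR (RingHom.ker (red R H)) a₀ hint hI
  refine ⟨e, he, ?_⟩
  rw [RingHom.mem_ker, map_sub, sub_eq_zero] at heI
  exact heI

/-- BP-[L3-LIFT] : … below a given idempotent -/
theorem exists_idemLE_red_eq {H : Type*} [Group H] [Finite H] (hR : MonicSplits R)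
    (a : MonoidAlgebra R H) (ha : IsIdempotentElem a)
    (y : MonoidAlgebra (IsLocalRing.ResidueField R) H) (hy : IdemLE y (red R H a)) :
    ∃ a' : MonoidAlgebra R H, IdemLE a' a ∧ red R H a' = y := by
  obtain ⟨hyi, hay, hya⟩ := hy
  obtain ⟨b₀, rfl⟩ := red_surjective (R := R) y
  set b : MonoidAlgebra R H := a * b₀ * a with hb
  have hredb : red R H b = red R H b₀ := by
    rw [hb, map_mul, map_mul, hay, hya]
  have hab : a * b = b := by rw [hb, ← mul_assoc, ← mul_assoc, ha.eq]
  have hba : b * a = b := by rw [hb, mul_assoc, ha.eq]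
  have hint : IsIntegral R b := IsIntegral.of_finite R b
  have hI : b * b - b ∈ RingHom.ker (red R H) := by
    rw [RingHom.mem_ker, map_sub, map_mul, hredb, hyi.eq, sub_self]
  obtain ⟨e, he, heI, -, hcor⟩ :=
    Cfsg.Agent.Lib.Helper3.BP.exists_idem_lift hR (RingHom.ker (red R H)) b hint hI
  obtain ⟨h1, h2⟩ := hcor a hab hba
  refine ⟨e, ⟨he, h1, h2⟩, ?_⟩
  rw [RingHom.mem_ker, map_sub, sub_eq_zero] at heI
  rw [heI, hredb]

/-- BP-[L3-LIFT] : an idempotent reducing to `0` is `0` -/
theorem idem_eq_zero_of_red_eq_zero {H : Type*} [Group H] [Finite H]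
    (a : MonoidAlgebra R H) (ha : IsIdempotentElem a) (h : red R H a = 0) : a = 0 :=
  Cfsg.Agent.Lib.Helper80.BP.idem_eq_zero_of_mem (R := R) a ha (mem_smul_top_of_red_eq_zero a h)

/-- BP-[L3-LIFT] : two idempotent lifts of the same idempotent are Murray–von Neumann equivalent -/
theorem mvn_of_red_eq {H : Type*} [Group H] [Finite H] (hR : MonicSplits R)
    (a a' : MonoidAlgebra R H) (ha : IsIdempotentElem a) (ha' : IsIdempotentElem a')
    (h : red R H a = red R H a') : MvN a a' := by
  have hnz : NoZeroSMulDivisors R (MonoidAlgebra R H) := noZeroSMulDivisors_monoidAlgebra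
  obtain ⟨rk, hpos, hadd⟩ :=
    Cfsg.Agent.Lib.Helper11.BP.exists_rank_fun (R := R) (Λ := MonoidAlgebra R H)
  have hRAD : ∀ e : MonoidAlgebra R H, IsIdempotentElem e →
      (∀ f : MonoidAlgebra R H, IdemLE f e → f ∈ RingHom.ker (red R H) → f = 0) →
      ∀ x : MonoidAlgebra R H, InCorner e x → x ∈ RingHom.ker (red R H) → CornerUnit e (e - x) := by
    intro e he _ x hx hxJ
    apply Cfsg.Agent.Lib.Helper80.BP.cornerUnit_of_sub_mem (R := R) he
    · exact ⟨by rw [mul_sub, he.eq, hx.1], by rw [sub_mul, he.eq, hx.2]⟩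
    · have : e - x - e = -x := by abel
      rw [this]
      exact neg_mem (mem_smul_top_of_red_eq_zero x (RingHom.mem_ker.1 hxJ))
  have hJ : a - a' ∈ RingHom.ker (red R H) := by
    rw [RingHom.mem_ker, map_sub, h, sub_self]
  obtain ⟨c₁, c₀, c₁', c₀', h1, h0, ho, hs, h1', h0', ho', hs', h0J, h0J', hmvn⟩ :=
    Cfsg.Agent.Lib.Helper1.BP.exists_mvn_decomp_of rk hpos hadd (RingHom.ker (red R H)) hRAD
      a a' ha ha' hJ
  have e0 : c₀ = 0 := idem_eq_zero_of_red_eq_zero c₀ h0.1 (RingHom.mem_ker.1 h0J)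
  have e0' : c₀' = 0 := idem_eq_zero_of_red_eq_zero c₀' h0'.1 (RingHom.mem_ker.1 h0J')
  rw [e0, add_zero] at hs
  rw [e0', add_zero] at hs'
  rw [← hs, ← hs']
  exact hmvn

end L3b

end Cfsg.Agent.Lib.Helper86.BP
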