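import Mathlib

set_option autoImplicit false

namespace Cfsg.Agent.Lib.Helper86.ReeW

open MulAction

/-- An element of order 7 normalising an elementary abelian group of order 8 that it does not centralise
is transitive on the non-identity elements. -/
theorem exists_conj_of_seven {G : Type*} [Group G] [Finite G] (S : Subgroup G)
    (hS8 : Nat.card ↥S = 8) (hSexp : ∀ x ∈ S, x * x = 1)
    (hC : Subgroup.centralizer (S : Set G) = S)
    (z : ↥(Subgroup.normalizer (S : Set G))) (hz : orderOf z = 7)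
    (x y : ↥S) (hx : x ≠ 1) (hy : y ≠ 1) :
    ∃ g : ↥(Subgroup.normalizer (S : Set G)), (y : G) = (g : G) * x * (g : G)⁻¹ := by
  classical
  have : Fact (Nat.Prime 7) := ⟨by norm_num⟩
  set P : Subgroup ↥(Subgroup.normalizer (S : Set G)) := Subgroup.zpowers z with hP
  have hPcard : Nat.card ↥P = 7 := by rw [hP, Nat.card_zpowers, hz]
  have hPp : IsPGroup 7 ↥P := IsPGroup.of_card (n := 1) (by rw [hPcard, pow_one])
  have hsm : ∀ (g : ↥P) (s : ↥S), ((g • s : ↥S) : G) = ((g : ↥(Subgroup.normalizer (S : Set G))) : G) * s *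
      ((g : ↥(Subgroup.normalizer (S : Set G))) : G)⁻¹ := fun g s => rfl
  have hmod := hPp.card_modEq_card_fixedPoints (↥S)
  rw [hS8] at hmod
  have hone : (1 : ↥S) ∈ fixedPoints ↥P ↥S := by
    intro g; apply Subtype.ext; rw [hsm]; simp
  have hle : Nat.card ↥(fixedPoints ↥P ↥S) ≤ 8 := by
    rw [← hS8]; exact Nat.card_le_card_of_injective _ Subtype.val_injective
  have hpos : 0 < Nat.card ↥(fixedPoints ↥P ↥S) := by
    have : Nonempty ↥(fixedPoints ↥P ↥S) := ⟨⟨1, hone⟩⟩
    exact Nat.card_pos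
  have hcases : Nat.card ↥(fixedPoints ↥P ↥S) = 1 ∨ Nat.card ↥(fixedPoints ↥P ↥S) = 8 := by
    have := hmod
    unfold Nat.ModEq at this
    omega
  -- the case of 8 fixed points is impossible
  have hfix1 : Nat.card ↥(fixedPoints ↥P ↥S) = 1 := by
    rcases hcases with h | h
    · exact h
    · exfalso
      have huniv : fixedPoints ↥P ↥S = Set.univ := by
        apply Set.eq_univ_of_forall
        by_contra hcon
        push Not at hcon
        obtain ⟨s, hs⟩ := hcon
        have hlt : Nat.card ↥(fixedPoints ↥P ↥S) < Nat.card ↥S := by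
          have hsub : fixedPoints ↥P ↥S ⊂ Set.univ := by
            refine ⟨Set.subset_univ _, fun hh => hs (hh (Set.mem_univ s))⟩
          have := Set.ncard_lt_ncard hsub (Set.finite_univ)
          rwa [Set.ncard_univ, ← Nat.card_coe_set_eq] at this
        omega
      have hzC : (z : G) ∈ Subgroup.centralizer (S : Set G) := by
        rw [Subgroup.mem_centralizer_iff]
        intro s hs
        have hs' : (⟨s, hs⟩ : ↥S) ∈ fixedPoints ↥P ↥S := by rw [huniv]; exact Set.mem_univ _
        have h1 := hs' ⟨z, Subgroup.mem_zpowers z⟩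
        have h2 := congrArg Subtype.val h1
        rw [hsm] at h2
        simp only at h2
        calc s * (z : G) = ((z : G) * s * (z : G)⁻¹) * (z : G) := by rw [h2]
          _ = (z : G) * s := by group
      rw [hC] at hzC
      have hzz := hSexp _ hzC
      have hzz' : z * z = 1 := Subtype.ext (by simpa using hzz)
      have : orderOf z ∣ 2 := orderOf_dvd_of_pow_eq_one (by rw [pow_two]; exact hzz')
      rw [hz] at this
      omega
  have hfixeq : ∀ s : ↥S, s ∈ fixedPoints ↥P ↥S → s = 1 := by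
    intro s hs
    have : Subsingleton ↥(fixedPoints ↥P ↥S) := by
      exact (Nat.card_eq_one_iff_unique.1 hfix1).1
    have := Subsingleton.elim (⟨s, hs⟩ : ↥(fixedPoints ↥P ↥S)) ⟨1, hone⟩
    exact congrArg Subtype.val this
  -- stabilizer of x is trivial
  have hstab : Nat.card ↥(stabilizer ↥P x) = 1 := by
    have hdvd : Nat.card ↥(stabilizer ↥P x) ∣ 7 := by
      rw [← hPcard]; exact Subgroup.card_subgroup_dvd_card _
    rcases (Nat.dvd_prime (by norm_num : Nat.Prime 7)).1 hdvd with h | h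
    · exact h
    · exfalso
      have htop : stabilizer ↥P x = ⊤ := Subgroup.eq_top_of_card_eq _ (by rw [h, hPcard])
      apply hx
      apply hfixeq
      intro g
      have : g ∈ stabilizer ↥P x := by rw [htop]; exact Subgroup.mem_top g
      exact this
  have horb : Nat.card ↥(orbit ↥P x) = 7 := by
    have h1 : Nat.card ↥(orbit ↥P x) = Nat.card (↥P ⧸ stabilizer ↥P x) :=
      Nat.card_congr (MulAction.orbitEquivQuotientStabilizer ↥P x)
    have h2 := Subgroup.card_eq_card_quotient_mul_card_subgroup (stabilizer ↥P x)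
    rw [hstab, hPcard, mul_one] at h2
    rw [h1, ← h2]
  -- the orbit is the set of non-identity elements
  have hsubset : orbit ↥P x ⊆ {s : ↥S | s ≠ 1} := by
    rintro _ ⟨g, rfl⟩
    intro h
    apply hx
    have h2 := congrArg Subtype.val h
    change ((g • x : ↥S) : G) = 1 at h2
    rw [hsm] at h2
    apply Subtype.ext
    have : (x : G) = ((g : ↥(Subgroup.normalizer (S : Set G))) : G)⁻¹ *
        (((g : ↥(Subgroup.normalizer (S : Set G))) : G) * x *
          ((g : ↥(Subgroup.normalizer (S : Set G))) : G)⁻¹) *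
        ((g : ↥(Subgroup.normalizer (S : Set G))) : G) := by group
    rw [this, h2]; simp
  have hcard7 : ({s : ↥S | s ≠ 1} : Set ↥S).ncard = 7 := by
    have : ({s : ↥S | s ≠ 1} : Set ↥S) = ({1} : Set ↥S)ᶜ := by ext s; simp
    rw [this, Set.ncard_compl, Set.ncard_singleton, hS8]
  have heq : orbit ↥P x = {s : ↥S | s ≠ 1} := by
    apply Set.eq_of_subset_of_ncard_le hsubset _ (Set.toFinite _)
    rw [hcard7, ← Nat.card_coe_set_eq, horb]
  have hyo : y ∈ orbit ↥P x := by rw [heq]; exact hy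
  obtain ⟨g, hg⟩ := hyo
  refine ⟨(g : ↥(Subgroup.normalizer (S : Set G))), ?_⟩
  have h2 := congrArg Subtype.val hg
  change ((g • x : ↥S) : G) = y at h2
  rw [hsm] at h2
  exact h2.symm

theorem exists_conj_mem_sylow {G : Type*} [Group G] [Finite G] (S : Sylow 2 G) (t : G) (ht : orderOf t = 2) :
    ∃ g : G, g * t * g⁻¹ ∈ (S : Subgroup G) ∧ g * t * g⁻¹ ≠ 1 := by
  have : Fact (Nat.Prime 2) := ⟨Nat.prime_two⟩
  have hp : IsPGroup 2 ↥(Subgroup.zpowers t) :=
    IsPGroup.of_card (n := 1) (by rw [Nat.card_zpowers, ht, pow_one])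
  obtain ⟨Q, hQ⟩ := hp.exists_le_sylow
  obtain ⟨g, hg⟩ := MulAction.exists_smul_eq G Q S
  refine ⟨g, ?_, ?_⟩
  · rw [← hg, Sylow.smul_def]
    have : g * t * g⁻¹ = MulAut.conj g • t := by simp [MulAut.smul_def]
    rw [this]
    exact Subgroup.smul_mem_pointwise_smul _ _ _ (hQ (Subgroup.mem_zpowers t))
  · intro h
    have : t = 1 := by
      calc t = g⁻¹ * (g * t * g⁻¹) * g := by group
        _ = 1 := by rw [h]; group
    rw [this, orderOf_one] at ht
    omega

/-! ## [W-INVCONJ] (Mathlib only) -/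
theorem involutions_conj {G : Type*} [Group G] [Finite G] (S : Sylow 2 G)
    (hS8 : Nat.card ↥(S : Subgroup G) = 8) (hSexp : ∀ x ∈ (S : Subgroup G), x * x = 1)
    (hC : Subgroup.centralizer ((S : Subgroup G) : Set G) = S)
    (hN : Nat.card ↥(Subgroup.normalizer ((S : Subgroup G) : Set G)) = 168)
    (t t' : G) (ht : orderOf t = 2) (ht' : orderOf t' = 2) : ∃ g : G, t' = g * t * g⁻¹ := by
  have : Fact (Nat.Prime 7) := ⟨by norm_num⟩
  obtain ⟨z, hz⟩ := exists_prime_orderOf_dvd_card' (G := ↥(Subgroup.normalizer ((S : Subgroup G) : Set G))) 7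
    (by rw [hN]; norm_num)
  obtain ⟨g, hgS, hg1⟩ := exists_conj_mem_sylow S t ht
  obtain ⟨g', hgS', hg1'⟩ := exists_conj_mem_sylow S t' ht'
  obtain ⟨n, hn⟩ := exists_conj_of_seven (S : Subgroup G) hS8 hSexp hC z hz ⟨_, hgS⟩ ⟨_, hgS'⟩
    (fun h => hg1 (congrArg Subtype.val h)) (fun h => hg1' (congrArg Subtype.val h))
  simp only at hn
  refine ⟨g'⁻¹ * (n : G) * g, ?_⟩
  calc t' = g'⁻¹ * (g' * t' * g'⁻¹) * g' := by group
    _ = g'⁻¹ * ((n : G) * (g * t * g⁻¹) * (n : G)⁻¹) * g' := by rw [hn]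
    _ = g'⁻¹ * (n : G) * g * t * (g'⁻¹ * (n : G) * g)⁻¹ := by group

end Cfsg.Agent.Lib.Helper86.ReeW
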