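import Mathlib

set_option autoImplicit false

namespace Cfsg.Agent.Lib.Helper86.ReeW

/-- Core of [W-Z2PSL], with the conclusion of [W-PSL2] for the second component as a hypothesis
(abstract group `L` in place of `PSL₂(K)`, `q` in place of `|K|`). -/
theorem z2_prod_centralizer {L : Type*} [Group L] (q : ℕ) (hq : q % 8 = 3) {C : Type*} [Group C]
    (e : C ≃* Multiplicative (ZMod 2) × L)
    (s : ℕ) (hs : s.Prime) (hs2 : s ≠ 2) (a : C) (ha : orderOf a = s)
    (hpsl : ∀ b : L, orderOf b = s →
      (∀ x ∈ Subgroup.centralizer ({b} : Set L), ∀ y ∈ Subgroup.centralizer ({b} : Set L), x * y = y * x) ∧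
      Nat.card ↥(Subgroup.centralizer ({b} : Set L)) = (q + 1) / 2) :
    (∀ x ∈ Subgroup.centralizer ({a} : Set C), ∀ y ∈ Subgroup.centralizer ({a} : Set C), x * y = y * x) ∧
    Nat.card ↥(Subgroup.centralizer ({a} : Set C)) = q + 1 ∧
    ∀ x ∈ Subgroup.centralizer ({a} : Set C), orderOf x ≠ 4 := by
  classical
  have hZ2 : ∀ δ : Multiplicative (ZMod 2), δ ^ 2 = 1 := by decide
  have hZcomm : ∀ δ δ' : Multiplicative (ZMod 2), δ * δ' = δ' * δ := fun δ δ' => mul_comm δ δ'
  have hsodd : Odd s := hs.odd_of_ne_two hs2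
  -- first component of `e a` is trivial
  have heas : (e a) ^ s = 1 := by rw [← map_pow, ← ha, pow_orderOf_eq_one, map_one]
  have h1 : (e a).1 = 1 := by
    have h1s : (e a).1 ^ s = 1 := by
      have := congrArg Prod.fst heas
      simpa using this
    obtain ⟨k, hk⟩ := hsodd
    have : (e a).1 ^ s = (e a).1 := by
      rw [hk, pow_succ, pow_mul, hZ2, one_pow, one_mul]
    rw [← this, h1s]
  set b : L := (e a).2 with hb
  have hea : e a = (1, b) := Prod.ext h1 rfl
  have hbo : orderOf b = s := by
    have h := Prod.orderOf (e a)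
    rw [MulEquiv.orderOf_eq, ha, h1, orderOf_one, Nat.lcm_one_left] at h
    exact h.symm
  obtain ⟨hbcomm, hbcard⟩ := hpsl b hbo
  -- membership in the centraliser
  have hmem : ∀ x : C, x ∈ Subgroup.centralizer ({a} : Set C) ↔
      (e x).2 ∈ Subgroup.centralizer ({b} : Set L) := by
    intro x
    rw [Subgroup.mem_centralizer_iff, Subgroup.mem_centralizer_iff]
    constructor
    · intro h c hc
      rw [Set.mem_singleton_iff.1 hc]
      have h2 := congrArg e (h a (Set.mem_singleton a))
      rw [map_mul, map_mul, hea] at h2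
      have := congrArg Prod.snd h2
      simpa using this
    · intro h c hc
      rw [Set.mem_singleton_iff.1 hc]
      apply e.injective
      rw [map_mul, map_mul, hea]
      apply Prod.ext
      · simp
      · simpa using h b (Set.mem_singleton b)
  refine ⟨?_, ?_, ?_⟩
  · intro x hx y hy
    apply e.injective
    rw [map_mul, map_mul]
    apply Prod.ext
    · exact hZcomm _ _
    · exact hbcomm _ ((hmem x).1 hx) _ ((hmem y).1 hy)
  · -- cardinality
    let f : ↥(Subgroup.centralizer ({a} : Set C)) →
        Multiplicative (ZMod 2) × ↥(Subgroup.centralizer ({b} : Set L)) :=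
      fun x => ((e x).1, ⟨(e x).2, (hmem x).1 x.2⟩)
    have hf : Function.Bijective f := by
      constructor
      · intro x y hxy
        apply Subtype.ext
        apply e.injective
        have h1' := congrArg Prod.fst hxy
        have h2' := congrArg (fun p => (p.2 : L)) hxy
        exact Prod.ext h1' h2'
      · rintro ⟨δ, ⟨c, hc⟩⟩
        have hx : e.symm (δ, c) ∈ Subgroup.centralizer ({a} : Set C) := by
          rw [hmem]; simpa using hc
        refine ⟨⟨e.symm (δ, c), hx⟩, ?_⟩
        simp [f]
    rw [Nat.card_congr (Equiv.ofBijective f hf), Nat.card_prod, hbcard]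
    have : Nat.card (Multiplicative (ZMod 2)) = 2 := by
      rw [Nat.card_eq_fintype_card]; rfl
    rw [this]
    omega
  · intro x hx h4
    have hc := (hmem x).1 hx
    have hlcm := Prod.orderOf (e x)
    rw [MulEquiv.orderOf_eq, h4] at hlcm
    have hd1 : orderOf (e x).1 ∣ 2 := orderOf_dvd_of_pow_eq_one (hZ2 _)
    have hd2 : orderOf (e x).2 ∣ 4 := by rw [hlcm]; exact Nat.dvd_lcm_right _ _
    have h24 : orderOf (e x).2 = 4 := by
      have hle : orderOf (e x).2 ∈ Nat.divisors 4 := Nat.mem_divisors.2 ⟨hd2, by norm_num⟩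
      have hle1 : orderOf (e x).1 ∈ Nat.divisors 2 := Nat.mem_divisors.2 ⟨hd1, by norm_num⟩
      have hdiv4 : Nat.divisors 4 = {1, 2, 4} := by decide
      have hdiv2 : Nat.divisors 2 = {1, 2} := by decide
      rw [hdiv4] at hle
      rw [hdiv2] at hle1
      simp only [Finset.mem_insert, Finset.mem_singleton] at hle hle1
      rcases hle with h | h | h
      · rcases hle1 with h' | h' <;> rw [h, h'] at hlcm <;> simp at hlcm
      · rcases hle1 with h' | h' <;> rw [h, h'] at hlcm <;> simp at hlcm
      · exact h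
    have hdvd : 4 ∣ Nat.card ↥(Subgroup.centralizer ({b} : Set L)) := by
      have hfin : Finite ↥(Subgroup.centralizer ({b} : Set L)) := by
        apply Nat.finite_of_card_ne_zero
        rw [hbcard]; omega
      have := orderOf_dvd_natCard (⟨(e x).2, hc⟩ : ↥(Subgroup.centralizer ({b} : Set L)))
      rwa [Subgroup.orderOf_mk, h24] at this
    rw [hbcard] at hdvd
    omega

end Cfsg.Agent.Lib.Helper86.ReeW
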