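import Cfsg.Agent.Lib.Helper86.SatCritK

/-!
# Preparation of a good fully normalized member (helper86)

Step C1 of the proof of S5110: in a maximal class outside `ℋ` there is a fully normalized member `Ph` such that
`N_S^K(Ph)` is fully automized and receptive and `(N_S^K(Ph), Ph)` satisfies `SylowCond`.
-/

set_option autoImplicit false

namespace Cfsg.Agent.Lib.Helper86.SatCrit

open Cfsg Cfsg.FusionSystem Cfsg.Agent.Lib.Helper85 Cfsg.Agent.Lib.Helper87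

variable {Ω : Type*} [Group Ω] {S : Subgroup Ω}

theorem inner_mem_Kp (F : FusionSystem S) {p : ℕ} [Fact p.Prime] (hS : IsPGroup p S) {P : Subgroup Ω} (hPS : P ≤ S)
    (g : P) : MulAut.conj g ∈ Kp F p P := by
  have h := le_Kp F p (MulAut.conj : P →* MulAut P).range ?_ ?_ ?_
  · exact h ⟨g, rfl⟩
  · rintro _ ⟨x, rfl⟩
    apply Helper87.autInducedBy_le_autGroup F hPS
    rw [Helper87.mem_autInducedBy_iff]
    exact ⟨x, hPS x.2, fun y => by simp [MulAut.conj_apply]⟩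
  · rintro α - _ ⟨x, rfl⟩
    refine ⟨α x, ?_⟩
    ext y
    simp [MulAut.conj_apply]
  · rintro ⟨_, x, rfl⟩
    obtain ⟨k, hk⟩ := (hS.to_le hPS) x
    refine ⟨k, ?_⟩
    apply Subtype.ext
    show (MulAut.conj x) ^ p ^ k = 1
    rw [← map_pow, hk, map_one]

theorem le_nKp (F : FusionSystem S) {p : ℕ} [Fact p.Prime] (hS : IsPGroup p S) {P : Subgroup Ω} (hPS : P ≤ S) :
    P ≤ nKp F p P := by
  intro g hg
  refine mem_nKp.2 ⟨hPS hg, MulAut.conj (⟨g, hg⟩ : P), inner_mem_Kp F hS hPS _, fun u => ?_⟩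
  simp [MulAut.conj_apply]

variable [Finite S] {p : ℕ} [Fact p.Prime]

/-- **Transfer lemma.** A map defined on `N_S(P)`, `P` fully normalized, carries `P`, `N_S(P)` and `N_S^K(P)` onto
`P'`, `N_S(P')`, `N_S^K(P')` with `P'` fully normalized. -/
theorem transfer_fullyNormalized (F : FusionSystem S) {P : Subgroup Ω} (hP : F.IsFullyNormalized P)
    {ω : normalizerIn S P →* Ω} (hω : ω ∈ F.Hom (normalizerIn S P)) :
    F.IsFullyNormalized (img ω P) ∧ img ω (normalizerIn S P) = normalizerIn S (img ω P) ∧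
      nKp F p (img ω P) = img ω (nKp F p P) := by
  have hPS : P ≤ S := hP.1
  have hPN : P ≤ normalizerIn S P := le_normalizerIn hPS
  have hinj : Function.Injective ω := F.injective_of_mem hω
  have hconj : F.IsConj P (img ω P) := isConj_img F hω hPN
  have hP'S : img ω P ≤ S := Helper85.isConj_le_right F hconj
  have hle : img ω (normalizerIn S P) ≤ normalizerIn S (img ω P) := by
    intro y hy
    obtain ⟨d, -, rfl⟩ := mem_img.1 hy
    exact map_mem_normalizerIn_img F hω d d.2.2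
  have hcard : Nat.card (img ω (normalizerIn S P)) = Nat.card ↥(normalizerIn S P) := card_img hinj le_rfl
  have heq : img ω (normalizerIn S P) = normalizerIn S (img ω P) := by
    apply eq_of_le_of_card_le (normalizerIn_le S _) hle
    rw [hcard]
    exact hP.2 _ hconj
  refine ⟨⟨hP'S, fun Q hQ => ?_⟩, heq, ?_⟩
  · rw [← heq, hcard]
    exact hP.2 Q (Helper85.isConj_trans F hconj hQ)
  · apply le_antisymm
    · intro y hy
      have hy1 : y ∈ normalizerIn S (img ω P) := nKp_le_normalizerIn F p _ hy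
      rw [← heq, img_self] at hy1
      obtain ⟨ψ, hψ, hψx, hψimg⟩ := exists_inverse F hω
      have hP'r : img ω P ≤ ω.range := img_le_range ω P
      have h1 := map_mem_nKp F p hψ hP'r ⟨y, hy1⟩ hy
      rw [hψimg P hPN] at h1
      obtain ⟨d, rfl⟩ := hy1
      have h2 : ψ ⟨ω d, ⟨d, rfl⟩⟩ = (d : Ω) := hψx d
      rw [h2] at h1
      exact apply_mem_img ω d h1
    · intro y hy
      obtain ⟨d, hd, rfl⟩ := mem_img.1 hy
      exact map_mem_nKp F p hω hPN d hd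

omit [Finite S] in
/-- **Step C0.** `N_S^K(Ph)` is strictly larger than the sink `Ph` when the class is not centric or satisfies the
condition on `Out_S ∩ O_p(Out_F)`. -/
theorem exists_mem_nKp_not_mem (F : FusionSystem S) {Ph : Subgroup Ω}
    (hsink : ∀ P, F.IsConj Ph P → Sink F Ph P)
    (hstar : (∃ Q, F.IsConj Ph Q ∧ ¬ centralizerIn S Q ≤ Q) ∨
      (∃ Q, F.IsConj Ph Q ∧ ¬ (autInducedBy S Q ⊓ Kp F p Q ≤ Inn Q))) :
    ∃ y ∈ nKp F p Ph, y ∉ Ph := by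
  have key : ∀ Q, F.IsConj Ph Q → ∀ x ∈ nKp F p Q, x ∉ Q → ∃ y ∈ nKp F p Ph, y ∉ Ph := by
    intro Q hQ x hx hxQ
    obtain ⟨ρ, hρ, hρimg⟩ := hsink Q hQ
    have hQS : Q ≤ S := Helper85.isConj_le_right F hQ
    have hQN : Q ≤ normalizerIn S Q := le_normalizerIn hQS
    have hxN : x ∈ normalizerIn S Q := nKp_le_normalizerIn F p Q hx
    refine ⟨ρ ⟨x, hxN⟩, ?_, ?_⟩
    · have := map_mem_nKp F p hρ hQN ⟨x, hxN⟩ hx
      rwa [hρimg] at this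
    · intro h
      rw [← hρimg] at h
      obtain ⟨z, hz, hzx⟩ := mem_img.1 h
      have : z = ⟨x, hxN⟩ := F.injective_of_mem hρ hzx
      rw [this] at hz
      exact hxQ hz
  rcases hstar with ⟨Q, hQ, hC⟩ | ⟨Q, hQ, hK⟩
  · obtain ⟨x, hx, hxQ⟩ := SetLike.not_le_iff_exists.1 hC
    exact key Q hQ x (centralizerIn_le_nKp F p Q hx) hxQ
  · obtain ⟨α, hα, hαI⟩ := SetLike.not_le_iff_exists.1 hK
    obtain ⟨x, hxS, hxα⟩ := Helper87.mem_autInducedBy_iff.1 hα.1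
    have hx : x ∈ nKp F p Q := mem_nKp.2 ⟨hxS, α, hα.2, hxα⟩
    apply key Q hQ x hx
    intro hxQ
    apply hαI
    refine ⟨⟨x, hxQ⟩, ?_⟩
    ext u
    rw [hxα]
    simp [MulAut.conj_apply]

/-- **Step C1.** -/
theorem exists_prepared (hS : IsPGroup p S) (F : FusionSystem S) (ℋ : Set (Subgroup Ω))
    (hgen : ∀ E : FusionSystem S, (∀ P ∈ ℋ, F.Hom P ⊆ E.Hom P) → F ≤ E) (hSℋ : S ∈ ℋ) {n : ℕ}
    (hbig : BigGood F p n) {P0 : Subgroup Ω} (hP0S : P0 ≤ S) (hP0n : Nat.card P0 = n)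
    (hP0ℋ : ∀ P, F.IsConj P0 P → P ∉ ℋ)
    (hstar : (∃ Q, F.IsConj P0 Q ∧ ¬ centralizerIn S Q ≤ Q) ∨
      (∃ Q, F.IsConj P0 Q ∧ ¬ (autInducedBy S Q ⊓ Kp F p Q ≤ Inn Q))) :
    ∃ Ph, F.IsConj P0 Ph ∧ F.IsFullyNormalized Ph ∧ F.IsFullyAutomized p (nKp F p Ph) ∧
      F.IsReceptive (nKp F p Ph) ∧ SylowCond F p (nKp F p Ph) Ph := by
  obtain ⟨Ph₀, hconj₀, hfn₀⟩ := Helper85.exists_fullyNormalized_conj F hP0S
  have hPh₀S : Ph₀ ≤ S := hfn₀.1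
  have hn₀ : Nat.card Ph₀ = n := by rw [← hP0n]; exact (Helper85.isConj_card_eq F hconj₀).symm
  have hℋ₀ : ∀ P, F.IsConj Ph₀ P → P ∉ ℋ := fun P hP => hP0ℋ P (Helper85.isConj_trans F hconj₀ hP)
  have hsink₀ := sink_all hS F ℋ hgen hSℋ hbig hfn₀ hn₀ hℋ₀
  have hstar₀ : (∃ Q, F.IsConj Ph₀ Q ∧ ¬ centralizerIn S Q ≤ Q) ∨
      (∃ Q, F.IsConj Ph₀ Q ∧ ¬ (autInducedBy S Q ⊓ Kp F p Q ≤ Inn Q)) := by
    rcases hstar with ⟨Q, hQ, h⟩ | ⟨Q, hQ, h⟩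
    · exact Or.inl ⟨Q, Helper85.isConj_trans F (Helper85.isConj_symm F hconj₀) hQ, h⟩
    · exact Or.inr ⟨Q, Helper85.isConj_trans F (Helper85.isConj_symm F hconj₀) hQ, h⟩
  obtain ⟨y, hy, hyP⟩ := exists_mem_nKp_not_mem F hsink₀ hstar₀
  -- the good conjugate of Q₀ = N_S^K(Ph₀)
  have hQ₀S : nKp F p Ph₀ ≤ S := (nKp_le_normalizerIn F p Ph₀).trans (normalizerIn_le S Ph₀)
  have hPQ₀ : Ph₀ ≤ nKp F p Ph₀ := le_nKp F hS hPh₀S
  have hcardQ₀ : n < Nat.card ↥(nKp F p Ph₀) := by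
    rw [← hn₀]
    apply card_lt_card_of_lt hQ₀S hPQ₀
    intro h
    rw [h] at hyP
    exact hyP hy
  obtain ⟨Qs, hconjQ, hQsa, hQsr⟩ := hbig _ hQ₀S hcardQ₀
  obtain ⟨ψ, -, hψ, -, -, hψQ⟩ := exists_map_to_good hS F hQsa hQsr hconjQ
  -- first transfer
  have hNN₀ : normalizerIn S Ph₀ ≤ normalizerIn S (nKp F p Ph₀) := normalizerIn_le_normalizerIn_nKp F p hPh₀S
  obtain ⟨ω₁, hω₁, -, hω₁img⟩ := exists_restrict F hψ hNN₀
  obtain ⟨hfn₁, -, hnK₁⟩ := transfer_fullyNormalized (p := p) F hfn₀ hω₁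
  have hQ₀N : nKp F p Ph₀ ≤ normalizerIn S Ph₀ := nKp_le_normalizerIn F p Ph₀
  have hnK₁' : nKp F p (img ω₁ Ph₀) = Qs := by
    rw [hnK₁, hω₁img _ hQ₀N, hψQ]
  have hconj₁ : F.IsConj Ph₀ (img ω₁ Ph₀) := isConj_img F hω₁ (le_normalizerIn hPh₀S)
  have hP₁S : img ω₁ Ph₀ ≤ S := hfn₁.1
  have hP₁Qs : img ω₁ Ph₀ ≤ Qs := hnK₁' ▸ le_nKp F hS hP₁S
  -- the sink of the orbit
  obtain ⟨α₁, hα₁, hsyl⟩ := exists_sylowCond F hQsa (img ω₁ Ph₀)
  have hP₂Qs : img (autHom α₁) (img ω₁ Ph₀) ≤ Qs := img_autHom_le _ _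
  obtain ⟨g, hg, hgP, θ, hθ, hθx⟩ := exists_ext_to_sink F hQsa hQsr hP₂Qs hsyl hα₁ rfl
  have hNN₁ : normalizerIn S (img ω₁ Ph₀) ≤ normalizerIn S Qs ⊓ normalizerIn S (img ω₁ Ph₀) := by
    refine le_inf ?_ le_rfl
    rw [← hnK₁']
    exact normalizerIn_le_normalizerIn_nKp F p hP₁S
  obtain ⟨ω₂, hω₂, -, hω₂img⟩ := exists_restrict F hθ hNN₁
  obtain ⟨hfn₂, -, hnK₂⟩ := transfer_fullyNormalized (p := p) F hfn₁ hω₂
  have hQsN₁ : Qs ≤ normalizerIn S (img ω₁ Ph₀) := hnK₁' ▸ nKp_le_normalizerIn F p _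
  have hQsD : Qs ≤ normalizerIn S Qs ⊓ normalizerIn S (img ω₁ Ph₀) :=
    le_inf (le_normalizerIn hQsr.1) hQsN₁
  have hP₂ : img ω₂ (img ω₁ Ph₀) = img (autHom α₁) (img ω₁ Ph₀) := by
    rw [hω₂img _ (le_normalizerIn hP₁S), img_eq_img_autHom θ g hQsD hθx hP₁Qs, hgP]
  have hnK₂' : nKp F p (img ω₂ (img ω₁ Ph₀)) = Qs := by
    rw [hnK₂, hnK₁', hω₂img _ hQsN₁, img_eq_img_autHom θ g hQsD hθx le_rfl, img_autHom_self]
  refine ⟨img ω₂ (img ω₁ Ph₀), ?_, hfn₂, ?_, ?_, ?_⟩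
  · exact Helper85.isConj_trans F hconj₀
      (Helper85.isConj_trans F hconj₁ (isConj_img F hω₂ (le_normalizerIn hP₁S)))
  · rw [hnK₂']
    exact hQsa
  · rw [hnK₂']
    exact hQsr
  · rw [hnK₂', hP₂]
    exact hsyl

end Cfsg.Agent.Lib.Helper86.SatCrit
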