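/-
SLMD-[N-PW-NORM] (project SLMD = S2332, coordinator helper32): membership in the point stabiliser `pSub`
and `pSub` normalises `Q`.
-/
import Mathlib
import Cfsg.Agent.Lib.Helper32.SLMD.Defs2

set_option autoImplicit false
set_option linter.unusedSectionVars false
set_option linter.unusedVariables false

namespace Cfsg.Agent.Lib.Helper86.SlmdNPwNorm

open Matrix Cfsg.Agent.Lib.Helper41 Cfsg.Agent.Lib.Helper32.SLMD

variable {F : Type*} [Field F] {k : ℕ}

/-- the matrix of `qEl s a` -/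
theorem coe_qEl (s : F) (a : Fin k → F) :
    ((qEl s a : GG F k) : Matrix (Fin 2 ⊕ Fin k) (Fin 2 ⊕ Fin k) F)
      = fromBlocks (upperU s).1 (rowM a 0) 0 1 := by
  unfold qEl x12 a1El
  rw [Matrix.SpecialLinearGroup.coe_mul, coe_iota, coe_uQ2, fromBlocks_multiply]
  simp only [Matrix.mul_one, Matrix.mul_zero, Matrix.zero_mul, add_zero, zero_add]
  rw [upperU_mul_rowM, smul_zero, add_zero]

/-- matrices with all rows but the first equal to the identity and `(0,0)` entry `1` are in `Q` -/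
theorem exists_qEl_eq (g : GG F k)
    (h1 : ∀ i, i ≠ Sum.inl 0 → ∀ j, g.1 i j = (1 : Matrix (Fin 2 ⊕ Fin k) (Fin 2 ⊕ Fin k) F) i j)
    (h0 : g.1 (Sum.inl 0) (Sum.inl 0) = 1) :
    g = qEl (g.1 (Sum.inl 0) (Sum.inl 1)) (fun j => g.1 (Sum.inl 0) (Sum.inr j)) := by
  apply Subtype.ext
  rw [coe_qEl, coe_upperU]
  ext i j
  rcases i with i | i
  · fin_cases i
    · rcases j with j | j
      · fin_cases j
        · simpa using h0
        · simp
      · simp [rowM]
    · change g.1 (Sum.inl 1) j = fromBlocks _ _ _ _ (Sum.inl 1) j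
      rw [h1 (Sum.inl 1) (by simp)]
      rcases j with j | j
      · fin_cases j <;> simp [Matrix.one_apply]
      · simp [rowM]
  · rw [h1 (Sum.inr i) (by simp)]
    rcases j with j | j
    · simp
    · simp [Matrix.one_apply]

/-- elements of `Q` have this shape -/
theorem qEl_rows (s : F) (a : Fin k → F) :
    (∀ i, i ≠ Sum.inl 0 → ∀ j, (qEl s a : GG F k).1 i j
        = (1 : Matrix (Fin 2 ⊕ Fin k) (Fin 2 ⊕ Fin k) F) i j) ∧
      (qEl s a : GG F k).1 (Sum.inl 0) (Sum.inl 0) = 1 := by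
  rw [coe_qEl, coe_upperU]
  constructor
  · intro i hi j
    rcases i with i | i
    · fin_cases i
      · exact absurd rfl hi
      · rcases j with j | j
        · fin_cases j <;> simp [Matrix.one_apply]
        · simp [rowM]
    · rcases j with j | j
      · simp
      · simp [Matrix.one_apply]
  · simp

end Cfsg.Agent.Lib.Helper86.SlmdNPwNorm

namespace Cfsg.Agent.Lib.Helper32.SLMD

open Matrix Cfsg.Agent.Lib.Helper41 Cfsg.Agent.Lib.Helper39 Module
open scoped LinearAlgebra.Projectivization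

variable {F : Type*} [Field F] [Fintype F] [DecidableEq F] {k : ℕ}

section gg

variable {V : Type*} [AddCommGroup V] [Module ℂ V] [FiniteDimensional ℂ V]

/-- [N-PW-NORM] -/
theorem mem_pSub_iff (g : GG F k) :
    g ∈ (pSub : Subgroup (GG F k)) ↔ ∀ i, i ≠ Sum.inl 0 → g.1 i (Sum.inl 0) = 0 := by
  unfold pSub pt0
  rw [MulAction.mem_stabilizer_iff, Projectivization.smul_mk, Projectivization.mk_eq_mk_iff']
  have hcol : g • (Pi.single (Sum.inl 0) 1 : Fin 2 ⊕ Fin k → F) = fun i => g.1 i (Sum.inl 0) := by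
    change g.1 *ᵥ (Pi.single (Sum.inl 0) 1 : Fin 2 ⊕ Fin k → F) = _
    rw [Matrix.mulVec_single_one]
    rfl
  rw [hcol]
  constructor
  · rintro ⟨a, ha⟩ i hi
    have := congrFun ha i
    rw [Pi.smul_apply, Pi.single_eq_of_ne hi, smul_zero] at this
    exact this.symm
  · intro h
    refine ⟨g.1 (Sum.inl 0) (Sum.inl 0), ?_⟩
    funext i
    by_cases hi : i = Sum.inl 0
    · subst hi
      rw [Pi.smul_apply, Pi.single_eq_same, smul_eq_mul, mul_one]
    · rw [Pi.smul_apply, Pi.single_eq_of_ne hi, smul_zero, h i hi]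

/-- [N-PW-NORM] -/
theorem pSub_normalizes_qHom (p : GG F k) (hp : p ∈ (pSub : Subgroup (GG F k)))
    (x : Multiplicative (F × (Fin k → F))) :
    ∃ x' : Multiplicative (F × (Fin k → F)), p * qHom x * p⁻¹ = qHom x' := by
  have hp' : p⁻¹ ∈ (pSub : Subgroup (GG F k)) := inv_mem hp
  rw [mem_pSub_iff] at hp hp'
  obtain ⟨hq1, hq0⟩ := Cfsg.Agent.Lib.Helper86.SlmdNPwNorm.qEl_rows (k := k) x.toAdd.1 x.toAdd.2
  rw [qHom_apply]
  set q : GG F k := qEl x.toAdd.1 x.toAdd.2 with hq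
  -- N = q - 1
  set N : Matrix (Fin 2 ⊕ Fin k) (Fin 2 ⊕ Fin k) F := q.1 - 1 with hN
  have hN1 : ∀ i, i ≠ Sum.inl 0 → ∀ j, N i j = 0 := by
    intro i hi j
    rw [hN, Matrix.sub_apply, hq1 i hi j, sub_self]
  have hN0 : N (Sum.inl 0) (Sum.inl 0) = 0 := by
    rw [hN, Matrix.sub_apply, hq0, Matrix.one_apply_eq, sub_self]
  have hpp : p.1 * (p⁻¹ : GG F k).1 = 1 := by
    rw [← Matrix.SpecialLinearGroup.coe_mul, mul_inv_cancel, Matrix.SpecialLinearGroup.coe_one]
  have hconj : (p * q * p⁻¹ : GG F k).1 = 1 + p.1 * N * (p⁻¹ : GG F k).1 := by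
    rw [Matrix.SpecialLinearGroup.coe_mul, Matrix.SpecialLinearGroup.coe_mul, hN, Matrix.mul_sub,
      Matrix.sub_mul, Matrix.mul_one, hpp]
    abel
  have hpN : ∀ i j, (p.1 * N) i j = p.1 i (Sum.inl 0) * N (Sum.inl 0) j := by
    intro i j
    rw [Matrix.mul_apply, Finset.sum_eq_single (Sum.inl 0)]
    · intro l _ hl
      rw [hN1 l hl, mul_zero]
    · intro h; exact absurd (Finset.mem_univ _) h
  have hM1 : ∀ i, i ≠ Sum.inl 0 → ∀ j, (p.1 * N * (p⁻¹ : GG F k).1) i j = 0 := by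
    intro i hi j
    rw [Matrix.mul_apply]
    apply Finset.sum_eq_zero
    intro l _
    rw [hpN, hp i hi, zero_mul, zero_mul]
  have hM0 : (p.1 * N * (p⁻¹ : GG F k).1) (Sum.inl 0) (Sum.inl 0) = 0 := by
    rw [Matrix.mul_apply]
    apply Finset.sum_eq_zero
    intro l _
    by_cases hl : l = Sum.inl 0
    · subst hl
      rw [hpN, hN0, mul_zero, zero_mul]
    · rw [hp' l hl, mul_zero]
  have key := Cfsg.Agent.Lib.Helper86.SlmdNPwNorm.exists_qEl_eq (p * q * p⁻¹) (by
      intro i hi j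
      rw [hconj, Matrix.add_apply, hM1 i hi j, add_zero]) (by
      rw [hconj, Matrix.add_apply, hM0, add_zero, Matrix.one_apply_eq])
  exact ⟨Multiplicative.ofAdd (_, _), key⟩

end gg

end Cfsg.Agent.Lib.Helper32.SLMD
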