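/-
SLMD-[G-CONST] core (helper86 namespace; no name collisions): multiplicities when the character is
constant off the identity.
-/
import Mathlib
import Cfsg.Agent.Lib.Helper32.SLMD.Defs2

set_option autoImplicit false
set_option linter.unusedSectionVars false
set_option linter.unusedVariables false

namespace Cfsg.Agent.Lib.Helper86.SlmdGConst

variable {N : Type*} [Group N] [Fintype N]

/-- orthogonality: a non-trivial linear character sums to zero (inverse form) -/
theorem sum_inv_eq_zero (lam : N →* ℂˣ) (hlam : lam ≠ 1) :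
    ∑ n : N, (((lam n)⁻¹ : ℂˣ) : ℂ) = 0 := by
  classical
  have h := sum_hom_units_eq_zero ((Units.coeHom ℂ).comp lam⁻¹) (by
    intro h
    apply hlam
    ext n
    have := DFunLike.congr_fun h n
    simp only [MonoidHom.coe_comp, Function.comp_apply, MonoidHom.inv_apply, Units.coeHom_apply,
      MonoidHom.one_apply] at this
    have h1 : (lam n)⁻¹ = 1 := Units.ext this
    rw [inv_eq_one] at h1
    rw [h1]
    rfl)
  simpa using h

end Cfsg.Agent.Lib.Helper86.SlmdGConst

namespace Cfsg.Agent.Lib.Helper86.SlmdGConst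

open Matrix Cfsg.Agent.Lib.Helper41 Cfsg.Agent.Lib.Helper39 Module Cfsg.Agent.Lib.Helper32.SLMD
open scoped LinearAlgebra.Projectivization

section generic

variable {G : Type*} [Group G] {N : Type*} [Group N] [Fintype N] {H : Type*} [Group H]
  {V : Type*} [AddCommGroup V] [Module ℂ V] [FiniteDimensional ℂ V]

/-- [G-CONST] -/
theorem const_mult (ρ : Representation ℂ G V) (ν : N →* G) (τ : ℂ)
    (hτ : ∀ n : N, n ≠ 1 → ρ.character (ν n) = τ) (lam : N →* ℂˣ) (hlam : lam ≠ 1) :
    (Fintype.card N : ℂ) * (finrank ℂ ↥(eigenSub ρ ν lam) : ℂ) = (finrank ℂ V : ℂ) - τ := by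
  classical
  rw [← sum_twist_character ρ ν lam]
  have h0 := Cfsg.Agent.Lib.Helper86.SlmdGConst.sum_inv_eq_zero lam hlam
  have h1 : ∑ n : N, (((lam n)⁻¹ : ℂˣ) : ℂ) * ρ.character (ν n)
      = ∑ n : N, ((((lam n)⁻¹ : ℂˣ) : ℂ) * τ + if n = 1 then ((finrank ℂ V : ℂ) - τ) else 0) := by
    apply Finset.sum_congr rfl
    intro n _
    by_cases hn : n = 1
    · subst hn
      rw [if_pos rfl, map_one, map_one, inv_one, Units.val_one, one_mul, one_mul,
        Representation.char_one]
      ring
    · rw [if_neg hn, add_zero, hτ n hn]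
  rw [h1, Finset.sum_add_distrib, ← Finset.sum_mul, h0, zero_mul, zero_add,
    Finset.sum_ite_eq' Finset.univ (1 : N)]
  simp

/-- [G-CONST] -/
theorem const_fix (ρ : Representation ℂ G V) (ν : N →* G) (τ : ℂ)
    (hτ : ∀ n : N, n ≠ 1 → ρ.character (ν n) = τ) :
    (Fintype.card N : ℂ) * (finrank ℂ ↥(eigenSub ρ ν 1) : ℂ) =
      (finrank ℂ V : ℂ) + ((Fintype.card N : ℂ) - 1) * τ := by
  classical
  rw [← sum_twist_character ρ ν 1]
  have h1 : ∑ n : N, ((((1 : N →* ℂˣ) n)⁻¹ : ℂˣ) : ℂ) * ρ.character (ν n)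
      = ∑ n : N, (τ + if n = 1 then ((finrank ℂ V : ℂ) - τ) else 0) := by
    apply Finset.sum_congr rfl
    intro n _
    rw [MonoidHom.one_apply, inv_one, Units.val_one, one_mul]
    by_cases hn : n = 1
    · subst hn
      rw [if_pos rfl, map_one, Representation.char_one]
      ring
    · rw [if_neg hn, add_zero, hτ n hn]
  rw [h1, Finset.sum_add_distrib, Finset.sum_const, Finset.card_univ, nsmul_eq_mul,
    Finset.sum_ite_eq' Finset.univ (1 : N)]
  simp
  ring

end generic

end Cfsg.Agent.Lib.Helper86.SlmdGConst
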