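/-
SLMD-[N-CONJA2] (project SLMD = S2332, coordinator helper32): every `a2El b`, `b ≠ 0`, is conjugate to
`a2El e₀` by an element normalising `Q`.
-/
import Mathlib
import Cfsg.Agent.Lib.Helper32.SLMD.Defs2

set_option autoImplicit false
set_option linter.unusedSectionVars false
set_option linter.unusedVariables false

namespace Cfsg.Agent.Lib.Helper86.SlmdNConjA2

open Matrix Cfsg.Agent.Lib.Helper41 Cfsg.Agent.Lib.Helper32.SLMD

variable {F : Type*} [Field F] {k : ℕ}

/-- an invertible matrix with prescribed non-zero first row -/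
theorem exists_matrix_row [NeZero k] (b : Fin k → F) (hb : b ≠ 0) :
    ∃ B : Matrix (Fin k) (Fin k) F, B.det ≠ 0 ∧ ∀ j, B 0 j = b j := by
  obtain ⟨i, hi⟩ := Function.ne_iff.mp hb
  refine ⟨((1 : Matrix (Fin k) (Fin k) F).updateRow i b).submatrix (Equiv.swap 0 i) id, ?_, ?_⟩
  · rw [Matrix.det_permute, ← Matrix.cramer_transpose_apply, Matrix.transpose_one,
      Matrix.cramer_one]
    intro h
    rcases mul_eq_zero.mp h with h | h
    · have h1 := Int.units_eq_one_or (Equiv.Perm.sign (Equiv.swap (0 : Fin k) i))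
      rcases h1 with h1 | h1 <;> rw [h1] at h <;> simp at h
    · exact hi h
  · intro j
    rw [Matrix.submatrix_apply, Equiv.swap_apply_left, Matrix.updateRow_self, id]

/-- `levi d0 1 B` conjugates `x12 s` to `x12 (d0 s)` -/
theorem levi_mul_x12 (d0 : F) (B : Matrix (Fin k) (Fin k) F) (h : d0 * 1 * B.det = 1) (s : F) :
    levi d0 1 B h * x12 s = x12 (d0 * s) * levi d0 1 B h := by
  apply Subtype.ext
  simp only [x12, Matrix.SpecialLinearGroup.coe_mul, coe_levi, coe_iota, fromBlocks_multiply,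
    coe_upperU, Matrix.mul_zero, Matrix.zero_mul, add_zero, Matrix.mul_one, Matrix.one_mul]
  congr 1
  ext i j
  fin_cases i <;> fin_cases j <;> simp [Matrix.mul_apply, Fin.sum_univ_two, Matrix.diagonal]

end Cfsg.Agent.Lib.Helper86.SlmdNConjA2

namespace Cfsg.Agent.Lib.Helper32.SLMD

open Matrix Cfsg.Agent.Lib.Helper41 Cfsg.Agent.Lib.Helper39 Module
open scoped LinearAlgebra.Projectivization

variable {F : Type*} [Field F] [Fintype F] [DecidableEq F] {k : ℕ}

section gg

variable {V : Type*} [AddCommGroup V] [Module ℂ V] [FiniteDimensional ℂ V]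

/-- [N-CONJA2] -/
theorem exists_conj_a2El [NeZero k] (b : Fin k → F) (hb : b ≠ 0) :
    ∃ g : GG F k, (∀ x : Multiplicative (F × (Fin k → F)),
        ∃ x' : Multiplicative (F × (Fin k → F)), g * qHom x * g⁻¹ = qHom x') ∧
      g * a2El b * g⁻¹ = a2El (Pi.single 0 1) := by
  obtain ⟨B, hdet, hB0⟩ := Cfsg.Agent.Lib.Helper86.SlmdNConjA2.exists_matrix_row b hb
  have hd : (B.det)⁻¹ * 1 * B.det = 1 := by rw [mul_one, inv_mul_cancel₀ hdet]
  have hunit : IsUnit B.det := isUnit_iff_ne_zero.mpr hdet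
  refine ⟨levi (B.det)⁻¹ 1 B hd, ?_, ?_⟩
  · intro x
    refine ⟨Multiplicative.ofAdd ((B.det)⁻¹ * x.toAdd.1, ((B.det)⁻¹ • x.toAdd.2) ᵥ* B⁻¹), ?_⟩
    rw [qHom_apply, qHom_apply, toAdd_ofAdd]
    simp only []
    unfold qEl
    have h1 := Cfsg.Agent.Lib.Helper86.SlmdNConjA2.levi_mul_x12 (B.det)⁻¹ B hd x.toAdd.1
    have h2 : levi (B.det)⁻¹ 1 B hd * a1El x.toAdd.2
        = a1El (((B.det)⁻¹ • x.toAdd.2) ᵥ* B⁻¹) * levi (B.det)⁻¹ 1 B hd := by
      unfold a1El
      apply levi_mul_uQ2
      ext i j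
      fin_cases i
      · simp only [Fin.zero_eta, Matrix.mul_apply, Fin.sum_univ_two, Matrix.diagonal_apply_eq,
          Matrix.cons_val_zero, rowM_zero, Fin.isValue, ne_eq, zero_ne_one, not_false_eq_true,
          Matrix.diagonal_apply_ne, zero_mul, add_zero]
        have : ((((B.det)⁻¹ • x.toAdd.2) ᵥ* B⁻¹) ᵥ* B) j = ((B.det)⁻¹ • x.toAdd.2) j := by
          rw [Matrix.vecMul_vecMul, Matrix.nonsing_inv_mul _ hunit, Matrix.vecMul_one]
        rw [Pi.smul_apply, smul_eq_mul] at this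
        rw [← this]
        rfl
      · simp [Matrix.mul_apply, Fin.sum_univ_two]
    rw [← mul_assoc, h1, mul_assoc, mul_assoc, ← mul_assoc (levi _ _ _ _), h2, mul_assoc,
      mul_inv_cancel, mul_one]
  · have h2 : levi (B.det)⁻¹ 1 B hd * a2El b
        = a2El (Pi.single 0 1) * levi (B.det)⁻¹ 1 B hd := by
      unfold a2El
      apply levi_mul_uQ2
      ext i j
      fin_cases i
      · simp [Matrix.mul_apply, Fin.sum_univ_two]
      · simp only [Fin.mk_one, Matrix.mul_apply, Fin.sum_univ_two, Fin.isValue, ne_eq, one_ne_zero,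
          not_false_eq_true, Matrix.diagonal_apply_ne, zero_mul, Matrix.diagonal_apply_eq,
          Matrix.cons_val_one, Matrix.cons_val_zero, rowM_one, one_mul, zero_add]
        rw [Finset.sum_eq_single (0 : Fin k)]
        · rw [Pi.single_eq_same, one_mul, hB0]
        · intro c _ hc
          rw [Pi.single_eq_of_ne hc, zero_mul]
        · intro h
          exact absurd (Finset.mem_univ _) h
    rw [h2, mul_assoc, mul_inv_cancel, mul_one]

end gg

end Cfsg.Agent.Lib.Helper32.SLMD
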