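/-
SLMD-[N-HFORM] hedge (project SLMD = S2332, coordinator helper32): `h + (q^k - 1) m' = c`.
-/
import Mathlib
import Cfsg.Agent.Lib.Helper32.SLMD.Defs2
import Cfsg.Agent.Lib.Helper47.SlmdFixRep
import Cfsg.Agent.Lib.Helper86.SlmdNConjA2
import Cfsg.Agent.Lib.Helper86.SlmdGConstCore

set_option autoImplicit false
set_option linter.unusedSectionVars false
set_option linter.unusedVariables false

namespace Cfsg.Agent.Lib.Helper32.SLMD

open Matrix Cfsg.Agent.Lib.Helper41 Cfsg.Agent.Lib.Helper39 Module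
open scoped LinearAlgebra.Projectivization

variable {F : Type*} [Field F] [Fintype F] [DecidableEq F] {k : ℕ}

section gg

variable {V : Type*} [AddCommGroup V] [Module ℂ V] [FiniteDimensional ℂ V]

/-- the character of `uRep` is constant off the identity -/
theorem uRep_character_const_h86 [NeZero k] (ρ : Representation ℂ (GG F k) V)
    (b : Multiplicative (Fin k → F)) (hb : b ≠ 1) :
    (uRep ρ).character b = (uRep ρ).character (Multiplicative.ofAdd (Pi.single 0 1)) := by
  have hcard : (Fintype.card (Multiplicative (F × (Fin k → F))) : ℂ) ≠ 0 := by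
    exact_mod_cast Fintype.card_ne_zero
  have key : ∀ b : Multiplicative (Fin k → F), b ≠ 1 →
      ∑ x : Multiplicative (F × (Fin k → F)), ρ.character (a2Hom b * qHom x)
        = ∑ x : Multiplicative (F × (Fin k → F)),
            ρ.character (a2Hom (Multiplicative.ofAdd (Pi.single 0 1)) * qHom x) := by
    intro b hb
    have hb0 : b.toAdd ≠ 0 := fun h => hb (by rw [← ofAdd_toAdd b, h]; rfl)
    obtain ⟨g, hg1, hg2⟩ := exists_conj_a2El (F := F) b.toAdd hb0
    choose σ hσ using hg1
    have hσinj : Function.Injective σ := by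
      intro x y hxy
      have h1 := hσ x
      have h2 := hσ y
      rw [hxy, ← h2] at h1
      have h3 : qHom x = (qHom y : GG F k) := by
        have := congrArg (fun t => g⁻¹ * t * g) h1
        simpa [mul_assoc] using this
      exact qHom_injective h3
    have hσbij : Function.Bijective σ := Finite.injective_iff_bijective.mp hσinj
    rw [← Function.Bijective.sum_comp hσbij
      (fun x => ρ.character (a2Hom (Multiplicative.ofAdd (Pi.single 0 1)) * qHom x))]
    apply Finset.sum_congr rfl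
    intro x _
    rw [← hσ x, a2Hom_apply, a2Hom_apply, toAdd_ofAdd, ← hg2]
    have : g * a2El b.toAdd * g⁻¹ * (g * qHom x * g⁻¹) = g * (a2El b.toAdd * qHom x) * g⁻¹ := by
      group
    rw [this, Representation.char_conj]
  have h1 := fixRep_character ρ (qHom : _ →* GG F k) a2Hom a2Hom_normalizes_qHom b
  have h2 := fixRep_character ρ (qHom : _ →* GG F k) a2Hom a2Hom_normalizes_qHom
    (Multiplicative.ofAdd (Pi.single 0 1))
  rw [key b hb, ← h2] at h1
  exact mul_left_cancel₀ hcard h1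

/-- [N-HFORM] -/
theorem hform [NeZero k] (ρ : Representation ℂ (GG F k) V) :
    ∃ m' : ℕ, (∀ lam : Multiplicative (Fin k → F) →* ℂˣ, lam ≠ 1 →
        finrank ℂ ↥(eigenSub ρ (qHom : _ →* GG F k) 1 ⊓ eigenSub ρ (a2Hom : _ →* GG F k) lam) = m') ∧
      hR ρ + (Fintype.card F ^ k - 1) * m' = cQ ρ := by
  classical
  let A := Multiplicative (Fin k → F)
  set τ' : ℂ := (uRep ρ).character (Multiplicative.ofAdd (Pi.single 0 1)) with hτ'
  have hτ : ∀ n : A, n ≠ 1 → (uRep ρ).character ((MonoidHom.id A) n) = τ' := by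
    intro n hn
    exact uRep_character_const_h86 ρ n hn
  -- transfer of eigenspaces
  have htr : ∀ lam : A →* ℂˣ, finrank ℂ ↥(eigenSub (uRep ρ) (MonoidHom.id A) lam) =
      finrank ℂ ↥(eigenSub ρ (qHom : _ →* GG F k) 1 ⊓ eigenSub ρ (a2Hom : _ →* GG F k) lam) := by
    intro lam
    have := fixRep_eigen_finrank ρ (qHom : _ →* GG F k) a2Hom a2Hom_normalizes_qHom
      (MonoidHom.id A) lam
    rw [MonoidHom.comp_id] at this
    exact this
  have hcardA : Fintype.card A = Fintype.card F ^ k := by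
    show Fintype.card (Multiplicative (Fin k → F)) = Fintype.card F ^ k
    rw [Fintype.card_multiplicative, Fintype.card_fun, Fintype.card_fin]
  have hq1 : 1 ≤ Fintype.card F ^ k := Nat.one_le_pow _ _ Fintype.card_pos
  have hqC : ((Fintype.card F ^ k : ℕ) : ℂ) ≠ 0 := by
    exact_mod_cast (by omega : Fintype.card F ^ k ≠ 0)
  -- a nontrivial character
  have hone : (Multiplicative.ofAdd (Pi.single 0 1 : Fin k → F) : A) ≠ 1 := by
    intro h
    have h' : (Pi.single 0 1 : Fin k → F) = 0 := h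
    have := congrFun h' 0
    rw [Pi.single_eq_same] at this
    exact one_ne_zero this
  obtain ⟨lam₀, hlam₀⟩ := CommGroup.exists_apply_ne_one_of_hasEnoughRootsOfUnity A ℂ hone
  have hlam₀1 : lam₀ ≠ 1 := by
    rintro rfl
    exact hlam₀ rfl
  have hmult : ∀ lam : A →* ℂˣ, lam ≠ 1 →
      ((Fintype.card F ^ k : ℕ) : ℂ) *
        (finrank ℂ ↥(eigenSub ρ (qHom : _ →* GG F k) 1 ⊓ eigenSub ρ (a2Hom : _ →* GG F k) lam) : ℂ)
        = (cQ ρ : ℂ) - τ' := by
    intro lam hlam
    have := Cfsg.Agent.Lib.Helper86.SlmdGConst.const_mult (uRep ρ) (MonoidHom.id A) τ' hτ lam hlam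
    rw [htr lam, hcardA] at this
    exact this
  have hfix : ((Fintype.card F ^ k : ℕ) : ℂ) * (hR ρ : ℂ)
        = (cQ ρ : ℂ) + (((Fintype.card F ^ k : ℕ) : ℂ) - 1) * τ' := by
    have := Cfsg.Agent.Lib.Helper86.SlmdGConst.const_fix (uRep ρ) (MonoidHom.id A) τ' hτ
    rw [htr 1, hcardA] at this
    exact this
  refine ⟨finrank ℂ ↥(eigenSub ρ (qHom : _ →* GG F k) 1 ⊓
    eigenSub ρ (a2Hom : _ →* GG F k) lam₀), ?_, ?_⟩
  · intro lam hlam
    have h1 := hmult lam hlam
    have h2 := hmult lam₀ hlam₀1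
    rw [← h2] at h1
    exact_mod_cast mul_left_cancel₀ hqC h1
  · have h2 := hmult lam₀ hlam₀1
    set m' := finrank ℂ ↥(eigenSub ρ (qHom : _ →* GG F k) 1 ⊓
      eigenSub ρ (a2Hom : _ →* GG F k) lam₀) with hm'
    have hC : ((Fintype.card F ^ k : ℕ) : ℂ) *
        ((hR ρ + (Fintype.card F ^ k - 1) * m' : ℕ) : ℂ)
        = ((Fintype.card F ^ k : ℕ) : ℂ) * (cQ ρ : ℂ) := by
      push_cast [Nat.cast_sub hq1] at hfix h2 ⊢
      linear_combination hfix + (((Fintype.card F : ℂ) ^ k) - 1) * h2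
    exact_mod_cast mul_left_cancel₀ hqC hC

end gg

end Cfsg.Agent.Lib.Helper32.SLMD
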