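/-
helper86: an upper bound for the focal subgroup of a saturated fusion system via Alperin–Goldschmidt:
if `H ≤ Ω` is a subgroup containing all `x⁻¹ g x g⁻¹` (`x, g ∈ S`) and all `x⁻¹ α(x)` for `α ∈ Aut_F(P)`, `P = S` or `P`
essential, then `foc(F) ≤ H`.  Also `hyp(F) ≤ foc(F)`.
All declarations live in `Cfsg.Agent.Lib.Helper86`.
-/
import Cfsg.Agent.Lib.Helper84.Alperin

set_option autoImplicit false

namespace Cfsg.Agent.Lib.Helper86

open Cfsg Cfsg.FusionSystem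

variable {Ω : Type*} [Group Ω] {S : Subgroup Ω}

/-- The subsystem of `F` of the maps `φ` with `x⁻¹ φ(x) ∈ H` for all `x`. -/
def focalSystem (F : FusionSystem S) (H : Subgroup Ω) (hH : ∀ g ∈ S, ∀ x ∈ S, x⁻¹ * (g * x * g⁻¹) ∈ H) :
    FusionSystem S where
  Hom P := {φ | φ ∈ F.Hom P ∧ ∀ x : P, (x : Ω)⁻¹ * φ x ∈ H}
  le_of_mem h := F.le_of_mem h.1
  injective_of_mem h := F.injective_of_mem h.1
  conj_mem := by
    intro P g hP hg
    exact ⟨F.conj_mem hP hg, fun x => hH g hg x (hP x.2)⟩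
  comp_mem := by
    rintro P Q φ ψ ⟨hφ, h1⟩ ⟨hψ, h2⟩ h
    refine ⟨F.comp_mem hφ hψ h, fun x => ?_⟩
    have e : (x : Ω)⁻¹ * (ψ.comp (φ.codRestrict Q h)) x =
        ((x : Ω)⁻¹ * φ x) * ((φ x)⁻¹ * ψ ⟨φ x, h x⟩) := by
      rw [mul_assoc, mul_inv_cancel_left]
      rfl
    rw [e]
    exact H.mul_mem (h1 x) (h2 ⟨φ x, h x⟩)
  inv_mem := by
    rintro P φ ⟨hφ, h1⟩
    obtain ⟨ψ, hψ, hinv⟩ := F.inv_mem hφ
    refine ⟨ψ, ⟨hψ, ?_⟩, hinv⟩
    rintro ⟨_, x, rfl⟩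
    rw [hinv x]
    have e : (φ x)⁻¹ * (x : Ω) = ((x : Ω)⁻¹ * φ x)⁻¹ := by group
    show (φ x)⁻¹ * (x : Ω) ∈ H
    rw [e]
    exact H.inv_mem (h1 x)

/-- **Focal subgroup bound.** -/
theorem focalSubgroup_le_of_essential (F : FusionSystem S) [Finite S] {p : ℕ} [Fact p.Prime] (hS : IsPGroup p S)
    (hF : F.IsSaturated p) (H : Subgroup Ω) (hH : ∀ g ∈ S, ∀ x ∈ S, x⁻¹ * (g * x * g⁻¹) ∈ H)
    (h : ∀ P : Subgroup Ω, (P = S ∨ F.IsEssential p P) → ∀ α ∈ F.autGroup P, ∀ x : P,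
      (x : Ω)⁻¹ * ((α x : P) : Ω) ∈ H) :
    F.focalSubgroup ≤ H := by
  have hsub := Helper84.alperin_goldschmidt F (focalSystem F H hH) hS hF (fun P hP α hα => by
    have hPS : P ≤ S := by
      rcases hP with rfl | hP
      · exact le_rfl
      · exact hP.1.1
    apply Subgroup.subset_closure
    exact ⟨(Helper87.mem_autGroup_iff F hPS).1 hα, fun x => h P hP α hα x⟩)
  unfold FusionSystem.focalSubgroup
  rw [Subgroup.closure_le]
  rintro y ⟨P, φ, x, hφ, rfl⟩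
  exact (hsub P hφ).2 x

/-- `hyp(F) ≤ foc(F)`. -/
theorem hyperfocalSubgroup_le_focalSubgroup (F : FusionSystem S) (p : ℕ) :
    F.hyperfocalSubgroup p ≤ F.focalSubgroup := by
  unfold FusionSystem.hyperfocalSubgroup FusionSystem.focalSubgroup
  apply Subgroup.closure_mono
  rintro y ⟨P, α, x, hPS, -, rfl⟩
  refine ⟨P, P.subtype.comp (α : MulAut P).toMonoidHom, x, ?_, rfl⟩
  exact (Helper87.mem_autGroup_iff F hPS).1 α.2

end Cfsg.Agent.Lib.Helper86
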