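import Mathlib
import Cfsg.Prelude.Def_GeometricClasses
import Cfsg.Agent.Lib.Helper94.BHRSP.Kit
import Cfsg.Agent.Lib.Helper94.BHRSP.Kit2

/-!
# Project BHRSP (helper94), module [P6] (helper86): `spGL m F` normalises no absolutely irreducible
2-group of similarities in odd characteristic.
-/

set_option autoImplicit false

namespace Cfsg.Agent.Lib.Helper94.BHRSP

open Cfsg Cfsg.Geo
open scoped MatrixGroups Matrix Kronecker

namespace P6h86

variable {F : Type*} [Field F] {m : ℕ}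

local notation "V" => (Fin m ⊕ Fin m → F)
local notation "Mat" => Matrix (Fin m ⊕ Fin m) (Fin m ⊕ Fin m) F

open scoped IsMulCommutative in
/-- an element whose commutators with a perfect subgroup are central commutes with it -/
theorem commute_of_commutator_central {G : Type*} [Group G] (S : Subgroup G) (x : G)
    (hperf : commutator ↥S = ⊤)
    (hcen : ∀ g ∈ S, x * g * x⁻¹ * g⁻¹ ∈ Subgroup.center G) : ∀ g ∈ S, x * g = g * x := by
  obtain ⟨φ, hφ⟩ : ∃ φ : ↥S →* ↥(Subgroup.center G), ∀ g : ↥S, (φ g).1 = x * g.1 * x⁻¹ * g.1⁻¹ := by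
    refine ⟨MonoidHom.mk' (fun g => ⟨x * g.1 * x⁻¹ * g.1⁻¹, hcen g.1 g.2⟩) ?_, fun g => rfl⟩
    intro g h
    apply Subtype.ext
    show x * (g.1 * h.1) * x⁻¹ * (g.1 * h.1)⁻¹ =
      (x * g.1 * x⁻¹ * g.1⁻¹) * (x * h.1 * x⁻¹ * h.1⁻¹)
    have hz := Subgroup.mem_center_iff.mp (hcen h.1 h.2) (g.1⁻¹)
    have e1 : x * (g.1 * h.1) * x⁻¹ * (g.1 * h.1)⁻¹
        = x * g.1 * x⁻¹ * ((x * h.1 * x⁻¹ * h.1⁻¹) * g.1⁻¹) := by group
    have e2 : (x * g.1 * x⁻¹ * g.1⁻¹) * (x * h.1 * x⁻¹ * h.1⁻¹) =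
        x * g.1 * x⁻¹ * (g.1⁻¹ * (x * h.1 * x⁻¹ * h.1⁻¹)) := by group
    rw [e1, e2, hz]
  have hker : ∀ g : ↥S, φ g = 1 := by
    intro g
    have h1 : commutator ↥S ≤ φ.ker := Abelianization.commutator_subset_ker φ
    rw [hperf] at h1
    exact MonoidHom.mem_ker.mp (h1 (Subgroup.mem_top g))
  intro g hg
  have h1 := congrArg Subtype.val (hker ⟨g, hg⟩)
  rw [hφ] at h1
  have h2 : x * g * x⁻¹ * g⁻¹ = 1 := h1
  have : x * g = (x * g * x⁻¹ * g⁻¹) * (g * x) := by group
  rw [this, h2, one_mul]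

theorem mul_conj_assoc {G : Type*} [Group G] (x g : G) :
    x * g * x⁻¹ * g⁻¹ = x * (g * x⁻¹ * g⁻¹) := by group

/-- conjugating an isometry by a similarity gives an isometry -/
theorem conj_mem_spGL (x : GL (Fin m ⊕ Fin m) F) (hx : x ∈ similarityGroup (sympForm m F))
    (g : GL (Fin m ⊕ Fin m) F) (hg : g ∈ spGL m F) : x * g * x⁻¹ ∈ spGL m F := by
  obtain ⟨c, hc⟩ := hx
  rw [mem_spGL_iff] at hg ⊢
  intro u v
  have hinv : ∀ w : V, (x : Mat) *ᵥ (((x⁻¹ : GL (Fin m ⊕ Fin m) F) : Mat) *ᵥ w) = w := by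
    intro w
    rw [Matrix.mulVec_mulVec, ← Units.val_mul, mul_inv_cancel, Units.val_one, Matrix.one_mulVec]
  have h1 : ∀ w : V, ((x * g * x⁻¹ : GL (Fin m ⊕ Fin m) F) : Mat) *ᵥ w =
      (x : Mat) *ᵥ ((g : Mat) *ᵥ (((x⁻¹ : GL (Fin m ⊕ Fin m) F) : Mat) *ᵥ w)) := by
    intro w
    rw [Units.val_mul, Units.val_mul, Matrix.mulVec_mulVec, Matrix.mulVec_mulVec]
  rw [h1, h1, hc, hg]
  have h2 := hc (((x⁻¹ : GL (Fin m ⊕ Fin m) F) : Mat) *ᵥ u) (((x⁻¹ : GL (Fin m ⊕ Fin m) F) : Mat) *ᵥ v)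
  rw [hinv, hinv] at h2
  exact h2.symm

/-- an element commuting with all of `spGL` is scalar -/
theorem mem_scalars_of_commute (x : GL (Fin m ⊕ Fin m) F)
    (hcomm : ∀ g ∈ spGL m F, g * x = x * g) : x ∈ scalars (Fin m ⊕ Fin m) F := by
  have heig : ∀ v : V, v ≠ 0 → ∃ c : F, (x : Mat) *ᵥ v = c • v := by
    intro v hv
    obtain ⟨τ, hτ, hτv⟩ := exists_transvection (F := F) v 1
    obtain ⟨y, hy⟩ := exists_sympForm_ne_zero v hv
    have h1 := hcomm τ hτ
    have h2 : (τ : Mat) *ᵥ ((x : Mat) *ᵥ y) = (x : Mat) *ᵥ ((τ : Mat) *ᵥ y) := by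
      rw [Matrix.mulVec_mulVec, Matrix.mulVec_mulVec, ← Units.val_mul, ← Units.val_mul, h1]
    rw [hτv, hτv, Matrix.mulVec_add, Matrix.mulVec_smul, one_mul, one_mul] at h2
    have h3 : sympForm m F ((x : Mat) *ᵥ y) v • v = sympForm m F y v • ((x : Mat) *ᵥ v) :=
      add_left_cancel h2
    have hy' : sympForm m F y v ≠ 0 := by
      rw [sympForm_skew]; exact neg_ne_zero.mpr hy
    refine ⟨(sympForm m F y v)⁻¹ * sympForm m F ((x : Mat) *ᵥ y) v, ?_⟩
    rw [mul_smul, h3, smul_smul, inv_mul_cancel₀ hy', one_smul]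
  exact mem_scalars_of_forall_eigen x heig

/-- scalars are central -/
theorem scalars_le_center : scalars (Fin m ⊕ Fin m) F ≤ Subgroup.center (GL (Fin m ⊕ Fin m) F) := by
  intro z hz
  rw [mem_scalars_iff] at hz
  obtain ⟨c, hc⟩ := hz
  rw [Subgroup.mem_center_iff]
  intro g
  apply Units.ext
  rw [Units.val_mul, Units.val_mul, hc, Matrix.mul_smul, Matrix.smul_mul, Matrix.mul_one, Matrix.one_mul]

/-- powers of a transvection -/
theorem transvection_pow (τ : GL (Fin m ⊕ Fin m) F) (v : V)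
    (hτ : ∀ x : V, (τ : Mat) *ᵥ x = x + (1 * sympForm m F x v) • v) (n : ℕ) (x : V) :
    ((τ ^ n : GL (Fin m ⊕ Fin m) F) : Mat) *ᵥ x = x + ((n : F) * sympForm m F x v) • v := by
  induction n with
  | zero => simp
  | succ n ih =>
    rw [pow_succ', Units.val_mul, ← Matrix.mulVec_mulVec, ih, hτ, sympForm_add_left,
      sympForm_smul_left, sympForm_self, mul_zero, add_zero, one_mul, add_assoc, ← add_smul]
    congr 2
    push_cast
    ring

theorem two_ne_zero_of_odd [Fintype F] (hodd : Odd (Fintype.card F)) : (2 : F) ≠ 0 := by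
  intro h2
  have hc : ringChar F = 2 := by
    have hd : ringChar F ∣ 2 := by
      have : ((2 : ℕ) : F) = 0 := by exact_mod_cast h2
      exact (ringChar.spec F 2).mp this
    rcases (Nat.dvd_prime Nat.prime_two).mp hd with h | h
    · exfalso
      have := ringChar.charP F
      exact CharP.ringChar_ne_one (R := F) h
    · exact h
  have := FiniteField.even_card_iff_char_two.mp hc
  rcases hodd with ⟨k, hk⟩
  omega

end P6h86

open P6h86

variable {F : Type*} [Field F] [Fintype F] {m : ℕ}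

/-- **[P6]** -/
theorem not_spGL_le_subgroupNormalizer (hm : 2 ≤ m) (hodd : Odd (Fintype.card F))
    (R : Subgroup (GL (Fin m ⊕ Fin m) F)) (hR : IsPGroup 2 R)
    (habs : ActsAbsolutelyIrreducibly (matrixSet R)) (hsim : R ≤ similarityGroup (sympForm m F)) :
    ¬ spGL m F ≤ subgroupNormalizer R := by
  intro hle
  have hex : ¬ (m = 2 ∧ Fintype.card F = 2) := by
    rintro ⟨-, h2⟩
    rw [h2] at hodd
    exact absurd hodd (by decide)
  have h2F : (2 : F) ≠ 0 := two_ne_zero_of_odd hodd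
  have hnormR : ∀ g ∈ spGL m F, ∀ x, x ∈ R ↔ g * x * g⁻¹ ∈ R := by
    intro g hg
    have := hle hg
    unfold subgroupNormalizer at this
    exact Subgroup.mem_normalizer_iff.mp this
  have hN : R ⊓ spGL m F ≤ spGL m F := inf_le_right
  have hnorm : ∀ g ∈ spGL m F, ∀ x ∈ R ⊓ spGL m F, g * x * g⁻¹ ∈ R ⊓ spGL m F := by
    intro g hg x hx
    exact ⟨(hnormR g hg x).mp hx.1,
      (spGL m F).mul_mem ((spGL m F).mul_mem hg hx.2) ((spGL m F).inv_mem hg)⟩
  rcases normal_le_scalars_or_eq hm hex _ hN hnorm with hsc | hall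
  · -- `R ⊓ spGL` is scalar: then `R` is scalar
    have hRsc : R ≤ scalars (Fin m ⊕ Fin m) F := by
      intro x hx
      apply mem_scalars_of_commute
      -- the commutator map
      have hmemN : ∀ g ∈ spGL m F, x * g * x⁻¹ * g⁻¹ ∈ R ⊓ spGL m F := by
        intro g hg
        refine ⟨?_, (spGL m F).mul_mem (conj_mem_spGL x (hsim hx) g hg) ((spGL m F).inv_mem hg)⟩
        have h1 : g * x⁻¹ * g⁻¹ ∈ R := (hnormR g hg _).mp (R.inv_mem hx)
        have h2 : x * (g * x⁻¹ * g⁻¹) ∈ R := R.mul_mem hx h1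
        rw [mul_conj_assoc]; exact h2
      have hcen : ∀ g ∈ spGL m F, x * g * x⁻¹ * g⁻¹ ∈ Subgroup.center (GL (Fin m ⊕ Fin m) F) :=
        fun g hg => scalars_le_center (hsc (hmemN g hg))
      intro g hg
      exact (commute_of_commutator_central (spGL m F) x (commutator_spGL_eq_top hm hex) hcen g hg).symm
    -- contradiction with absolute irreducibility
    have i0 : Fin m := ⟨0, by omega⟩
    obtain ⟨c, hc⟩ := habs.2 (Matrix.single (Sum.inl i0) (Sum.inr i0) (1 : F)) (by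
      rintro s ⟨g, hg, rfl⟩
      obtain ⟨d, hd⟩ := (mem_scalars_iff g).mp (hRsc hg)
      show _ * (g : Matrix (Fin m ⊕ Fin m) (Fin m ⊕ Fin m) F) = (g : Matrix (Fin m ⊕ Fin m) (Fin m ⊕ Fin m) F) * _
      rw [hd, Matrix.mul_smul, Matrix.smul_mul, Matrix.mul_one, Matrix.one_mul])
    have := congrFun (congrFun hc (Sum.inl i0)) (Sum.inr i0)
    simp at this
  · -- `spGL ≤ R`: a transvection has odd order
    have hle2 : spGL m F ≤ R := by
      rw [← hall]; exact inf_le_left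
    have i0 : Fin m := ⟨0, by omega⟩
    set v : Fin m ⊕ Fin m → F := Pi.single (Sum.inl i0) 1 with hv
    have hv0 : v ≠ 0 := by
      intro h
      have := congrFun h (Sum.inl i0)
      simp [hv] at this
    obtain ⟨τ, hτ, hτv⟩ := exists_transvection (F := F) v 1
    obtain ⟨y, hy⟩ := exists_sympForm_ne_zero v hv0
    obtain ⟨k, hk⟩ := hR ⟨τ, hle2 hτ⟩
    have hk' : τ ^ (2 ^ k) = 1 := by
      have := congrArg Subtype.val hk
      simpa using this
    have h1 := transvection_pow τ v hτv (2 ^ k) y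
    rw [hk', Units.val_one, Matrix.one_mulVec] at h1
    have h2 : (((2 ^ k : ℕ) : F) * sympForm m F y v) • v = 0 := by
      have := h1
      exact (left_eq_add.mp this)
    have h3 : sympForm m F y v ≠ 0 := by
      rw [sympForm_skew]; exact neg_ne_zero.mpr hy
    rcases smul_eq_zero.mp h2 with h4 | h4
    · rcases mul_eq_zero.mp h4 with h5 | h5
      · push_cast at h5
        exact h2F (pow_eq_zero_iff (by
          intro hk0
          rw [hk0, pow_zero] at h5
          exact one_ne_zero h5) |>.mp h5)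
      · exact h3 h5
    · exact hv0 h4

end Cfsg.Agent.Lib.Helper94.BHRSP
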