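/-
ASCHU-[HERM-ON] (project ASCHU = S5663, coordinator helper70): a non-degenerate hermitian matrix over
`F_{q²}` is congruent to `1`.
-/
import Mathlib
import Cfsg.Prelude.Def_GeometricClasses
import Cfsg.Agent.Lib.Helper99.AschDefs
import Cfsg.Agent.Lib.Helper70.AschU.Defs
import Cfsg.Agent.Lib.Helper37.Asch.FormKit2
import Cfsg.Agent.Lib.Helper5.UnitaryField

set_option autoImplicit false

namespace Cfsg.Agent.Lib.Helper86.AschUHermOn

open Cfsg Cfsg.Geo Cfsg.Agent.Lib.Helper37.Asch Cfsg.Agent.Lib.Helper70.AschU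
open scoped Matrix

variable {F : Type*} [Field F] [Fintype F] {q : ℕ} {σ : F ≃+* F}

/-- the trace `y + σ y` is not identically zero -/
theorem exists_trace_ne_zero (hσ : UCtx σ q) : ∃ y : F, y + σ y ≠ 0 := by
  by_cases h2 : (1 : F) + 1 = 0
  · obtain ⟨x, hx1, hx2⟩ := Cfsg.Agent.Lib.Helper5.exists_norm_one_ne_one hσ.card
    refine ⟨x, fun h => hx2 ?_⟩
    rw [hσ.frob] at h
    have hneg : x ^ q = x := by
      have : x ^ q = -x := by linear_combination h
      rw [this]
      linear_combination (-x) * h2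
    rw [hneg] at hx1
    have : (x - 1) * (x - 1) = 0 := by linear_combination hx1 + (1 - x) * h2
    rcases mul_self_eq_zero.mp this with h
    exact sub_eq_zero.mp h
  · exact ⟨1, by rw [map_one]; exact h2⟩

section form

variable {d : ℕ} (G : Matrix (Fin d) (Fin d) F)

local notation "hh" => formOf σ G

theorem sub_left (x y v : Fin d → F) : hh (x - y) v = hh x v - hh y v := by
  have := (isSesq_formOf σ G).add_left (x - y) y v
  rw [sub_add_cancel] at this
  rw [this, add_sub_cancel_right]

theorem herm_swap (hσ : UCtx σ q) (hherm : (G.map σ)ᵀ = G) (u v : Fin d → F) :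
    σ (hh u v) = hh v u := by
  rw [formOf_swap σ hσ.invol, hherm]

/-- extension of an orthonormal family by one vector -/
theorem extend (hσ : UCtx σ q) (hG : IsUnit G) (hherm : (G.map σ)ᵀ = G) {k : ℕ} (hk : k < d)
    (v : Fin k → (Fin d → F)) (hv : ∀ i j, hh (v i) (v j) = if i = j then 1 else 0) :
    ∃ u : Fin d → F, (∀ i, hh u (v i) = 0) ∧ hh u u = 1 := by
  have hS := isSesq_formOf σ G
  have hND := nondegenerate_formOf σ hG
  -- the linear map x ↦ (h x (v i))_i
  let φ : (Fin d → F) →ₗ[F] (Fin k → F) :=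
    { toFun := fun x i => hh x (v i)
      map_add' := fun x y => by ext i; exact hS.add_left x y (v i)
      map_smul' := fun c x => by ext i; exact hS.smul_left c x (v i) }
  have hφ : ∀ x i, φ x i = hh x (v i) := fun x i => rfl
  have hker : LinearMap.ker φ ≠ ⊥ := by
    apply LinearMap.ker_ne_bot_of_finrank_lt
    rw [Module.finrank_fin_fun, Module.finrank_fin_fun]
    exact hk
  obtain ⟨w, hwker, hw0⟩ := (Submodule.ne_bot_iff _).mp hker
  have hw : ∀ i, hh w (v i) = 0 := by
    intro i
    have := congrFun (LinearMap.mem_ker.mp hwker) i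
    exact this
  -- a non-isotropic vector in the kernel
  have hex : ∃ u : Fin d → F, (∀ i, hh u (v i) = 0) ∧ hh u u ≠ 0 := by
    by_contra hcon
    push Not at hcon
    obtain ⟨x, hx⟩ := (hND w hw0).1
    -- project x into the kernel
    set x' : Fin d → F := x - ∑ i, hh x (v i) • v i with hx'
    have hx'v : ∀ j, hh x' (v j) = 0 := by
      intro j
      rw [hx', sub_left, hS.sum_left]
      have : ∑ i, hh (hh x (v i) • v i) (v j) = hh x (v j) := by
        rw [Finset.sum_eq_single j]
        · rw [hS.smul_left, hv, if_pos rfl, mul_one]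
        · intro i _ hij
          rw [hS.smul_left, hv, if_neg hij, mul_zero]
        · intro h; exact absurd (Finset.mem_univ _) h
      rw [this, sub_self]
    have hvw : ∀ i, hh (v i) w = 0 := by
      intro i
      rw [← herm_swap G hσ hherm, hw, map_zero]
    have hx'w : hh x' w = hh x w := by
      rw [hx', sub_left, hS.sum_left]
      have : ∑ i, hh (hh x (v i) • v i) w = 0 := by
        apply Finset.sum_eq_zero
        intro i _
        rw [hS.smul_left, hvw, mul_zero]
      rw [this, sub_zero]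
    set t := hh x' w with ht
    have ht0 : t ≠ 0 := by rw [hx'w]; exact hx
    have hσt0 : σ t ≠ 0 := by
      intro h
      exact ht0 ((map_eq_zero σ).mp h)
    obtain ⟨y, hy⟩ := exists_trace_ne_zero hσ
    apply hy
    set c := y / σ t with hc
    have hcs : c * σ t = y := by rw [hc, div_mul_cancel₀ _ hσt0]
    -- the vector x' + c • w is in the kernel, hence isotropic
    have hker2 : ∀ i, hh (x' + c • w) (v i) = 0 := by
      intro i
      rw [hS.add_left, hS.smul_left, hx'v, hw, mul_zero, add_zero]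
    have hiso := hcon (x' + c • w) hker2
    have hx'x' := hcon x' hx'v
    have hww := hcon w hw
    rw [hS.add_left, hS.add_right, hS.add_right, hS.smul_left, hS.smul_left, hS.smul_right,
      hS.smul_right, hx'x', hww, ← ht, ← herm_swap G hσ hherm x' w, ← ht] at hiso
    have hσy : σ y = σ c * t := by
      rw [← hcs, map_mul, hσ.invol]
    rw [hσy, ← hcs]
    linear_combination hiso
  obtain ⟨u, hu, huu⟩ := hex
  set a := hh u u with ha
  have hfix : a ^ q = a := by
    rw [← hσ.frob, ha, herm_swap G hσ hherm]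
  have hfix' : (a⁻¹) ^ q = a⁻¹ := by rw [inv_pow, hfix]
  obtain ⟨z, hz⟩ := Cfsg.Agent.Lib.Helper5.exists_norm_eq hσ.card hfix'
  refine ⟨z • u, ?_, ?_⟩
  · intro i
    rw [hS.smul_left, hu, mul_zero]
  · rw [hS.smul_left, hS.smul_right, ← ha, hσ.frob]
    rw [← mul_assoc, hz, inv_mul_cancel₀ huu]

/-- orthonormal families of every length `≤ d` -/
theorem exists_family (hσ : UCtx σ q) (hG : IsUnit G) (hherm : (G.map σ)ᵀ = G) :
    ∀ k : ℕ, k ≤ d → ∃ v : Fin k → (Fin d → F), ∀ i j, hh (v i) (v j) = if i = j then 1 else 0 := by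
  intro k
  induction k with
  | zero =>
    intro _
    exact ⟨fun i => i.elim0, fun i => i.elim0⟩
  | succ k ih =>
    intro hk
    obtain ⟨v, hv⟩ := ih (by omega)
    obtain ⟨u, hu1, hu2⟩ := extend G hσ hG hherm (by omega) v hv
    have hu1' : ∀ i, hh (v i) u = 0 := by
      intro i
      rw [← herm_swap G hσ hherm, hu1, map_zero]
    refine ⟨Fin.cons u v, ?_⟩
    intro i j
    refine Fin.cases ?_ (fun i' => ?_) i <;> refine Fin.cases ?_ (fun j' => ?_) j
    · rw [Fin.cons_zero, if_pos rfl, hu2]
    · rw [Fin.cons_zero, Fin.cons_succ, hu1, if_neg (Fin.succ_ne_zero j').symm]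
    · rw [Fin.cons_zero, Fin.cons_succ, hu1', if_neg (Fin.succ_ne_zero i')]
    · rw [Fin.cons_succ, Fin.cons_succ, hv]
      simp only [Fin.succ_inj]

end form

end Cfsg.Agent.Lib.Helper86.AschUHermOn

namespace Cfsg.Agent.Lib.Helper70.AschU

open Cfsg Cfsg.Geo Cfsg.Agent.Lib.Helper99.Asch Cfsg.Agent.Lib.Helper37.Asch
open scoped MatrixGroups Matrix Kronecker

variable {n : ℕ} {F : Type*} [Field F] [Fintype F] {q : ℕ} {σ : F ≃+* F}

/-- ASCHU-[HERM-ON] -/
theorem exists_orthonormal (hσ : UCtx σ q) {d : ℕ} (G : Matrix (Fin d) (Fin d) F) (hG : IsUnit G)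
    (hherm : (G.map σ)ᵀ = G) :
    ∃ C : GL (Fin d) F, (C : Matrix (Fin d) (Fin d) F)ᵀ * G * (C : Matrix (Fin d) (Fin d) F).map σ = 1 := by
  obtain ⟨v, hv⟩ := Cfsg.Agent.Lib.Helper86.AschUHermOn.exists_family G hσ hG hherm d le_rfl
  set C : Matrix (Fin d) (Fin d) F := Matrix.of (fun a i => v i a) with hC
  have hcol : ∀ i, C *ᵥ (Pi.single i 1) = v i := by
    intro i
    rw [Matrix.mulVec_single_one]
    ext a
    rfl
  have key : Cᵀ * G * C.map σ = 1 := by
    ext i j
    have h1 := gram_formOf σ (Cᵀ * G * C.map σ)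
    have h2 : gram (formOf σ (Cᵀ * G * C.map σ)) i j = formOf σ G (v i) (v j) := by
      unfold gram
      rw [Matrix.of_apply, ← formOf_mulVec, hcol, hcol]
    rw [h1] at h2
    rw [h2, hv, Matrix.one_apply]
  have hdet : C.det ≠ 0 := by
    intro h0
    have := congrArg Matrix.det key
    rw [Matrix.det_mul, Matrix.det_mul, Matrix.det_transpose, h0, zero_mul, zero_mul,
      Matrix.det_one] at this
    exact zero_ne_one this
  exact ⟨Matrix.GeneralLinearGroup.mkOfDetNeZero C hdet, key⟩

end Cfsg.Agent.Lib.Helper70.AschU
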