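import Mathlib
import Cfsg.Agent.Lib.Helper41.S1022SylSub
import Cfsg.Agent.Lib.Helper17.SimpleIndex

/-!
# Module [IDX21] of S1022 (helper86, for helper41)
-/

set_option autoImplicit false

namespace Cfsg.Agent.Lib.Helper86.S1022

open Subgroup

theorem s1022_index21 {G : Type*} [Group G] [Finite G] [IsSimpleGroup G]
    (hG : Nat.card G = 459648) [Fact (Nat.Prime 19)] (P : Sylow 19 G)
    (hN : Nat.card (Subgroup.normalizer ((P : Subgroup G) : Set G)) = 456) (H : Subgroup G)
    (hPH : (P : Subgroup G) ≤ H) (hH : Nat.card H = 21888)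
    (hNH : Nat.card ((Subgroup.normalizer ((P : Subgroup G) : Set G) ⊓ H : Subgroup G)) = 228) :
    False := by
  classical
  have hnc : ¬ IsMulCommutative G := by
    intro hc
    let inst : CommGroup G := { ‹Group G› with mul_comm := hc.is_comm.comm }
    have hpr := @IsSimpleGroup.prime_card G inst ‹IsSimpleGroup G›
    rw [hG] at hpr
    norm_num at hpr
  set N := Subgroup.normalizer ((P : Subgroup G) : Set G) with hNdef
  set A := N ⊓ H with hA
  -- an element of `N` outside `H`
  obtain ⟨g, hgN, hgH⟩ : ∃ g, g ∈ N ∧ g ∉ H := by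
    by_contra hcon
    push Not at hcon
    have h1 : N ⊓ H = N := inf_eq_left.2 hcon
    rw [hA, h1] at hNH
    omega
  -- `A` is normal in `N`
  have hAnorm : (A.subgroupOf N).Normal := by
    apply Subgroup.normal_of_index_eq_two
    have h1 := Subgroup.index_mul_card (A.subgroupOf N)
    have h2 : Nat.card (A.subgroupOf N) = Nat.card A :=
      Nat.card_congr (Subgroup.subgroupOfEquivOfLe (inf_le_left : A ≤ N)).toEquiv
    rw [h2, hNH, hN] at h1
    omega
  have hconjA : ∀ x ∈ A, ∀ k ∈ N, k * x * k⁻¹ ∈ A := by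
    intro x hx k hk
    have h1 : (⟨x, hx.1⟩ : N) ∈ A.subgroupOf N := Subgroup.mem_subgroupOf.2 hx
    have h2 := hAnorm.conj_mem _ h1 ⟨k, hk⟩
    exact Subgroup.mem_subgroupOf.1 h2
  -- the conjugate of `H`
  set Hg := H.map (MulAut.conj g).toMonoidHom with hHg
  have mem_Hg : ∀ x, x ∈ Hg ↔ g⁻¹ * x * g ∈ H := by
    intro x
    constructor
    · rintro ⟨h, hh, rfl⟩
      have e : g⁻¹ * ((MulAut.conj g).toMonoidHom h) * g = h := by
        show g⁻¹ * (g * h * g⁻¹) * g = h
        group
      rw [e]; exact hh
    · intro hx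
      refine ⟨g⁻¹ * x * g, hx, ?_⟩
      show g * (g⁻¹ * x * g) * g⁻¹ = x
      group
  have hHgc : Nat.card Hg = 21888 := by
    rw [hHg, Subgroup.card_map_of_injective (MulAut.conj g).injective, hH]
  have hgN' : g⁻¹ ∈ N := Subgroup.inv_mem _ hgN
  have hPHg : (P : Subgroup G) ≤ Hg := by
    intro x hx
    rw [mem_Hg]
    apply hPH
    have := (Subgroup.mem_normalizer_iff.1 hgN' x).1 hx
    rwa [inv_inv] at this
  have hNHg : N ⊓ Hg = A := by
    apply le_antisymm
    · intro x hx
      obtain ⟨hxN, hxHg⟩ := Subgroup.mem_inf.1 hx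
      rw [mem_Hg] at hxHg
      have h1 : g⁻¹ * x * g ∈ A :=
        ⟨Subgroup.mul_mem _ (Subgroup.mul_mem _ hgN' hxN) hgN, hxHg⟩
      have h2 := hconjA _ h1 g hgN
      have e : g * (g⁻¹ * x * g) * g⁻¹ = x := by group
      rwa [e] at h2
    · intro x hx
      refine Subgroup.mem_inf.2 ⟨hx.1, ?_⟩
      rw [mem_Hg]
      have h2 := hconjA _ hx g⁻¹ hgN'
      rw [inv_inv] at h2
      exact h2.2
  set D := H ⊓ Hg with hD
  have hPD : (P : Subgroup G) ≤ D := le_inf hPH hPHg
  have hND : N ⊓ D = A := by
    rw [hD, ← inf_assoc, ← hA]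
    apply le_antisymm
    · exact inf_le_left
    · rw [← hNHg]
      exact le_inf (le_refl _) inf_le_right
  obtain ⟨n, hn19, hnD⟩ := Cfsg.Agent.Lib.Helper41.s1022_sylow_count_subgroup P D hPD
  rw [← hNdef, hND, hNH] at hnD
  have hDH : Nat.card D ∣ Nat.card H := Subgroup.card_dvd_of_le inf_le_left
  rw [← hnD, hH] at hDH
  have hn96 : n ∣ 96 := by
    have : n * 228 ∣ 96 * 228 := by norm_num at hDH ⊢; exact hDH
    exact Nat.dvd_of_mul_dvd_mul_right (by norm_num) this
  have hnle : n ≤ 96 := Nat.le_of_dvd (by norm_num) hn96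
  have hn : n = 1 ∨ n = 96 := by
    interval_cases n <;> omega
  have hHidx : H.index = 21 := by
    have := Subgroup.index_mul_card H
    rw [hH, hG] at this
    omega
  have hHgidx : Hg.index = 21 := by
    have := Subgroup.index_mul_card Hg
    rw [hHgc, hG] at this
    omega
  rcases hn with rfl | rfl
  · -- `|D| = 228`
    have h1 := Subgroup.index_mul_card D
    rw [← hnD, hG] at h1
    have h2 : D.index = 2016 := by omega
    have h3 : D.index ≤ H.index * Hg.index := Subgroup.index_inf_le
    rw [h2, hHidx, hHgidx] at h3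
    omega
  · -- `D = H`
    have hDc : Nat.card D = 21888 := by rw [← hnD]
    have hDH' : D = H := Subgroup.eq_of_le_of_card_ge inf_le_left (by rw [hDc, hH])
    have hHHg : H ≤ Hg := by
      rw [← hDH']; exact inf_le_right
    have hHeq : H = Hg := Subgroup.eq_of_le_of_card_ge hHHg (by rw [hHgc, hH])
    have hgK : g ∈ Subgroup.normalizer (H : Set G) := by
      rw [Subgroup.mem_normalizer_iff]
      intro h
      constructor
      · intro hh
        rw [hHeq, mem_Hg]
        have e : g⁻¹ * (g * h * g⁻¹) * g = h := by group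
        rw [e]; exact hh
      · intro hh
        rw [hHeq, mem_Hg] at hh
        have e : g⁻¹ * (g * h * g⁻¹) * g = h := by group
        rwa [e] at hh
    set K := Subgroup.normalizer (H : Set G) with hK
    have hHK : H ≤ K := Subgroup.le_normalizer
    have hHKc : Nat.card H ∣ Nat.card K := Subgroup.card_dvd_of_le hHK
    have hKne : Nat.card K ≠ Nat.card H := by
      intro h
      have : H = K := Subgroup.eq_of_le_of_card_ge hHK (le_of_eq h)
      exact hgH (this ▸ hgK)
    obtain ⟨m, hm⟩ := hHKc
    rw [hH] at hm hKne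
    have hKi := Subgroup.index_mul_card K
    rw [hm, hG] at hKi
    have hm1 : m ≠ 1 := by
      intro h; rw [h, mul_one] at hm; exact hKne hm
    have hm0 : m ≠ 0 := by
      intro h
      rw [h, mul_zero] at hKi
      omega
    have him : K.index * m = 21 := by
      have : K.index * m * 21888 = 21 * 21888 := by
        have e : K.index * m * 21888 = K.index * (21888 * m) := by ring
        rw [e, hKi]
      exact Nat.eq_of_mul_eq_mul_right (by norm_num) this
    have hmle : m ≤ 21 := Nat.le_of_dvd (by norm_num) ⟨K.index, by rw [← him, mul_comm]⟩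
    have hile : K.index ≤ 21 := Nat.le_of_dvd (by norm_num) ⟨m, him.symm⟩
    have hcases : K.index = 1 ∨ K.index = 3 ∨ K.index = 7 := by
      generalize K.index = i at him hile
      interval_cases m <;> omega
    rcases hcases with h1 | h3 | h7
    · have hKtop : K = ⊤ := Subgroup.index_eq_one.1 h1
      have hHn : H.Normal := Subgroup.normalizer_eq_top_iff.1 hKtop
      rcases hHn.eq_bot_or_eq_top with hb | ht
      · rw [hb, Subgroup.card_bot] at hH
        omega
      · rw [ht, Subgroup.card_top, hG] at hH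
        omega
    · have hKt : K ≠ ⊤ := by
        intro h; rw [h, Subgroup.index_top] at h3; omega
      have := Cfsg.Agent.Lib.Helper17.two_mul_card_dvd_factorial_index_of_simple hnc K hKt
      rw [h3, hG] at this
      norm_num [Nat.factorial] at this
    · have hKt : K ≠ ⊤ := by
        intro h; rw [h, Subgroup.index_top] at h7; omega
      have := Cfsg.Agent.Lib.Helper17.two_mul_card_dvd_factorial_index_of_simple hnc K hKt
      rw [h7, hG] at this
      norm_num [Nat.factorial] at this

end Cfsg.Agent.Lib.Helper86.S1022
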