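/-
helper86: more group theory around essential subgroups (see `EssChain.lean`): normal `p`-subgroups of `A` are inner,
abelian case: refined power chains, faithful action on the Frattini quotient, no invariant subgroup strictly between
`Φ(G)` and `G` when `|G : Φ(G)| = p²`.
All declarations live in `Cfsg.Agent.Lib.Helper86`.
-/
import Cfsg.Agent.Lib.Helper86.EssChain
import Cfsg.Agent.Lib.Helper96.ElemAb

set_option autoImplicit false

namespace Cfsg.Agent.Lib.Helper86

open Cfsg

/-- If `A / Inn(H)` has a strongly `p`-embedded subgroup, every normal `p`-subgroup of `A` consists of inner automorphisms. -/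
theorem normal_pSubgroup_le_inn {H : Type*} [Group H] [Finite H] {p : ℕ} [hp : Fact p.Prime]
    (A : Subgroup (MulAut H)) [hn : ((Cfsg.Inn H).subgroupOf A).Normal]
    (E : Subgroup (A ⧸ (Cfsg.Inn H).subgroupOf A)) (hE : IsStronglyPEmbedded p E)
    (N : Subgroup (MulAut H)) (hNA : N ≤ A) (hNp : IsPGroup p N)
    (hNn : ∀ α ∈ A, ∀ β ∈ N, α * β * α⁻¹ ∈ N) : N ≤ Cfsg.Inn H := by
  set I := (Cfsg.Inn H).subgroupOf A with hI
  set π := QuotientGroup.mk' I with hπ
  set N' : Subgroup A := N.subgroupOf A with hN'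
  have hN'n : N'.Normal := ⟨fun n hn g => by
    rw [hN', Subgroup.mem_subgroupOf]
    exact hNn g g.2 n (Subgroup.mem_subgroupOf.mp hn)⟩
  have hN'p : IsPGroup p N' := hNp.comap_subtype
  set N'' := N'.map π with hN''
  have hN''n : N''.Normal := Subgroup.Normal.map hN'n π (QuotientGroup.mk'_surjective I)
  have hN''p : IsPGroup p N'' := hN'p.map π
  have hbot : N'' = ⊥ := Helper84.normal_pgroup_eq_bot hE N'' hN''p
  intro β hβ
  have h1 : π ⟨β, hNA hβ⟩ ∈ N'' := Subgroup.mem_map_of_mem π (Subgroup.mem_subgroupOf.mpr hβ)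
  rw [hbot, Subgroup.mem_bot] at h1
  have h2 : (⟨β, hNA hβ⟩ : A) ∈ I := by
    rw [← QuotientGroup.ker_mk' I]; exact h1
  exact Subgroup.mem_subgroupOf.mp h2

/-- If `A / Inn(H)` has a strongly `p`-embedded subgroup, some element of `p`-power order of `A` is not inner. -/
theorem false_of_pElements_inn {H : Type*} [Group H] [Finite H] {p : ℕ} [hp : Fact p.Prime]
    (A : Subgroup (MulAut H)) [hn : ((Cfsg.Inn H).subgroupOf A).Normal]
    (E : Subgroup (A ⧸ (Cfsg.Inn H).subgroupOf A)) (hE : IsStronglyPEmbedded p E)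
    (h : ∀ α ∈ A, ∀ m : ℕ, α ^ (p ^ m) = 1 → α ∈ Cfsg.Inn H) : False := by
  classical
  have hfin : Finite (MulAut H) := Finite.of_injective (fun α : MulAut H => (α : H → H)) DFunLike.coe_injective
  set I := (Cfsg.Inn H).subgroupOf A with hI
  set π := QuotientGroup.mk' I with hπ
  obtain ⟨x, hx⟩ := exists_prime_orderOf_dvd_card' p hE.1
  obtain ⟨a, rfl⟩ := QuotientGroup.mk'_surjective I x
  obtain ⟨e, m, hm, hem⟩ := Nat.exists_eq_pow_mul_and_not_dvd (orderOf_pos a).ne' p hp.out.ne_one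
  have hpow : ((a ^ m : A) : MulAut H) ^ (p ^ e) = 1 := by
    have : (a ^ m) ^ (p ^ e) = 1 := by rw [← pow_mul, mul_comm, ← hem, pow_orderOf_eq_one]
    have := congrArg Subtype.val this
    simpa using this
  have h1 : ((a ^ m : A) : MulAut H) ∈ Cfsg.Inn H := h _ (a ^ m).2 e hpow
  have h2 : (a ^ m : A) ∈ I := Subgroup.mem_subgroupOf.mpr h1
  have h3 : π (a ^ m) = 1 := by
    have : (a ^ m : A) ∈ π.ker := by rw [QuotientGroup.ker_mk' I]; exact h2
    exact this
  rw [map_pow] at h3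
  have h4 : orderOf (π a) ∣ m := orderOf_dvd_of_pow_eq_one h3
  rw [hx] at h4
  exact hm h4

theorem inn_eq_bot_of_comm {G : Type*} [CommGroup G] : Cfsg.Inn G = ⊥ := by
  rw [eq_bot_iff]
  rintro _ ⟨g, rfl⟩
  rw [Subgroup.mem_bot]
  ext h
  show g * h * g⁻¹ = h
  rw [mul_comm g h, mul_inv_cancel_right]

section comm

variable {G : Type*} [CommGroup G] [Finite G] {p : ℕ} [hp : Fact p.Prime]

/-- In a finite abelian `p`-group the Frattini subgroup is the subgroup of `p`-th powers. -/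
theorem frattini_eq_range_pow (hG : IsPGroup p G) : frattini G = (powMonoidHom p : G →* G).range := by
  apply le_antisymm
  · set R := (powMonoidHom p : G →* G).range with hR
    have hsurj : Function.Surjective (QuotientGroup.mk' R) := QuotientGroup.mk'_surjective R
    have h1 := frattini_le_comap_frattini_of_surjective hsurj
    have h2 : frattini (G ⧸ R) = ⊥ := by
      apply Cfsg.Agent.Lib.Helper96.frattini_eq_bot_of_elemAb p
      · intro a b; exact mul_comm a b
      · intro x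
        obtain ⟨g, rfl⟩ := hsurj x
        rw [← map_pow]
        have : g ^ p ∈ (QuotientGroup.mk' R).ker := by
          rw [QuotientGroup.ker_mk']; exact ⟨g, rfl⟩
        exact this
    rw [h2] at h1
    intro x hx
    have := h1 hx
    rw [Subgroup.mem_comap, Subgroup.mem_bot] at this
    have h3 : x ∈ (QuotientGroup.mk' R).ker := this
    rwa [QuotientGroup.ker_mk'] at h3
  · rintro _ ⟨g, rfl⟩
    exact (Cfsg.Agent.S0012.result p hG).2 g

/-- The refined power chain `G ≥ M ≥ G^p ≥ M^p ≥ G^{p²} ≥ …`. -/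
def powChain (p : ℕ) (M : Subgroup G) (j : ℕ) : Subgroup G :=
  (if j % 2 = 0 then ⊤ else M).map (powMonoidHom (p ^ (j / 2)))

/-- An automorphism in `A` acting trivially on `G / M` and `M / Φ(G)` is trivial. -/
theorem eq_one_of_stab (hG : IsPGroup p G)
    (A : Subgroup (MulAut G)) [hn : ((Cfsg.Inn G).subgroupOf A).Normal]
    (E : Subgroup (A ⧸ (Cfsg.Inn G).subgroupOf A)) (hE : IsStronglyPEmbedded p E)
    (M : Subgroup G) (hMinv : ∀ α ∈ A, ∀ x ∈ M, α x ∈ M)
    (α : MulAut G) (hα : α ∈ A) (h1 : ∀ g, g⁻¹ * α g ∈ M) (h2 : ∀ m ∈ M, m⁻¹ * α m ∈ frattini G) : α = 1 := by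
  obtain ⟨n, hn'⟩ := IsPGroup.iff_card.mp hG
  have hΦ := frattini_eq_range_pow hG
  have hBinv : ∀ j : ℕ, ∀ β ∈ A, ∀ x ∈ (if j % 2 = 0 then (⊤ : Subgroup G) else M), β x ∈ (if j % 2 = 0 then (⊤ : Subgroup G) else M) := by
    intro j β hβ x hx
    by_cases hj : j % 2 = 0
    · rw [if_pos hj]; trivial
    · rw [if_neg hj] at hx ⊢; exact hMinv β hβ x hx
  have hinv : ∀ j ≤ 2 * n, ∀ β ∈ A, ∀ x ∈ powChain p M j, β x ∈ powChain p M j := by
    rintro j - β hβ _ ⟨b, hb, rfl⟩
    refine ⟨β b, hBinv j β hβ b hb, ?_⟩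
    simp only [powMonoidHom_apply, map_pow]
  have h0 : powChain p M 0 = ⊤ := by
    unfold powChain
    have : (powMonoidHom (p ^ (0 / 2)) : G →* G) = MonoidHom.id G := by
      ext x; simp
    rw [this, Subgroup.map_id]; rfl
  have ht : powChain p M (2 * n) = ⊥ := by
    unfold powChain
    rw [eq_bot_iff]
    rintro _ ⟨b, -, rfl⟩
    rw [Subgroup.mem_bot, powMonoidHom_apply]
    have : 2 * n / 2 = n := by omega
    rw [this, ← hn']
    exact pow_card_eq_one'
  have hmem : α ∈ Helper87.chainStab A (2 * n) (powChain p M) hinv := by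
    refine ⟨hα, fun j _ r hr => ?_⟩
    obtain ⟨b, hb, rfl⟩ := hr
    rw [powMonoidHom_apply, map_pow, ← inv_pow, ← mul_pow]
    by_cases hj : j % 2 = 0
    · have hj1 : ¬ (j + 1) % 2 = 0 := by omega
      have hj2 : (j + 1) / 2 = j / 2 := by omega
      unfold powChain
      rw [if_neg hj1, hj2]
      exact ⟨_, h1 b, rfl⟩
    · have hj1 : (j + 1) % 2 = 0 := by omega
      have hj2 : (j + 1) / 2 = j / 2 + 1 := by omega
      unfold powChain
      rw [if_pos hj1, hj2]
      rw [if_neg hj] at hb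
      have h3 := h2 b hb
      rw [hΦ] at h3
      obtain ⟨y, hy⟩ := h3
      refine ⟨y, Subgroup.mem_top y, ?_⟩
      rw [powMonoidHom_apply] at hy ⊢
      rw [← hy, ← pow_mul, pow_succ']
  have hle := normal_pSubgroup_le_inn A E hE (Helper87.chainStab A (2 * n) (powChain p M) hinv)
    (Helper87.chainStab_le _ _ _ hinv) (Helper87.chainStab_isPGroup hG A _ _ h0 ht hinv)
    (fun β hβ γ hγ => Helper87.chainStab_conj_mem A _ _ hinv hβ hγ)
  have := hle hmem
  rw [inn_eq_bot_of_comm, Subgroup.mem_bot] at this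
  exact this

/-- `A` acts faithfully on the Frattini quotient. -/
theorem eq_one_of_trivial_mod_frattini (hG : IsPGroup p G)
    (A : Subgroup (MulAut G)) [hn : ((Cfsg.Inn G).subgroupOf A).Normal]
    (E : Subgroup (A ⧸ (Cfsg.Inn G).subgroupOf A)) (hE : IsStronglyPEmbedded p E)
    (α : MulAut G) (hα : α ∈ A) (h1 : ∀ g, g⁻¹ * α g ∈ frattini G) : α = 1 := by
  refine eq_one_of_stab hG A E hE (frattini G) (fun β _ x hx => frattini_apply_mem β x hx) α hα h1 ?_
  intro m hm
  exact Subgroup.mul_mem _ (Subgroup.inv_mem _ hm) (frattini_apply_mem α m hm)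

/-- No `A`-invariant subgroup of index `p` over `Φ(G)` with `|M : Φ(G)| = p`. -/
theorem false_of_mid_comm (hG : IsPGroup p G)
    (A : Subgroup (MulAut G)) [hn : ((Cfsg.Inn G).subgroupOf A).Normal]
    (E : Subgroup (A ⧸ (Cfsg.Inn G).subgroupOf A)) (hE : IsStronglyPEmbedded p E)
    (M : Subgroup G) (hMinv : ∀ α ∈ A, ∀ x ∈ M, α x ∈ M)
    (hM1 : M.index = p) (hM2 : (frattini G).relIndex M = p) : False := by
  apply false_of_pElements_inn A E hE
  intro α hα m hαm
  have h1 : ∀ g, g⁻¹ * α g ∈ M := by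
    intro g
    refine inv_mul_apply_mem_of_relIndex_prime M ⊤ ?_ α (hMinv α hα) (fun _ _ => trivial) m hαm g trivial
    rw [Subgroup.relIndex_top_right]; exact hM1
  have h2 : ∀ x ∈ M, x⁻¹ * α x ∈ frattini G := by
    intro x hx
    exact inv_mul_apply_mem_of_relIndex_prime (frattini G) M hM2 α (fun y hy => frattini_apply_mem α y hy)
      (hMinv α hα) m hαm x hx
  rw [eq_one_of_stab hG A E hE M hMinv α hα h1 h2]
  exact Subgroup.one_mem _

/-- A subgroup strictly between `Φ(G)` and `G`, when `|G : Φ(G)| = p²`. -/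
theorem index_of_between {G : Type*} [Group G] {p : ℕ} [hp : Fact p.Prime] (hidx : (frattini G).index = p ^ 2)
    (M : Subgroup G) (hΦM : frattini G ≤ M) (hMΦ : ¬ M ≤ frattini G) (hMtop : M ≠ ⊤) :
    M.index = p ∧ (frattini G).relIndex M = p := by
  have h1 := Subgroup.relIndex_mul_index hΦM
  rw [hidx] at h1
  have ha1 : (frattini G).relIndex M ≠ 1 := fun h => hMΦ (Subgroup.relIndex_eq_one.mp h)
  have hb1 : M.index ≠ 1 := fun h => hMtop (Subgroup.index_eq_one.mp h)
  have hdvd : M.index ∣ p ^ 2 := Dvd.intro_left _ h1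
  obtain ⟨k, hk2, hk⟩ := (Nat.dvd_prime_pow hp.out).mp hdvd
  have hk1 : k = 1 := by
    interval_cases k
    · exact absurd (by rw [hk, pow_zero]) hb1
    · rfl
    · exfalso
      rw [hk] at h1
      apply ha1
      have hpos : 0 < p ^ 2 := pow_pos hp.out.pos 2
      exact Nat.eq_of_mul_eq_mul_right hpos (by rw [h1, one_mul])
  subst hk1
  rw [pow_one] at hk
  refine ⟨hk, ?_⟩
  rw [hk] at h1
  apply Nat.eq_of_mul_eq_mul_right hp.out.pos
  rw [h1]; ring

/-- When `|G : Φ(G)| = p²`, every proper `A`-invariant subgroup lies in `Φ(G)`. -/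
theorem le_frattini_of_invariant (hG : IsPGroup p G)
    (A : Subgroup (MulAut G)) [hn : ((Cfsg.Inn G).subgroupOf A).Normal]
    (E : Subgroup (A ⧸ (Cfsg.Inn G).subgroupOf A)) (hE : IsStronglyPEmbedded p E)
    (hidx : (frattini G).index = p ^ 2)
    (C : Subgroup G) (hCinv : ∀ α ∈ A, ∀ x ∈ C, α x ∈ C) (hC : C ≠ ⊤) : C ≤ frattini G := by
  by_contra hnle
  set M := C ⊔ frattini G with hM
  have hMtop : M ≠ ⊤ := fun h => hC (frattini_nongenerating h)
  have hΦM : frattini G ≤ M := le_sup_right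
  have hMΦ : ¬ M ≤ frattini G := fun h => hnle (le_trans le_sup_left h)
  obtain ⟨hk, hrel⟩ := index_of_between hidx M hΦM hMΦ hMtop
  refine false_of_mid_comm hG A E hE M ?_ hk hrel
  intro α hα x hx
  rw [hM, Subgroup.mem_sup] at hx ⊢
  obtain ⟨c, hc, f, hf, rfl⟩ := hx
  exact ⟨α c, hCinv α hα c hc, α f, frattini_apply_mem α f hf, (map_mul α c f).symm⟩

end comm

end Cfsg.Agent.Lib.Helper86
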