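import Cfsg.Agent.Lib.Helper86.P4Chain
import Cfsg.Agent.Lib.Helper86.EssChain2
import Cfsg.Agent.S0065

set_option autoImplicit false

namespace Cfsg.Agent.Lib.Helper86

open Cfsg
open scoped commutatorElement

variable {G : Type*} [Group G]

/-- The Frattini subgroup lies in every normal subgroup with elementary abelian quotient. -/
theorem frattini_le_of_quotient_elemAb (p : ℕ) [Fact p.Prime] (N : Subgroup G) [N.Normal]
    (hc : commutator G ≤ N) (hpw : ∀ x : G, x ^ p ∈ N) : frattini G ≤ N := by
  have h1 := frattini_le_comap_frattini_of_surjective (QuotientGroup.mk'_surjective N)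
  have h2 : frattini (G ⧸ N) = ⊥ := by
    apply Cfsg.Agent.Lib.Helper96.frattini_eq_bot_of_elemAb p
    · intro a b
      obtain ⟨a, rfl⟩ := QuotientGroup.mk'_surjective N a
      obtain ⟨b, rfl⟩ := QuotientGroup.mk'_surjective N b
      rw [← map_mul, ← map_mul, QuotientGroup.mk'_eq_mk']
      refine ⟨⁅b⁻¹, a⁻¹⁆, hc (Subgroup.commutator_mem_commutator (Subgroup.mem_top _) (Subgroup.mem_top _)), ?_⟩
      rw [commutatorElement_def]; group
    · intro x
      obtain ⟨x, rfl⟩ := QuotientGroup.mk'_surjective N x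
      rw [← map_pow]
      exact (QuotientGroup.eq_one_iff _).mpr (hpw x)
  rw [h2] at h1
  intro x hx
  have := h1 hx
  rw [Subgroup.mem_comap, Subgroup.mem_bot] at this
  exact (QuotientGroup.eq_one_iff _).mp this


/-- `x ↦ ⁅g, x⁆` is a homomorphism when all these commutators are central. -/
def commHom (g : G) (h : ∀ x : G, ⁅g, x⁆ ∈ Subgroup.center G) : G →* G :=
  MonoidHom.mk' (fun x => ⁅g, x⁆) (by
    intro x y
    have hy := Subgroup.mem_center_iff.mp (h y) x
    have : ⁅g, x * y⁆ = ⁅g, x⁆ * (x * ⁅g, y⁆ * x⁻¹) := by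
      simp only [commutatorElement_def]; group
    rw [this, hy, mul_assoc, mul_inv_cancel, mul_one])

theorem commHom_apply (g : G) (h : ∀ x : G, ⁅g, x⁆ ∈ Subgroup.center G) (x : G) : commHom g h x = ⁅g, x⁆ := rfl

theorem mem_commHom_ker (g : G) (h : ∀ x : G, ⁅g, x⁆ ∈ Subgroup.center G) (x : G) :
    x ∈ (commHom g h).ker ↔ g * x = x * g := by
  rw [MonoidHom.mem_ker, commHom_apply, commutatorElement_eq_one_iff_mul_comm]

/-- If a generating set commutes pairwise modulo the normal subgroup `N` then `G' ≤ N`. -/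
theorem commutator_le_of_closure (N : Subgroup G) [N.Normal] (T : Set G) (hT : Subgroup.closure T = ⊤)
    (h : ∀ x ∈ T, ∀ y ∈ T, ⁅x, y⁆ ∈ N) : commutator G ≤ N := by
  set π := QuotientGroup.mk' N with hπ
  have hcl : Subgroup.closure (π '' T) = ⊤ := by
    rw [← MonoidHom.map_closure, hT, ← MonoidHom.range_eq_map, MonoidHom.range_eq_top]
    exact QuotientGroup.mk'_surjective N
  have hcomm : ∀ a ∈ π '' T, ∀ b ∈ π '' T, a * b = b * a := by
    rintro _ ⟨x, hx, rfl⟩ _ ⟨y, hy, rfl⟩
    have := h x hx y hy
    have h1 : π ⁅x, y⁆ = 1 := (QuotientGroup.eq_one_iff _).mpr this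
    rw [map_commutatorElement, commutatorElement_eq_one_iff_mul_comm] at h1
    exact h1
  have h1 : Subgroup.closure (π '' T) ≤ Subgroup.centralizer (π '' T) := by
    rw [Subgroup.closure_le]
    intro a ha
    rw [SetLike.mem_coe, Subgroup.mem_centralizer_iff]
    intro b hb
    exact hcomm b hb a ha
  have h2 : π '' T ⊆ Subgroup.center (G ⧸ N) := by
    intro a ha
    rw [SetLike.mem_coe, Subgroup.mem_center_iff]
    intro b
    have hb : b ∈ Subgroup.centralizer (π '' T) := h1 (hcl ▸ Subgroup.mem_top b)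
    exact (Subgroup.mem_centralizer_iff.mp hb a ha).symm
  have h3 : Subgroup.center (G ⧸ N) = ⊤ := by
    rw [eq_top_iff, ← hcl, Subgroup.closure_le]
    exact h2
  have hc : IsMulCommutative (G ⧸ N) := ⟨⟨fun a b => by
    have ha : a ∈ Subgroup.center (G ⧸ N) := h3 ▸ Subgroup.mem_top a
    exact (Subgroup.mem_center_iff.mp ha b).symm⟩⟩
  exact Subgroup.Normal.quotient_commutative_iff_commutator_le.mp hc

/-- Case A: `|G| = p⁴`, `|Φ(G)| = p²`, `|G'| = p` is impossible for an essential-like group. -/
theorem false_of_commutator_card_p [Finite G] {p : ℕ} [hp : Fact p.Prime] (hcard : Nat.card G = p ^ 4)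
    (A : Subgroup (MulAut G)) [hn : ((Cfsg.Inn G).subgroupOf A).Normal]
    (E : Subgroup (A ⧸ (Cfsg.Inn G).subgroupOf A)) (hE : IsStronglyPEmbedded p E)
    (hΦ : Nat.card (frattini G) = p ^ 2) (hD : Nat.card (commutator G) = p) : False := by
  have hG : IsPGroup p G := IsPGroup.of_card hcard
  have hp1 := hp.out.one_lt
  obtain ⟨hcomm, hpow⟩ := Cfsg.Agent.S0012.result p hG
  set π : G →* Abelianization G := Abelianization.of with hπ
  have hπs : Function.Surjective π := QuotientGroup.mk'_surjective _
  have hπk : π.ker = commutator G := QuotientGroup.ker_mk' _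
  have hmemD : ∀ x : G, π x = 1 ↔ x ∈ commutator G := fun x => by rw [← MonoidHom.mem_ker, hπk]
  let pw : Abelianization G →* Abelianization G := powMonoidHom p
  have hDinv : AutInv (commutator G) := autInv_of_characteristic _
  -- the two middle terms
  have hM₂le : pw.range.comap π ≤ frattini G := by
    intro x hx
    obtain ⟨q, hq⟩ := hx
    obtain ⟨g, rfl⟩ := hπs q
    have h1 : π ((g ^ p)⁻¹ * x) = 1 := by
      rw [map_mul, map_inv, map_pow, ← hq]
      exact inv_mul_cancel _
    have h2 : (g ^ p)⁻¹ * x ∈ frattini G := hcomm ((hmemD _).1 h1)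
    have : x = g ^ p * ((g ^ p)⁻¹ * x) := by group
    rw [this]
    exact (frattini G).mul_mem (hpow g) h2
  have hDle : commutator G ≤ pw.range.comap π := by
    intro x hx
    rw [Subgroup.mem_comap, (hmemD x).2 hx]
    exact Subgroup.one_mem _
  have hM₂ne : pw.range.comap π ≠ commutator G := by
    intro heq
    have hexp : ∀ x : G, x ^ p ∈ commutator G := by
      intro x
      rw [← heq, Subgroup.mem_comap, map_pow]
      exact ⟨π x, rfl⟩
    have hle := frattini_le_of_quotient_elemAb p (commutator G) le_rfl hexp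
    have := Subgroup.card_le_of_le hle
    rw [hΦ, hD] at this
    nlinarith
  have hM₂card : Nat.card (pw.range.comap π) = p ^ 2 := by
    obtain ⟨k, hk2, hk⟩ := (Nat.dvd_prime_pow hp.out).mp (hΦ ▸ Subgroup.card_dvd_of_le hM₂le)
    have h1 : p ∣ Nat.card (pw.range.comap π) := hD ▸ Subgroup.card_dvd_of_le hDle
    interval_cases k
    · rw [hk, pow_zero] at h1
      exact absurd (Nat.le_of_dvd one_pos h1) (by omega)
    · exfalso
      apply hM₂ne
      exact (Subgroup.eq_of_le_of_card_ge hDle (by rw [hk, hD, pow_one])).symm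
    · exact hk
  have hM₂idx : (pw.range.comap π).index = p ^ 2 := index_of_card_p4 hcard _ (by norm_num) hM₂card
  have hRidx : pw.range.index = p ^ 2 := by
    rw [← Subgroup.index_comap_of_surjective pw.range hπs]; exact hM₂idx
  have hQcard : Nat.card (Abelianization G) = p ^ 3 := by
    have := index_of_card_p4 hcard (commutator G) (k := 1) (by norm_num) (by rw [hD, pow_one])
    rw [Subgroup.index_eq_card] at this
    exact this
  have hRcard : Nat.card pw.range = p := by
    have := Subgroup.card_mul_index pw.range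
    rw [hRidx, hQcard] at this
    have h' : Nat.card pw.range * p ^ 2 = p * p ^ 2 := by rw [this]; ring
    exact Nat.eq_of_mul_eq_mul_right (pow_pos hp.out.pos 2) h'
  have hM₁idx : (pw.ker.comap π).index = p := by
    rw [Subgroup.index_comap_of_surjective pw.ker hπs, Subgroup.index_ker, hRcard]
  have hDidx : (commutator G).index = p ^ 3 :=
    index_of_card_p4 hcard (commutator G) (k := 1) (by norm_num) (by rw [hD, pow_one])
  have hRK : pw.range ≤ pw.ker := by
    intro r hr
    rw [MonoidHom.mem_ker]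
    show r ^ p = 1
    have : (⟨r, hr⟩ : pw.range) ^ p = 1 := by rw [← hRcard]; exact pow_card_eq_one'
    exact congrArg Subtype.val this
  refine false_of_autInv_chain hcard A E hE (pw.ker.comap π) (pw.range.comap π) (commutator G)
    ?_ ?_ hDinv (Subgroup.comap_mono hRK) hDle hM₁idx hM₂idx hDidx
  · intro α x hx
    rw [Subgroup.mem_comap, MonoidHom.mem_ker] at hx ⊢
    have h1 : π (x ^ p) = 1 := by rw [map_pow]; exact hx
    have h2 : π ((α x) ^ p) = 1 := by
      rw [hmemD, ← map_pow]
      exact hDinv α _ ((hmemD _).1 h1)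
    rw [map_pow] at h2
    exact h2
  · intro α x hx
    obtain ⟨q, hq⟩ := hx
    obtain ⟨g, rfl⟩ := hπs q
    have h1 : π ((g ^ p)⁻¹ * x) = 1 := by
      rw [map_mul, map_inv, map_pow, ← hq]
      exact inv_mul_cancel _
    have h2 := hDinv α _ ((hmemD _).1 h1)
    rw [map_mul, map_inv, map_pow] at h2
    have h3 := (hmemD _).2 h2
    rw [map_mul, map_inv, map_pow, inv_mul_eq_one] at h3
    exact ⟨π (α g), h3⟩


/-- A proper subgroup of a group of order `p ^ 4` properly containing a subgroup of order `≥ p ^ 2` ... : card facts -/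
theorem card_eq_pow_of_le {p : ℕ} [hp : Fact p.Prime] [Finite G] {n : ℕ} (hcard : Nat.card G = p ^ n) (H : Subgroup G) :
    ∃ k ≤ n, Nat.card H = p ^ k :=
  (Nat.dvd_prime_pow hp.out).mp (hcard ▸ Subgroup.card_subgroup_dvd_card H)

/-- Case B: `|G| = p⁴`, `|Φ(G)| = |G'| = p²` is impossible for an essential-like group. -/
theorem false_of_commutator_card_sq [Finite G] {p : ℕ} [hp : Fact p.Prime] (hcard : Nat.card G = p ^ 4)
    (A : Subgroup (MulAut G)) [hn : ((Cfsg.Inn G).subgroupOf A).Normal]
    (E : Subgroup (A ⧸ (Cfsg.Inn G).subgroupOf A)) (hE : IsStronglyPEmbedded p E)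
    (hD : Nat.card (commutator G) = p ^ 2) : False := by
  classical
  have hG : IsPGroup p G := IsPGroup.of_card hcard
  have hp1 := hp.out.one_lt
  have hp0 := hp.out.pos
  have hnil : Group.IsNilpotent G := hG.isNilpotent
  set D := commutator G with hDdef
  set Z := Subgroup.center G with hZdef
  have hDinv : AutInv D := autInv_of_characteristic _
  have hZinv : AutInv Z := autInv_of_characteristic _
  have hDne : D ≠ ⊥ := by
    intro h
    rw [h, Subgroup.card_bot] at hD
    have : 1 < p ^ 2 := Nat.one_lt_pow (by norm_num) hp1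
    omega
  have hpowlt : ∀ {a b : ℕ}, p ^ a < p ^ b → a < b := fun h => (Nat.pow_lt_pow_iff_right hp1).mp h
  -- (B1)
  have hB1 : ¬ D ≤ Z := by
    intro hDZ
    have hZtop : Z ≠ ⊤ := fun h => hDne ((commutator_eq_bot_iff_center_eq_top (G := G)).mpr h)
    obtain ⟨g, hg⟩ : ∃ g : G, g ∉ Z := by
      by_contra hcon
      push Not at hcon
      exact hZtop (eq_top_iff.mpr fun x _ => hcon x)
    have hgc : ∀ x : G, ⁅g, x⁆ ∈ Z := fun x =>
      hDZ (Subgroup.commutator_mem_commutator (Subgroup.mem_top g) (Subgroup.mem_top x))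
    set φ := commHom g hgc with hφ
    have hZker : Z ≤ φ.ker := by
      intro z hz
      rw [mem_commHom_ker]
      exact (Subgroup.mem_center_iff.mp hz g)
    have hgker : g ∈ φ.ker := by rw [mem_commHom_ker]
    have hkertop : φ.ker ≠ ⊤ := by
      intro h
      apply hg
      rw [Subgroup.mem_center_iff]
      intro x
      have : x ∈ φ.ker := h ▸ Subgroup.mem_top x
      rw [mem_commHom_ker] at this
      exact this.symm
    -- `Z ⊔ ⟨g⟩` has order `≥ p ^ 3`
    obtain ⟨kz, hkz4, hkz⟩ := card_eq_pow_of_le hcard Z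
    obtain ⟨kb, hkb4, hkb⟩ := card_eq_pow_of_le hcard (Z ⊔ Subgroup.zpowers g)
    obtain ⟨kk, hkk4, hkk⟩ := card_eq_pow_of_le hcard φ.ker
    have hkz2 : 2 ≤ kz := by
      have := Subgroup.card_le_of_le hDZ
      rw [hD, hkz] at this
      exact (Nat.pow_le_pow_iff_right hp1).mp this
    have hlt1 : Nat.card Z < Nat.card (Z ⊔ Subgroup.zpowers g : Subgroup G) := by
      by_contra hcon
      have := Subgroup.eq_of_le_of_card_ge (le_sup_left : Z ≤ Z ⊔ Subgroup.zpowers g) (not_lt.mp hcon)
      apply hg
      rw [this]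
      exact le_sup_right (a := Z) (Subgroup.mem_zpowers g)
    have hkb3 : 3 ≤ kb := by
      rw [hkz, hkb] at hlt1
      have := hpowlt hlt1
      omega
    have hle2 : Z ⊔ Subgroup.zpowers g ≤ φ.ker := sup_le hZker (by rw [Subgroup.zpowers_le]; exact hgker)
    have hkk3 : kk = 3 := by
      have h1 := Subgroup.card_le_of_le hle2
      rw [hkb, hkk] at h1
      have h2 := (Nat.pow_le_pow_iff_right hp1).mp h1
      have h3 : kk ≠ 4 := by
        rintro rfl
        exact hkertop (Subgroup.eq_top_of_card_eq _ (by rw [hkk, hcard]))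
      omega
    subst hkk3
    have hBeq : Z ⊔ Subgroup.zpowers g = φ.ker := by
      apply Subgroup.eq_of_le_of_card_ge hle2
      rw [hkk, hkb]
      exact Nat.pow_le_pow_right hp0 hkb3
    have hkidx : φ.ker.index = p := by
      have := index_of_card_p4 hcard φ.ker (k := 3) (by norm_num) hkk
      simpa using this
    have hrcard : Nat.card φ.range = p := by rw [← Subgroup.index_ker, hkidx]
    have hrZ : φ.range ≤ Z := by
      rintro _ ⟨x, rfl⟩
      exact hgc x
    have hrn : φ.range.Normal := by
      constructor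
      intro n hn x
      have := Subgroup.mem_center_iff.mp (hrZ hn) x
      rw [this, mul_assoc, mul_inv_cancel, mul_one]
      exact hn
    obtain ⟨t, ht⟩ : ∃ t : G, t ∉ φ.ker := by
      by_contra hcon
      push Not at hcon
      exact hkertop (eq_top_iff.mpr fun x _ => hcon x)
    have hcl : Subgroup.closure (({t, g} : Set G) ∪ (Z : Set G)) = ⊤ := by
      apply eq_top_of_index_prime φ.ker _ ?_ hkidx t ?_ ht
      · rw [← hBeq]
        apply sup_le
        · exact fun z hz => Subgroup.subset_closure (Or.inr hz)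
        · rw [Subgroup.zpowers_le]
          exact Subgroup.subset_closure (Or.inl (by simp))
      · exact Subgroup.subset_closure (Or.inl (by simp))
    have hle := commutator_le_of_closure φ.range _ hcl (by
      intro x hx y hy
      have hcen : ∀ z ∈ Z, ∀ w : G, ⁅z, w⁆ ∈ φ.range ∧ ⁅w, z⁆ ∈ φ.range := by
        intro z hz w
        have h1 : ⁅z, w⁆ = 1 := commutatorElement_eq_one_iff_mul_comm.mpr (Subgroup.mem_center_iff.mp hz w).symm
        have h2 : ⁅w, z⁆ = 1 := commutatorElement_eq_one_iff_mul_comm.mpr (Subgroup.mem_center_iff.mp hz w)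
        rw [h1, h2]
        exact ⟨Subgroup.one_mem _, Subgroup.one_mem _⟩
      have hgt : ⁅g, t⁆ ∈ φ.range := ⟨t, rfl⟩
      have htg : ⁅t, g⁆ ∈ φ.range := by
        rw [← commutatorElement_inv]
        exact Subgroup.inv_mem _ hgt
      rcases hx with hx | hx
      · rcases hy with hy | hy
        · rcases hx with rfl | rfl <;> rcases hy with rfl | rfl
          · rw [commutatorElement_self]; exact Subgroup.one_mem _
          · exact htg
          · exact hgt
          · rw [commutatorElement_self]; exact Subgroup.one_mem _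
        · exact (hcen y hy x).2
      · exact (hcen x hx y).1)
    have := Subgroup.card_le_of_le hle
    rw [hD, hrcard] at this
    nlinarith
  -- (B2)
  have hDn : D.Normal := hDinv.normal
  set L := D ⊓ Z with hLdef
  have hLinv : AutInv L := hDinv.inf hZinv
  have hLn : L.Normal := hLinv.normal
  have hLne : L ≠ ⊥ := Cfsg.Agent.S0065.result D hDne
  have hLD : L ≤ D := inf_le_left
  have hLZ : L ≤ Z := inf_le_right
  have hLcard : Nat.card L = p := by
    obtain ⟨k, hk2, hk⟩ := (Nat.dvd_prime_pow hp.out).mp (hD ▸ Subgroup.card_dvd_of_le hLD)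
    interval_cases k
    · exact absurd (Subgroup.card_eq_one.mp (by rw [hk, pow_zero])) hLne
    · rw [hk, pow_one]
    · exfalso
      apply hB1
      have : L = D := Subgroup.eq_of_le_of_card_ge hLD (by rw [hk, hD])
      rw [← this]
      exact hLZ
  have hLidx : L.index = p ^ 3 := index_of_card_p4 hcard L (k := 1) (by norm_num) (by rw [hLcard, pow_one])
  have hDidx : D.index = p ^ 2 := index_of_card_p4 hcard D (k := 2) (by norm_num) hD
  have hrel : L.relIndex D = p := by
    have := Subgroup.relIndex_mul_index hLD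
    rw [hLidx, hDidx] at this
    have h' : L.relIndex D * p ^ 2 = p * p ^ 2 := by rw [this]; ring
    exact Nat.eq_of_mul_eq_mul_right (pow_pos hp0 2) h'
  -- (B3)
  obtain ⟨d₀, hd₀D, hd₀L⟩ : ∃ d₀ ∈ D, d₀ ∉ L := by
    by_contra hcon
    push Not at hcon
    have : D ≤ L := hcon
    exact hB1 (this.trans hLZ)
  have hd₀c : ∀ x : G, ⁅d₀, x⁆ ∈ L := by
    intro x
    have hconj : (MulAut.conj x) ^ (p ^ 4) = 1 := by
      rw [← map_pow, ← hcard, pow_card_eq_one', map_one]
    have h1 := inv_mul_apply_mem_of_relIndex_prime L D hrel (MulAut.conj x)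
      (fun y hy => hLinv _ y hy) (fun y hy => hDinv _ y hy) 4 hconj d₀ hd₀D
    rw [MulAut.conj_apply] at h1
    have h2 : ⁅d₀, x⁆ = d₀ * (d₀⁻¹ * (x * d₀ * x⁻¹))⁻¹ * d₀⁻¹ := by
      rw [commutatorElement_def]; group
    rw [h2]
    exact hLn.conj_mem _ (L.inv_mem h1) d₀
  set ψ := commHom d₀ (fun x => hLZ (hd₀c x)) with hψ
  have hψr : ψ.range ≤ L := by
    rintro _ ⟨x, rfl⟩
    exact hd₀c x
  have hDsup : L ⊔ Subgroup.zpowers d₀ = D := by
    have hle : L ⊔ Subgroup.zpowers d₀ ≤ D := sup_le hLD (by rw [Subgroup.zpowers_le]; exact hd₀D)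
    apply Subgroup.eq_of_le_of_card_ge hle
    obtain ⟨k, hk2, hk⟩ := (Nat.dvd_prime_pow hp.out).mp (hD ▸ Subgroup.card_dvd_of_le hle)
    have hlt : Nat.card L < Nat.card (L ⊔ Subgroup.zpowers d₀ : Subgroup G) := by
      by_contra hcon
      have := Subgroup.eq_of_le_of_card_ge (le_sup_left : L ≤ L ⊔ Subgroup.zpowers d₀) (not_lt.mp hcon)
      apply hd₀L
      rw [this]
      exact le_sup_right (a := L) (Subgroup.mem_zpowers d₀)
    rw [hLcard, hk] at hlt
    have : 1 < k := hpowlt (by rwa [pow_one])
    have hk2' : k = 2 := by omega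
    rw [hD, hk, hk2']
  have hkerM : ψ.ker ≤ Subgroup.centralizer (D : Set G) := by
    intro x hx
    rw [mem_commHom_ker] at hx
    rw [Subgroup.mem_centralizer_iff]
    intro y hy
    have hy' : y ∈ L ⊔ Subgroup.zpowers d₀ := hDsup ▸ hy
    have hle : L ⊔ Subgroup.zpowers d₀ ≤ Subgroup.centralizer ({x} : Set G) := by
      apply sup_le
      · intro z hz
        rw [Subgroup.mem_centralizer_singleton_iff]
        exact (Subgroup.mem_center_iff.mp (hLZ hz) x).symm
      · rw [Subgroup.zpowers_le, Subgroup.mem_centralizer_singleton_iff]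
        exact hx
    have := hle hy'
    rw [Subgroup.mem_centralizer_singleton_iff] at this
    exact this
  have hMtop : Subgroup.centralizer (D : Set G) ≠ ⊤ := by
    intro h
    apply hB1
    rw [Subgroup.centralizer_eq_top_iff_subset] at h
    exact h
  have hMidx : (Subgroup.centralizer (D : Set G)).index = p := by
    have h1 : (Subgroup.centralizer (D : Set G)).index ∣ ψ.ker.index := Subgroup.index_dvd_of_le hkerM
    rw [Subgroup.index_ker] at h1
    have h2 : Nat.card ψ.range ∣ p := hLcard ▸ Subgroup.card_dvd_of_le hψr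
    rcases (Nat.dvd_prime hp.out).mp (h1.trans h2) with h | h
    · exact absurd (Subgroup.index_eq_one.mp h) hMtop
    · exact h
  have hDcomm : IsMulCommutative D := IsPGroup.isMulCommutative_of_card_eq_prime_sq hD
  have hDM : D ≤ Subgroup.centralizer (D : Set G) := Subgroup.le_centralizer_iff_isMulCommutative.mpr hDcomm
  exact false_of_autInv_chain hcard A E hE _ D L hDinv.centralizer hDinv hLinv hDM hLD hMidx hDidx hLidx

end Cfsg.Agent.Lib.Helper86
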