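/-
ASCHU-[RATSYS] (project ASCHU = S5663, coordinator helper70): a linear system `A_k X B_k = μ_k X` with
coefficients in a subfield `F₁` and a nonzero solution over `F` has a nonzero `F₁`-rational solution.
-/
import Mathlib
import Cfsg.Prelude.Def_GeometricClasses
import Cfsg.Agent.Lib.Helper99.AschDefs
import Cfsg.Agent.Lib.Helper70.AschU.Defs
import Cfsg.Agent.Lib.Helper37.Asch.FormKit2

set_option autoImplicit false

namespace Cfsg.Agent.Lib.Helper86.AschURatsys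

variable {F : Type*} [Field F]

/-- an additive map `Φ : F → F` with values in `F₁`, `F₁`-linear, and nonzero at a given `x ≠ 0` -/
theorem exists_functional (F₁ : Subfield F) (x : F) (hx : x ≠ 0) :
    ∃ Φ : F →+ F, (∀ y, Φ y ∈ F₁) ∧ (∀ a ∈ F₁, ∀ y, Φ (a * y) = a * Φ y) ∧ Φ x ≠ 0 := by
  classical
  let b := Module.Free.chooseBasis (↥F₁) F
  have hrepr : b.repr x ≠ 0 := by
    intro h
    exact hx (b.repr.map_eq_zero_iff.mp h)
  obtain ⟨t, ht⟩ := Finsupp.ne_iff.mp hrepr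
  refine ⟨(F₁.subtype : ↥F₁ →+* F).toAddMonoidHom.comp (b.coord t).toAddMonoidHom, ?_, ?_, ?_⟩
  · intro y
    exact (b.coord t y).2
  · intro a ha y
    have h1 : a * y = (⟨a, ha⟩ : ↥F₁) • y := by
      simp [Subfield.smul_def]
    simp only [AddMonoidHom.coe_comp, Function.comp_apply, LinearMap.toAddMonoidHom_coe,
      RingHom.toAddMonoidHom_eq_coe, AddMonoidHom.coe_coe, Subfield.coe_subtype]
    rw [h1, map_smul, smul_eq_mul]
    rfl
  · simp only [AddMonoidHom.coe_comp, Function.comp_apply, LinearMap.toAddMonoidHom_coe,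
      RingHom.toAddMonoidHom_eq_coe, AddMonoidHom.coe_coe, Subfield.coe_subtype, ne_eq,
      ZeroMemClass.coe_eq_zero]
    rw [Module.Basis.coord_apply]
    simpa using ht

/-- `Φ` commutes with multiplication by `F₁`-rational matrices on both sides -/
theorem map_mul_mul {ι : Type} [Fintype ι] [DecidableEq ι] (F₁ : Subfield F) (Φ : F →+ F)
    (hΦ : ∀ a ∈ F₁, ∀ y, Φ (a * y) = a * Φ y) (A B J : Matrix ι ι F)
    (hA : ∀ i j, A i j ∈ F₁) (hB : ∀ i j, B i j ∈ F₁) :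
    A * J.map Φ * B = (A * J * B).map Φ := by
  ext i j
  rw [Matrix.map_apply, Matrix.mul_apply, Matrix.mul_apply, map_sum]
  apply Finset.sum_congr rfl
  intro m _
  have e1 : Φ ((A * J) i m * B m j) = Φ ((A * J) i m) * B m j := by
    rw [mul_comm, hΦ _ (hB m j), mul_comm]
  have e2 : (A * J.map Φ) i m = Φ ((A * J) i m) := by
    rw [Matrix.mul_apply, Matrix.mul_apply, map_sum]
    apply Finset.sum_congr rfl
    intro l _
    rw [Matrix.map_apply, hΦ _ (hA i l)]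
  rw [e1, e2]

end Cfsg.Agent.Lib.Helper86.AschURatsys

namespace Cfsg.Agent.Lib.Helper70.AschU

open Cfsg Cfsg.Geo Cfsg.Agent.Lib.Helper99.Asch Cfsg.Agent.Lib.Helper37.Asch
open scoped MatrixGroups Matrix Kronecker

variable {n : ℕ} {F : Type*} [Field F] [Fintype F] {q : ℕ} {σ : F ≃+* F}

/-- ASCHU-[RATSYS] -/
theorem exists_rational_solution {ι : Type} [Fintype ι] [DecidableEq ι] (F₁ : Subfield F) {κ : Type*}
    (A B : κ → Matrix ι ι F) (μ : κ → F) (hA : ∀ k i j, A k i j ∈ F₁) (hB : ∀ k i j, B k i j ∈ F₁)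
    (hμ : ∀ k, μ k ∈ F₁) (J : Matrix ι ι F) (hJ : J ≠ 0) (h : ∀ k, A k * J * B k = μ k • J) :
    ∃ J₁ : Matrix ι ι F, J₁ ≠ 0 ∧ (∀ i j, J₁ i j ∈ F₁) ∧ ∀ k, A k * J₁ * B k = μ k • J₁ := by
  have hex : ∃ i j, J i j ≠ 0 := by
    by_contra hne
    push Not at hne
    apply hJ
    ext i j
    exact hne i j
  obtain ⟨i₀, j₀, hij⟩ := hex
  obtain ⟨Φ, hΦ1, hΦ2, hΦ3⟩ := Cfsg.Agent.Lib.Helper86.AschURatsys.exists_functional F₁ (J i₀ j₀) hij
  refine ⟨J.map Φ, ?_, ?_, ?_⟩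
  · intro h0
    apply hΦ3
    have := congrFun (congrFun h0 i₀) j₀
    simpa using this
  · intro i j
    exact hΦ1 _
  · intro k
    rw [Cfsg.Agent.Lib.Helper86.AschURatsys.map_mul_mul F₁ Φ hΦ2 (A k) (B k) J (hA k) (hB k), h k]
    ext i j
    rw [Matrix.map_apply, Matrix.smul_apply, Matrix.smul_apply, Matrix.map_apply, smul_eq_mul,
      smul_eq_mul, hΦ2 _ (hμ k)]

end Cfsg.Agent.Lib.Helper70.AschU
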