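import Mathlib
import Cfsg.Agent.Lib.Helper53.SpReg.Defs
import Cfsg.Agent.Lib.Helper53.SpReg.Act
import Cfsg.Agent.Lib.Helper13.Symp
import Cfsg.Agent.Lib.Helper13.SympGen

/-!
helper86: project S2281 (helper53), module [END], core: all root elements in `H` ⇒ `H = ⊤`, with the facts of the
modules [CALC-COMM] (`conj_tauE`), [CALC-SUM] (`tauE_sum_mem`), [GRAM] (`gram_zero`), [BASIS] (`avec_span`) as
hypotheses.
-/

set_option autoImplicit false

namespace Cfsg.Agent.Lib.Helper86.SpReg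

open Matrix Cfsg.Agent.Lib.Helper53.SpReg Cfsg.Agent.Lib.Helper13

variable {n : ℕ} {F : Type*} [Field F]

/-- Abstract endgame: two totally isotropic subspaces `W₁`, `W₂` spanning everything, all of whose vectors give
transvections in `H`. -/
theorem eq_top_of_isotropic (H : Subgroup (Matrix.symplecticGroup (Fin n) F))
    (hconj : ∀ (g : Matrix.symplecticGroup (Fin n) F) (x : Fin n ⊕ Fin n → F) (s : F),
      g * tauE x s * g⁻¹ = tauE ((g : Matrix (Fin n ⊕ Fin n) (Fin n ⊕ Fin n) F) *ᵥ x) s)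
    (W₁ W₂ : Submodule F (Fin n ⊕ Fin n → F))
    (hP₁ : ∀ y ∈ W₁, ∀ t : F, tauE y t ∈ H) (hP₂ : ∀ z ∈ W₂, ∀ t : F, tauE z t ∈ H)
    (hiso₁ : ∀ y ∈ W₁, ∀ y' ∈ W₁, Cfsg.sympForm n F y y' = 0)
    (hiso₂ : ∀ z ∈ W₂, ∀ z' ∈ W₂, Cfsg.sympForm n F z z' = 0)
    (hsup : ∀ x : Fin n ⊕ Fin n → F, ∃ y ∈ W₁, ∃ z ∈ W₂, x = y + z) : H = ⊤ := by
  -- `P x`: all transvections with centre `x` lie in `H`
  -- Case A
  have hA : ∀ y z : Fin n ⊕ Fin n → F, (∀ t : F, tauE y t ∈ H) → (∀ t : F, tauE z t ∈ H) →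
      Cfsg.sympForm n F y z ≠ 0 → ∀ t : F, tauE (y + z) t ∈ H := by
    intro y z hy hz hne t
    have h1 : ((tauE z (Cfsg.sympForm n F y z)⁻¹ : Matrix.symplecticGroup (Fin n) F) :
        Matrix (Fin n ⊕ Fin n) (Fin n ⊕ Fin n) F) *ᵥ y = y + z := by
      rw [tauE_mulVec, inv_mul_cancel₀ hne, one_smul]
    rw [← h1, ← hconj]
    exact H.mul_mem (H.mul_mem (hz _) (hy t)) (H.inv_mem (hz _))
  have hall : ∀ (x : Fin n ⊕ Fin n → F) (t : F), tauE x t ∈ H := by
    intro x
    obtain ⟨y, hy, z, hz, rfl⟩ := hsup x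
    by_cases hyz : Cfsg.sympForm n F y z = 0
    · by_cases hy0 : y = 0
      · rw [hy0, zero_add]; exact hP₂ z hz
      · -- find `z' ∈ W₂` with `B(y, z') ≠ 0`
        obtain ⟨z', hz', hne⟩ : ∃ z' ∈ W₂, Cfsg.sympForm n F y z' ≠ 0 := by
          by_contra hcon
          push Not at hcon
          apply hy0
          apply sympForm_left_nondeg
          intro v
          obtain ⟨y₁, hy₁, z₁, hz₁, rfl⟩ := hsup v
          rw [sympForm_add_right, hiso₁ y hy y₁ hy₁, hcon z₁ hz₁, add_zero]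
        have hx' : ∀ t : F, tauE (y + z') t ∈ H := hA y z' (hP₁ y hy) (hP₂ z' hz') hne
        have hw : z - z' ∈ W₂ := W₂.sub_mem hz hz'
        have hne' : Cfsg.sympForm n F (y + z') (z - z') ≠ 0 := by
          rw [sympForm_add_left, sympForm_sub_right, sympForm_sub_right, hyz, hiso₂ z' hz' z hz,
            hiso₂ z' hz' z' hz']
          simpa using hne
        have := hA (y + z') (z - z') hx' (hP₂ _ hw) hne'
        have e : y + z' + (z - z') = y + z := by abel
        rwa [e] at this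
    · exact hA y z (hP₁ y hy) (hP₂ z hz) hyz
  rw [eq_top_iff, ← tvGroup_eq_top n F]
  unfold tvGroup
  rw [Subgroup.closure_le]
  rintro A ⟨w, c, hA'⟩
  have : A = tauE w c := Subtype.ext (by rw [hA']; rfl)
  rw [this]
  exact hall w c

/-- Core of [END]. -/
theorem eq_top_of_roots_of {u : Matrix.symplecticGroup (Fin n) F} {a : Fin n ⊕ Fin n → F}
    (H : Subgroup (Matrix.symplecticGroup (Fin n) F))
    (hT : ∀ (k : ℤ) (s : F), tauE (avec u a k) s ∈ H)
    (hS : ∀ (j k : ℤ), j ≠ k → |j - k| < (n : ℤ) → ∀ s : F,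
      sigE (avec u a j) (avec u a k) s ∈ H)
    (hconj : ∀ (g : Matrix.symplecticGroup (Fin n) F) (x : Fin n ⊕ Fin n → F) (s : F),
      g * tauE x s * g⁻¹ = tauE ((g : Matrix (Fin n ⊕ Fin n) (Fin n ⊕ Fin n) F) *ᵥ x) s)
    (hsum : ∀ (b : Fin n → (Fin n ⊕ Fin n → F)), (∀ i j, Cfsg.sympForm n F (b i) (b j) = 0) →
      (∀ i t, tauE (b i) t ∈ H) → (∀ i j, i ≠ j → ∀ t, sigE (b i) (b j) t ∈ H) →
      ∀ (s : Finset (Fin n)) (p : Fin n → F) (t : F), tauE (∑ i ∈ s, p i • b i) t ∈ H)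
    (hgram : ∀ j k : ℤ, |j - k| < (n : ℤ) → Cfsg.sympForm n F (avec u a j) (avec u a k) = 0)
    (hspan : ∀ x : Fin n ⊕ Fin n → F, ∃ p q : Fin n → F,
      x = ∑ i : Fin n, p i • avec u a ((i : ℕ) : ℤ) +
        ∑ i : Fin n, q i • avec u a ((n : ℤ) + ((i : ℕ) : ℤ))) : H = ⊤ := by
  -- a window of `n` consecutive vectors
  have hwin : ∀ (k₀ : ℤ),
      (∀ y ∈ Submodule.span F (Set.range fun i : Fin n => avec u a (k₀ + ((i : ℕ) : ℤ))),
        ∀ t : F, tauE y t ∈ H) ∧
      (∀ y ∈ Submodule.span F (Set.range fun i : Fin n => avec u a (k₀ + ((i : ℕ) : ℤ))),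
        ∀ y' ∈ Submodule.span F (Set.range fun i : Fin n => avec u a (k₀ + ((i : ℕ) : ℤ))),
          Cfsg.sympForm n F y y' = 0) := by
    intro k₀
    have hlt : ∀ i j : Fin n, |(k₀ + ((i : ℕ) : ℤ)) - (k₀ + ((j : ℕ) : ℤ))| < (n : ℤ) := by
      intro i j
      have hi := i.2
      have hj := j.2
      rw [abs_lt]
      constructor <;> omega
    have horth : ∀ i j : Fin n, Cfsg.sympForm n F (avec u a (k₀ + ((i : ℕ) : ℤ)))
        (avec u a (k₀ + ((j : ℕ) : ℤ))) = 0 := fun i j => hgram _ _ (hlt i j)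
    constructor
    · intro y hy t
      rw [Submodule.mem_span_range_iff_exists_fun] at hy
      obtain ⟨p, rfl⟩ := hy
      apply hsum (fun i : Fin n => avec u a (k₀ + ((i : ℕ) : ℤ))) horth (fun i t => hT _ t)
      intro i j hij t
      apply hS _ _ _ (hlt i j)
      intro h
      apply hij
      apply Fin.ext
      omega
    · intro y hy y' hy'
      rw [Submodule.mem_span_range_iff_exists_fun] at hy hy'
      obtain ⟨p, rfl⟩ := hy
      obtain ⟨p', rfl⟩ := hy'
      have hleft : ∀ (v : Fin n ⊕ Fin n → F) (s : Finset (Fin n)),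
          (∀ i : Fin n, Cfsg.sympForm n F (avec u a (k₀ + ((i : ℕ) : ℤ))) v = 0) →
          Cfsg.sympForm n F (∑ i ∈ s, p i • avec u a (k₀ + ((i : ℕ) : ℤ))) v = 0 := by
        intro v s hv
        induction s using Finset.induction_on with
        | empty => rw [Finset.sum_empty, sympForm_zero_left]
        | insert i s hi ih =>
          rw [Finset.sum_insert hi, sympForm_add_left, sympForm_smul_left, hv i, ih, mul_zero, add_zero]
      have hright : ∀ (v : Fin n ⊕ Fin n → F) (s : Finset (Fin n)),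
          (∀ i : Fin n, Cfsg.sympForm n F v (avec u a (k₀ + ((i : ℕ) : ℤ))) = 0) →
          Cfsg.sympForm n F v (∑ i ∈ s, p' i • avec u a (k₀ + ((i : ℕ) : ℤ))) = 0 := by
        intro v s hv
        induction s using Finset.induction_on with
        | empty => rw [Finset.sum_empty, sympForm_zero_right]
        | insert i s hi ih =>
          rw [Finset.sum_insert hi, sympForm_add_right, sympForm_smul_right, hv i, ih, mul_zero, add_zero]
      exact hleft _ Finset.univ (fun i => hright _ Finset.univ (fun j => horth i j))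
  obtain ⟨hP₁, hiso₁⟩ := hwin 0
  obtain ⟨hP₂, hiso₂⟩ := hwin (n : ℤ)
  apply eq_top_of_isotropic H hconj _ _ hP₁ hP₂ hiso₁ hiso₂
  intro x
  obtain ⟨p, q, hx⟩ := hspan x
  refine ⟨∑ i : Fin n, p i • avec u a ((i : ℕ) : ℤ), ?_, ∑ i : Fin n, q i • avec u a ((n : ℤ) + ((i : ℕ) : ℤ)),
    ?_, hx⟩
  · rw [Submodule.mem_span_range_iff_exists_fun]
    exact ⟨p, by simp⟩
  · rw [Submodule.mem_span_range_iff_exists_fun]
    exact ⟨q, rfl⟩

end Cfsg.Agent.Lib.Helper86.SpReg
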