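import Mathlib
import Cfsg.Agent.Lib.Helper86.SpRegEndCore
import Cfsg.Agent.Lib.Helper14.SpRegCalcComm
import Cfsg.Agent.Lib.Helper93.SpRegCalcSum
import Cfsg.Agent.Lib.Helper11.SpRegGram
import Cfsg.Agent.Lib.Helper93.SpRegBasis

/-!
helper86: project S2281 (helper53), module [END]: all root elements in `H` ⇒ `H = ⊤`.
-/

set_option autoImplicit false

namespace Cfsg.Agent.Lib.Helper86.SpReg

open Matrix Cfsg.Agent.Lib.Helper53.SpReg Cfsg.Agent.Lib.Helper13

variable {n : ℕ} {F : Type*} [Field F]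

/-- MODULE S2281-[END] -/
theorem eq_top_of_roots {u : Matrix.symplecticGroup (Fin n) F} {a : Fin n ⊕ Fin n → F}
    (hp : GoodPair u a) (H : Subgroup (Matrix.symplecticGroup (Fin n) F))
    (hT : ∀ (k : ℤ) (s : F), tauE (avec u a k) s ∈ H)
    (hS : ∀ (j k : ℤ), j ≠ k → |j - k| < (n : ℤ) → ∀ s : F,
      sigE (avec u a j) (avec u a k) s ∈ H) : H = ⊤ :=
  eq_top_of_roots_of H hT hS
    (fun g x s => Cfsg.Agent.Lib.Helper14.SpReg.conj_tauE g x s)
    (fun b horth hT' hS' s p t => Cfsg.Agent.Lib.Helper93.SpReg.tauE_sum_mem H b horth hT' hS' s p t)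
    (fun j k h => Cfsg.Agent.Lib.Helper11.SpReg.gram_zero hp j k h)
    (fun x => Cfsg.Agent.Lib.Helper93.SpReg.avec_span hp x)

end Cfsg.Agent.Lib.Helper86.SpReg
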