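import Cfsg.Agent.Lib.Helper86.CenterIndexTwoMain
import Cfsg.Agent.Lib.Helper1.PGroupMax
import Cfsg.Agent.Lib.Helper24.PGroupBasic

/-! Essential subgroups have exponent `p` once the centre has order `p`; commutators lie in the Frattini subgroup
(helper86). -/

set_option autoImplicit false
open Cfsg

namespace Cfsg.Agent.Lib.Helper86

open scoped commutatorElement

/-- Commutators lie in the Frattini subgroup of a finite `p`-group. -/
theorem comm_mem_frattini_of_isPGroup {P : Type*} [Group P] [Finite P] {p : ℕ} [Fact p.Prime]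
    (hP : IsPGroup p P) (x y : P) : ⁅x, y⁆ ∈ frattini P := by
  unfold frattini Order.radical
  rw [Subgroup.mem_iInf]
  intro M
  rw [Subgroup.mem_iInf]
  intro hM
  have hM : IsCoatom M := hM
  have hn : M.Normal := Cfsg.Agent.Lib.Helper1.coatom_normal_of_isPGroup hP hM
  have hi : M.index = p := Cfsg.Agent.Lib.Helper1.coatom_index_of_isPGroup hP hM
  have hcard : Nat.card (P ⧸ M) = p := by rw [← hi]; rfl
  have hcyc : IsCyclic (P ⧸ M) := isCyclic_of_prime_card hcard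
  rw [← QuotientGroup.eq_one_iff]
  have h1 : ((⁅x, y⁆ : P) : P ⧸ M) = ⁅(x : P ⧸ M), (y : P ⧸ M)⁆ :=
    map_commutatorElement (QuotientGroup.mk' M) x y
  rw [h1, commutatorElement_eq_one_iff_commute]
  let _ := IsCyclic.commGroup (α := P ⧸ M)
  exact Commute.all _ _

theorem essential_omega {Ω : Type*} [Group Ω] {S : Subgroup Ω} [Finite S] (p : ℕ) [Fact p.Prime]
    (hS : IsPGroup p S) (F : Cfsg.FusionSystem S) (hF : F.IsSaturated p)
    (W : Subgroup Ω) (hWcard : Nat.card W = p) (hWZ : W ≤ S ⊓ Subgroup.centralizer (S : Set Ω))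
    (hcomm : ∀ x ∈ S, ∀ y ∈ S, ⁅x, y⁆ ∈ W)
    (hZidx : (S ⊓ Subgroup.centralizer (S : Set Ω)).relIndex S = p ^ 2)
    (hZW : S ⊓ Subgroup.centralizer (S : Set Ω) = W)
    (E : Subgroup Ω) (hE : F.IsEssential p E) :
    E ≤ S ∧ (∀ e ∈ E, e ^ p = 1) ∧ E.relIndex S = p := by
  classical
  have hpp : p.Prime := Fact.out
  obtain ⟨s, t, hsS, hsE, hES, hZSE, hidxE, hts, hab, hdecS, htA, ht1, htW, htfix, hfix, hsyl, hnn, hextend⟩ :=
    essential_transvection p hS F hF W hWcard hWZ hcomm hZidx E hE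
  refine ⟨hES, ?_, hidxE.2⟩
  have hEfin : Finite E := Finite.of_injective (Subgroup.inclusion hES) (Subgroup.inclusion_injective hES)
  have hEp : IsPGroup p E := hS.to_le hES
  have hWE : W ≤ E := hWZ.trans hZSE
  have hW'card : Nat.card (W.subgroupOf E) = p := by
    rw [Nat.card_congr (Subgroup.subgroupOfEquivOfLe hWE).toEquiv, hWcard]
  have hWp : ∀ w ∈ W.subgroupOf E, w ^ p = 1 := by
    intro w hw
    have : (⟨w, hw⟩ : W.subgroupOf E) ^ Nat.card (W.subgroupOf E) = 1 := pow_card_eq_one'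
    rw [hW'card] at this
    exact congrArg Subtype.val this
  have hpowW : ∀ e : E, e ^ p ∈ W.subgroupOf E := by
    intro e
    obtain ⟨d, hd⟩ : ∃ d, d = e⁻¹ * t e := ⟨_, rfl⟩
    have hdW : d ∈ W.subgroupOf E := hd ▸ htW e
    have hte : t e = e * d := by rw [hd]; group
    have h1 : t (e ^ p) = e ^ p := by
      rw [map_pow, hte, (show Commute e d from hab e d).mul_pow, hWp d hdW, mul_one]
    have h2 := (hfix (e ^ p)).mp h1
    rw [hZW] at h2
    exact Subgroup.mem_subgroupOf.mpr h2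
  by_contra hcon
  push Not at hcon
  obtain ⟨e₀, he₀, he₀p⟩ := hcon
  have hw₀1 : (⟨e₀, he₀⟩ : E) ^ p ≠ 1 := fun h => he₀p (congrArg (Subtype.val : E → Ω) h)
  let iC : CommGroup E := { (inferInstance : Group E) with mul_comm := hab }
  obtain ⟨σ, hσA, hσ⟩ := hnn
  apply hσ
  refine @conj_mem_zpowers_of_centre_le_axis' E iC _ p _ hEp (F.autGroup E) t htA ht1 (W.subgroupOf E) hWp htW htfix
    hsyl σ hσA (fun w hw => ?_)
  apply htfix
  have h1' : (⟨(⟨e₀, he₀⟩ : E) ^ p, hpowW ⟨e₀, he₀⟩⟩ : W.subgroupOf E) ≠ 1 := fun h => hw₀1 (congrArg Subtype.val h)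
  obtain ⟨k, hk⟩ := mem_powers_of_prime_card (G := W.subgroupOf E) hW'card (g := ⟨_, hpowW ⟨e₀, he₀⟩⟩)
    (g' := ⟨w, hw⟩) h1'
  have hk' : ((⟨e₀, he₀⟩ : E) ^ p) ^ k = w := by simpa using congrArg Subtype.val hk
  rw [← hk', map_pow, map_pow]
  exact Subgroup.pow_mem _ (hpowW (σ ⟨e₀, he₀⟩)) k

end Cfsg.Agent.Lib.Helper86
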