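import Mathlib
import Cfsg.Agent.Lib.Helper76.ReeWCycSub

set_option autoImplicit false

namespace Cfsg.Agent.Lib.Helper86.ReeW

open Cfsg.Agent.Lib.Helper76.ReeW

/-- Elements of a cyclic subgroup commute. -/
theorem comm_of_isCyclic {G : Type*} [Group G] (A : Subgroup G) (hA : IsCyclic ↥A) :
    ∀ a ∈ A, ∀ b ∈ A, a * b = b * a := by
  intro a ha b hb
  have : IsCyclic ↥A := hA
  have h := (IsCyclic.commGroup (α := ↥A)).mul_comm ⟨a, ha⟩ ⟨b, hb⟩
  exact congrArg Subtype.val h

/-! ## [W-CONJ] -/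
theorem conj_of_cyclic_of_comm_centralizers {G : Type*} [Group G] [Finite G] (d : ℕ)
    (hcyc : ∀ p : ℕ, p.Prime → p ∣ d → ∀ R : Subgroup G, IsPGroup p ↥R → IsCyclic ↥R)
    (hcomm : ∀ x : G, (orderOf x).Prime → orderOf x ∣ d →
      ∀ y z : G, y * x = x * y → z * x = x * z → y * z = z * y)
    (A B : Subgroup G) (hA : IsCyclic ↥A) (hB : IsCyclic ↥B) (hAd : Nat.card ↥A = d) (hBd : Nat.card ↥B = d) :
    ∃ g : G, B = A.map (MulAut.conj g).toMonoidHom := by
  classical
  by_cases hd1 : d = 1
  · refine ⟨1, ?_⟩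
    have hAbot : A = ⊥ := Subgroup.eq_bot_of_card_eq A (by rw [hAd, hd1])
    have hBbot : B = ⊥ := Subgroup.eq_bot_of_card_eq B (by rw [hBd, hd1])
    rw [hAbot, hBbot, Subgroup.map_bot]
  · obtain ⟨p, hp, hpd⟩ := Nat.exists_prime_and_dvd hd1
    have : Fact p.Prime := ⟨hp⟩
    obtain ⟨x, hx⟩ := exists_prime_orderOf_dvd_card' (G := ↥A) p (by rw [hAd]; exact hpd)
    obtain ⟨y, hy⟩ := exists_prime_orderOf_dvd_card' (G := ↥B) p (by rw [hBd]; exact hpd)
    have hxo : orderOf (x : G) = p := by rw [Subgroup.orderOf_coe]; exact hx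
    have hyo : orderOf (y : G) = p := by rw [Subgroup.orderOf_coe]; exact hy
    have hxp : IsPGroup p ↥(Subgroup.zpowers (x : G)) :=
      IsPGroup.of_card (n := 1) (by rw [Nat.card_zpowers, hxo, pow_one])
    have hyp : IsPGroup p ↥(Subgroup.zpowers (y : G)) :=
      IsPGroup.of_card (n := 1) (by rw [Nat.card_zpowers, hyo, pow_one])
    obtain ⟨P, hP⟩ := hxp.exists_le_sylow
    obtain ⟨Q, hQ⟩ := hyp.exists_le_sylow
    obtain ⟨g, hg⟩ := MulAction.exists_smul_eq G P Q
    have hgxQ : g * (x : G) * g⁻¹ ∈ (Q : Subgroup G) := by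
      rw [← hg, Sylow.smul_def]
      have : g * (x : G) * g⁻¹ = MulAut.conj g • (x : G) := by simp [MulAut.smul_def]
      rw [this]
      exact Subgroup.smul_mem_pointwise_smul _ _ _ (hP (Subgroup.mem_zpowers (x : G)))
    have hyQ : (y : G) ∈ (Q : Subgroup G) := hQ (Subgroup.mem_zpowers (y : G))
    have hQcyc : IsCyclic ↥(Q : Subgroup G) := hcyc p hp hpd Q Q.isPGroup'
    have hgxo : orderOf (g * (x : G) * g⁻¹) = p := by
      have : g * (x : G) * g⁻¹ = MulAut.conj g (x : G) := by simp
      rw [this, MulEquiv.orderOf_eq, hxo]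
    -- the two subgroups of order p in Q agree
    have hzp : Subgroup.zpowers (g * (x : G) * g⁻¹) = Subgroup.zpowers (y : G) := by
      apply eq_of_card_eq_of_comm (Q : Subgroup G) (comm_of_isCyclic _ hQcyc) p
      · intro r hr hrp R hR
        have : r = p := (Nat.prime_dvd_prime_iff_eq hr hp).1 hrp
        subst this
        exact hcyc r hr hpd R hR
      · rw [Subgroup.zpowers_le]; exact hgxQ
      · rw [Subgroup.zpowers_le]; exact hyQ
      · exact Subgroup.isCyclic_zpowers _
      · exact Subgroup.isCyclic_zpowers _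
      · rw [Nat.card_zpowers, hgxo]
      · rw [Nat.card_zpowers, hyo]
    refine ⟨g, ?_⟩
    set A' : Subgroup G := A.map (MulAut.conj g).toMonoidHom with hA'
    have hA'cyc : IsCyclic ↥A' := by
      have e : ↥A ≃* ↥A' := A.equivMapOfInjective _ (MulAut.conj g).injective
      have : IsCyclic ↥A := hA
      exact isCyclic_of_surjective e e.surjective
    have hA'card : Nat.card ↥A' = d := by
      rw [← hAd]
      exact (Nat.card_congr (A.equivMapOfInjective _ (MulAut.conj g).injective).toEquiv).symm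
    have hgxA' : g * (x : G) * g⁻¹ ∈ A' := by
      rw [hA', Subgroup.mem_map]
      exact ⟨(x : G), x.2, by simp⟩
    have hyA' : (y : G) ∈ A' := by
      have : (y : G) ∈ Subgroup.zpowers (g * (x : G) * g⁻¹) := by
        rw [hzp]; exact Subgroup.mem_zpowers _
      exact (Subgroup.zpowers_le.2 hgxA') this
    -- D = C(y) is commutative
    have hD : ∀ a ∈ Subgroup.centralizer ({(y : G)} : Set G),
        ∀ b ∈ Subgroup.centralizer ({(y : G)} : Set G), a * b = b * a := by
      intro a ha b hb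
      rw [Subgroup.mem_centralizer_iff] at ha hb
      have ha' := ha (y : G) (Set.mem_singleton _)
      have hb' := hb (y : G) (Set.mem_singleton _)
      exact hcomm (y : G) (by rw [hyo]; exact hp) (by rw [hyo]; exact hpd) a b ha'.symm hb'.symm
    have hA'D : A' ≤ Subgroup.centralizer ({(y : G)} : Set G) := by
      intro a ha
      rw [Subgroup.mem_centralizer_iff]
      intro h hh
      rw [Set.mem_singleton_iff.1 hh]
      exact comm_of_isCyclic A' hA'cyc _ hyA' _ ha
    have hBD : B ≤ Subgroup.centralizer ({(y : G)} : Set G) := by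
      intro a ha
      rw [Subgroup.mem_centralizer_iff]
      intro h hh
      rw [Set.mem_singleton_iff.1 hh]
      exact comm_of_isCyclic B hB _ y.2 _ ha
    exact (eq_of_card_eq_of_comm _ hD d hcyc A' B hA'D hBD hA'cyc hB hA'card hBd).symm

end Cfsg.Agent.Lib.Helper86.ReeW
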