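import Cfsg.Agent.Lib.Helper86.PSUFusM

/-!
# `PSU_n(q)`: no proper nontrivial subgroup of the unipotent subgroup is closed under fusion; the
data for simplicity of the fusion system (helper86)
-/

set_option autoImplicit false
set_option linter.unusedSectionVars false

namespace Cfsg.Agent.Lib.Helper86.PSUFus

open Matrix Cfsg.Agent.S0837 Cfsg.Agent.S0781 Cfsg.Agent.S2644 Cfsg.Agent.Lib.Helper37
  Cfsg.Agent.Lib.Helper45.PSUAut Cfsg.Agent.Lib.Helper45.PSLAut
  Cfsg.Agent.Lib.Helper86.FusSimple Cfsg.Agent.Lib.Helper98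

variable {F : Type*} [Field F] [Fintype F] {q n : ℕ} {σ : F →+* F}
  {P : Matrix (Fin n) (Fin n) F}

/-- every Siegel element of `UJ` is conjugate to an element of the point radical -/
theorem sS_mem_T' (hW : WF σ P) (hS : Frob σ q) (hn : 3 ≤ n) {T : Subgroup (Cfsg.PSU n F q)}
    (hT : FusionCyclicQuot.FusClosed T (UBar hW)) {i₀ : Fin n} (hi₀ : i₀ ≠ Fin.rev i₀)
    (hQ : QS (σ := σ) (q := q) (bb P i₀) ≤ T.comap (prjU n F q))
    {e' u' : Fin n → F} {c' : F} (hv : SV σ e' u' c') (he0 : e' ≠ 0)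
    (hU : sS hS e' u' c' ∈ UJ hW) : sS hS e' u' c' ∈ T.comap (prjU n F q) := by
  obtain ⟨t, ht, htb⟩ := rel_isotropic σ hS.ne hS.invol hn (bb P i₀) e'
    (hW.bb_ne_zero i₀) he0 (hW.iso_bb hi₀) hv.iso
  set s := suOfTG hS t ht with hs
  have hsb : s.1.1 *ᵥ bb P i₀ = e' := by
    rw [hs, suOfTG_mat]
    exact htb
  have hsb' : (s⁻¹).1.1 *ᵥ e' = bb P i₀ := by
    rw [← hsb, su_inv_mulVec_mulVec]
  have hv₀ : SV σ (bb P i₀) ((s⁻¹).1.1 *ᵥ u') c' := by
    have := hv.conj hS s⁻¹
    rwa [hsb'] at this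
  have hconj := conj_sS hS s hv₀
  rw [hsb, su_mulVec_inv_mulVec] at hconj
  rw [← hconj]
  apply sc_lift hW hT (hQ (sS_mem_QS hS hv₀))
  rw [hconj]
  exact hU

/-- fixing the first `k` frame vectors and their partners -/
def FixK (P : Matrix (Fin n) (Fin n) F) (k : ℕ) (g : ↥(Cfsg.SU n F q)) : Prop :=
  ∀ i : Fin n, i.val < k →
    g.1.1 *ᵥ bb P i = bb P i ∧ g.1.1 *ᵥ bb P (Fin.rev i) = bb P (Fin.rev i)

theorem eq_one_of_fixK (hW : WF σ P) (hS : Frob σ q) {g : ↥(Cfsg.SU n F q)} (hg : g ∈ UJ hW)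
    {k : ℕ} (hk : FixK P k g) (hnk : n ≤ 2 * k + 1) : g = 1 := by
  have hfix : ∀ j : Fin n, j.val < k ∨ (Fin.rev j).val < k → g.1.1 *ᵥ bb P j = bb P j := by
    intro j hj
    rcases hj with h | h
    · exact (hk j h).1
    · have := (hk (Fin.rev j) h).2
      rwa [Fin.rev_rev] at this
  have hall : ∀ j : Fin n, g.1.1 *ᵥ bb P j = bb P j := by
    intro j
    by_cases hj : j.val < k ∨ (Fin.rev j).val < k
    · exact hfix j hj
    · push Not at hj
      apply hW.ext_co
      intro i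
      by_cases hij : i = j
      · rw [hij, (mem_UJ hW).1 hg j j le_rfl, if_pos rfl, hW.co_bb, if_pos rfl]
      · have hi : (Fin.rev i).val < k ∨ (Fin.rev (Fin.rev i)).val < k := by
          rw [Fin.rev_rev]
          have e1 := Fin.val_rev i
          have e2 := Fin.val_rev j
          have : i.val ≠ j.val := fun h => hij (Fin.ext h)
          have := i.2
          have := j.2
          omega
        have h1 := hfix (Fin.rev i) hi
        have h2 : co σ P i (g.1.1 *ᵥ bb P j) =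
            hf σ (g.1.1 *ᵥ bb P j) (g.1.1 *ᵥ bb P (Fin.rev i)) := by
          rw [h1]
          rfl
        rw [h2, su_pres hS]
        rfl
  apply su_ext
  intro x
  rw [su_one_mulVec]
  conv_lhs => rw [hW.expand x]
  rw [Matrix.mulVec_sum]
  conv_rhs => rw [hW.expand x]
  apply Finset.sum_congr rfl
  intro j _
  rw [Matrix.mulVec_smul, hall j]

/-- peeling off one layer of `UJ` -/
theorem exists_layer (hW : WF σ P) (hS : Frob σ q) {g : ↥(Cfsg.SU n F q)} (hg : g ∈ UJ hW)
    {kk : Fin n} (hk : FixK P kk.val g) (hlt : kk.val < (Fin.rev kk).val) :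
    ∃ (w : Fin n → F) (c : F), SV σ (bb P kk) w c ∧ sS hS (bb P kk) w c ∈ UJ hW ∧
      FixK P (kk.val + 1) ((sS hS (bb P kk) w c)⁻¹ * g) := by
  have hne := ne_rev_of_lt hlt
  have hp := hW.hp_bb hne
  have hrk := Fin.val_rev kk
  set e := bb P kk with he
  set f := bb P (Fin.rev kk) with hf'
  -- (i)
  have hge : g.1.1 *ᵥ e = e := by
    rw [← sub_eq_zero]
    apply hW.eq_zero_of_inV_zero
    intro i _
    by_cases hi : kk.val ≤ i.val
    · exact inV_of_mem_UJ hW hg kk i hi
    · push Not at hi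
      have h1 := (hk i hi).2
      rw [co_sub]
      have h2 : co σ P i (g.1.1 *ᵥ e) = hf σ (g.1.1 *ᵥ e) (g.1.1 *ᵥ bb P (Fin.rev i)) := by
        rw [h1]
        rfl
      rw [h2, su_pres hS]
      exact sub_self _
  -- (ii)
  set y := g.1.1 *ᵥ f with hy
  have hye : hf σ y e = 1 := by
    conv_lhs => rw [← hge]
    rw [hy, su_pres hS, hp.vu]
  have hyy : hf σ y y = 0 := by rw [hy, su_pres hS, hp.vv]
  set w := pr σ e f y with hw
  set c := hf σ y f with hc
  have hwW : InW σ e f w := InW.of_pr hS hp y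
  have hv : SV σ e w c := by
    refine ⟨hp.uu, hwW.1, ?_⟩
    have h1 := hf_decomp hS hp y y
    rw [hyy, hye, map_one, mul_one, one_mul] at h1
    linear_combination -h1
  have hwdef : w = y - c • e - (1 : F) • f := by
    rw [hw, pr, hye]
  have hsf : (sS hS e w c).1.1 *ᵥ f = y := by
    rw [sS_f hS hp hwW hv, hwdef]
    module
  -- (iii)
  have hyU : ∀ i : Fin n, (Fin.rev kk).val ≤ i.val →
      co σ P i y = if i = Fin.rev kk then 1 else 0 := by
    intro i hi
    exact (mem_UJ hW).1 hg i (Fin.rev kk) (Fin.le_def.mpr hi)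
  have hwV : InV σ P (Fin.rev kk).val w := by
    intro i hi
    rw [hwdef, co_sub, co_sub, co_smul, co_smul, hyU i hi, he, hf', hW.co_bb, hW.co_bb]
    have h1 : i ≠ kk := by
      intro h
      rw [h] at hi
      omega
    rw [if_neg h1, mul_zero, sub_zero, one_mul, sub_self]
  have hsU : sS hS e w c ∈ UJ hW := sS_mem_UJ hW hS hlt hwV hv
  refine ⟨w, c, hv, hsU, ?_⟩
  -- (iv)
  have hinv : ∀ x : Fin n → F, (sS hS e w c).1.1 *ᵥ x = x → ((sS hS e w c)⁻¹).1.1 *ᵥ x = x := by
    intro x hx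
    conv_lhs => rw [← hx]
    exact su_inv_mulVec_mulVec _ _
  have hwx : ∀ x : Fin n → F, hf σ x e = 0 → hf σ x f = 0 → hf σ x y = 0 → hf σ x w = 0 := by
    intro x h1 h2 h3
    rw [hwdef, hf_sub_right, hf_sub_right, hf_smul_right, hf_smul_right, h1, h2, h3]
    ring
  intro i hi
  by_cases hik : i = kk
  · rw [hik]
    constructor
    · rw [su_mul_mulVec, hge]
      exact hinv _ (sS_mulVec_self hS hv)
    · rw [su_mul_mulVec, ← hy, ← hsf, su_inv_mulVec_mulVec]
  · have hi' : i.val < kk.val := by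
      have : i.val ≠ kk.val := fun h => hik (Fin.ext h)
      omega
    have hri := Fin.val_rev i
    obtain ⟨hg1, hg2⟩ := hk i hi'
    constructor
    · rw [su_mul_mulVec, hg1]
      apply hinv
      have h1 : hf σ (bb P i) e = 0 := by
        rw [he, hW.gram_bb, if_neg]
        intro h
        have := congrArg Fin.val h
        omega
      have h2 : hf σ (bb P i) f = 0 := by
        rw [hf', hW.gram_bb, if_neg]
        intro h
        exact hne (by
          have := Fin.rev_inj.mp h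
          exact absurd this.symm hik)
      have h3 : hf σ (bb P i) y = 0 := by
        conv_lhs => rw [← hg1]
        rw [hy, su_pres hS]
        exact h2
      exact sS_fix hS h1 (hwx _ h1 h2 h3)
    · rw [su_mul_mulVec, hg2]
      apply hinv
      have h1 : hf σ (bb P (Fin.rev i)) e = 0 := by
        rw [he, hW.gram_bb, Fin.rev_rev, if_neg (Ne.symm hik)]
      have h2 : hf σ (bb P (Fin.rev i)) f = 0 := by
        rw [hf', hW.gram_bb, Fin.rev_rev, if_neg]
        intro h
        have := congrArg Fin.val h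
        omega
      have h3 : hf σ (bb P (Fin.rev i)) y = 0 := by
        conv_lhs => rw [← hg2]
        rw [hy, su_pres hS]
        exact h2
      exact sS_fix hS h1 (hwx _ h1 h2 h3)

/-- once all Siegel elements of `UJ` lie in `T'`, so does all of `UJ` -/
theorem UJ_le_of_sS_mem (hW : WF σ P) (hS : Frob σ q) {T' : Subgroup ↥(Cfsg.SU n F q)}
    (hsS : ∀ (e' u' : Fin n → F) (c' : F), SV σ e' u' c' → e' ≠ 0 → sS hS e' u' c' ∈ UJ hW →
      sS hS e' u' c' ∈ T') : UJ hW ≤ T' := by
  have key : ∀ (d k : ℕ), d + k = n / 2 → ∀ g : ↥(Cfsg.SU n F q), g ∈ UJ hW → FixK P k g →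
      g ∈ T' := by
    intro d
    induction d with
    | zero =>
      intro k hk g hg hfix
      rw [eq_one_of_fixK hW hS hg hfix (by omega)]
      exact one_mem _
    | succ d ih =>
      intro k hk g hg hfix
      set kk : Fin n := ⟨k, by omega⟩ with hkk
      have hkv : kk.val = k := rfl
      have hlt : kk.val < (Fin.rev kk).val := by
        rw [Fin.val_rev, hkv]
        omega
      obtain ⟨w, c, hv, hsU, hfix'⟩ := exists_layer hW hS hg (kk := kk) hfix hlt
      have h1 := hsS _ _ _ hv (hW.bb_ne_zero kk) hsU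
      have h2 := ih (k + 1) (by omega) _ (mul_mem (inv_mem hsU) hg) hfix'
      have : g = sS hS (bb P kk) w c * ((sS hS (bb P kk) w c)⁻¹ * g) := by
        rw [mul_inv_cancel_left]
      rw [this]
      exact mul_mem h1 h2
  intro g hg
  exact key (n / 2) 0 (by omega) g hg (fun i hi => absurd hi (Nat.not_lt_zero _))

theorem closed_UBar (hW : WF σ P) (hS : Frob σ q) (hF : Fintype.card F = q ^ 2) (hn : 4 ≤ n)
    (p : ℕ) [Fact p.Prime] [CharP F p] (T : Subgroup (Cfsg.PSU n F q)) (hTS : T ≤ UBar hW)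
    (hT : FusionCyclicQuot.FusClosed T (UBar hW)) : T = ⊥ ∨ T = UBar hW := by
  by_cases hTbot : T = ⊥
  · exact Or.inl hTbot
  right
  apply le_antisymm hTS
  have hn0 : 0 < n := by omega
  set i₀ : Fin n := ⟨0, hn0⟩ with hi₀
  have h0 : i₀.val = 0 := rfl
  have hlt : i₀.val < (Fin.rev i₀).val := by
    rw [rev_first_val h0, h0]
    omega
  have hne := ne_rev_of_lt hlt
  obtain ⟨a, ha0, ha, haT⟩ := exists_tS_mem hW hS hF (by omega) p h0 hTS hT hTbot
  have hts : ∀ (v : Fin n → F) (c : F), hf σ v v = 0 → c + σ c = 0 → tS hS v c ∈ UJ hW →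
      tS hS v c ∈ T.comap (prjU n F q) :=
    fun v c hv hc hU => all_tS_mem hW hS (by omega) hne hT ha0 ha haT hv hc hU
  have hQ := QS_le_T' hW hS hn hT h0 hts
  have hU := UJ_le_of_sS_mem hW hS (T' := T.comap (prjU n F q))
    (fun e' u' c' hv he0 hU => sS_mem_T' hW hS (by omega) hT hne hQ hv he0 hU)
  rintro _ ⟨u, hu, rfl⟩
  exact hU hu

theorem UBar_ne_bot (hW : WF σ P) (hS : Frob σ q) (hF : Fintype.card F = q ^ 2) (hn : 4 ≤ n) :
    UBar (q := q) hW ≠ ⊥ := by
  intro h
  have hn0 : 0 < n := by omega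
  set i₀ : Fin n := ⟨0, hn0⟩ with hi₀
  have h0 : i₀.val = 0 := rfl
  have hlt : i₀.val < (Fin.rev i₀).val := by
    rw [rev_first_val h0, h0]
    omega
  have hne := ne_rev_of_lt hlt
  obtain ⟨ε, hε0, hε⟩ := exists_trace_zero_ne σ hS.ne hS.invol
  have h1 : prjU n F q (tS hS (bb P i₀) ε) ∈ UBar hW :=
    Subgroup.mem_map_of_mem _ (tS_mem_UJ hW hS hlt hε)
  rw [h, Subgroup.mem_bot] at h1
  exact tb_ne_one hF hS (by omega) (hW.bb_ne_zero i₀) (hW.iso_bb hne) hε0 hε h1

/-- The data for the simplicity of the `p`-fusion system of `PSU_n(q)` on the image of the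
unipotent subgroup. -/
theorem simpleData_UBar (hW : WF σ P) (hS : Frob σ q) (hF : Fintype.card F = q ^ 2)
    (hn : 4 ≤ n) (p : ℕ) [Fact p.Prime] [CharP F p] : SimpleData p (UBar (q := q) hW) :=
  ⟨UBar_ne_bot hW hS hF hn, closed_UBar hW hS hF hn p, normalizer_UBar_le hW hS hF hn p⟩

end Cfsg.Agent.Lib.Helper86.PSUFus
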