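import Mathlib
import Cfsg.Agent.Lib.Helper91.TwOut.Defs

/-!
helper86: project TWOUT (helper91), module [A-SL2GEN]: `SL₂(F) = ⟨sx, sy⟩`.
-/

set_option autoImplicit false

namespace Cfsg.Agent.Lib.Helper86.TwOut

open Cfsg Cfsg.Agent.Lib.Helper91.TwOut

/-- A matrix of `SL₂(F)` with nonzero lower-left entry is `sx u * sy c * sx v`. -/
theorem sl2_eq_of_ne {F : Type*} [Field F] (A : Matrix.SpecialLinearGroup (Fin 2) F)
    (hc : (A : Matrix (Fin 2) (Fin 2) F) 1 0 ≠ 0) :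
    A = sx (((A : Matrix (Fin 2) (Fin 2) F) 0 0 - 1) / (A : Matrix (Fin 2) (Fin 2) F) 1 0) *
      sy ((A : Matrix (Fin 2) (Fin 2) F) 1 0) *
      sx (((A : Matrix (Fin 2) (Fin 2) F) 1 1 - 1) / (A : Matrix (Fin 2) (Fin 2) F) 1 0) := by
  have hdet : (A : Matrix (Fin 2) (Fin 2) F) 0 0 * (A : Matrix (Fin 2) (Fin 2) F) 1 1 -
      (A : Matrix (Fin 2) (Fin 2) F) 0 1 * (A : Matrix (Fin 2) (Fin 2) F) 1 0 = 1 := by
    have := A.2
    rwa [Matrix.det_fin_two] at this
  apply Subtype.ext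
  rw [Matrix.SpecialLinearGroup.coe_mul, Matrix.SpecialLinearGroup.coe_mul, coe_sx, coe_sy, coe_sx]
  ext i j
  fin_cases i <;> fin_cases j <;>
    simp [Matrix.mul_apply, Fin.sum_univ_two] <;>
    (try field_simp) <;>
    first
      | ring1
      | linear_combination hdet
      | linear_combination (-1 : F) * hdet

/-- [A-SL2GEN] (abstract, Mathlib only) -/
theorem sl2_closure {F : Type*} [Field F] :
    Subgroup.closure (Set.range (sx : F → Matrix.SpecialLinearGroup (Fin 2) F) ∪ Set.range sy) = ⊤ := by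
  rw [Subgroup.eq_top_iff']
  have hx : ∀ t : F, sx t ∈ Subgroup.closure
      (Set.range (sx : F → Matrix.SpecialLinearGroup (Fin 2) F) ∪ Set.range sy) :=
    fun t => Subgroup.subset_closure (Or.inl ⟨t, rfl⟩)
  have hy : ∀ t : F, sy t ∈ Subgroup.closure
      (Set.range (sx : F → Matrix.SpecialLinearGroup (Fin 2) F) ∪ Set.range sy) :=
    fun t => Subgroup.subset_closure (Or.inr ⟨t, rfl⟩)
  have key : ∀ A : Matrix.SpecialLinearGroup (Fin 2) F, (A : Matrix (Fin 2) (Fin 2) F) 1 0 ≠ 0 →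
      A ∈ Subgroup.closure (Set.range (sx : F → Matrix.SpecialLinearGroup (Fin 2) F) ∪ Set.range sy) := by
    intro A hA
    rw [sl2_eq_of_ne A hA]
    exact Subgroup.mul_mem _ (Subgroup.mul_mem _ (hx _) (hy _)) (hx _)
  intro A
  by_cases hc : (A : Matrix (Fin 2) (Fin 2) F) 1 0 = 0
  · -- multiply by `sy 1`
    have hdet : (A : Matrix (Fin 2) (Fin 2) F) 0 0 * (A : Matrix (Fin 2) (Fin 2) F) 1 1 -
        (A : Matrix (Fin 2) (Fin 2) F) 0 1 * (A : Matrix (Fin 2) (Fin 2) F) 1 0 = 1 := by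
      have := A.2
      rwa [Matrix.det_fin_two] at this
    have ha : (A : Matrix (Fin 2) (Fin 2) F) 0 0 ≠ 0 := by
      intro h0
      rw [h0, hc] at hdet
      simp at hdet
    have h1 : ((sy 1 * A : Matrix.SpecialLinearGroup (Fin 2) F) : Matrix (Fin 2) (Fin 2) F) 1 0 ≠ 0 := by
      rw [Matrix.SpecialLinearGroup.coe_mul, coe_sy]
      simp [Matrix.mul_apply, Fin.sum_univ_two, hc, ha]
    have h2 := key (sy 1 * A) h1
    have : A = (sy (1 : F))⁻¹ * (sy 1 * A) := by group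
    rw [this]
    exact Subgroup.mul_mem _ (Subgroup.inv_mem _ (hy 1)) h2
  · exact key A hc

end Cfsg.Agent.Lib.Helper86.TwOut
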