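import Cfsg.Agent.Lib.Helper45.PSLAut.SylowT2
import Cfsg.Agent.Lib.Helper45.PSLAut.Steinberg

/-!
# Unitriangular matrices: generation by transvections, normalizer (helper86)
-/

set_option autoImplicit false
set_option linter.unusedSectionVars false

namespace Cfsg.Agent.Lib.Helper86.PSLFus

open Matrix Cfsg.Agent.Lib.Helper45.PSLAut

variable {F : Type*} [Field F] [Finite F] {n : ℕ}

/-- A transvection `1 + v φᵀ` with `v i φ j = 0` for `j ≤ i` is upper unitriangular. -/
theorem tv_mem_UU {v φ : Fin n → F} (h : ∀ i j : Fin n, j ≤ i → v i * φ j = 0) :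
    tv v φ ∈ UU n F := by
  have h0 : φ ⬝ᵥ v = 0 := by
    rw [dotProduct]
    apply Finset.sum_eq_zero
    intro i _
    rw [mul_comm]
    exact h i i le_rfl
  rw [mem_UU]
  intro i j hji
  rw [tv_coe h0, tvMat_apply, h i j hji, add_zero]

/-- The transvection subtracting the strictly upper part of column `k`. -/
theorem tv_col_mem_UU (k : Fin n) (w : Fin n → F) (hw : ∀ i : Fin n, k ≤ i → w i = 0) :
    tv w (eb k) ∈ UU n F := by
  apply tv_mem_UU
  intro i j hji
  by_cases hj : j = k
  · subst hj
    rw [hw i hji, zero_mul]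
  · rw [eb_apply, if_neg hj, mul_zero]

/-- `U` is generated by the transvections `1 + w e_kᵀ`, `w` supported above `k`. -/
theorem UU_le_of_tv_mem (T : Subgroup (SpecialLinearGroup (Fin n) F))
    (hT : ∀ (k : Fin n) (w : Fin n → F), (∀ i : Fin n, k ≤ i → w i = 0) → tv w (eb k) ∈ T) :
    UU n F ≤ T := by
  have key : ∀ c : ℕ, ∀ u ∈ UU n F,
      (∀ i j : Fin n, c ≤ j.val → (u : Matrix (Fin n) (Fin n) F) i j =
        (1 : Matrix (Fin n) (Fin n) F) i j) → u ∈ T := by
    intro c
    induction c with
    | zero =>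
      intro u _ hu
      have : u = 1 := by
        apply sl_ext
        ext i j
        rw [hu i j (Nat.zero_le _), Matrix.SpecialLinearGroup.coe_one]
      rw [this]
      exact T.one_mem
    | succ c ih =>
      intro u hu hcol
      by_cases hc : c < n
      · set k : Fin n := ⟨c, hc⟩ with hk
        set w : Fin n → F := fun i => if i < k then (u : Matrix (Fin n) (Fin n) F) i k else 0 with hw
        have hw0 : ∀ i : Fin n, k ≤ i → w i = 0 := by
          intro i hi
          simp only [hw, if_neg (not_lt.mpr hi)]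
        have htT : tv w (eb k) ∈ T := hT k w hw0
        have htU : tv w (eb k) ∈ UU n F := tv_col_mem_UU k w hw0
        have h0 : (eb k : Fin n → F) ⬝ᵥ w = 0 := by
          rw [eb_dot, hw0 k le_rfl]
        set u' := (tv w (eb k))⁻¹ * u with hu'
        have hu'U : u' ∈ UU n F := (UU n F).mul_mem ((UU n F).inv_mem htU) hu
        have hu'T : u' ∈ T := by
          apply ih u' hu'U
          intro i j hj
          have hentry : (u' : Matrix (Fin n) (Fin n) F) i j =
              (u : Matrix (Fin n) (Fin n) F) i j - w i * (u : Matrix (Fin n) (Fin n) F) k j := by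
            rw [hu', tv_inv h0, Matrix.SpecialLinearGroup.coe_mul,
              tv_coe (by rw [neg_dotProduct, h0, neg_zero]), tvMat, add_mul, one_mul,
              vecMulVec_mul, Matrix.add_apply, vecMulVec_apply, neg_vecMul, Pi.neg_apply, vecMul_eb]
            ring
          rw [hentry]
          rcases Nat.eq_or_lt_of_le hj with hjc | hjc
          · have hjk : j = k := Fin.ext hjc.symm
            rw [hjk, (mem_UU.1 hu) k k le_rfl, one_apply_eq, mul_one]
            by_cases hi : i < k
            · simp only [hw, if_pos hi, sub_self]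
              rw [one_apply_ne (ne_of_lt hi)]
            · rw [hw0 i (not_lt.mp hi), sub_zero]
              exact (mem_UU.1 hu) i k (not_lt.mp hi)
          · have hkj : k ≠ j := by
              intro h
              rw [← h] at hjc
              exact lt_irrefl _ hjc
            rw [hcol i j hjc, hcol k j hjc, one_apply_ne hkj, mul_zero, sub_zero]
        have : u = tv w (eb k) * u' := by rw [hu', mul_inv_cancel_left]
        rw [this]
        exact T.mul_mem htT hu'T
      · apply ih u hu
        intro i j hj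
        exact absurd (lt_of_le_of_lt hj j.2) hc
  intro u hu
  exact key n u hu (fun i j hj => absurd j.2 (not_lt.mpr hj))



theorem sl_inv_mul_coe (s : SpecialLinearGroup (Fin n) F) :
    ((s⁻¹ : SpecialLinearGroup (Fin n) F) : Matrix (Fin n) (Fin n) F) * (s : Matrix (Fin n) (Fin n) F) = 1 := by
  rw [← Matrix.SpecialLinearGroup.coe_mul, inv_mul_cancel, Matrix.SpecialLinearGroup.coe_one]

theorem sl_mul_inv_coe (s : SpecialLinearGroup (Fin n) F) :
    (s : Matrix (Fin n) (Fin n) F) * ((s⁻¹ : SpecialLinearGroup (Fin n) F) : Matrix (Fin n) (Fin n) F) = 1 := by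
  rw [← Matrix.SpecialLinearGroup.coe_mul, mul_inv_cancel, Matrix.SpecialLinearGroup.coe_one]

/-- The dot product needed to form the conjugate transvection. -/
theorem conj_dot (s : SpecialLinearGroup (Fin n) F) {v φ : Fin n → F} (h : φ ⬝ᵥ v = 0) :
    (φ ᵥ* ((s⁻¹ : SpecialLinearGroup (Fin n) F) : Matrix (Fin n) (Fin n) F)) ⬝ᵥ
      ((s : Matrix (Fin n) (Fin n) F) *ᵥ v) = 0 := by
  rw [← dotProduct_mulVec, mulVec_mulVec, sl_inv_mul_coe, one_mulVec, h]

/-- Conjugation of a transvection in `SL`. -/
theorem conj_tv (s : SpecialLinearGroup (Fin n) F) {v φ : Fin n → F} (h : φ ⬝ᵥ v = 0) :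
    s * tv v φ * s⁻¹ = tv ((s : Matrix (Fin n) (Fin n) F) *ᵥ v)
      (φ ᵥ* ((s⁻¹ : SpecialLinearGroup (Fin n) F) : Matrix (Fin n) (Fin n) F)) := by
  apply sl_ext
  rw [Matrix.SpecialLinearGroup.coe_mul, Matrix.SpecialLinearGroup.coe_mul, tv_coe h,
    tv_coe (conj_dot s h), tvMat, tvMat, mul_add, add_mul, mul_one, sl_mul_inv_coe, mul_vecMulVec,
    vecMulVec_mul]

/-- If conjugation by `s` maps the elementary transvections of `U` into `U`, then `s` is upper
triangular. -/
theorem upper_of_conj_mem (s : SpecialLinearGroup (Fin n) F)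
    (h : ∀ k l : Fin n, k < l → s * tv (eb k) (eb l) * s⁻¹ ∈ UU n F) :
    ∀ i k : Fin n, k < i → (s : Matrix (Fin n) (Fin n) F) i k = 0 := by
  set A : Matrix (Fin n) (Fin n) F := (s : Matrix (Fin n) (Fin n) F) with hA
  set B : Matrix (Fin n) (Fin n) F := ((s⁻¹ : SpecialLinearGroup (Fin n) F) : Matrix (Fin n) (Fin n) F) with hB
  have hBA : B * A = 1 := sl_inv_mul_coe s
  -- (★)
  have star : ∀ k l : Fin n, k < l → ∀ i j : Fin n, j ≤ i → A i k * B l j = 0 := by
    intro k l hkl i j hji
    have h0 : (eb l : Fin n → F) ⬝ᵥ (eb k) = 0 := eb_dot_eb_of_ne (ne_of_gt hkl)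
    have h1 := h k l hkl
    rw [conj_tv s h0, mem_UU] at h1
    have h2 := h1 i j hji
    rw [tv_coe (conj_dot s h0), tvMat_apply, mulVec_eb, vecMul_eb] at h2
    exact add_eq_left.mp h2
  -- choice of pivots
  have hex : ∀ l : Fin n, ∃ j : Fin n, B l j ≠ 0 ∧ A j l ≠ 0 := by
    intro l
    by_contra hcon
    push Not at hcon
    have h1 : (B * A) l l = 0 := by
      rw [Matrix.mul_apply]
      apply Finset.sum_eq_zero
      intro j _
      by_cases hb : B l j = 0
      · rw [hb, zero_mul]
      · rw [hcon j hb, mul_zero]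
    rw [hBA, one_apply_eq] at h1
    exact one_ne_zero h1
  choose jj hjB hjA using hex
  have hmono : StrictMono jj := by
    intro k l hkl
    by_contra hcon
    rw [not_lt] at hcon
    have := star k l hkl (jj k) (jj l) hcon
    rcases mul_eq_zero.mp this with h1 | h1
    · exact hjA k h1
    · exact hjB l h1
  have hid : ∀ l : Fin n, jj l = l := fun l => le_antisymm hmono.apply_le hmono.le_apply
  intro i k hki
  have := star k i hki i (jj i) (by rw [hid i])
  rcases mul_eq_zero.mp this with h1 | h1
  · exact h1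
  · exact absurd h1 (hjB i)

/-- A diagonal matrix of determinant one, as an element of `SL`. -/
def diagSL (D : Fin n → F) (hD : det (diagonal D) = 1) : SpecialLinearGroup (Fin n) F :=
  ⟨diagonal D, hD⟩

theorem diagSL_coe (D : Fin n → F) (hD : det (diagonal D) = 1) :
    (diagSL D hD : Matrix (Fin n) (Fin n) F) = diagonal D := rfl

/-- An upper triangular element of `SL` is a diagonal matrix times an upper unitriangular one. -/
theorem exists_diag_mul_of_upper (s : SpecialLinearGroup (Fin n) F)
    (h : ∀ i k : Fin n, k < i → (s : Matrix (Fin n) (Fin n) F) i k = 0) :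
    ∃ (D : Fin n → F) (hD : det (diagonal D) = 1) (u : SpecialLinearGroup (Fin n) F),
      u ∈ UU n F ∧ s = diagSL D hD * u := by
  set D : Fin n → F := fun i => (s : Matrix (Fin n) (Fin n) F) i i with hDdef
  have hdet : det (diagonal D) = 1 := by
    rw [det_diagonal]
    have h1 : (s : Matrix (Fin n) (Fin n) F).det = ∏ i, (s : Matrix (Fin n) (Fin n) F) i i := by
      apply det_of_isUpperTriangular
      intro i j hji
      exact h i j hji
    rw [← h1]
    exact s.2
  have hne : ∀ i, D i ≠ 0 := Matrix.SpecialLinearGroup.diagonal_neZero D hdet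
  have hdet' : det (diagonal (fun i => (D i)⁻¹)) = 1 := by
    rw [det_diagonal, Finset.prod_inv_distrib]
    rw [det_diagonal] at hdet
    rw [hdet, inv_one]
  set d : SpecialLinearGroup (Fin n) F := ⟨diagonal D, hdet⟩ with hd
  set d' : SpecialLinearGroup (Fin n) F := ⟨diagonal (fun i => (D i)⁻¹), hdet'⟩ with hd'
  have hdd' : d * d' = 1 := by
    apply sl_ext
    rw [Matrix.SpecialLinearGroup.coe_mul, Matrix.SpecialLinearGroup.coe_one]
    show diagonal D * diagonal (fun i => (D i)⁻¹) = 1
    rw [diagonal_mul_diagonal]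
    have : (fun i => D i * (D i)⁻¹) = fun _ => (1 : F) := by
      funext i
      exact mul_inv_cancel₀ (hne i)
    rw [this, diagonal_one]
  refine ⟨D, hdet, d' * s, ?_, ?_⟩
  · rw [mem_UU]
    intro i j hji
    rw [Matrix.SpecialLinearGroup.coe_mul]
    show (diagonal (fun i => (D i)⁻¹) * (s : Matrix (Fin n) (Fin n) F)) i j = _
    rw [diagonal_mul]
    rcases eq_or_lt_of_le hji with hij | hij
    · rw [hij, one_apply_eq]
      exact inv_mul_cancel₀ (hne i)
    · rw [h i j hij, mul_zero, one_apply_ne (ne_of_gt hij)]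
  · show s = d * (d' * s)
    rw [← mul_assoc, hdd', one_mul]



end Cfsg.Agent.Lib.Helper86.PSLFus
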