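import Cfsg.Agent.Lib.Helper86.PSLUnitriA
import Cfsg.Agent.Lib.Helper86.FusSimpleGens

/-!
# `PSL_n(F)`: normalizers of the transvection subgroups, `p`-elements (helper86)
-/

set_option autoImplicit false
set_option linter.unusedSectionVars false

namespace Cfsg.Agent.Lib.Helper86.PSLFus

open Matrix Cfsg.Agent.Lib.Helper45.PSLAut Cfsg.Agent.Lib.Helper86.FusSimple

variable {F : Type*} [Field F] [Finite F] {n : ℕ}

local notation "PSLn" => ProjectiveSpecialLinearGroup (Fin n) F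
local notation "SLn" => SpecialLinearGroup (Fin n) F

/-- The quotient map `SL → PSL`. -/
noncomputable def prj : SLn →* PSLn := QuotientGroup.mk' (Subgroup.center SLn)

theorem prj_apply (s : SLn) : prj s = (QuotientGroup.mk s : PSLn) := rfl

theorem prj_surjective : Function.Surjective (prj : SLn → PSLn) := QuotientGroup.mk'_surjective _

theorem prj_tv (v φ : Fin n → F) : prj (tv v φ) = tb v φ := rfl

/-- Conjugation of a transvection in `PSL`. -/
theorem conj_tb (s : SLn) {v φ : Fin n → F} (h : φ ⬝ᵥ v = 0) :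
    prj s * tb v φ * (prj s)⁻¹ = tb ((s : Matrix (Fin n) (Fin n) F) *ᵥ v)
      (φ ᵥ* ((s⁻¹ : SLn) : Matrix (Fin n) (Fin n) F)) := by
  rw [← prj_tv, ← prj_tv, ← map_inv, ← map_mul, ← map_mul, conj_tv s h]

theorem mem_normalizer_of_conj {G : Type*} [Group G] (H : Subgroup G) (g : G)
    (h1 : ∀ x ∈ H, g * x * g⁻¹ ∈ H) (h2 : ∀ x ∈ H, g⁻¹ * x * g ∈ H) :
    g ∈ Subgroup.normalizer (H : Set G) := by
  rw [Subgroup.mem_normalizer_iff]
  intro x
  refine ⟨h1 x, fun hx => ?_⟩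
  have := h2 _ hx
  simpa [mul_assoc] using this

theorem inv_mulVec_of_mulVec (s : SLn) {v : Fin n → F}
    (hv : (s : Matrix (Fin n) (Fin n) F) *ᵥ v = v) :
    ((s⁻¹ : SLn) : Matrix (Fin n) (Fin n) F) *ᵥ v = v := by
  conv_lhs => rw [← hv]
  rw [mulVec_mulVec, sl_inv_mul_coe, one_mulVec]

theorem vecMul_inv_of_vecMul (s : SLn) {φ : Fin n → F}
    (hφ : φ ᵥ* (s : Matrix (Fin n) (Fin n) F) = φ) :
    φ ᵥ* ((s⁻¹ : SLn) : Matrix (Fin n) (Fin n) F) = φ := by
  conv_lhs => rw [← hφ]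
  rw [vecMul_vecMul, sl_mul_inv_coe, vecMul_one]

theorem conj_mem_Acen (s : SLn) {v : Fin n → F}
    (hv : (s : Matrix (Fin n) (Fin n) F) *ᵥ v = v) :
    ∀ x ∈ Acen v, prj s * x * (prj s)⁻¹ ∈ Acen v := by
  rintro _ ⟨φ, h, rfl⟩
  rw [conj_tb s h]
  have := conj_dot s h
  rw [hv] at this ⊢
  exact ⟨_, this, rfl⟩

/-- An element of `SL` fixing `v` normalizes the group of transvections with centre `v`. -/
theorem prj_mem_normalizer_Acen (s : SLn) {v : Fin n → F}
    (hv : (s : Matrix (Fin n) (Fin n) F) *ᵥ v = v) :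
    prj s ∈ Subgroup.normalizer ((Acen v : Subgroup PSLn) : Set PSLn) := by
  apply mem_normalizer_of_conj _ _ (conj_mem_Acen s hv)
  intro x hx
  have := conj_mem_Acen s⁻¹ (inv_mulVec_of_mulVec s hv) x hx
  rwa [map_inv, inv_inv] at this

theorem conj_mem_Aax (s : SLn) {φ : Fin n → F}
    (hφ : φ ᵥ* (s : Matrix (Fin n) (Fin n) F) = φ) :
    ∀ x ∈ Aax φ, prj s * x * (prj s)⁻¹ ∈ Aax φ := by
  rintro _ ⟨v, h, rfl⟩
  rw [conj_tb s h]
  have := conj_dot s h
  rw [vecMul_inv_of_vecMul s hφ] at this ⊢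
  exact ⟨_, this, rfl⟩

/-- An element of `SL` fixing the linear form `φ` normalizes the group of transvections with
axis `φ`. -/
theorem prj_mem_normalizer_Aax (s : SLn) {φ : Fin n → F}
    (hφ : φ ᵥ* (s : Matrix (Fin n) (Fin n) F) = φ) :
    prj s ∈ Subgroup.normalizer ((Aax φ : Subgroup PSLn) : Set PSLn) := by
  apply mem_normalizer_of_conj _ _ (conj_mem_Aax s hφ)
  intro x hx
  have h1 : φ ᵥ* ((s⁻¹ : SLn) : Matrix (Fin n) (Fin n) F) = φ := vecMul_inv_of_vecMul s hφ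
  have := conj_mem_Aax s⁻¹ h1 x hx
  rwa [map_inv, inv_inv] at this

/-! ### `p`-elements -/

theorem tv_pow {v φ : Fin n → F} (h : φ ⬝ᵥ v = 0) (k : ℕ) : tv v φ ^ k = tv v (k • φ) := by
  induction k with
  | zero => rw [pow_zero, zero_smul, tv_zero_right]
  | succ k ih =>
    rw [pow_succ, ih, tv_mul_same_left (by rw [smul_dotProduct, h, smul_zero]) h, succ_nsmul]

theorem exists_orderOf_tv (p : ℕ) [Fact p.Prime] [CharP F p] {v φ : Fin n → F} (h : φ ⬝ᵥ v = 0) :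
    ∃ k : ℕ, orderOf (prj (tv v φ) : PSLn) = p ^ k := by
  have h1 : (prj (tv v φ) : PSLn) ^ p = 1 := by
    rw [← map_pow, tv_pow h]
    have : (p • φ : Fin n → F) = 0 := by
      funext i
      rw [Pi.smul_apply, nsmul_eq_mul, CharP.cast_eq_zero, zero_mul, Pi.zero_apply]
    rw [this, tv_zero_right, map_one]
  have h2 := orderOf_dvd_of_pow_eq_one h1
  rcases (Nat.dvd_prime (Fact.out : p.Prime)).1 h2 with h3 | h3
  · exact ⟨0, by rw [h3, pow_zero]⟩
  · exact ⟨1, by rw [h3, pow_one]⟩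

theorem transvection_mulVec_eb {i j i₀ : Fin n} (hij : i ≠ j) (hj : j ≠ i₀) (c : F) :
    ((Matrix.SpecialLinearGroup.transvection hij c : SLn) : Matrix (Fin n) (Fin n) F) *ᵥ eb i₀ = eb i₀ := by
  rw [← tv_eb_eq_transvection hij, tv_coe (by rw [dotProduct_smul, eb_dot_eb_of_ne hij.symm, smul_zero]),
    tvMat_mulVec, eb_dot_eb_of_ne hj, zero_smul, add_zero]

theorem vecMul_transvection_eb {i j j₀ : Fin n} (hij : i ≠ j) (hi : i ≠ j₀) (c : F) :
    (eb j₀ : Fin n → F) ᵥ* ((Matrix.SpecialLinearGroup.transvection hij c : SLn) : Matrix (Fin n) (Fin n) F) =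
      eb j₀ := by
  rw [← tv_eb_eq_transvection hij, tv_coe (by rw [dotProduct_smul, eb_dot_eb_of_ne hij.symm, smul_zero]),
    vecMul_tvMat, dotProduct_smul, eb_dot_eb_of_ne hi.symm, smul_zero, zero_smul, add_zero]

theorem prj_transvection_mem_pGen_Acen (p : ℕ) [Fact p.Prime] [CharP F p] {i j i₀ : Fin n}
    (hij : i ≠ j) (hj : j ≠ i₀) (c : F) :
    (prj (Matrix.SpecialLinearGroup.transvection hij c) : PSLn) ∈ pGen p (Acen (eb i₀ : Fin n → F)) := by
  apply Subgroup.subset_closure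
  refine ⟨prj_mem_normalizer_Acen _ (transvection_mulVec_eb hij hj c), ?_⟩
  rw [← tv_eb_eq_transvection hij]
  exact exists_orderOf_tv p (by rw [dotProduct_smul, eb_dot_eb_of_ne hij.symm, smul_zero])

theorem prj_transvection_mem_pGen_Aax (p : ℕ) [Fact p.Prime] [CharP F p] {i j j₀ : Fin n}
    (hij : i ≠ j) (hi : i ≠ j₀) (c : F) :
    (prj (Matrix.SpecialLinearGroup.transvection hij c) : PSLn) ∈ pGen p (Aax (eb j₀ : Fin n → F)) := by
  apply Subgroup.subset_closure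
  refine ⟨prj_mem_normalizer_Aax _ (vecMul_transvection_eb hij hi c), ?_⟩
  rw [← tv_eb_eq_transvection hij]
  exact exists_orderOf_tv p (by rw [dotProduct_smul, eb_dot_eb_of_ne hij.symm, smul_zero])

theorem prj_diag2n_mem_pGen_Acen (p : ℕ) [Fact p.Prime] [CharP F p] {i j i₀ : Fin n}
    (hij : i ≠ j) (hi : i ≠ i₀) (hj : j ≠ i₀) (a : F) (ha : a ≠ 0) :
    (prj (Matrix.SpecialLinearGroup.diag2n hij a ha) : PSLn) ∈ pGen p (Acen (eb i₀ : Fin n → F)) := by
  rw [Cfsg.Agent.Lib.Helper5.diag2n_eq_prod_transvection hij a ha]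
  simp only [map_mul]
  have h1 := fun c => prj_transvection_mem_pGen_Acen (F := F) p hij hj c
  have h2 := fun c => prj_transvection_mem_pGen_Acen (F := F) p hij.symm hi c
  exact mul_mem (h1 _) (mul_mem (h2 _) (mul_mem (h1 _) (mul_mem (h1 _) (mul_mem (h2 _) (h1 _)))))

theorem prj_diag2n_mem_pGen_Aax (p : ℕ) [Fact p.Prime] [CharP F p] {i j j₀ : Fin n}
    (hij : i ≠ j) (hi : i ≠ j₀) (hj : j ≠ j₀) (a : F) (ha : a ≠ 0) :
    (prj (Matrix.SpecialLinearGroup.diag2n hij a ha) : PSLn) ∈ pGen p (Aax (eb j₀ : Fin n → F)) := by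
  rw [Cfsg.Agent.Lib.Helper5.diag2n_eq_prod_transvection hij a ha]
  simp only [map_mul]
  have h1 := fun c => prj_transvection_mem_pGen_Aax (F := F) p hij hi c
  have h2 := fun c => prj_transvection_mem_pGen_Aax (F := F) p hij.symm hj c
  exact mul_mem (h1 _) (mul_mem (h2 _) (mul_mem (h1 _) (mul_mem (h1 _) (mul_mem (h2 _) (h1 _)))))

end Cfsg.Agent.Lib.Helper86.PSLFus
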