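/-
helper86: project S0983 (helper72) - common lemmas for the arithmetic modules `S0983-[A<N>]`.
-/
import Mathlib
import Cfsg.Agent.Lib.Helper72.DegEqDefs

set_option autoImplicit false

namespace Cfsg.Agent.Lib.Helper86.Range6232

open Cfsg.Agent.Lib.Helper72.DegEq

variable {n p : ℕ} {Deg : Set ℕ} {d e : ℕ} {ε : ℤ} {s : Multiset ℤ} {f : ℤ}

theorem sq_le_sum {s : Multiset ℤ} {x : ℤ} (hx : x ∈ s) :
    x ^ 2 ≤ (s.map (fun x => x ^ 2)).sum := by
  apply Multiset.single_le_sum _ _ (Multiset.mem_map_of_mem _ hx)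
  intro y hy
  obtain ⟨w, _, rfl⟩ := Multiset.mem_map.1 hy
  positivity

theorem sum_sq_nonneg (s : Multiset ℤ) : 0 ≤ (s.map (fun x => x ^ 2)).sum := by
  apply Multiset.sum_nonneg
  intro y hy
  obtain ⟨w, _, rfl⟩ := Multiset.mem_map.1 hy
  positivity

/-- every member of `s` has square at most `n` -/
theorem mem_sq_le (h : DegData n p Deg d e ε s f) {x : ℤ} (hx : x ∈ s) : x ^ 2 ≤ n := by
  have h1 := sq_le_sum hx
  have h2 := h.hsq
  have h3 : (0 : ℤ) ≤ (((p - 1) / e : ℕ) : ℤ) * f ^ 2 := by positivity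
  linarith

theorem mem_Icc_of_sq_le {x : ℤ} {B : ℤ} (N : ℤ) (hx : x ^ 2 ≤ N) (hB : N < (B + 1) ^ 2) (hB0 : 0 ≤ B) :
    x ∈ Finset.Icc (-B) B := by
  rw [Finset.mem_Icc]
  constructor <;> nlinarith

/-- the exceptional degree satisfies `((p-1)/e) f² ≤ n` -/
theorem f_sq_le (h : DegData n p Deg d e ε s f) : (((p - 1) / e : ℕ) : ℤ) * f ^ 2 ≤ n := by
  have h2 := h.hsq
  have h3 := sum_sq_nonneg s
  linarith

/-- the sum of a multiset with at most two values -/
theorem sum_of_two_values (s : Multiset ℤ) (a b : ℤ) (hs : ∀ x ∈ s, x = a ∨ x = b) :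
    ∃ k : ℕ, k ≤ s.card ∧ s.sum = (k : ℤ) * a + ((s.card - k : ℕ) : ℤ) * b := by
  induction s using Multiset.induction_on with
  | empty => exact ⟨0, le_refl _, by simp⟩
  | cons x t ih =>
    obtain ⟨k, hk, hsum⟩ := ih (fun y hy => hs y (Multiset.mem_cons_of_mem hy))
    rcases hs x (Multiset.mem_cons_self x t) with rfl | rfl
    · refine ⟨k + 1, by rw [Multiset.card_cons]; omega, ?_⟩
      rw [Multiset.sum_cons, hsum, Multiset.card_cons]
      have : t.card + 1 - (k + 1) = t.card - k := by omega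
      rw [this]; push_cast; ring
    · refine ⟨k, by rw [Multiset.card_cons]; omega, ?_⟩
      rw [Multiset.sum_cons, hsum, Multiset.card_cons]
      have : t.card + 1 - k = (t.card - k) + 1 := by omega
      rw [this]; push_cast; ring

end Cfsg.Agent.Lib.Helper86.Range6232
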