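/-
helper86: project S0983 (helper72) - module S0983-[A3780].
-/
import Mathlib
import Cfsg.Agent.Lib.Helper72.DegEqDefs
import Cfsg.Agent.Lib.Helper86.Range6232Common

set_option autoImplicit false

namespace Cfsg.Agent.Lib.Helper86.Range6232

open Cfsg.Agent.Lib.Helper72.DegEq

theorem arith_3780 {Deg : Set ℕ} {d e : ℕ} {ε : ℤ} {s : Multiset ℤ} {f : ℤ}
    (h : DegData 3780 7 Deg d e ε s f) : False := by
  have hd1 : d ∣ 540 := h.hd_dvd
  have hd : d = 36 :=
    (by decide +kernel : ∀ d ∈ Nat.divisors 540, d % 7 = 1 → d ≠ 1 →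
      Cfsg.Agent.Lib.Helper9.Sieve.excl 3780 7 1 540 d = false → d = 36) d
      (Nat.mem_divisors.2 ⟨hd1, by norm_num⟩) h.hd_mod h.hd_ne h.hd_excl
  subst hd
  have he : e = 3 := by
    have he1 : e ∣ 6 := h.he_dvd'
    have he2 := h.he_dvd
    have he3 := h.he_ne
    have hmem : e ∈ Nat.divisors 6 := Nat.mem_divisors.2 ⟨he1, by norm_num⟩
    exact (by decide : ∀ e ∈ Nat.divisors 6, e ∣ 3780 / 7 / 36 → e ≠ 1 → e = 3) e hmem he2 he3
  subst he
  have hbig : 3 < 3780 / 7 / 36 := by norm_num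
  have hcard : s.card = 2 := by have := h.hcard; omega
  obtain ⟨x, y, rfl⟩ := Multiset.card_eq_two.1 hcard
  have hxm : x ∈ ({x, y} : Multiset ℤ) := by simp
  have hym : y ∈ ({x, y} : Multiset ℤ) := by simp
  have key : ∀ x ∈ Finset.Icc (-61 : ℤ) 61, x ∣ 3780 → (7 : ℤ) ∣ x - 1 →
      ((2 * 7 : ℤ) ≤ x ∨ x ≤ -(2 * 7 : ℤ)) → x = 15 ∨ x = -20 ∨ x = -27 ∨ x = 36 := by
    decide +kernel
  have hx := key x (mem_Icc_of_sq_le 3780 (mem_sq_le h hxm) (by norm_num) (by norm_num))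
      (h.hs_dvd x hxm) (h.hs_mod x hxm) (h.hs_big hbig x hxm)
  have hy := key y (mem_Icc_of_sq_le 3780 (mem_sq_le h hym) (by norm_num) (by norm_num))
      (h.hs_dvd y hym) (h.hs_mod y hym) (h.hs_big hbig y hym)
  have heq := h.heq
  have hsum : ({x, y} : Multiset ℤ).sum = x + y := by simp
  rw [hsum] at heq
  have hf14 : (14 : ℤ) ≤ f := by have := h.hf_big hbig; push_cast at this; linarith
  have hfd := h.hf_dvd
  have hf : f = 31 ∨ f = 52 ∨ f = 39 ∨ f = 46 ∨ f = 17 ∨ f = 53 ∨ f = 73 := by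
    rcases h.hε with rfl | rfl <;> rcases hx with rfl | rfl | rfl | rfl <;>
      rcases hy with rfl | rfl | rfl | rfl <;> omega
  rcases hf with rfl | rfl | rfl | rfl | rfl | rfl | rfl <;> revert hfd <;> decide
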