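/-
helper86: project S0983 (helper72) - module S0983-[A4212].
-/
import Mathlib
import Cfsg.Agent.Lib.Helper72.DegEqDefs
import Cfsg.Agent.Lib.Helper86.Range6232Common

set_option autoImplicit false

namespace Cfsg.Agent.Lib.Helper86.Range6232

open Cfsg.Agent.Lib.Helper72.DegEq

theorem arith_4212 {Deg : Set ℕ} {d e : ℕ} {ε : ℤ} {s : Multiset ℤ} {f : ℤ}
    (h : DegData 4212 13 Deg d e ε s f) : False := by
  have hd1 : d ∣ 324 := h.hd_dvd
  have hd : d = 27 :=
    (by decide +kernel : ∀ d ∈ Nat.divisors 324, d % 13 = 1 → d ≠ 1 →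
      Cfsg.Agent.Lib.Helper9.Sieve.excl 4212 13 1 324 d = false → d = 27) d
      (Nat.mem_divisors.2 ⟨hd1, by norm_num⟩) h.hd_mod h.hd_ne h.hd_excl
  subst hd
  have he : e = 2 ∨ e = 3 ∨ e = 4 ∨ e = 6 ∨ e = 12 := by
    have he1 : e ∣ 12 := h.he_dvd'
    have he3 := h.he_ne
    have hmem : e ∈ Nat.divisors 12 := Nat.mem_divisors.2 ⟨he1, by norm_num⟩
    exact (by decide : ∀ e ∈ Nat.divisors 12, e ≠ 1 → e = 2 ∨ e = 3 ∨ e = 4 ∨ e = 6 ∨ e = 12)
      e hmem he3
  have hu : 4212 / 13 / 27 = 12 := by norm_num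
  have key : ∀ x ∈ Finset.Icc (-64 : ℤ) 64, x ∣ 4212 → (13 : ℤ) ∣ x - 1 →
      (2 ≤ x ∨ x ≤ -2) → x = 27 ∨ x = -12 := by
    decide +kernel
  have hmem : ∀ x ∈ s, x = 27 ∨ x = -12 := fun x hx =>
    key x (mem_Icc_of_sq_le 4212 (mem_sq_le h hx) (by norm_num) (by norm_num))
      (h.hs_dvd x hx) (h.hs_mod x hx) (h.hs_two x hx)
  have hf2 := h.hf_two
  have hfd := h.hf_dvd
  have hfsq : f ^ 2 ≤ 4212 := by
    have := f_sq_le h
    rcases he with rfl | rfl | rfl | rfl | rfl <;> norm_num at this <;> nlinarith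
  have hfset : f = 2 ∨ f = 3 ∨ f = 4 ∨ f = 6 ∨ f = 9 ∨ f = 12 ∨ f = 13 ∨ f = 18 ∨ f = 26 ∨
      f = 27 ∨ f = 36 ∨ f = 39 ∨ f = 52 ∨ f = 54 :=
    (by decide +kernel : ∀ f ∈ Finset.Icc (2 : ℤ) 64, f ∣ 4212 →
      f = 2 ∨ f = 3 ∨ f = 4 ∨ f = 6 ∨ f = 9 ∨ f = 12 ∨ f = 13 ∨ f = 18 ∨ f = 26 ∨
      f = 27 ∨ f = 36 ∨ f = 39 ∨ f = 52 ∨ f = 54) f
      (by rw [Finset.mem_Icc]; constructor <;> nlinarith) hfd
  have heq := h.heq
  have hcard := h.hcard
  by_cases hbig : e < 4212 / 13 / 27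
  · -- all members are 27
    have hmem' : ∀ x ∈ s, x = 27 ∨ x = 27 := by
      intro x hx
      rcases hmem x hx with h1 | h1
      · exact Or.inl h1
      · have := h.hs_big hbig x hx
        rw [h1] at this
        norm_num at this
    obtain ⟨k, hk, hsum⟩ := sum_of_two_values s 27 27 hmem'
    rw [hsum] at heq
    rw [hu] at hbig
    rcases he with rfl | rfl | rfl | rfl | rfl
    · have hc : s.card = 1 := by omega
      rw [hc] at hsum heq hk
      rcases h.hε with rfl | rfl <;> omega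
    · have hc : s.card = 2 := by omega
      rw [hc] at hsum heq hk
      rcases h.hε with rfl | rfl <;> omega
    · have hc : s.card = 3 := by omega
      rw [hc] at hsum heq hk
      rcases h.hε with rfl | rfl <;> omega
    · have hc : s.card = 5 := by omega
      rw [hc] at hsum heq hk
      rcases h.hε with rfl | rfl <;> omega
    · omega
  · rw [hu] at hbig
    have he12 : e = 12 := by rcases he with rfl | rfl | rfl | rfl | rfl <;> omega
    subst he12
    obtain ⟨k, hk, hsum⟩ := sum_of_two_values s 27 (-12) hmem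
    rw [hsum] at heq
    have hc : s.card = 11 := by omega
    rw [hc] at hsum heq hk
    rcases h.hε with rfl | rfl <;> omega
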