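/-
helper86: project S0983 (helper72) - module S0983-[A4800].
-/
import Mathlib
import Cfsg.Agent.Lib.Helper72.DegEqDefs
import Cfsg.Agent.Lib.Helper86.Range6232Common

set_option autoImplicit false

namespace Cfsg.Agent.Lib.Helper86.Range6232

open Cfsg.Agent.Lib.Helper72.DegEq

theorem arith_4800 {Deg : Set ℕ} {d e : ℕ} {ε : ℤ} {s : Multiset ℤ} {f : ℤ}
    (h : DegData 4800 3 Deg d e ε s f) : False := by
  have hd1 : d ∣ 1600 := h.hd_dvd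
  have he : e = 2 := by
    have he1 : e ∣ 2 := h.he_dvd'
    have he3 := h.he_ne
    have hmem : e ∈ Nat.divisors 2 := Nat.mem_divisors.2 ⟨he1, by norm_num⟩
    exact (by decide : ∀ e ∈ Nat.divisors 2, e ≠ 1 → e = 2) e hmem he3
  subst he
  have hbig : 2 < 4800 / 3 / d :=
    (by decide +kernel : ∀ d ∈ Nat.divisors 1600, d % 3 = 1 → d ≠ 1 →
      Cfsg.Agent.Lib.Helper9.Sieve.excl 4800 3 1 1600 d = false → 2 < 4800 / 3 / d) d
      (Nat.mem_divisors.2 ⟨hd1, by norm_num⟩) h.hd_mod h.hd_ne h.hd_excl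
  have hcard : s.card = 1 := by have := h.hcard; omega
  obtain ⟨x, rfl⟩ := Multiset.card_eq_one.1 hcard
  have hxm : x ∈ ({x} : Multiset ℤ) := Multiset.mem_singleton_self x
  have hx : x = -8 ∨ x = 10 ∨ x = 16 ∨ x = -20 ∨ x = 25 ∨ x = -32 ∨ x = 40 ∨ x = -50 ∨ x = 64 :=
    (by decide +kernel : ∀ x ∈ Finset.Icc (-69 : ℤ) 69, x ∣ 4800 → (3 : ℤ) ∣ x - 1 →
      ((2 * 3 : ℤ) ≤ x ∨ x ≤ -(2 * 3 : ℤ)) →
      x = -8 ∨ x = 10 ∨ x = 16 ∨ x = -20 ∨ x = 25 ∨ x = -32 ∨ x = 40 ∨ x = -50 ∨ x = 64) x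
      (mem_Icc_of_sq_le 4800 (mem_sq_le h hxm) (by norm_num) (by norm_num))
      (h.hs_dvd x hxm) (h.hs_mod x hxm) (h.hs_big hbig x hxm)
  have heq := h.heq
  rw [Multiset.sum_singleton] at heq
  have hf2 := h.hf_two
  have hfd := h.hf_dvd
  have hf : f = 7 ∨ f = 11 ∨ f = 17 ∨ f = 19 ∨ f = 26 ∨ f = 31 ∨ f = 41 ∨ f = 49 ∨ f = 65 := by
    rcases h.hε with rfl | rfl <;> rcases hx with rfl | rfl | rfl | rfl | rfl | rfl | rfl | rfl | rfl <;> omega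
  rcases hf with rfl | rfl | rfl | rfl | rfl | rfl | rfl | rfl | rfl <;> revert hfd <;> decide
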