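/-
helper86: project S0983 (helper72) - module S0983-[A5880].
-/
import Mathlib
import Cfsg.Agent.Lib.Helper72.DegEqDefs
import Cfsg.Agent.Lib.Helper86.Range6232Common

set_option autoImplicit false

namespace Cfsg.Agent.Lib.Helper86.Range6232

open Cfsg.Agent.Lib.Helper72.DegEq

theorem arith_5880 {Deg : Set ℕ} {d e : ℕ} {ε : ℤ} {s : Multiset ℤ} {f : ℤ}
    (h : DegData 5880 5 Deg d e ε s f) : False := by
  have hd1 : d ∣ 1176 := h.hd_dvd
  have hd : d = 21 ∨ d = 196 :=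
    (by decide +kernel : ∀ d ∈ Nat.divisors 1176, d % 5 = 1 → d ≠ 1 →
      Cfsg.Agent.Lib.Helper9.Sieve.excl 5880 5 1 1176 d = false → d = 21 ∨ d = 196) d
      (Nat.mem_divisors.2 ⟨hd1, by norm_num⟩) h.hd_mod h.hd_ne h.hd_excl
  have he : (e = 2 ∨ e = 4) ∧ e < 5880 / 5 / d := by
    have he1 : e ∣ 4 := h.he_dvd'
    have he2 := h.he_dvd
    have he3 := h.he_ne
    have hmem : e ∈ Nat.divisors 4 := Nat.mem_divisors.2 ⟨he1, by norm_num⟩
    rcases hd with rfl | rfl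
    · exact (by decide : ∀ e ∈ Nat.divisors 4, e ∣ 5880 / 5 / 21 → e ≠ 1 →
        (e = 2 ∨ e = 4) ∧ e < 5880 / 5 / 21) e hmem he2 he3
    · exact (by decide : ∀ e ∈ Nat.divisors 4, e ∣ 5880 / 5 / 196 → e ≠ 1 →
        (e = 2 ∨ e = 4) ∧ e < 5880 / 5 / 196) e hmem he2 he3
  obtain ⟨he, hbig⟩ := he
  have key : ∀ x ∈ Finset.Icc (-76 : ℤ) 76, x ∣ 5880 → (5 : ℤ) ∣ x - 1 →
      ((2 * 5 : ℤ) ≤ x ∨ x ≤ -(2 * 5 : ℤ)) → x = 21 ∨ x = 56 ∨ x = -14 ∨ x = -24 ∨ x = -49 := by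
    decide +kernel
  have hmem : ∀ x ∈ s, x = 21 ∨ x = 56 ∨ x = -14 ∨ x = -24 ∨ x = -49 := fun x hx =>
    key x (mem_Icc_of_sq_le 5880 (mem_sq_le h hx) (by norm_num) (by norm_num))
      (h.hs_dvd x hx) (h.hs_mod x hx) (h.hs_big hbig x hx)
  have hf10 : (10 : ℤ) ≤ f := by have := h.hf_big hbig; push_cast at this; linarith
  have hfd := h.hf_dvd
  have hfsq : f ^ 2 ≤ 5880 := by
    have := f_sq_le h
    rcases he with rfl | rfl
    · norm_num at this; nlinarith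
    · norm_num at this; linarith
  have hfset : f = 10 ∨ f = 12 ∨ f = 14 ∨ f = 15 ∨ f = 20 ∨ f = 21 ∨ f = 24 ∨ f = 28 ∨ f = 30 ∨
      f = 35 ∨ f = 40 ∨ f = 42 ∨ f = 49 ∨ f = 56 ∨ f = 60 ∨ f = 70 :=
    (by decide +kernel : ∀ f ∈ Finset.Icc (10 : ℤ) 76, f ∣ 5880 →
      f = 10 ∨ f = 12 ∨ f = 14 ∨ f = 15 ∨ f = 20 ∨ f = 21 ∨ f = 24 ∨ f = 28 ∨ f = 30 ∨
      f = 35 ∨ f = 40 ∨ f = 42 ∨ f = 49 ∨ f = 56 ∨ f = 60 ∨ f = 70) f
      (by rw [Finset.mem_Icc]; constructor <;> nlinarith) hfd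
  have heq := h.heq
  rcases he with rfl | rfl
  · have hcard : s.card = 1 := by have := h.hcard; omega
    obtain ⟨x, rfl⟩ := Multiset.card_eq_one.1 hcard
    have hx := hmem x (Multiset.mem_singleton_self x)
    rw [Multiset.sum_singleton] at heq
    rcases h.hε with rfl | rfl <;> rcases hx with rfl | rfl | rfl | rfl | rfl <;> omega
  · have hcard : s.card = 3 := by have := h.hcard; omega
    obtain ⟨x, y, w, rfl⟩ := Multiset.card_eq_three.1 hcard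
    have hx := hmem x (by simp)
    have hy := hmem y (by simp)
    have hw := hmem w (by simp)
    have hsum : ({x, y, w} : Multiset ℤ).sum = x + (y + w) := by simp
    rw [hsum] at heq
    rcases h.hε with rfl | rfl <;> rcases hx with rfl | rfl | rfl | rfl | rfl <;>
      rcases hy with rfl | rfl | rfl | rfl | rfl <;> rcases hw with rfl | rfl | rfl | rfl | rfl <;> omega
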