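import Cfsg.Agent.Lib.Helper86.SatCritAut

/-!
# The sink is fully automized and receptive (helper86)

Steps C3 and C4 of the proof of S5110: when `N_S^K(Ph)` is fully automized and receptive, `(N_S^K(Ph), Ph)` satisfies
`SylowCond`, and every map between members of the class of `Ph` is, after transport, the restriction of an element of
`Aut_F(N_S^K(Ph))`, the sink `Ph` is fully automized and receptive.
-/

set_option autoImplicit false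
set_option linter.unusedSectionVars false
set_option linter.unusedVariables false

namespace Cfsg.Agent.Lib.Helper86.SatCrit

open Cfsg Cfsg.FusionSystem Cfsg.Agent.Lib.Helper85 Cfsg.Agent.Lib.Helper87

/-- Frattini adjustment, with the largest possible subgroup `V`. -/
theorem exists_ker_conj_mem' {G : Type*} [Group G] [Finite G] {H : Type*} [Group H] {p : ℕ} [Fact p.Prime]
    (U : Sylow p G) (f : G →* H) (γ : G) :
    ∃ a ∈ f.ker, ∀ v ∈ U, (∃ u ∈ U, f (γ * v * γ⁻¹) = f u) → a * (γ * v * γ⁻¹) * a⁻¹ ∈ U := by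
  let V : Subgroup G := (U : Subgroup G) ⊓
    (((U : Subgroup G).map f).comap (f.comp (MulAut.conj γ).toMonoidHom))
  have hV : ∀ v, v ∈ V ↔ v ∈ U ∧ ∃ u ∈ U, f (γ * v * γ⁻¹) = f u := by
    intro v
    constructor
    · rintro ⟨h1, h2⟩
      refine ⟨h1, ?_⟩
      obtain ⟨u, hu, hfu⟩ := h2
      exact ⟨u, hu, hfu.symm⟩
    · rintro ⟨h1, u, hu, hfu⟩
      exact ⟨h1, ⟨u, hu, hfu.symm⟩⟩
  obtain ⟨a, ha, hav⟩ := Cfsg.Agent.Lib.Helper86.exists_ker_conj_mem U f γ V inf_le_left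
    (fun v hv => ((hV v).1 hv).2)
  exact ⟨a, ha, fun v hv h => hav v ((hV v).2 ⟨hv, h⟩)⟩

variable {Ω : Type*} [Group Ω] {S : Subgroup Ω} [Finite S] {p : ℕ} [Fact p.Prime]

/-- **Step C3.** -/
theorem fullyAutomized_sink (hS : IsPGroup p S) (F : FusionSystem S) {Ph : Subgroup Ω} (hPhS : Ph ≤ S)
    (hsyl : SylowCond F p (nKp F p Ph) Ph)
    (hsurj : ∀ α ∈ F.autGroup Ph, ∃ a : stabSub F (nKp F p Ph) Ph, resStab F (le_nKp F hS hPhS) a = α) :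
    F.IsFullyAutomized p Ph := by
  have hPhQ : Ph ≤ nKp F p Ph := le_nKp F hS hPhS
  have hQS : nKp F p Ph ≤ S := (nKp_le_normalizerIn F p Ph).trans (normalizerIn_le S Ph)
  have := finite_stabSub F hQS Ph
  refine ⟨hPhS, ?_⟩
  let f : stabSub F (nKp F p Ph) Ph →* F.autGroup Ph :=
    (resStab F hPhQ).codRestrict (F.autGroup Ph) (fun a => resStab_mem_autGroup F hQS hPhQ a)
  have hf : Function.Surjective f := by
    rintro ⟨α, hα⟩
    obtain ⟨a, ha⟩ := hsurj α hα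
    exact ⟨a, Subtype.ext ha⟩
  refine ⟨(stabSylow hS F hsyl).mapSurjective hf, ?_⟩
  rw [Sylow.coe_mapSurjective]
  ext β
  rw [Subgroup.mem_subgroupOf]
  constructor
  · rintro ⟨a, ha, rfl⟩
    have ha' : ((a : F.autGroup (nKp F p Ph)) : MulAut (nKp F p Ph)) ∈ autInducedBy S (nKp F p Ph) :=
      (mem_stabSylow hS F hsyl).1 ha
    obtain ⟨g, hg, hgx⟩ := Helper87.mem_autInducedBy_iff.1 ha'
    rw [Helper87.mem_autInducedBy_iff]
    refine ⟨g, hg, fun x => ?_⟩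
    show ((resStab F hPhQ a x : Ph) : Ω) = _
    rw [resStab_apply, hgx]
  · intro hβ
    obtain ⟨g, hg, hgx⟩ := Helper87.mem_autInducedBy_iff.1 hβ
    have hgN : g ∈ Subgroup.normalizer (Ph : Set Ω) := Helper85.mem_normalizer_of_induces hgx
    have hgNS : g ∈ normalizerIn S Ph := ⟨hg, hgN⟩
    have hgQ : g ∈ normalizerIn S (nKp F p Ph) := normalizerIn_le_normalizerIn_nKp F p hPhS hgNS
    refine ⟨cStab F hQS g hgQ hgN, ?_, ?_⟩
    · show cStab F hQS g hgQ hgN ∈ stabSylow hS F hsyl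
      rw [mem_stabSylow]
      exact Helper87.mem_autInducedBy_iff.2 ⟨g, hg, fun _ => rfl⟩
    · apply Subtype.ext
      ext x
      show ((resStab F hPhQ (cStab F hQS g hgQ hgN) x : Ph) : Ω) = _
      rw [resStab_apply, cStab_apply, hgx]

/-- **Step C4.** -/
theorem receptive_sink (hS : IsPGroup p S) (F : FusionSystem S) {Ph : Subgroup Ω} (hPhS : Ph ≤ S)
    (hQr : F.IsReceptive (nKp F p Ph)) (hsyl : SylowCond F p (nKp F p Ph) Ph)
    (hsink : ∀ P, F.IsConj Ph P → Sink F Ph P)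
    (hgood : ∀ P, F.IsConj Ph P → ∀ φ ∈ F.Hom P, GoodC F p Ph P φ) : F.IsReceptive Ph := by
  have hPhQ : Ph ≤ nKp F p Ph := le_nKp F hS hPhS
  have hQS : nKp F p Ph ≤ S := (nKp_le_normalizerIn F p Ph).trans (normalizerIn_le S Ph)
  have := finite_stabSub F hQS Ph
  refine ⟨hPhS, fun P φ hφ hr => ?_⟩
  have hPS : P ≤ S := (F.le_of_mem hφ).1
  have hconj : F.IsConj Ph P := Helper85.isConj_symm F ⟨φ, hφ, hr⟩
  obtain ⟨ρ, hρ, hρimg⟩ := hsink P hconj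
  have hN'S : normalizerIn S φ.range ≤ S := normalizerIn_le S _
  have hrN : φ.range ≤ normalizerIn S φ.range := Helper87.le_normalizerIn (hr.symm ▸ hPhS)
  have himg' : img (normalizerIn S φ.range).subtype φ.range = Ph := by
    rw [img_subtype hrN, hr]
  obtain ⟨a, ha⟩ := hgood P hconj φ hφ ρ hρ hρimg _ (Helper85.id_mem F hN'S) himg'
  have hPN : P ≤ normalizerIn S P := Helper87.le_normalizerIn hPS
  have hρPh : ∀ x : P, ρ ⟨x, hPN x.2⟩ ∈ Ph := by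
    intro x
    have := apply_mem_img ρ (P := P) ⟨x, hPN x.2⟩ x.2
    rwa [hρimg] at this
  -- `a (ρ x) = φ x`
  have ha' : ∀ x : P, ((((a : F.autGroup (nKp F p Ph)) : MulAut (nKp F p Ph))
      ⟨ρ ⟨x, hPN x.2⟩, hPhQ (hρPh x)⟩ : nKp F p Ph) : Ω) = φ x :=
    fun x => ha x (hPN x.2) (hPhQ (hρPh x)) (hrN ⟨x, rfl⟩)
  have hφPh : ∀ x : P, φ x ∈ Ph := fun x => hr ▸ ⟨x, rfl⟩
  -- the Frattini adjustment
  obtain ⟨k, hk, hkv⟩ := exists_ker_conj_mem' (stabSylow hS F hsyl) (resStab F hPhQ) a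
  have hN_le : extender S P φ ≤ normalizerIn S P := Helper87.extender_le S P φ
  have hρNPh : ∀ g : ↥(normalizerIn S P), ρ g ∈ normalizerIn S Ph := by
    intro g
    have := map_mem_normalizerIn_img F hρ (P := P) g g.2.2
    rwa [hρimg] at this
  have hclaim : ∀ (g : Ω) (hg : g ∈ extender S P φ),
      ρ ⟨g, hN_le hg⟩ ∈ extender S (nKp F p Ph)
        (autHom (((k * a : stabSub F (nKp F p Ph) Ph) : F.autGroup (nKp F p Ph)) : MulAut (nKp F p Ph))) := by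
    intro g hg
    obtain ⟨hgS, hgN, h, hhS, hh⟩ := (Helper85.mem_extender_iff S P φ g).1 hg
    have hg'N : ρ ⟨g, hN_le hg⟩ ∈ normalizerIn S Ph := hρNPh _
    have hg'Q : ρ ⟨g, hN_le hg⟩ ∈ normalizerIn S (nKp F p Ph) :=
      normalizerIn_le_normalizerIn_nKp F p hPhS hg'N
    -- the action of `a c_{g'} a⁻¹` on `Ph`
    have hfv : ∀ y : Ph, ((resStab F hPhQ (a * cStab F hQS _ hg'Q hg'N.2 * a⁻¹) y : Ph) : Ω)
        = h * (y : Ω) * h⁻¹ := by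
      intro y
      obtain ⟨x, hx⟩ : ∃ x : P, φ x = (y : Ω) := by
        have : (y : Ω) ∈ φ.range := hr.symm ▸ y.2
        exact MonoidHom.mem_range.1 this
      have hgx : g * (x : Ω) * g⁻¹ ∈ P := (Subgroup.mem_normalizer_iff.1 hgN (x : Ω)).1 x.2
      have e₁ : ((a : F.autGroup (nKp F p Ph)) : MulAut (nKp F p Ph)) ⟨ρ ⟨x, hPN x.2⟩, hPhQ (hρPh x)⟩
          = ⟨y, hPhQ y.2⟩ := Subtype.ext ((ha' x).trans hx)
      have e₂ : ((a : F.autGroup (nKp F p Ph)) : MulAut (nKp F p Ph))⁻¹ ⟨y, hPhQ y.2⟩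
          = ⟨ρ ⟨x, hPN x.2⟩, hPhQ (hρPh x)⟩ := by
        rw [← e₁, MulAut.inv_apply_self]
      have e₃ : (((cStab F hQS _ hg'Q hg'N.2 : stabSub F (nKp F p Ph) Ph) : F.autGroup (nKp F p Ph)) :
          MulAut (nKp F p Ph)) ⟨ρ ⟨x, hPN x.2⟩, hPhQ (hρPh x)⟩
          = ⟨ρ ⟨g * (x : Ω) * g⁻¹, hPN hgx⟩, hPhQ (hρPh ⟨_, hgx⟩)⟩ := by
        apply Subtype.ext
        rw [cStab_apply]
        have h1 : (⟨g * (x : Ω) * g⁻¹, hPN hgx⟩ : ↥(normalizerIn S P))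
            = ⟨g, hN_le hg⟩ * ⟨x, hPN x.2⟩ * ⟨g, hN_le hg⟩⁻¹ := rfl
        show ρ ⟨g, hN_le hg⟩ * ρ ⟨x, hPN x.2⟩ * (ρ ⟨g, hN_le hg⟩)⁻¹ = ρ ⟨g * (x : Ω) * g⁻¹, hPN hgx⟩
        rw [h1, map_mul, map_mul, map_inv]
      have e₅ : (((a * cStab F hQS _ hg'Q hg'N.2 * a⁻¹ : stabSub F (nKp F p Ph) Ph) : F.autGroup (nKp F p Ph)) :
          MulAut (nKp F p Ph)) ⟨y, hPhQ y.2⟩
          = ((a : F.autGroup (nKp F p Ph)) : MulAut (nKp F p Ph))
            ⟨ρ ⟨g * (x : Ω) * g⁻¹, hPN hgx⟩, hPhQ (hρPh ⟨_, hgx⟩)⟩ := by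
        show (((a : F.autGroup (nKp F p Ph)) : MulAut (nKp F p Ph))
          * (((cStab F hQS _ hg'Q hg'N.2 : stabSub F (nKp F p Ph) Ph) : F.autGroup (nKp F p Ph)) :
            MulAut (nKp F p Ph))
          * ((a : F.autGroup (nKp F p Ph)) : MulAut (nKp F p Ph))⁻¹) ⟨y, hPhQ y.2⟩ = _
        rw [MulAut.mul_apply, MulAut.mul_apply, e₂, e₃]
      rw [resStab_apply, e₅, ha' ⟨_, hgx⟩, hh x hgx, hx]
    have hhN : h ∈ Subgroup.normalizer (Ph : Set Ω) := Helper85.mem_normalizer_of_induces hfv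
    have hhQ : h ∈ normalizerIn S (nKp F p Ph) := normalizerIn_le_normalizerIn_nKp F p hPhS ⟨hhS, hhN⟩
    have hvU : cStab F hQS _ hg'Q hg'N.2 ∈ stabSylow hS F hsyl := by
      rw [mem_stabSylow]
      exact Helper87.mem_autInducedBy_iff.2 ⟨_, hg'N.1, fun _ => rfl⟩
    have huU : cStab F hQS h hhQ hhN ∈ stabSylow hS F hsyl := by
      rw [mem_stabSylow]
      exact Helper87.mem_autInducedBy_iff.2 ⟨h, hhS, fun _ => rfl⟩
    have hfu : resStab F hPhQ (a * cStab F hQS _ hg'Q hg'N.2 * a⁻¹) = resStab F hPhQ (cStab F hQS h hhQ hhN) := by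
      ext y
      rw [hfv, resStab_apply, cStab_apply]
    have h2 := hkv _ hvU ⟨_, huU, hfu⟩
    rw [mem_stabSylow] at h2
    apply mem_extender_of_conj_mem F hQS _ _ hg'Q
    have h3 : k * (a * cStab F hQS _ hg'Q hg'N.2 * a⁻¹) * k⁻¹
        = k * a * cStab F hQS _ hg'Q hg'N.2 * (k * a)⁻¹ := by group
    rw [h3] at h2
    exact h2
  -- extension through receptivity of `N_S^K(Ph)`
  obtain ⟨Ψ, hΨ, hΨx⟩ := exists_ext_of_le_extender F hQr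
    ((k * a : stabSub F (nKp F p Ph) Ph) : F.autGroup (nKp F p Ph)).2 le_rfl
  obtain ⟨ρN, hρN, hρNx, -⟩ := exists_restrict F hρ hN_le
  have hρNe : ∀ x : ↥(extender S P φ), ρN x ∈ extender S (nKp F p Ph)
      (autHom (((k * a : stabSub F (nKp F p Ph) Ph) : F.autGroup (nKp F p Ph)) : MulAut (nKp F p Ph))) := by
    intro x
    rw [hρNx]
    exact hclaim x x.2
  obtain ⟨ψ, hψ, hψx, -⟩ := exists_comp F hρN hΨ hρNe
  refine ⟨ψ, hψ, fun x hP hN => ?_⟩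
  rw [hψx]
  have h1 : ρN ⟨x, hN⟩ = ρ ⟨x, hPN hP⟩ := by rw [hρNx]
  have h2 : (⟨ρN ⟨x, hN⟩, hρNe ⟨x, hN⟩⟩ : ↥(extender S (nKp F p Ph)
      (autHom (((k * a : stabSub F (nKp F p Ph) Ph) : F.autGroup (nKp F p Ph)) : MulAut (nKp F p Ph)))))
      = ⟨ρ ⟨x, hPN hP⟩, h1 ▸ hρNe ⟨x, hN⟩⟩ := Subtype.ext h1
  rw [h2, hΨx _ (hPhQ (hρPh ⟨x, hP⟩))]
  have e₁ : ((a : F.autGroup (nKp F p Ph)) : MulAut (nKp F p Ph)) ⟨ρ ⟨x, hPN hP⟩, hPhQ (hρPh ⟨x, hP⟩)⟩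
      = ⟨φ ⟨x, hP⟩, hPhQ (hφPh ⟨x, hP⟩)⟩ := Subtype.ext (ha' ⟨x, hP⟩)
  have e₂ : (((k * a : stabSub F (nKp F p Ph) Ph) : F.autGroup (nKp F p Ph)) : MulAut (nKp F p Ph))
      ⟨ρ ⟨x, hPN hP⟩, hPhQ (hρPh ⟨x, hP⟩)⟩
      = ((k : F.autGroup (nKp F p Ph)) : MulAut (nKp F p Ph)) ⟨φ ⟨x, hP⟩, hPhQ (hφPh ⟨x, hP⟩)⟩ := by
    show (((k : F.autGroup (nKp F p Ph)) : MulAut (nKp F p Ph))
      * ((a : F.autGroup (nKp F p Ph)) : MulAut (nKp F p Ph))) ⟨ρ ⟨x, hPN hP⟩, hPhQ (hρPh ⟨x, hP⟩)⟩ = _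
    rw [MulAut.mul_apply, e₁]
  rw [e₂]
  have hk1 : resStab F hPhQ k = 1 := MonoidHom.mem_ker.1 hk
  have hk2 := congrArg (fun β : MulAut Ph => ((β ⟨φ ⟨x, hP⟩, hφPh ⟨x, hP⟩⟩ : Ph) : Ω)) hk1
  simp only [resStab_apply] at hk2
  exact hk2

end Cfsg.Agent.Lib.Helper86.SatCrit
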