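/-
helper86: residual limits of fusion systems: systems with the same maps (`Same`), uniqueness of the saturated subsystem of
`p`-power index over a given subgroup, the hyperfocal subgroup of a subsystem of `p`-power index over a strongly closed subgroup.
All declarations live in `Cfsg.Agent.Lib.Helper86`.
-/
import Mathlib
import Cfsg.Prelude.Def_FusionReduction
import Cfsg.Agent.Lib.Helper87.FusionNormal
import Cfsg.Agent.Lib.Helper34.PResidual
import Cfsg.Agent.Lib.Helper86.CoprimeAut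
import Cfsg.Agent.S5199

set_option autoImplicit false

namespace Cfsg.Agent.Lib.Helper86

open Cfsg Cfsg.FusionSystem

variable {Ω : Type*} [Group Ω]

/-- two fusion systems (over possibly different subgroups) with the same maps -/
def Same {S₁ S₂ : Subgroup Ω} (F₁ : FusionSystem S₁) (F₂ : FusionSystem S₂) : Prop :=
  ∀ P : Subgroup Ω, F₁.Hom P = F₂.Hom P

theorem fusionSystem_ext {S : Subgroup Ω} (F₁ F₂ : FusionSystem S) (h : ∀ P, F₁.Hom P = F₂.Hom P) : F₁ = F₂ := by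
  cases F₁; cases F₂
  simp only [FusionSystem.mk.injEq]
  funext P
  exact h P

theorem Same.refl {S : Subgroup Ω} (F : FusionSystem S) : Same F F := fun _ => rfl

theorem Same.symm {S₁ S₂ : Subgroup Ω} {F₁ : FusionSystem S₁} {F₂ : FusionSystem S₂} (h : Same F₁ F₂) : Same F₂ F₁ :=
  fun P => (h P).symm

theorem Same.trans {S₁ S₂ S₃ : Subgroup Ω} {F₁ : FusionSystem S₁} {F₂ : FusionSystem S₂} {F₃ : FusionSystem S₃}
    (h : Same F₁ F₂) (h' : Same F₂ F₃) : Same F₁ F₃ :=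
  fun P => (h P).trans (h' P)

theorem Same.subgroup_eq {S₁ S₂ : Subgroup Ω} {F₁ : FusionSystem S₁} {F₂ : FusionSystem S₂} (h : Same F₁ F₂) :
    S₁ = S₂ := by
  apply le_antisymm
  · have h1 : S₁.subtype ∈ F₁.Hom S₁ := Helper87.subtype_mem F₁ le_rfl
    rw [h S₁] at h1
    exact Helper87.hom_le F₂ h1
  · have h1 : S₂.subtype ∈ F₂.Hom S₂ := Helper87.subtype_mem F₂ le_rfl
    rw [← h S₂] at h1
    exact Helper87.hom_le F₁ h1

/-- transport principle -/
theorem Same.rec' {motive : ∀ {S : Subgroup Ω}, FusionSystem S → Prop}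
    {S₁ S₂ : Subgroup Ω} {F₁ : FusionSystem S₁} {F₂ : FusionSystem S₂} (h : Same F₁ F₂) (h1 : motive F₁) : motive F₂ := by
  obtain rfl := h.subgroup_eq
  obtain rfl := fusionSystem_ext F₁ F₂ h
  exact h1

/-- A saturated subsystem `E` of `F` over `T ≤ U` lies in every subsystem `F₀` over `U` of `p`-power index. -/
theorem subsystem_of_pPowerIndex {S T U : Subgroup Ω} [Finite S] {p : ℕ} [Fact p.Prime] (hS : IsPGroup p S)
    (F : FusionSystem S) (E : FusionSystem T) (F₀ : FusionSystem U) (hTU : T ≤ U) (hEsat : E.IsSaturated p)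
    (hEF : E.IsSubsystemOf F) (hidx : F₀.HasPPowerIndexIn F p) : E.IsSubsystemOf F₀ := by
  classical
  obtain ⟨-, -, hres⟩ := hidx
  have hTS : T ≤ S := by
    have h1 : T.subtype ∈ E.Hom T := Helper87.subtype_mem E le_rfl
    exact (F.le_of_mem (hEF T h1)).1
  have : Finite T := Helper87.finite_of_le hTS
  have hT : IsPGroup p T := hS.to_le hTS
  intro P
  refine Helper87.alperin_weak' E F₀ hT hEsat ?_ P
  intro R hRa _ _ α hα
  obtain ⟨hRT, Sy, hSy⟩ := hRa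
  have hRU : R ≤ U := le_trans hRT hTU
  have hRS : R ≤ S := le_trans hRT hTS
  rw [← Helper87.mem_autGroup_iff F₀ hRU]
  have : Finite R := Helper87.finite_of_le hRS
  have : Finite (MulAut R) := Finite.of_injective (fun α : MulAut R => (α : R → R)) DFunLike.coe_injective
  have hsup : pResidual p (E.autGroup R) ⊔ (Sy : Subgroup (E.autGroup R)) = ⊤ :=
    Cfsg.Agent.Lib.Helper34.pResidual_sup_eq_top p (Sy : Subgroup (E.autGroup R)) Sy.not_dvd_index
  have hEFaut : E.autGroup R ≤ F.autGroup R := by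
    intro β hβ
    rw [Helper87.mem_autGroup_iff E hRT] at hβ
    rw [Helper87.mem_autGroup_iff F hRS]
    exact hEF R hβ
  have h1 : (pResidual p (E.autGroup R)).map (E.autGroup R).subtype ≤ F₀.autGroup R :=
    le_trans (Cfsg.Agent.S5199.map_pResidual_le p hEFaut) (hres R hRU)
  have h2 : (Sy : Subgroup (E.autGroup R)).map (E.autGroup R).subtype ≤ F₀.autGroup R := by
    rw [hSy]
    rintro _ ⟨γ, hγ, rfl⟩
    have hγ' : (γ : MulAut R) ∈ autInducedBy T R := Subgroup.mem_subgroupOf.mp hγ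
    obtain ⟨g, hg, hgγ⟩ := Helper87.mem_autInducedBy_iff.1 hγ'
    exact Helper87.autInducedBy_le_autGroup F₀ hRU
      (Helper87.mem_autInducedBy_iff.2 ⟨g, hTU hg, hgγ⟩)
  have h3 : (⊤ : Subgroup (E.autGroup R)).map (E.autGroup R).subtype ≤ F₀.autGroup R := by
    rw [← hsup, Subgroup.map_sup]
    exact sup_le h1 h2
  exact h3 ⟨⟨α, hα⟩, Subgroup.mem_top _, rfl⟩

/-- Uniqueness of the saturated subsystem of `p`-power index over a given subgroup. -/
theorem same_of_pPowerIndex {S T₁ T₂ : Subgroup Ω} [Finite S] {p : ℕ} [Fact p.Prime] (hS : IsPGroup p S)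
    (F : FusionSystem S) (D₁ : FusionSystem T₁) (D₂ : FusionSystem T₂) (hT : T₁ = T₂)
    (h₁ : D₁.IsSaturated p) (h₂ : D₂.IsSaturated p)
    (hi₁ : D₁.HasPPowerIndexIn F p) (hi₂ : D₂.HasPPowerIndexIn F p) : Same D₁ D₂ := by
  intro P
  apply Set.Subset.antisymm
  · exact subsystem_of_pPowerIndex hS F D₁ D₂ hT.le h₁ hi₁.1 hi₂ P
  · exact subsystem_of_pPowerIndex hS F D₂ D₁ hT.ge h₂ hi₂.1 hi₁ P

/-- restriction of an automorphism of `P` to an invariant subgroup `P₀ ≤ P` -/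
def restrictAut {P P₀ : Subgroup Ω} (σ : MulAut P) (h₀ : P₀ ≤ P)
    (hσ : ∀ u : P, (u : Ω) ∈ P₀ → ((σ u : P) : Ω) ∈ P₀)
    (hσ' : ∀ u : P, (u : Ω) ∈ P₀ → ((σ.symm u : P) : Ω) ∈ P₀) : MulAut P₀ where
  toFun u := ⟨(σ ⟨u, h₀ u.2⟩ : P), hσ _ u.2⟩
  invFun u := ⟨(σ.symm ⟨u, h₀ u.2⟩ : P), hσ' _ u.2⟩
  left_inv u := by
    apply Subtype.ext
    show ((σ.symm ⟨((σ ⟨u, h₀ u.2⟩ : P) : Ω), _⟩ : P) : Ω) = u
    have : (⟨((σ ⟨u, h₀ u.2⟩ : P) : Ω), h₀ (hσ _ u.2)⟩ : P) = σ ⟨u, h₀ u.2⟩ := rfl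
    rw [this, MulEquiv.symm_apply_apply]
  right_inv u := by
    apply Subtype.ext
    show ((σ ⟨((σ.symm ⟨u, h₀ u.2⟩ : P) : Ω), _⟩ : P) : Ω) = u
    have : (⟨((σ.symm ⟨u, h₀ u.2⟩ : P) : Ω), h₀ (hσ' _ u.2)⟩ : P) = σ.symm ⟨u, h₀ u.2⟩ := rfl
    rw [this, MulEquiv.apply_symm_apply]
  map_mul' a b := by
    apply Subtype.ext
    show ((σ ⟨(a * b : P₀), _⟩ : P) : Ω) = ((σ ⟨a, _⟩ : P) : Ω) * ((σ ⟨b, _⟩ : P) : Ω)
    rw [← Subgroup.coe_mul, ← map_mul]
    rfl

theorem restrictAut_apply {P P₀ : Subgroup Ω} (σ : MulAut P) (h₀ : P₀ ≤ P)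
    (hσ : ∀ u : P, (u : Ω) ∈ P₀ → ((σ u : P) : Ω) ∈ P₀)
    (hσ' : ∀ u : P, (u : Ω) ∈ P₀ → ((σ.symm u : P) : Ω) ∈ P₀) (u : P₀) :
    ((restrictAut σ h₀ hσ hσ' u : P₀) : Ω) = ((σ ⟨u, h₀ u.2⟩ : P) : Ω) := rfl

theorem restrictAut_pow_apply {P P₀ : Subgroup Ω} (σ : MulAut P) (h₀ : P₀ ≤ P)
    (hσ : ∀ u : P, (u : Ω) ∈ P₀ → ((σ u : P) : Ω) ∈ P₀)
    (hσ' : ∀ u : P, (u : Ω) ∈ P₀ → ((σ.symm u : P) : Ω) ∈ P₀) (n : ℕ) (u : P₀) :
    (((restrictAut σ h₀ hσ hσ' ^ n) u : P₀) : Ω) = (((σ ^ n) ⟨u, h₀ u.2⟩ : P) : Ω) := by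
  induction n generalizing u with
  | zero => rfl
  | succ n ih =>
    rw [pow_succ, pow_succ, MulAut.mul_apply, MulAut.mul_apply, ih]
    rfl

/-- Reduction of the generators of the hyperfocal subgroup to automorphisms of prime power order. -/
theorem inv_mul_apply_mem_of_primePow {S : Subgroup Ω} [Finite S] (F : FusionSystem S) (p : ℕ) {P : Subgroup Ω} (hP : P ≤ S)
    (J : Subgroup Ω)
    (hJ : ∀ σ ∈ F.autGroup P, (∃ q k : ℕ, q.Prime ∧ q ≠ p ∧ σ ^ (q ^ k) = 1) →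
      ∀ y : P, (y : Ω)⁻¹ * ((σ y : P) : Ω) ∈ J)
    (α : F.autGroup P) (hα : α ∈ pResidual p (F.autGroup P)) (x : P) :
    (x : Ω)⁻¹ * (((α : MulAut P) x : P) : Ω) ∈ J := by
  have hPfin : Finite P := Helper87.finite_of_le hP
  have hAfin : Finite (MulAut P) := Finite.of_injective (fun α : MulAut P => (α : P → P)) DFunLike.coe_injective
  let Γ : Subgroup (F.autGroup P) :=
    { carrier := {β | ∀ x : P, (x : Ω)⁻¹ * (((β : MulAut P) x : P) : Ω) ∈ J}
      one_mem' := fun x => by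
        show (x : Ω)⁻¹ * (x : Ω) ∈ J
        rw [inv_mul_cancel]; exact J.one_mem
      mul_mem' := by
        intro a b ha hb x
        have h1 := hb x
        have h2 := ha ((b : MulAut P) x)
        have : (x : Ω)⁻¹ * ((((a * b : F.autGroup P) : MulAut P) x : P) : Ω) =
            ((x : Ω)⁻¹ * (((b : MulAut P) x : P) : Ω)) *
              ((((b : MulAut P) x : P) : Ω)⁻¹ * (((a : MulAut P) ((b : MulAut P) x) : P) : Ω)) := by
          rw [Subgroup.coe_mul, MulAut.mul_apply]; group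
        rw [this]
        exact J.mul_mem h1 h2
      inv_mem' := by
        intro a ha x
        have h1 := ha ((a : MulAut P)⁻¹ x)
        rw [MulAut.apply_inv_self] at h1
        have : (x : Ω)⁻¹ * ((((a⁻¹ : F.autGroup P) : MulAut P) x : P) : Ω) =
            (((((a : MulAut P)⁻¹ x : P) : Ω))⁻¹ * (x : Ω))⁻¹ := by
          rw [Subgroup.coe_inv]; group
        rw [this]
        exact J.inv_mem h1 }
  have hΓ : pResidual p (F.autGroup P) ≤ Γ := by
    unfold pResidual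
    rw [Subgroup.closure_le]
    intro g hg
    have hg' : Nat.Coprime (orderOf g) p := hg
    refine mem_of_forall_primePow_mem p Γ ?_ (orderOf g) g rfl (orderOf_pos g) hg'
    rintro h ⟨q, k, hq, hqp, hh⟩ y
    refine hJ (h : MulAut P) h.2 ⟨q, k, hq, hqp, ?_⟩ y
    have := congrArg Subtype.val hh
    simpa using this
  exact hΓ hα x

/-- The key step: `[P, σ] ≤ hyp(E)` for `σ ∈ Aut_F(P)` of prime power order prime to `p`. -/
theorem inv_mul_apply_mem_hyperfocal {S T : Subgroup Ω} [Finite S] {p : ℕ} [hp : Fact p.Prime] (hS : IsPGroup p S)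
    (F : FusionSystem S) (E : FusionSystem T) (hidx : E.HasPPowerIndexIn F p) (hT : F.StronglyClosed T)
    {P : Subgroup Ω} (hP : P ≤ S) (σ : MulAut P) (hσ : σ ∈ F.autGroup P) (q k : ℕ) (hq : q.Prime) (hqp : q ≠ p)
    (hσq : σ ^ (q ^ k) = 1) (y : P) : (y : Ω)⁻¹ * ((σ y : P) : Ω) ∈ E.hyperfocalSubgroup p := by
  classical
  have hPfin : Finite P := Helper87.finite_of_le hP
  have hAfin : Finite (MulAut P) := Finite.of_injective (fun α : MulAut P => (α : P → P)) DFunLike.coe_injective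
  have hPp : IsPGroup p P := hS.to_le hP
  have hqF : Fact q.Prime := ⟨hq⟩
  obtain ⟨hEF, hhyp, hres⟩ := hidx
  obtain ⟨hTS, hTsc⟩ := hT
  -- coprimality of `q ^ k` and `p`
  have hcop : Nat.Coprime (q ^ k) p := Nat.Coprime.pow_left k ((Nat.coprime_primes hq hp.out).mpr hqp)
  -- `σ` is in `O^p(Aut_F(P))`
  have hσres : (⟨σ, hσ⟩ : F.autGroup P) ∈ pResidual p (F.autGroup P) := by
    apply Subgroup.subset_closure
    show Nat.Coprime (orderOf (⟨σ, hσ⟩ : F.autGroup P)) p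
    have h1 : (⟨σ, hσ⟩ : F.autGroup P) ^ (q ^ k) = 1 := Subtype.ext (by simpa using hσq)
    exact Nat.Coprime.coprime_dvd_left (orderOf_dvd_of_pow_eq_one h1) hcop
  set W : Subgroup P := Subgroup.closure {z : P | ∃ v : P, z = v⁻¹ * σ v} with hW
  have hWT : ∀ w ∈ W, (w : Ω) ∈ T := by
    intro w hw
    have h1 : W.map P.subtype ≤ F.hyperfocalSubgroup p := by
      rw [hW, MonoidHom.map_closure, Subgroup.closure_le]
      rintro _ ⟨_, ⟨v, rfl⟩, rfl⟩
      apply Subgroup.subset_closure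
      exact ⟨P, ⟨σ, hσ⟩, v, hP, hσres, by simp⟩
    exact hhyp (h1 (Subgroup.mem_map_of_mem _ hw))
  -- the restriction of `σ` to `P₀ = P ⊓ T`
  set P₀ : Subgroup Ω := P ⊓ T with hP₀
  have hP₀P : P₀ ≤ P := inf_le_left
  have hP₀T : P₀ ≤ T := inf_le_right
  have hσF : Helper87.IsIso F (σ : P ≃* P) := (Helper87.mem_autGroup_iff F hP).mp hσ
  have hσF' : Helper87.IsIso F (σ.symm : P ≃* P) := Helper87.IsIso.symm hσF
  have hinv : ∀ (τ : P ≃* P), Helper87.IsIso F τ → ∀ u : P, (u : Ω) ∈ P₀ → ((τ u : P) : Ω) ∈ P₀ := by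
    intro τ hτ u hu
    refine ⟨(τ u).2, ?_⟩
    have h1 := Helper87.restrict_mem F hτ hP₀P
    exact hTsc P₀ hP₀T _ h1 ⟨u, hu⟩
  set σ₀ : MulAut P₀ := restrictAut σ hP₀P (hinv σ hσF) (hinv σ.symm hσF') with hσ₀
  have hσ₀F : σ₀ ∈ F.autGroup P₀ := by
    rw [Helper87.mem_autGroup_iff F (hP₀P.trans hP)]
    exact Helper87.restrict_mem' F hσF hP₀P (fun x => rfl)
  have hσ₀q : σ₀ ^ (q ^ k) = 1 := by
    ext u
    rw [hσ₀, restrictAut_pow_apply, hσq]
    rfl
  have hσ₀res : (⟨σ₀, hσ₀F⟩ : F.autGroup P₀) ∈ pResidual p (F.autGroup P₀) := by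
    apply Subgroup.subset_closure
    show Nat.Coprime (orderOf (⟨σ₀, hσ₀F⟩ : F.autGroup P₀)) p
    have h1 : (⟨σ₀, hσ₀F⟩ : F.autGroup P₀) ^ (q ^ k) = 1 := Subtype.ext (by simpa using hσ₀q)
    exact Nat.Coprime.coprime_dvd_left (orderOf_dvd_of_pow_eq_one h1) hcop
  have hσ₀E : σ₀ ∈ E.autGroup P₀ := hres P₀ hP₀T ⟨⟨σ₀, hσ₀F⟩, hσ₀res, rfl⟩
  have hσ₀Eres : (⟨σ₀, hσ₀E⟩ : E.autGroup P₀) ∈ pResidual p (E.autGroup P₀) := by
    apply Subgroup.subset_closure
    show Nat.Coprime (orderOf (⟨σ₀, hσ₀E⟩ : E.autGroup P₀)) p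
    have h1 : (⟨σ₀, hσ₀E⟩ : E.autGroup P₀) ^ (q ^ k) = 1 := Subtype.ext (by simpa using hσ₀q)
    exact Nat.Coprime.coprime_dvd_left (orderOf_dvd_of_pow_eq_one h1) hcop
  -- apply the coprime action lemma
  have hkey := inv_mul_apply_mem_closure hqp hPp σ k hσq y
  have h2 : (Subgroup.closure {y : P | ∃ w ∈ W, y = w⁻¹ * σ w}).map P.subtype ≤ E.hyperfocalSubgroup p := by
    rw [MonoidHom.map_closure, Subgroup.closure_le]
    rintro _ ⟨_, ⟨w, hw, rfl⟩, rfl⟩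
    apply Subgroup.subset_closure
    have hw₀ : (w : Ω) ∈ P₀ := ⟨w.2, hWT w hw⟩
    refine ⟨P₀, ⟨σ₀, hσ₀E⟩, ⟨w, hw₀⟩, hP₀T, hσ₀Eres, ?_⟩
    simp only [Subgroup.coe_subtype, Subgroup.coe_mul, Subgroup.coe_inv]
    rfl
  have := h2 (Subgroup.mem_map_of_mem _ hkey)
  simpa using this

/-- The hyperfocal subgroup of a subsystem of `p`-power index over a strongly closed subgroup. -/
theorem hyperfocal_eq_of_pPowerIndex {S T : Subgroup Ω} [Finite S] {p : ℕ} [hp : Fact p.Prime] (hS : IsPGroup p S)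
    (F : FusionSystem S) (E : FusionSystem T) (hidx : E.HasPPowerIndexIn F p) (hT : F.StronglyClosed T) :
    E.hyperfocalSubgroup p = F.hyperfocalSubgroup p := by
  apply le_antisymm
  · unfold FusionSystem.hyperfocalSubgroup
    rw [Subgroup.closure_le]
    rintro _ ⟨P, α, x, hPT, hα, rfl⟩
    apply Subgroup.subset_closure
    have hPS : P ≤ S := hPT.trans hT.1
    have hEFaut : E.autGroup P ≤ F.autGroup P := by
      intro β hβ
      rw [Helper87.mem_autGroup_iff E hPT] at hβ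
      rw [Helper87.mem_autGroup_iff F hPS]
      exact hidx.1 P hβ
    have h1 := Cfsg.Agent.S5199.map_pResidual_le p hEFaut ⟨α, hα, rfl⟩
    obtain ⟨β, hβ, hβα⟩ := h1
    refine ⟨P, β, x, hPS, hβ, ?_⟩
    have : (β : MulAut P) = (α : MulAut P) := hβα
    rw [this]
  · unfold FusionSystem.hyperfocalSubgroup
    rw [Subgroup.closure_le]
    rintro _ ⟨P, α, x, hPS, hα, rfl⟩
    refine inv_mul_apply_mem_of_primePow F p hPS (E.hyperfocalSubgroup p) ?_ α hα x
    rintro σ hσ ⟨q, k, hq, hqp, hσq⟩ y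
    exact inv_mul_apply_mem_hyperfocal hS F E hidx hT hPS σ hσ q k hq hqp hσq y

theorem hyperfocal_le {S : Subgroup Ω} (F : FusionSystem S) (p : ℕ) : F.hyperfocalSubgroup p ≤ S := by
  unfold FusionSystem.hyperfocalSubgroup
  rw [Subgroup.closure_le]
  rintro _ ⟨P, α, x, hPS, -, rfl⟩
  exact S.mul_mem (S.inv_mem (hPS x.2)) (hPS ((α : MulAut P) x).2)

theorem hasPPowerIndexIn_self {S : Subgroup Ω} (F : FusionSystem S) (p : ℕ) : F.HasPPowerIndexIn F p :=
  ⟨fun _ _ h => h, hyperfocal_le F p, fun _ _ => Subgroup.map_subtype_le _⟩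

theorem same_pPrimeResidual {p : ℕ} {S₁ S₂ : Subgroup Ω} {D₁ D₁' : FusionSystem S₁} {D₂ D₂' : FusionSystem S₂}
    (h : Same D₁ D₂) (h₁ : D₁.IsPPrimeResidual p D₁') (h₂ : D₂.IsPPrimeResidual p D₂') : Same D₁' D₂' := by
  obtain rfl := h.subgroup_eq
  obtain rfl := fusionSystem_ext D₁ D₂ h
  intro P
  apply Set.Subset.antisymm
  · exact h₁.2.2 D₂' h₂.1 h₂.2.1 P
  · exact h₂.2.2 D₁' h₁.1 h₁.2.1 P

theorem hyperfocal_eq_of_same {p : ℕ} {S₁ S₂ : Subgroup Ω} {F₁ : FusionSystem S₁} {F₂ : FusionSystem S₂} (h : Same F₁ F₂) :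
    F₁.hyperfocalSubgroup p = F₂.hyperfocalSubgroup p := by
  obtain rfl := h.subgroup_eq
  obtain rfl := fusionSystem_ext F₁ F₂ h
  rfl

theorem isSaturated_of_same {p : ℕ} {S₁ S₂ : Subgroup Ω} {F₁ : FusionSystem S₁} {F₂ : FusionSystem S₂} (h : Same F₁ F₂)
    (h1 : F₁.IsSaturated p) : F₂.IsSaturated p := by
  obtain rfl := h.subgroup_eq
  obtain rfl := fusionSystem_ext F₁ F₂ h
  exact h1

theorem hasPPowerIndexIn_of_same {p : ℕ} {T S₁ S₂ : Subgroup Ω} {D : FusionSystem T} {F₁ : FusionSystem S₁}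
    {F₂ : FusionSystem S₂} (h : Same F₁ F₂) (h1 : D.HasPPowerIndexIn F₁ p) : D.HasPPowerIndexIn F₂ p := by
  obtain rfl := h.subgroup_eq
  obtain rfl := fusionSystem_ext F₁ F₂ h
  exact h1

/-- A stable system is the residual limit of every system with the same maps. -/
theorem same_of_stable {p : ℕ} {U S₂ : Subgroup Ω} {L : FusionSystem U} {F₂ : FusionSystem S₂}
    (h : L.IsResidualLimitOf F₂ p) :
    ∀ (_ : Fact p.Prime) {S₁ : Subgroup Ω} (F₁ : FusionSystem S₁), Finite S₁ → IsPGroup p S₁ → F₁.IsSaturated p →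
      F₁.hyperfocalSubgroup p = S₁ → F₁.IsPPrimeResidual p F₁ → Same F₂ F₁ → Same L F₁ := by
  induction h with
  | stable F p h1 h2 =>
    intro _ S₁ F₁ _ _ _ _ _ hs
    exact hs
  | step F p D D' hD hD' hlim ih =>
    intro hp S₁ F₁ hfin hpg hsat hhyp hres hs
    apply ih hp F₁ hfin hpg hsat hhyp hres
    have h1 : F.hyperfocalSubgroup p = S₁ := by rw [hyperfocal_eq_of_same hs, hhyp]
    have h2 : D.HasPPowerIndexIn F₁ p := hasPPowerIndexIn_of_same hs hD.2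
    have h3 : Same D F₁ := same_of_pPowerIndex hpg F₁ D F₁ h1 hD.1 hsat h2 (hasPPowerIndexIn_self F₁ p)
    exact same_pPrimeResidual h3 hD' hres

/-- Residual limits of systems with the same maps have the same maps. -/
theorem same_limit {p : ℕ} {U₁ S₁ : Subgroup Ω} {L₁ : FusionSystem U₁} {F₁ : FusionSystem S₁}
    (h₁ : L₁.IsResidualLimitOf F₁ p) :
    ∀ (_ : Fact p.Prime) {U₂ S₂ : Subgroup Ω} {L₂ : FusionSystem U₂} {F₂ : FusionSystem S₂},
      L₂.IsResidualLimitOf F₂ p → Finite S₁ → IsPGroup p S₁ → F₁.IsSaturated p → Same F₁ F₂ → Same L₁ L₂ := by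
  induction h₁ with
  | stable F p h1 h2 =>
    intro hp U₂ S₂ L₂ F₂ h₂ hfin hpg hsat hs
    exact (same_of_stable h₂ hp F hfin hpg hsat h1 h2 hs.symm).symm
  | step F p D D' hD hD' hlim ih =>
    intro hp U₂ S₂ L₂ F₂ h₂ hfin hpg hsat hs
    have hSS := hs.subgroup_eq
    cases h₂ with
    | stable _ _ g1 g2 =>
      refine same_of_stable (IsResidualLimitOf.step F p D D' hD hD' hlim) hp L₂ (hSS ▸ hfin) (hSS ▸ hpg)
        (isSaturated_of_same hs hsat) g1 g2 hs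
    | step _ _ D₂ D₂' gD gD' glim =>
      have h1 : F.hyperfocalSubgroup p = F₂.hyperfocalSubgroup p := hyperfocal_eq_of_same hs
      have h2 : Same D D₂ := same_of_pPowerIndex hpg F D D₂ h1 hD.1 gD.1 hD.2
        (hasPPowerIndexIn_of_same hs.symm gD.2)
      have h3 : Same D' D₂' := same_pPrimeResidual h2 hD' gD'
      have hle : F.hyperfocalSubgroup p ≤ _ := hyperfocal_le F p
      have hfin' : Finite (F.hyperfocalSubgroup p) := Helper87.finite_of_le hle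
      exact ih hp glim hfin' (hpg.to_le hle) hD'.1 h3

end Cfsg.Agent.Lib.Helper86
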