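/-
helper86: a finite abelian `p`-group `G` with `|G : Φ(G)| = p²`, exponent `p ^ a`, in which every element killed by
`p ^ (a - 1)` lies in `Φ(G)`, is isomorphic to `(ℤ/p^a)²`.
All declarations live in `Cfsg.Agent.Lib.Helper86`.
-/
import Mathlib
import Cfsg.Agent.S0012
import Cfsg.Agent.S0014

set_option autoImplicit false

namespace Cfsg.Agent.Lib.Helper86

section

variable {G : Type*} [CommGroup G]

theorem pow_val_add {n : ℕ} [NeZero n] (u : G) (hu : u ^ n = 1) (i j : ZMod n) :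
    u ^ (i + j).val = u ^ i.val * u ^ j.val := by
  rw [ZMod.val_add, ← pow_add, ← pow_eq_pow_mod _ hu]

/-- the homomorphism `(ℤ/n)² → G`, `(i, j) ↦ u ^ i * v ^ j` -/
noncomputable def pairHom (n : ℕ) [NeZero n] (u v : G) (hu : u ^ n = 1) (hv : v ^ n = 1) :
    Multiplicative (ZMod n × ZMod n) →* G where
  toFun z := u ^ z.toAdd.1.val * v ^ z.toAdd.2.val
  map_one' := by simp
  map_mul' a b := by
    show u ^ (a.toAdd.1 + b.toAdd.1).val * v ^ (a.toAdd.2 + b.toAdd.2).val = _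
    rw [pow_val_add u hu, pow_val_add v hv]
    exact mul_mul_mul_comm _ _ _ _

theorem pairHom_natCast (n : ℕ) [NeZero n] (u v : G) (hu : u ^ n = 1) (hv : v ^ n = 1) (i j : ℕ) :
    pairHom n u v hu hv (Multiplicative.ofAdd ((i : ZMod n), (j : ZMod n))) = u ^ i * v ^ j := by
  show u ^ ((i : ZMod n)).val * v ^ ((j : ZMod n)).val = _
  rw [ZMod.val_natCast, ZMod.val_natCast, ← pow_eq_pow_mod _ hu, ← pow_eq_pow_mod _ hv]

theorem pairHom_surjective (n : ℕ) [NeZero n] (u v : G) (hu : u ^ n = 1) (hv : v ^ n = 1)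
    (h : Subgroup.closure ({u, v} : Set G) = ⊤) : Function.Surjective (pairHom n u v hu hv) := by
  rw [← MonoidHom.range_eq_top, eq_top_iff, ← h, Subgroup.closure_le]
  intro x hx
  rcases hx with rfl | rfl
  · refine ⟨Multiplicative.ofAdd (((1 : ℕ) : ZMod n), ((0 : ℕ) : ZMod n)), ?_⟩
    rw [pairHom_natCast]; simp
  · refine ⟨Multiplicative.ofAdd (((0 : ℕ) : ZMod n), ((1 : ℕ) : ZMod n)), ?_⟩
    rw [pairHom_natCast]; simp

end

theorem exists_natCast_of_nsmul_eq_zero {p a : ℕ} [hp : Fact p.Prime] (ha : 1 ≤ a) (i : ZMod (p ^ a))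
    (hi : p • i = 0) : ∃ i' : ℕ, i = ((p ^ (a - 1) * i' : ℕ) : ZMod (p ^ a)) := by
  have : NeZero (p ^ a) := ⟨pow_ne_zero a hp.out.ne_zero⟩
  have h1 : ((p * i.val : ℕ) : ZMod (p ^ a)) = 0 := by
    rw [Nat.cast_mul, ZMod.natCast_zmod_val, ← nsmul_eq_mul]; exact hi
  rw [ZMod.natCast_eq_zero_iff] at h1
  have h2 : p ^ a = p * p ^ (a - 1) := by
    rw [← pow_succ']; congr 1; omega
  have h3 : p ^ (a - 1) ∣ i.val := (Nat.mul_dvd_mul_iff_left hp.out.pos).mp (h2 ▸ h1)
  obtain ⟨i', hi'⟩ := h3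
  refine ⟨i', ?_⟩
  rw [← hi', ZMod.natCast_zmod_val]

theorem homocyclic {G : Type*} [CommGroup G] [Finite G] {p : ℕ} [hp : Fact p.Prime] (hG : IsPGroup p G)
    (hidx : (frattini G).index = p ^ 2) (a : ℕ) (ha1 : 1 ≤ a) (ha : ∀ g : G, g ^ (p ^ a) = 1)
    (hΩ : ∀ g : G, g ^ (p ^ (a - 1)) = 1 → g ∈ frattini G) :
    Nonempty (G ≃* Multiplicative (ZMod (p ^ a) × ZMod (p ^ a))) := by
  classical
  have hna : NeZero (p ^ a) := ⟨pow_ne_zero a hp.out.ne_zero⟩
  have hnp : NeZero p := ⟨hp.out.ne_zero⟩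
  -- two generators
  have hfinT : Fintype G := Fintype.ofFinite G
  obtain ⟨T, -, hT2, hTtop⟩ := (Cfsg.Agent.S0014.result p 2 hG hidx).1 Finset.univ (by simp)
  obtain ⟨u, v, -, rfl⟩ := Finset.card_eq_two.mp hT2
  have huv : Subgroup.closure ({u, v} : Set G) = ⊤ := by
    rw [← hTtop]; congr 1; simp
  set ψ := pairHom (p ^ a) u v (ha u) (ha v) with hψ
  have hsurj : Function.Surjective ψ := pairHom_surjective _ u v _ _ huv
  -- the quotient
  have hpowΦ := (Cfsg.Agent.S0012.result p hG).2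
  set π := QuotientGroup.mk' (frattini G) with hπ
  have hπsurj : Function.Surjective π := QuotientGroup.mk'_surjective _
  have hup : (π u) ^ p = 1 := by
    rw [← map_pow]
    have : u ^ p ∈ π.ker := by rw [QuotientGroup.ker_mk']; exact hpowΦ u
    exact this
  have hvp : (π v) ^ p = 1 := by
    rw [← map_pow]
    have : v ^ p ∈ π.ker := by rw [QuotientGroup.ker_mk']; exact hpowΦ v
    exact this
  set ψ' := pairHom p (π u) (π v) hup hvp with hψ'
  have hsurj' : Function.Surjective ψ' := by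
    apply pairHom_surjective
    have h1 : (Subgroup.closure ({u, v} : Set G)).map π = ⊤ := by
      rw [huv]; exact Subgroup.map_top_of_surjective π hπsurj
    rw [MonoidHom.map_closure] at h1
    rw [← h1]; congr 1
    ext x; simp [Set.image_pair]
  have hinj' : Function.Injective ψ' := by
    have hb : Function.Bijective ψ' := by
      rw [Nat.bijective_iff_surjective_and_card]
      refine ⟨hsurj', ?_⟩
      have h1 : Nat.card (G ⧸ frattini G) = p ^ 2 := by rw [← Subgroup.index_eq_card, hidx]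
      rw [h1]
      show Nat.card (ZMod p × ZMod p) = p ^ 2
      rw [Nat.card_prod, Nat.card_zmod, pow_two]
    exact hb.1
  -- injectivity of ψ
  have hinj : Function.Injective ψ := by
    rw [← MonoidHom.ker_eq_bot_iff]
    by_contra hker
    have hSp : IsPGroup p (Multiplicative (ZMod (p ^ a) × ZMod (p ^ a))) := by
      apply IsPGroup.of_card (n := 2 * a)
      show Nat.card (ZMod (p ^ a) × ZMod (p ^ a)) = p ^ (2 * a)
      rw [Nat.card_prod, Nat.card_zmod, ← pow_add]; congr 1; omega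
    have hfinS : Finite (Multiplicative (ZMod (p ^ a) × ZMod (p ^ a))) :=
      inferInstanceAs (Finite (ZMod (p ^ a) × ZMod (p ^ a)))
    have hkp : IsPGroup p ψ.ker := hSp.to_subgroup _
    have hdvd : p ∣ Nat.card ψ.ker := by
      rcases hkp.card_eq_or_dvd with h | h
      · exact absurd (Subgroup.card_eq_one.mp h) hker
      · exact h
    obtain ⟨κ, hκ⟩ := exists_prime_orderOf_dvd_card' p hdvd
    have hκker : ψ (κ : Multiplicative (ZMod (p ^ a) × ZMod (p ^ a))) = 1 := κ.2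
    have hκp : (κ : Multiplicative (ZMod (p ^ a) × ZMod (p ^ a))) ^ p = 1 := by
      have : κ ^ p = 1 := orderOf_dvd_iff_pow_eq_one.mp (dvd_of_eq hκ)
      have := congrArg Subtype.val this
      simpa using this
    obtain ⟨⟨i, j⟩, hij⟩ : ∃ z : ZMod (p ^ a) × ZMod (p ^ a),
        (κ : Multiplicative (ZMod (p ^ a) × ZMod (p ^ a))) = Multiplicative.ofAdd z := ⟨_, rfl⟩
    rw [hij] at hκp hκker
    have hp_ij : p • (i, j) = (0 : ZMod (p ^ a) × ZMod (p ^ a)) := by
      have : Multiplicative.ofAdd (p • (i, j)) = (1 : Multiplicative (ZMod (p ^ a) × ZMod (p ^ a))) := by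
        rw [ofAdd_nsmul]; exact hκp
      exact this
    have hpi : p • i = 0 := congrArg Prod.fst hp_ij
    have hpj : p • j = 0 := congrArg Prod.snd hp_ij
    obtain ⟨i', rfl⟩ := exists_natCast_of_nsmul_eq_zero ha1 i hpi
    obtain ⟨j', rfl⟩ := exists_natCast_of_nsmul_eq_zero ha1 j hpj
    rw [hψ, pairHom_natCast] at hκker
    have hw : (u ^ i' * v ^ j') ^ (p ^ (a - 1)) = 1 := by
      rw [mul_pow, ← pow_mul, ← pow_mul, mul_comm i', mul_comm j']; exact hκker
    have hwΦ := hΩ _ hw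
    have hw1 : π (u ^ i' * v ^ j') = 1 := by
      have : u ^ i' * v ^ j' ∈ π.ker := by rw [QuotientGroup.ker_mk']; exact hwΦ
      exact this
    have h1 : ψ' (Multiplicative.ofAdd ((i' : ZMod p), (j' : ZMod p))) = 1 := by
      rw [hψ', pairHom_natCast, ← map_pow, ← map_pow, ← map_mul]; exact hw1
    have h2 : Multiplicative.ofAdd ((i' : ZMod p), (j' : ZMod p)) = 1 := by
      apply hinj'; rw [h1, map_one]
    have h3 : ((i' : ZMod p), (j' : ZMod p)) = 0 := h2
    have hi0 : (i' : ZMod p) = 0 := congrArg Prod.fst h3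
    have hj0 : (j' : ZMod p) = 0 := congrArg Prod.snd h3
    rw [ZMod.natCast_eq_zero_iff] at hi0 hj0
    have hpa : p ^ a = p ^ (a - 1) * p := by
      rw [← pow_succ]; congr 1; omega
    have hi1 : ((p ^ (a - 1) * i' : ℕ) : ZMod (p ^ a)) = 0 := by
      rw [ZMod.natCast_eq_zero_iff, hpa]; exact Nat.mul_dvd_mul_left _ hi0
    have hj1 : ((p ^ (a - 1) * j' : ℕ) : ZMod (p ^ a)) = 0 := by
      rw [ZMod.natCast_eq_zero_iff, hpa]; exact Nat.mul_dvd_mul_left _ hj0
    rw [hi1, hj1] at hij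
    have hκ1 : κ = 1 := Subtype.ext hij
    rw [hκ1, orderOf_one] at hκ
    exact hp.out.one_lt.ne hκ
  exact ⟨(MulEquiv.ofBijective ψ ⟨hinj, hsurj⟩).symm⟩

end Cfsg.Agent.Lib.Helper86
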