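/-
helper86: abelian essential subgroups of rank two: `p ≥ 5` forces exponent `p`; the group-theoretic core of S5187.
All declarations live in `Cfsg.Agent.Lib.Helper86`.
-/
import Cfsg.Agent.Lib.Helper86.EssChain2
import Cfsg.Agent.Lib.Helper86.Homocyclic

set_option autoImplicit false
universe u

namespace Cfsg.Agent.Lib.Helper86

open Cfsg

theorem end_sum_apply {M : Type*} [AddCommGroup M] {ι : Type*} (s : Finset ι) (f : ι → AddMonoid.End M) (g : M) :
    (∑ i ∈ s, f i) g = ∑ i ∈ s, f i g := by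
  classical
  induction s using Finset.induction_on with
  | empty => simp
  | insert a s ha ih =>
    rw [Finset.sum_insert ha, Finset.sum_insert ha, ← ih]; rfl

theorem end_pow_add_two_apply {M : Type*} [AddCommGroup M] (N : AddMonoid.End M) (m : ℕ) (g : M) :
    (N ^ (m + 2)) g = (N ^ m) (N (N g)) := by
  rw [pow_add, pow_two]; rfl

theorem add_key {M : Type*} [AddCommGroup M] (p : ℕ) (hp : p.Prime) (hp4 : 4 ≤ p) (X : AddMonoid.End M)
    (hX : X ^ p = 1) (hN2 : ∀ g, ∃ h, (X - 1) ((X - 1) g) = p • h)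
    (hΩ : ∀ h : M, p • h = 0 → ∃ h', h = p • h') : ∀ g, ∃ h, (X - 1) g = p • h := by
  intro g
  set N := X - 1 with hN
  have hXN : X = N + 1 := by rw [hN]; abel
  have hexp : (N + 1) ^ p = 1 := by rw [← hXN]; exact hX
  have hbin := (Commute.one_right N).add_pow p
  rw [hexp] at hbin
  have h1 : g = ∑ m ∈ Finset.range (p + 1), (p.choose m) • ((N ^ m) g) := by
    have := congrArg (fun T : AddMonoid.End M => T g) hbin
    simp only [one_pow, mul_one] at this
    rw [end_sum_apply] at this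
    have h2 : ∀ m, (N ^ m * ((p.choose m : ℕ) : AddMonoid.End M)) g = (p.choose m) • ((N ^ m) g) := by
      intro m
      show (N ^ m) (((p.choose m : ℕ) : AddMonoid.End M) g) = _
      rw [AddMonoid.End.natCast_apply, map_nsmul]
    simp only [h2] at this
    exact this
  -- the subgroup `p² M`
  set P2 : AddSubgroup M := (nsmulAddMonoidHom (p ^ 2) : M →+ M).range with hP2
  have hP2mem : ∀ y : M, ((p ^ 2) • y) ∈ P2 := fun y => ⟨y, rfl⟩
  -- powers of `N` on `p`-multiples
  have hNp : ∀ (m : ℕ) (y : M), ∃ h, (N ^ (m + 2)) y = p • h := by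
    intro m y
    obtain ⟨h, hh⟩ := hN2 y
    refine ⟨(N ^ m) h, ?_⟩
    rw [end_pow_add_two_apply, hh, map_nsmul]
  have hterm : ∀ m, m + 2 ≤ p → (p.choose (m + 2)) • ((N ^ (m + 2)) g) ∈ P2 := by
    intro m hm
    obtain ⟨h, hh⟩ := hN2 g
    have h3 : (N ^ (m + 2)) g = p • (N ^ m) h := by
      rw [end_pow_add_two_apply, hh, map_nsmul]
    rcases lt_or_eq_of_le hm with hlt | heq
    · obtain ⟨c, hc⟩ := hp.dvd_choose_self (by omega : m + 2 ≠ 0) hlt
      have : (p * c) • p • (N ^ m) h = (p ^ 2) • (c • (N ^ m) h) := by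
        rw [← mul_smul, ← mul_smul]; congr 1; ring
      rw [h3, hc, this]
      exact hP2mem _
    · rw [heq, Nat.choose_self, one_smul]
      -- `N ^ p g`, `p ≥ 4`
      obtain ⟨q, hq⟩ : ∃ q, m = q + 2 := ⟨m - 2, by omega⟩
      rw [← heq, h3, hq]
      obtain ⟨h', hh'⟩ := hNp q h
      rw [hh', ← mul_smul, ← pow_two]
      exact hP2mem _
  -- split the sum
  obtain ⟨q, hq⟩ : ∃ q, p = q + 2 := ⟨p - 2, by omega⟩
  have h4 : ∑ m ∈ Finset.range (p + 1), (p.choose m) • ((N ^ m) g) =
      ∑ m ∈ Finset.range (q + 1), (p.choose (m + 2)) • ((N ^ (m + 2)) g) + p • (N g) + g := by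
    rw [hq, Finset.sum_range_succ', Finset.sum_range_succ']
    simp
  have h5 : ∑ m ∈ Finset.range (q + 1), (p.choose (m + 2)) • ((N ^ (m + 2)) g) ∈ P2 := by
    apply AddSubgroup.sum_mem
    intro m hm
    apply hterm
    have := Finset.mem_range.mp hm
    omega
  have h6 : p • (N g) = -(∑ m ∈ Finset.range (q + 1), (p.choose (m + 2)) • ((N ^ (m + 2)) g)) := by
    have h7 := h1
    rw [h4] at h7
    have h8 : ∑ m ∈ Finset.range (q + 1), (p.choose (m + 2)) • ((N ^ (m + 2)) g) + p • (N g) = 0 := by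
      have := add_eq_right.mp h7.symm
      exact this
    exact eq_neg_of_add_eq_zero_right h8
  have h9 : p • (N g) ∈ P2 := by rw [h6]; exact P2.neg_mem h5
  obtain ⟨h₂, hh₂⟩ := h9
  have h10 : p • (N g - p • h₂) = 0 := by
    rw [smul_sub, ← mul_smul, ← pow_two, ← hh₂]
    simp
  obtain ⟨h₃, hh₃⟩ := hΩ _ h10
  refine ⟨h₃ + h₂, ?_⟩
  rw [smul_add, ← hh₃]; abel


section comm

variable {G : Type*} [CommGroup G] [Finite G] {p : ℕ} [hp : Fact p.Prime]

/-- the additive endomorphism attached to an automorphism -/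
def toEnd (x : MulAut G) : AddMonoid.End (Additive G) := MonoidHom.toAdditive x.toMonoidHom

theorem toEnd_apply (x : MulAut G) (g : G) : toEnd x (Additive.ofMul g) = Additive.ofMul (x g) := rfl

theorem toEnd_pow_apply (x : MulAut G) (k : ℕ) (g : G) :
    (toEnd x ^ k) (Additive.ofMul g) = Additive.ofMul ((x ^ k) g) := by
  induction k generalizing g with
  | zero => rfl
  | succ k ih =>
    rw [pow_succ, pow_succ]
    show (toEnd x ^ k) (toEnd x (Additive.ofMul g)) = _
    rw [toEnd_apply, ih]; rfl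

theorem toEnd_sub_one_apply (x : MulAut G) (g : G) :
    (toEnd x - 1) (Additive.ofMul g) = Additive.ofMul (g⁻¹ * x g) := by
  show Additive.ofMul (x g) - Additive.ofMul g = _
  rw [← ofMul_div, div_eq_mul_inv, mul_comm]

/-- If `p ≥ 5` (here: `p ≥ 4`) and every element of order `p` of `G` lies in `Φ(G)`, a contradiction. -/
theorem false_of_large_exponent (hG : IsPGroup p G)
    (A : Subgroup (MulAut G)) [hn : ((Cfsg.Inn G).subgroupOf A).Normal]
    (E : Subgroup (A ⧸ (Cfsg.Inn G).subgroupOf A)) (hE : IsStronglyPEmbedded p E)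
    (hidx : (frattini G).index = p ^ 2) (hp4 : 4 ≤ p)
    (hΩ1 : ∀ h : G, h ^ p = 1 → h ∈ frattini G) : False := by
  classical
  have hfin : Finite (MulAut G) := Finite.of_injective (fun α : MulAut G => (α : G → G)) DFunLike.coe_injective
  have hΦ := frattini_eq_range_pow hG
  -- an element of order `p` in `A`
  have hdvd : p ∣ Nat.card A := hE.1.trans (Subgroup.card_quotient_dvd_card _)
  obtain ⟨x', hx'⟩ := exists_prime_orderOf_dvd_card' p hdvd
  set x : MulAut G := (x' : MulAut G) with hx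
  have hxA : x ∈ A := x'.2
  have hxo : orderOf x = p := by rw [hx, Subgroup.orderOf_coe, hx']
  have hxp : x ^ p = 1 := orderOf_dvd_iff_pow_eq_one.mp (dvd_of_eq hxo)
  have hx1 : x ≠ 1 := by
    intro h
    rw [h, orderOf_one] at hxo
    exact hp.out.one_lt.ne hxo
  -- F1
  obtain ⟨g₀, hg₀⟩ : ∃ g, g⁻¹ * x g ∉ frattini G := by
    by_contra hcon
    push Not at hcon
    exact hx1 (eq_one_of_trivial_mod_frattini hG A E hE x hxA hcon)
  -- the homomorphism `ν`
  let ν : G →* G := MonoidHom.mk' (fun g => g⁻¹ * x g) (fun a b => by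
    show (a * b)⁻¹ * x (a * b) = a⁻¹ * x a * (b⁻¹ * x b)
    rw [map_mul, mul_inv]
    exact mul_mul_mul_comm _ _ _ _)
  have hν : ∀ g, ν g = g⁻¹ * x g := fun g => rfl
  have hνx : ∀ g, x (ν g) = ν (x g) := by
    intro g
    rw [hν, hν, map_mul, map_inv]
  set M₀ := ν.range ⊔ frattini G with hM₀
  have hM₀x : ∀ y ∈ M₀, x y ∈ M₀ := by
    intro y hy
    rw [hM₀, Subgroup.mem_sup] at hy ⊢
    obtain ⟨c, ⟨g, rfl⟩, f, hf, rfl⟩ := hy
    exact ⟨x (ν g), ⟨x g, (hνx g).symm⟩, x f, frattini_apply_mem x f hf, (map_mul x _ f).symm⟩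
  have hM₀top : M₀ ≠ ⊤ := by
    intro h
    have hR : ν.range = ⊤ := frattini_nongenerating h
    have hsurj : Function.Surjective ν := MonoidHom.range_eq_top.mp hR
    have hinj : Function.Injective ν := Finite.injective_iff_surjective.mpr hsurj
    -- a nontrivial fixed point of `x`
    have hZ : IsPGroup p (Subgroup.zpowers x) := by
      apply IsPGroup.of_card (n := 1)
      rw [Nat.card_zpowers, hxo, pow_one]
    have hpG : p ∣ Nat.card G := by
      have h1 : (frattini G).index ∣ Nat.card G := Subgroup.index_dvd_card _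
      rw [hidx] at h1
      exact (dvd_pow_self p two_ne_zero).trans h1
    have h1fix : (1 : G) ∈ MulAction.fixedPoints (Subgroup.zpowers x) G := by
      intro z
      show (z : MulAut G) 1 = 1
      exact map_one _
    obtain ⟨b, hbfix, hb1⟩ := hZ.exists_fixed_point_of_prime_dvd_card_of_fixed_point G hpG h1fix
    have hxb : x b = b := hbfix ⟨x, Subgroup.mem_zpowers x⟩
    apply hb1
    apply hinj
    rw [map_one, hν, hxb, inv_mul_cancel]
  have hΦM₀ : frattini G ≤ M₀ := le_sup_right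
  have hM₀Φ : ¬ M₀ ≤ frattini G := by
    intro h
    apply hg₀
    exact h (le_sup_left (a := ν.range) ⟨g₀, rfl⟩)
  obtain ⟨hk, hrel⟩ := index_of_between hidx M₀ hΦM₀ hM₀Φ hM₀top
  have hxp1 : x ^ (p ^ 1) = 1 := by rw [pow_one]; exact hxp
  have hF2 : ∀ g, ν (ν g) ∈ frattini G := by
    intro g
    have h1 : ν g ∈ M₀ := le_sup_left (a := ν.range) ⟨g, rfl⟩
    exact inv_mul_apply_mem_of_relIndex_prime (frattini G) M₀ hrel x
      (fun y hy => frattini_apply_mem x y hy) hM₀x 1 hxp1 (ν g) h1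
  -- pass to the endomorphism ring
  set X := toEnd x with hX
  have hXp : X ^ p = 1 := by
    refine AddMonoidHom.ext fun m => ?_
    show (X ^ p) (Additive.ofMul (Additive.toMul m)) = _
    rw [hX, toEnd_pow_apply, hxp]; rfl
  have hsmul : ∀ y : G, Additive.ofMul (y ^ p) = p • Additive.ofMul y := fun y => rfl
  have key := add_key p hp.out hp4 X hXp (fun m => by
    show ∃ h, (X - 1) ((X - 1) (Additive.ofMul (Additive.toMul m))) = p • h
    rw [hX, toEnd_sub_one_apply, toEnd_sub_one_apply]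
    have h1 := hF2 (Additive.toMul m)
    rw [hΦ] at h1
    obtain ⟨y, hy⟩ := h1
    refine ⟨Additive.ofMul y, ?_⟩
    rw [← hsmul]
    congr 1
    exact hy.symm) (fun h hh => by
    have h1 : h.toMul ^ p = 1 := congrArg Additive.toMul hh
    have h2 := hΩ1 _ h1
    rw [hΦ] at h2
    obtain ⟨y, hy⟩ := h2
    refine ⟨Additive.ofMul y, ?_⟩
    rw [← hsmul]
    exact congrArg Additive.ofMul hy.symm)
  obtain ⟨h, hh⟩ := key (Additive.ofMul g₀)
  apply hg₀
  rw [hX, toEnd_sub_one_apply] at hh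
  rw [hΦ]
  refine ⟨h.toMul, ?_⟩
  have := congrArg Additive.toMul hh
  exact this.symm

end comm

end Cfsg.Agent.Lib.Helper86
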