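import Mathlib

/-!
# Conjugacy of elements of prime order in alternating groups (helper86)

Two permutations of order dividing `p` with supports of the same size are conjugate by an even
permutation as soon as the degree is at least `p + 2`.
-/

set_option autoImplicit false

namespace Cfsg.Agent.Lib.Helper86.AltFus

open Equiv

variable {X : Type*} [Fintype X] [DecidableEq X] (p : ℕ) [Fact p.Prime]

theorem cycleType_of_pow_prime {x : Perm X} (hx : x ^ p = 1) (h1 : x ≠ 1) :
    ∃ k : ℕ, x.cycleType = Multiset.replicate (k + 1) p ∧ x.support.card = (k + 1) * p := by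
  have hp : p.Prime := Fact.out
  have ho : orderOf x = p := orderOf_eq_prime hx h1
  obtain ⟨n, hn⟩ := Perm.cycleType_prime_order (σ := x) (by rw [ho]; exact hp)
  rw [ho] at hn
  refine ⟨n, hn, ?_⟩
  rw [← Perm.sum_cycleType, hn, Multiset.sum_replicate, smul_eq_mul]

theorem isConj_of_card_support_eq {x y : Perm X} (hx : x ^ p = 1) (hy : y ^ p = 1)
    (h : x.support.card = y.support.card) : IsConj x y := by
  have hp : p.Prime := Fact.out
  by_cases h1 : x = 1
  · subst h1
    have : y = 1 := by
      rw [← Perm.card_support_eq_zero, ← h]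
      simp
    rw [this]
  · have h2 : y ≠ 1 := by
      rintro rfl
      apply h1
      rw [← Perm.card_support_eq_zero, h]
      simp
    obtain ⟨k, hk, hkc⟩ := cycleType_of_pow_prime p hx h1
    obtain ⟨l, hl, hlc⟩ := cycleType_of_pow_prime p hy h2
    rw [Perm.isConj_iff_cycleType_eq, hk, hl]
    have : (k + 1) * p = (l + 1) * p := by rw [← hkc, ← hlc, h]
    have := Nat.eq_of_mul_eq_mul_right hp.pos this
    rw [this]

theorem exists_odd_commute {x : Perm X} (hx : x ^ p = 1) (h1 : x ≠ 1)
    (hX : p + 2 ≤ Fintype.card X) : ∃ h : Perm X, h * x = x * h ∧ Perm.sign h = -1 := by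
  have hp : p.Prime := Fact.out
  obtain ⟨k, hk, hkc⟩ := cycleType_of_pow_prime p hx h1
  have hne : ¬ (Subgroup.centralizer {x} ≤ alternatingGroup X) := by
    rw [Perm.centralizer_le_alternating_iff]
    rintro ⟨-, h2, h3⟩
    rw [hk] at h2 h3
    rw [Multiset.sum_replicate, smul_eq_mul] at h2
    have h4 := h3 p
    rw [Multiset.count_replicate_self] at h4
    have hk0 : k = 0 := by omega
    subst hk0
    omega
  obtain ⟨h, hh, hhA⟩ := SetLike.not_le_iff_exists.1 hne
  rw [Subgroup.mem_centralizer_singleton_iff] at hh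
  refine ⟨h, hh, ?_⟩
  rw [Perm.mem_alternatingGroup] at hhA
  rcases Int.units_eq_one_or (Perm.sign h) with h5 | h5
  · exact absurd h5 hhA
  · exact h5

theorem exists_alt_conj {x y : Perm X} (hx : x ^ p = 1) (hy : y ^ p = 1)
    (h : x.support.card = y.support.card) (hX : p + 2 ≤ Fintype.card X) :
    ∃ g : Perm X, Perm.sign g = 1 ∧ g * x * g⁻¹ = y := by
  obtain ⟨c, hc⟩ := isConj_iff.1 (isConj_of_card_support_eq p hx hy h)
  rcases Int.units_eq_one_or (Perm.sign c) with h5 | h5
  · exact ⟨c, h5, hc⟩
  · by_cases h1 : x = 1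
    · subst h1
      refine ⟨1, map_one _, ?_⟩
      rw [← hc]
      simp
    · obtain ⟨d, hd, hds⟩ := exists_odd_commute p hx h1 hX
      refine ⟨c * d, ?_, ?_⟩
      · rw [map_mul, h5, hds]
        decide
      · rw [← hc]
        calc c * d * x * (c * d)⁻¹ = c * (d * x) * d⁻¹ * c⁻¹ := by group
          _ = c * (x * d) * d⁻¹ * c⁻¹ := by rw [hd]
          _ = c * x * c⁻¹ := by group

end Cfsg.Agent.Lib.Helper86.AltFus
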