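import Cfsg.Agent.Lib.Helper86.AltFusWr2
import Cfsg.Agent.Lib.Helper86.AltFusConj
import Cfsg.Agent.Lib.Helper35.SymSylow

/-!
# No proper nontrivial subgroup of the wreath Sylow subgroup is closed under `A_n`-fusion (helper86)
-/

set_option autoImplicit false

namespace Cfsg.Agent.Lib.Helper86.AltFus

open Equiv Cfsg.Agent.Lib.Helper35

section gen

variable {B R : Type*} (p : ℕ) [Fact p.Prime]

theorem genP_WX {P : Subgroup (Perm B)} (hP : GenP p P) : GenP p (WX R p P) := by
  rintro _ ⟨π, hπ, c, rfl⟩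
  rw [monX_eq_base_mul_lift]
  apply Subgroup.mul_mem
  · apply Subgroup.subset_closure
    exact ⟨⟨1, P.one_mem, _, rfl⟩, monX_pow_p p _⟩
  · have h1 : liftX R p π ∈ (Subgroup.closure {x | x ∈ P ∧ x ^ p = 1}).map (liftX R p) :=
      Subgroup.mem_map_of_mem _ (hP hπ)
    rw [MonoidHom.map_closure] at h1
    refine Subgroup.closure_mono ?_ h1
    rintro _ ⟨x, ⟨hx, hxp⟩, rfl⟩
    exact ⟨⟨x, hx, 0, rfl⟩, by rw [← map_pow, hxp, map_one]⟩

end gen

section closed

variable {B R : Type*} [Fintype B] [DecidableEq B] [Fintype R] [DecidableEq R] (p : ℕ) [Fact p.Prime]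

omit [DecidableEq B] [DecidableEq R] in
theorem card_XT : Fintype.card ((B × ZMod p) ⊕ R) = Fintype.card B * p + Fintype.card R := by
  rw [Fintype.card_sum, Fintype.card_prod, ZMod.card]

/-- The indicator function of a finset of blocks. -/
def ind (D : Finset B) : B → ZMod p := fun b => if b ∈ D then 1 else 0

theorem filter_ind (D : Finset B) : Finset.univ.filter (fun b => ind p D b ≠ 0) = D := by
  ext b
  simp only [Finset.mem_filter, Finset.mem_univ, true_and, ind]
  by_cases h : b ∈ D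
  · simp [h]
  · simp [h]

theorem filter_single {b : B} {s : ZMod p} (hs : s ≠ 0) :
    Finset.univ.filter (fun b' => (Pi.single b s : B → ZMod p) b' ≠ 0) = {b} := by
  ext b'
  simp only [Finset.mem_filter, Finset.mem_univ, true_and, Finset.mem_singleton]
  by_cases h : b' = b
  · subst h
    simp [hs]
  · simp [h]

theorem filter_ind_add_single {D : Finset B} {b₁ : B} (hb₁ : b₁ ∈ D) (h2 : (2 : ZMod p) ≠ 0) :
    Finset.univ.filter (fun b => (ind p D + Pi.single b₁ 1 : B → ZMod p) b ≠ 0) = D := by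
  ext b
  rw [Finset.mem_filter]
  simp only [Finset.mem_univ, true_and, Pi.add_apply, ind]
  by_cases hb : b = b₁
  · subst hb
    rw [if_pos hb₁, Pi.single_eq_same]
    have : (1 : ZMod p) + 1 = 2 := by norm_num
    rw [this]
    exact ⟨fun _ => hb₁, fun _ => h2⟩
  · rw [Pi.single_eq_of_ne hb, add_zero]
    by_cases hbD : b ∈ D
    · simp [hbD]
    · simp [hbD]

/-- An element of order `p` of `T` exists. -/
theorem exists_order_p {S T : Subgroup (Perm ((B × ZMod p) ⊕ R))} (hSp : IsPGroup p S) (hTS : T ≤ S)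
    (hT : T ≠ ⊥) : ∃ t ∈ T, t ≠ 1 ∧ t ^ p = 1 := by
  obtain ⟨x, hx1⟩ := (Subgroup.ne_bot_iff_exists_ne_one).1 hT
  have hx1' : (x : Perm ((B × ZMod p) ⊕ R)) ≠ 1 := fun h => hx1 (Subtype.ext h)
  have hex : ∃ k : ℕ, (x : Perm ((B × ZMod p) ⊕ R)) ^ p ^ k = 1 := by
    obtain ⟨k, hk⟩ := hSp ⟨x, hTS x.2⟩
    exact ⟨k, congrArg Subtype.val hk⟩
  classical
  have hk0 : Nat.find hex ≠ 0 := by
    intro h0
    have := Nat.find_spec hex
    rw [h0, pow_zero, pow_one] at this
    exact hx1' this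
  obtain ⟨k, hk⟩ := Nat.exists_eq_succ_of_ne_zero hk0
  refine ⟨(x : Perm ((B × ZMod p) ⊕ R)) ^ p ^ k, T.pow_mem x.2 _, ?_, ?_⟩
  · exact Nat.find_min hex (by omega)
  · rw [← pow_mul, ← pow_succ]
    have := Nat.find_spec hex
    rwa [hk] at this

/-- The number of cycles of an element of order `p` is at most the number of blocks. -/
theorem cycles_le (hR : Fintype.card R < p) {x : Perm ((B × ZMod p) ⊕ R)} {k : ℕ}
    (hk : x.support.card = (k + 1) * p) : k + 1 ≤ Fintype.card B := by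
  have h1 : x.support.card ≤ Fintype.card ((B × ZMod p) ⊕ R) := Finset.card_le_univ _
  rw [card_XT, hk] at h1
  have hp : 0 < p := (Fact.out : p.Prime).pos
  by_contra h
  push Not at h
  have : (Fintype.card B + 1) * p ≤ (k + 1) * p := Nat.mul_le_mul_right p h
  nlinarith

/-- Transport of membership in `T` along equality of support sizes. -/
theorem mem_of_card_support {S T : Subgroup (Perm ((B × ZMod p) ⊕ R))}
    (hX : p + 2 ≤ Fintype.card ((B × ZMod p) ⊕ R))
    (hTA : ∀ t ∈ T, Perm.sign t = 1)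
    (hcl : ∀ t ∈ T, ∀ g : Perm ((B × ZMod p) ⊕ R), Perm.sign g = 1 → g * t * g⁻¹ ∈ S → g * t * g⁻¹ ∈ T)
    {t : Perm ((B × ZMod p) ⊕ R)} (ht : t ∈ T) (htp : t ^ p = 1)
    {y : Perm ((B × ZMod p) ⊕ R)} (hyp : y ^ p = 1) (hyS : Perm.sign y = 1 → y ∈ S)
    (hcard : y.support.card = t.support.card) : y ∈ T := by
  obtain ⟨g, hg, hgt⟩ := exists_alt_conj p htp hyp hcard.symm hX
  have hsy : Perm.sign y = 1 := by
    rw [← hgt, map_mul, map_mul, map_inv, hTA t ht, hg]
    simp
  have := hcl t ht g hg (by rw [hgt]; exact hyS hsy)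
  rwa [hgt] at this

theorem card_X_ge (hB : 3 ≤ Fintype.card B) : p + 2 ≤ Fintype.card ((B × ZMod p) ⊕ R) := by
  rw [card_XT]
  have hp : 2 ≤ p := (Fact.out : p.Prime).two_le
  nlinarith

/-- **Closedness, `p` odd.** -/
theorem closed_odd (hp : p ≠ 2) (hR : Fintype.card R < p) (hB : 3 ≤ Fintype.card B)
    {S T : Subgroup (Perm ((B × ZMod p) ⊕ R))} (hES : EX B R p ≤ S) (hSp : IsPGroup p S)
    (hgen : GenP p S) (hTS : T ≤ S) (hT : T ≠ ⊥)
    (hcl : ∀ t ∈ T, ∀ g : Perm ((B × ZMod p) ⊕ R), Perm.sign g = 1 → g * t * g⁻¹ ∈ S → g * t * g⁻¹ ∈ T) :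
    T = S := by
  have hpp : p.Prime := Fact.out
  have hodd : Odd p := hpp.odd_of_ne_two hp
  have hX := card_X_ge (R := R) p hB
  have hSA : ∀ s ∈ S, Perm.sign s = 1 := by
    intro s hs
    obtain ⟨k, hk⟩ := hSp ⟨s, hs⟩
    have hk' : s ^ p ^ k = 1 := congrArg Subtype.val hk
    exact sign_eq_one_of_pow_odd (hodd.pow) hk'
  have hTA : ∀ t ∈ T, Perm.sign t = 1 := fun t ht => hSA t (hTS ht)
  have h2 : (2 : ZMod p) ≠ 0 := by
    intro h
    have h' : ((2 : ℕ) : ZMod p) = 0 := by exact_mod_cast h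
    rw [ZMod.natCast_eq_zero_iff] at h'
    have := Nat.le_of_dvd (by norm_num) h'
    have := hpp.two_le
    omega
  obtain ⟨t, htT, ht1, htp⟩ := exists_order_p p hSp hTS hT
  obtain ⟨k, -, hkc⟩ := cycleType_of_pow_prime p htp ht1
  have hkB := cycles_le p hR hkc
  obtain ⟨D, hD⟩ := Finset.exists_subset_card_eq (s := (Finset.univ : Finset B)) (n := k + 1)
    (by rw [Finset.card_univ]; exact hkB)
  obtain ⟨-, hDc⟩ := hD
  obtain ⟨b₁, hb₁⟩ : D.Nonempty := by
    rw [← Finset.card_pos, hDc]; omega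
  -- the two standard elements
  have hstd : ∀ c : B → ZMod p, monX (R := R) p (1 : Perm B) 1 c ∈ S := fun c => hES ⟨c, rfl⟩
  have m1 : monX (R := R) p (1 : Perm B) 1 (ind p D) ∈ T := by
    apply mem_of_card_support p hX hTA hcl htT htp (monX_pow_p p _) (fun _ => hstd _)
    rw [card_support_monX_base, filter_ind, hDc, hkc]
  have m2 : monX (R := R) p (1 : Perm B) 1 (ind p D + Pi.single b₁ 1) ∈ T := by
    apply mem_of_card_support p hX hTA hcl htT htp (monX_pow_p p _) (fun _ => hstd _)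
    rw [card_support_monX_base, hkc, filter_ind_add_single p hb₁ h2, hDc]
  have m3 : monX (R := R) p (1 : Perm B) 1 (Pi.single b₁ 1) ∈ T := by
    have h := T.mul_mem (T.inv_mem m1) m2
    rwa [monX_add, inv_mul_cancel_left] at h
  have m4 : ∀ (b : B) (s : ZMod p), monX (R := R) p (1 : Perm B) 1 (Pi.single b s) ∈ T := by
    intro b s
    by_cases hs : s = 0
    · subst hs
      rw [Pi.single_zero, monX_one]
      exact T.one_mem
    · apply mem_of_card_support p hX hTA hcl m3 (monX_pow_p p _) (monX_pow_p p _) (fun _ => hstd _)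
      rw [card_support_monX_base, card_support_monX_base, filter_single p hs, filter_single p one_ne_zero,
        Finset.card_singleton, Finset.card_singleton]
  have m5 : ∀ c : B → ZMod p, monX (R := R) p (1 : Perm B) 1 c ∈ T := by
    apply fun_induction
    · rw [monX_one]; exact T.one_mem
    · intro c b s hc
      rw [monX_add]
      exact T.mul_mem hc (m4 b s)
  apply le_antisymm hTS
  refine hgen.trans ?_
  rw [Subgroup.closure_le]
  rintro x ⟨hxS, hxp⟩
  by_cases hx1 : x = 1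
  · rw [hx1]; exact T.one_mem
  · obtain ⟨k', -, hk'c⟩ := cycleType_of_pow_prime p hxp hx1
    have hk'B := cycles_le p hR hk'c
    obtain ⟨D', hD'⟩ := Finset.exists_subset_card_eq (s := (Finset.univ : Finset B)) (n := k' + 1)
      (by rw [Finset.card_univ]; exact hk'B)
    obtain ⟨-, hD'c⟩ := hD'
    apply mem_of_card_support p hX hTA hcl (m5 (ind p D')) (monX_pow_p p _) hxp (fun _ => hxS)
    rw [card_support_monX_base, filter_ind, hD'c, hk'c]

end closed

end Cfsg.Agent.Lib.Helper86.AltFus
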