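import Cfsg.Agent.Lib.Helper86.AltFusClosed

/-!
# Closedness for `p = 2` (helper86)
-/

set_option autoImplicit false
set_option linter.unusedSectionVars false
set_option linter.unusedSimpArgs false

namespace Cfsg.Agent.Lib.Helper86.AltFus

open Equiv Cfsg.Agent.Lib.Helper35

section two

variable {B R : Type*} [Fintype B] [DecidableEq B] [Fintype R] [DecidableEq R]

theorem sign_liftX_two (σ : Perm B) : Perm.sign (liftX R 2 σ) = 1 := by
  rw [liftX_apply, sign_monX_lift, Int.units_sq]

theorem genP_WX_alt_two {P : Subgroup (Perm B)} (hP : GenP 2 P) :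
    GenP 2 (WX R 2 P ⊓ alternatingGroup ((B × ZMod 2) ⊕ R)) := by
  rintro x ⟨⟨π, hπ, c, rfl⟩, hxA⟩
  rw [monX_eq_base_mul_lift]
  apply Subgroup.mul_mem
  · apply Subgroup.subset_closure
    refine ⟨⟨⟨1, P.one_mem, _, rfl⟩, ?_⟩, monX_pow_p 2 _⟩
    have hxA' := Perm.mem_alternatingGroup.1 hxA
    rw [monX_eq_base_mul_lift, map_mul, sign_liftX_two, mul_one] at hxA'
    exact Perm.mem_alternatingGroup.2 hxA'
  · have h1 : liftX R 2 π ∈ (Subgroup.closure {x | x ∈ P ∧ x ^ 2 = 1}).map (liftX R 2) :=
      Subgroup.mem_map_of_mem _ (hP hπ)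
    rw [MonoidHom.map_closure] at h1
    refine Subgroup.closure_mono ?_ h1
    rintro _ ⟨y, ⟨hy, hyp⟩, rfl⟩
    exact ⟨⟨⟨y, hy, 0, rfl⟩, Perm.mem_alternatingGroup.2 (sign_liftX_two y)⟩,
      by rw [← map_pow, hyp, map_one]⟩

/-- The character `x ↦ (-1)^x` of `ZMod 2`. -/
def eps2 (x : ZMod 2) : ℤˣ := if x = 0 then 1 else -1

theorem eps2_add (x y : ZMod 2) : eps2 (x + y) = eps2 x * eps2 y := by
  revert x y; decide

theorem eps2_eq_one {x : ZMod 2} : eps2 x = 1 ↔ x = 0 := by
  revert x; decide

theorem prod_eps2 (c : B → ZMod 2) (t : Finset B) : ∏ b ∈ t, eps2 (c b) = eps2 (∑ b ∈ t, c b) := by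
  induction t using Finset.induction_on with
  | empty => simp [eps2]
  | insert b t hb ih => rw [Finset.prod_insert hb, Finset.sum_insert hb, eps2_add, ih]

theorem sign_base_two_eq (c : B → ZMod 2) :
    Perm.sign (monX (R := R) 2 (1 : Perm B) 1 c) = eps2 (∑ b, c b) := by
  rw [sign_monX_base_two, ← prod_eps2]
  rfl

theorem add_self_two (x : ZMod 2) : x + x = 0 := by
  revert x; decide

theorem zmod2_cases (x : ZMod 2) : x = 0 ∨ x = 1 := by
  revert x; decide

/-- **Closedness, `p = 2`.** -/
theorem closed_two (hR : Fintype.card R < 2) (hB : 3 ≤ Fintype.card B) {P : Subgroup (Perm B)}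
    (hP2 : IsPGroup 2 P) (hPgen : GenP 2 P) {b₁ b₂ : B} (hb : b₁ ≠ b₂) (hsw : Equiv.swap b₁ b₂ ∈ P)
    {T : Subgroup (Perm ((B × ZMod 2) ⊕ R))}
    (hTS : T ≤ WX R 2 P ⊓ alternatingGroup ((B × ZMod 2) ⊕ R)) (hT : T ≠ ⊥)
    (hcl : ∀ t ∈ T, ∀ g : Perm ((B × ZMod 2) ⊕ R), Perm.sign g = 1 →
      g * t * g⁻¹ ∈ WX R 2 P ⊓ alternatingGroup ((B × ZMod 2) ⊕ R) → g * t * g⁻¹ ∈ T) :
    T = WX R 2 P ⊓ alternatingGroup ((B × ZMod 2) ⊕ R) := by
  set S := WX R 2 P ⊓ alternatingGroup ((B × ZMod 2) ⊕ R) with hS
  have hX := card_X_ge (R := R) 2 hB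
  have hSA : ∀ s ∈ S, Perm.sign s = 1 := fun s hs => Perm.mem_alternatingGroup.1 hs.2
  have hTA : ∀ t ∈ T, Perm.sign t = 1 := fun t ht => hSA t (hTS ht)
  have hSp : IsPGroup 2 S := by
    have h1 : IsPGroup 2 (WX R 2 P) := by
      obtain ⟨j, hj⟩ := (IsPGroup.iff_card).1 hP2
      apply IsPGroup.of_card (n := j + Nat.card B)
      rw [card_WX, hj, pow_add]
    exact h1.to_le inf_le_left
  have hgen : GenP 2 S := genP_WX_alt_two hPgen
  have hstd : ∀ c : B → ZMod 2, Perm.sign (monX (R := R) 2 (1 : Perm B) 1 c) = 1 →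
      monX (R := R) 2 (1 : Perm B) 1 c ∈ S :=
    fun c h => ⟨⟨1, P.one_mem, c, rfl⟩, Perm.mem_alternatingGroup.2 h⟩
  obtain ⟨t, htT, ht1, htp⟩ := exists_order_p 2 hSp hTS hT
  obtain ⟨k, -, hkc⟩ := cycleType_of_pow_prime 2 htp ht1
  have hkB := cycles_le 2 hR hkc
  obtain ⟨D, hD⟩ := Finset.exists_subset_card_eq (s := (Finset.univ : Finset B)) (n := k + 1)
    (by rw [Finset.card_univ]; exact hkB)
  obtain ⟨-, hDc⟩ := hD
  have m1 : monX (R := R) 2 (1 : Perm B) 1 (ind 2 D) ∈ T := by
    apply mem_of_card_support 2 hX hTA hcl htT htp (monX_pow_p 2 _) (hstd _)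
    rw [card_support_monX_base, filter_ind, hDc, hkc]
  -- an element of `T` of order two moving four points
  have hw : ∃ w ∈ T, w ^ 2 = 1 ∧ w.support.card = 4 := by
    rcases Nat.lt_or_ge (k + 1) (Fintype.card B) with hlt | hge
    · obtain ⟨b₁', hb₁'⟩ : D.Nonempty := by
        rw [← Finset.card_pos, hDc]; omega
      obtain ⟨b₂', hb₂'⟩ : ∃ b, b ∉ D := by
        by_contra h
        push Not at h
        have : D = Finset.univ := Finset.eq_univ_iff_forall.2 h
        rw [this, Finset.card_univ] at hDc
        omega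
      have hne : b₁' ≠ b₂' := fun h => hb₂' (h ▸ hb₁')
      have hfil : Finset.univ.filter
          (fun b => (ind 2 D + (Pi.single b₁' 1 + Pi.single b₂' 1) : B → ZMod 2) b ≠ 0) =
          insert b₂' (D.erase b₁') := by
        ext b
        rw [Finset.mem_filter, Finset.mem_insert, Finset.mem_erase]
        simp only [Finset.mem_univ, true_and, Pi.add_apply, ind]
        by_cases h1 : b = b₁'
        · subst h1
          rw [if_pos hb₁', Pi.single_eq_same, Pi.single_eq_of_ne hne]
          simp [hne, add_self_two]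
        · by_cases h2 : b = b₂'
          · subst h2
            rw [if_neg hb₂', Pi.single_eq_same, Pi.single_eq_of_ne h1]
            simp
          · rw [Pi.single_eq_of_ne h1, Pi.single_eq_of_ne h2]
            by_cases hbD : b ∈ D
            · simp [hbD, h1, h2]
            · simp [hbD, h1, h2]
      have m2 : monX (R := R) 2 (1 : Perm B) 1 (ind 2 D + (Pi.single b₁' 1 + Pi.single b₂' 1)) ∈ T := by
        apply mem_of_card_support 2 hX hTA hcl htT htp (monX_pow_p 2 _) (hstd _)
        rw [card_support_monX_base, hfil, hkc, Finset.card_insert_of_notMem, Finset.card_erase_of_mem hb₁',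
          hDc]
        · omega
        · rw [Finset.mem_erase]
          exact fun h => hb₂' h.2
      refine ⟨monX (R := R) 2 (1 : Perm B) 1 (Pi.single b₁' 1 + Pi.single b₂' 1), ?_, monX_pow_p 2 _, ?_⟩
      · have h := T.mul_mem (T.inv_mem m1) m2
        rwa [monX_add, inv_mul_cancel_left] at h
      · have : Finset.univ.filter (fun b => (Pi.single b₁' 1 + Pi.single b₂' 1 : B → ZMod 2) b ≠ 0) =
            {b₁', b₂'} := by
          ext b
          rw [Finset.mem_filter, Finset.mem_insert, Finset.mem_singleton]
          simp only [Finset.mem_univ, true_and, Pi.add_apply]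
          by_cases h1 : b = b₁'
          · subst h1
            rw [Pi.single_eq_same, Pi.single_eq_of_ne hne]
            simp
          · by_cases h2 : b = b₂'
            · subst h2
              rw [Pi.single_eq_same, Pi.single_eq_of_ne h1]
              simp
            · rw [Pi.single_eq_of_ne h1, Pi.single_eq_of_ne h2]
              simp [h1, h2]
        rw [card_support_monX_base, this, Finset.card_pair hne]
    · -- `t` moves all blocks
      have hDu : D = Finset.univ := by
        apply Finset.eq_univ_of_card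
        rw [hDc]; omega
      set c₀ : B → ZMod 2 := fun b => if b = b₁ ∨ b = b₂ then 0 else 1 with hc₀
      set c₁ : B → ZMod 2 := fun b => if b = b₁ ∨ b = b₂ then 1 else 0 with hc₁
      have hinv : ∀ b, (b = b₁ ∨ b = b₂) ↔ (Equiv.swap b₁ b₂ b = b₁ ∨ Equiv.swap b₁ b₂ b = b₂) := by
        intro b
        by_cases h1 : b = b₁
        · subst h1; simp
        · by_cases h2 : b = b₂
          · subst h2; simp
          · rw [Equiv.swap_apply_of_ne_of_ne h1 h2]
      have hsq : ∀ c : B → ZMod 2, (∀ b, c (Equiv.swap b₁ b₂ b) = c b) →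
          (monX (R := R) 2 (Equiv.swap b₁ b₂) 1 c) ^ 2 = 1 := by
        intro c hc
        rw [pow_two, monX_mul]
        convert monX_one (R := R) (B := B) 2 using 2
        · exact Equiv.swap_mul_self b₁ b₂
        · ext b; simp
        · ext b
          simp only [Pi.one_apply, Units.val_one, one_mul, Pi.zero_apply]
          rw [hc]
          exact add_self_two _
      have hc₀inv : ∀ b, c₀ (Equiv.swap b₁ b₂ b) = c₀ b := by
        intro b
        simp only [hc₀]
        by_cases h : b = b₁ ∨ b = b₂
        · rw [if_pos h, if_pos ((hinv b).1 h)]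
        · rw [if_neg h, if_neg (fun h' => h ((hinv b).2 h'))]
      have hc₁inv : ∀ b, c₁ (Equiv.swap b₁ b₂ b) = c₁ b := by
        intro b
        simp only [hc₁]
        by_cases h : b = b₁ ∨ b = b₂
        · rw [if_pos h, if_pos ((hinv b).1 h)]
        · rw [if_neg h, if_neg (fun h' => h ((hinv b).2 h'))]
      have hxsupp : (monX (R := R) 2 (Equiv.swap b₁ b₂) 1 c₀).support =
          (Finset.univ : Finset (B × ZMod 2)).map ⟨Sum.inl, Sum.inl_injective⟩ := by
        ext x
        rcases x with ⟨b, i⟩ | r
        · simp only [Perm.mem_support, monX_inl, Finset.mem_map, Finset.mem_univ, true_and,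
            Function.Embedding.coeFn_mk, Sum.inl.injEq, exists_eq, iff_true, ne_eq, Prod.mk.injEq,
            Pi.one_apply, Units.val_one, one_mul, not_and]
          intro h1
          have hb12 : ¬ (b = b₁ ∨ b = b₂) := by
            rintro (h | h)
            · subst h; rw [Equiv.swap_apply_left] at h1; exact hb h1.symm
            · subst h; rw [Equiv.swap_apply_right] at h1; exact hb h1
          simp only [hc₀, if_neg hb12]
          revert i; decide
        · simp [Perm.mem_support]
      have mx : monX (R := R) 2 (Equiv.swap b₁ b₂) 1 c₀ ∈ T := by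
        apply mem_of_card_support 2 hX hTA hcl htT htp (hsq c₀ hc₀inv)
          (fun h => ⟨⟨_, hsw, c₀, rfl⟩, Perm.mem_alternatingGroup.2 h⟩)
        rw [hxsupp, Finset.card_map, Finset.card_univ, Fintype.card_prod, ZMod.card, hkc]
        omega
      have hprod : monX (R := R) 2 (Equiv.swap b₁ b₂) 1 c₀ * monX 2 1 1 (ind 2 D) =
          monX 2 (Equiv.swap b₁ b₂) 1 c₁ := by
        rw [monX_mul]
        congr 1
        ext b
        have h1 : ind 2 D b = 1 := by simp [ind, hDu]
        simp only [Pi.one_apply, Units.val_one, one_mul, Perm.one_apply, h1]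
        by_cases h : b = b₁ ∨ b = b₂
        · simp only [hc₀, hc₁, if_pos h, add_zero]
        · simp only [hc₀, hc₁, if_neg h]
          decide
      refine ⟨monX (R := R) 2 (Equiv.swap b₁ b₂) 1 c₁, ?_, hsq c₁ hc₁inv, ?_⟩
      · rw [← hprod]
        exact T.mul_mem mx m1
      · have : (monX (R := R) 2 (Equiv.swap b₁ b₂) 1 c₁).support =
            (({b₁, b₂} : Finset B) ×ˢ (Finset.univ : Finset (ZMod 2))).map
              ⟨Sum.inl, Sum.inl_injective⟩ := by
          ext x
          rcases x with ⟨b, i⟩ | r
          · simp only [Perm.mem_support, monX_inl, Finset.mem_map, Finset.mem_product, Finset.mem_insert,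
              Finset.mem_singleton, Finset.mem_univ, and_true, Function.Embedding.coeFn_mk,
              Sum.inl.injEq, exists_eq_right, ne_eq, Prod.mk.injEq, Pi.one_apply, Units.val_one,
              one_mul, not_and]
            constructor
            · intro h
              by_contra hb12
              have hs : Equiv.swap b₁ b₂ b = b := by
                apply Equiv.swap_apply_of_ne_of_ne
                · exact fun h' => hb12 (Or.inl h')
                · exact fun h' => hb12 (Or.inr h')
              apply h hs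
              simp only [hc₁, if_neg hb12, add_zero]
            · rintro (h | h) h1
              · subst h; rw [Equiv.swap_apply_left] at h1; exact absurd h1.symm hb
              · subst h; rw [Equiv.swap_apply_right] at h1; exact absurd h1 hb
          · simp [Perm.mem_support]
        rw [this, Finset.card_map, Finset.card_product, Finset.card_pair hb, Finset.card_univ, ZMod.card]
  obtain ⟨w, hwT, hw2, hwc⟩ := hw
  have m4 : ∀ b b' : B, b ≠ b' → monX (R := R) 2 (1 : Perm B) 1 (Pi.single b 1 + Pi.single b' 1) ∈ T := by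
    intro b b' hbb
    apply mem_of_card_support 2 hX hTA hcl hwT hw2 (monX_pow_p 2 _) (hstd _)
    have : Finset.univ.filter (fun x => (Pi.single b 1 + Pi.single b' 1 : B → ZMod 2) x ≠ 0) =
        {b, b'} := by
      ext x
      rw [Finset.mem_filter, Finset.mem_insert, Finset.mem_singleton]
      simp only [Finset.mem_univ, true_and, Pi.add_apply]
      by_cases h1 : x = b
      · subst h1
        rw [Pi.single_eq_same, Pi.single_eq_of_ne hbb]
        simp
      · by_cases h2 : x = b'
        · subst h2
          rw [Pi.single_eq_same, Pi.single_eq_of_ne h1]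
          simp
        · rw [Pi.single_eq_of_ne h1, Pi.single_eq_of_ne h2]
          simp [h1, h2]
    rw [card_support_monX_base, this, Finset.card_pair hbb, hwc]
  obtain ⟨b₀⟩ : Nonempty B := by
    rw [← Fintype.card_pos_iff]; omega
  have m5 : ∀ c : B → ZMod 2,
      monX (R := R) 2 (1 : Perm B) 1 (c + Pi.single b₀ (∑ b, c b)) ∈ T := by
    apply fun_induction
    · simp only [Pi.zero_apply, Finset.sum_const_zero, Pi.single_zero, add_zero]
      rw [monX_one]; exact T.one_mem
    · intro c b s hc
      have h1 : c + Pi.single b s + Pi.single b₀ (∑ x, (c + (Pi.single b s : B → ZMod 2)) x) =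
          (c + Pi.single b₀ (∑ x, c x)) + (Pi.single b s + Pi.single b₀ s) := by
        have : ∑ x, (c + (Pi.single b s : B → ZMod 2)) x = (∑ x, c x) + s := by
          simp only [Pi.add_apply, Finset.sum_add_distrib]
          congr 1
          rw [Finset.sum_pi_single' b s]
          simp
        rw [this, Pi.single_add]
        abel
      rw [h1, monX_add]
      apply T.mul_mem hc
      rcases zmod2_cases s with hs | hs
      · subst hs
        simp only [Pi.single_zero, add_zero]
        rw [monX_one]; exact T.one_mem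
      · subst hs
        by_cases hbb : b = b₀
        · subst hbb
          have : (Pi.single b 1 + Pi.single b 1 : B → ZMod 2) = 0 := by
            ext x
            simp only [Pi.add_apply, Pi.zero_apply]
            exact add_self_two _
          rw [this, monX_one]; exact T.one_mem
        · exact m4 b b₀ hbb
  have m6 : ∀ c : B → ZMod 2, Perm.sign (monX (R := R) 2 (1 : Perm B) 1 c) = 1 →
      monX (R := R) 2 (1 : Perm B) 1 c ∈ T := by
    intro c hc
    rw [sign_base_two_eq, eps2_eq_one] at hc
    have := m5 c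
    rwa [hc, Pi.single_zero, add_zero] at this
  apply le_antisymm hTS
  refine hgen.trans ?_
  rw [Subgroup.closure_le]
  rintro x ⟨hxS, hxp⟩
  by_cases hx1 : x = 1
  · rw [hx1]; exact T.one_mem
  · obtain ⟨k', -, hk'c⟩ := cycleType_of_pow_prime 2 hxp hx1
    have hk'B := cycles_le 2 hR hk'c
    obtain ⟨D', hD'⟩ := Finset.exists_subset_card_eq (s := (Finset.univ : Finset B)) (n := k' + 1)
      (by rw [Finset.card_univ]; exact hk'B)
    obtain ⟨-, hD'c⟩ := hD'
    have hcard : (monX (R := R) 2 (1 : Perm B) 1 (ind 2 D')).support.card = x.support.card := by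
      rw [card_support_monX_base, filter_ind, hD'c, hk'c]
    have hy : monX (R := R) 2 (1 : Perm B) 1 (ind 2 D') ∈ T := by
      apply m6
      obtain ⟨g, hg, hgx⟩ := exists_alt_conj 2 hxp (monX_pow_p 2 (ind 2 D')) hcard.symm hX
      rw [← hgx, map_mul, map_mul, map_inv, hSA x hxS, hg]
      simp
    exact mem_of_card_support 2 hX hTA hcl hy (monX_pow_p 2 _) hxp (fun _ => hxS) hcard.symm

end two

end Cfsg.Agent.Lib.Helper86.AltFus
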