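import Cfsg.Agent.Lib.Helper86.FusSimpleGens
import Cfsg.Agent.Lib.Helper85.FusionRS

/-!
# A simplicity criterion for group fusion systems allowing non-normal centric subgroups (helper86)

`isSimple_of_hb'` is the variant of `Helper98.FusionNoRadical.isSimple_of_hb` in which the auxiliary
subgroups `R` are only required to be centric (not fully normalized): by strong invariance the
`p`-elements of `Aut_F(R)` lie in `Aut_E(R)` for every `R ≤ S`.

`SimpleData'` is the corresponding group-theoretic package, invariant under isomorphisms, and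
`RelData` is its version for a subgroup `G` of an ambient group.
-/

set_option autoImplicit false

namespace Cfsg.Agent.Lib.Helper86.AltFus

open Cfsg Cfsg.FusionSystem Cfsg.Agent.Lib.Helper85 Cfsg.Agent.Lib.Helper87 Cfsg.Agent.Lib.Helper88
open Cfsg.Agent.Lib.Helper98 Cfsg.Agent.Lib.Helper86.FusSimple

section aux
variable {Ω : Type*} [Group Ω] {S : Subgroup Ω}

/-- For `E` strongly invariant in the saturated system `F` (both over `S`), every element of `Aut_F(R)` of
`p`-power order lies in `Aut_E(R)`, for every `R ≤ S`. -/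
theorem pElement_mem_autGroup' (E F : FusionSystem S) [Finite S] {p : ℕ} [Fact p.Prime]
    (hS : IsPGroup p S) (hF : F.IsSaturated p)
    (hSI : Invariance.SIProp E F) {R : Subgroup Ω} (hRS : R ≤ S)
    {γ : MulAut R} (hγ : γ ∈ F.autGroup R) {k : ℕ} (hk : γ ^ p ^ k = 1) : γ ∈ E.autGroup R := by
  obtain ⟨R₁, hconj, hfn⟩ := Cfsg.Agent.Lib.Helper85.exists_fullyNormalized_conj F hRS
  obtain ⟨e, he⟩ := (Cfsg.Agent.Lib.Helper87.isConj_iff F).1 hconj
  have hR₁S : R₁ ≤ S := hfn.1
  have hRa := (fullyAutomized_receptive_of_fullyNormalized F hS hF hfn).1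
  have hγI : IsIso F (γ : R ≃* R) := (Cfsg.Agent.Lib.Helper87.mem_autGroup_iff F hRS).1 hγ
  set γ₁ : MulAut R₁ := MulAut.congr e γ with hγ₁
  have hγ₁I : IsIso F (γ₁ : R₁ ≃* R₁) := by
    have h1 : IsIso F (e.symm.trans ((γ : R ≃* R).trans e)) := he.symm.trans (hγI.trans he)
    exact h1
  have hγ₁F : γ₁ ∈ F.autGroup R₁ := (Cfsg.Agent.Lib.Helper87.mem_autGroup_iff F hR₁S).2 hγ₁I
  have hk₁ : γ₁ ^ p ^ k = 1 := by
    rw [hγ₁, ← map_pow, hk, map_one]
  have hγ₁E : γ₁ ∈ E.autGroup R₁ := Cfsg.Agent.S5160.pElement_mem_autGroup E F hSI hRa hγ₁F hk₁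
  have hεE : R₁.subtype.comp (γ₁ : R₁ ≃* R₁).toMonoidHom ∈ E.Hom R₁ :=
    (Cfsg.Agent.Lib.Helper87.mem_autGroup_iff E hR₁S).1 hγ₁E
  have hψF : R.subtype.comp (e.symm : R₁ ≃* R).toMonoidHom ∈ F.Hom R₁ := he.symm
  obtain ⟨χ, hχ, hχe⟩ := hSI R₁ R₁ le_rfl hR₁S _ hεE (fun x => (γ₁ x).2) _ hψF
  rw [Cfsg.Agent.Lib.Helper87.mem_autGroup_iff E hRS]
  have hsub : (R₁.subgroupOf R₁).map (R.subtype.comp (e.symm : R₁ ≃* R).toMonoidHom) = R := by
    ext y
    constructor
    · rintro ⟨z, -, rfl⟩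
      exact (e.symm z).2
    · intro hy
      refine ⟨e ⟨y, hy⟩, Subgroup.mem_subgroupOf.2 (e ⟨y, hy⟩).2, ?_⟩
      show ((e.symm (e ⟨y, hy⟩) : R) : Ω) = y
      rw [MulEquiv.symm_apply_apply]
  refine hom_of_eq_on E hsub hχ (fun y hy hy' => ?_)
  show ((γ ⟨y, hy'⟩ : R) : Ω) = χ ⟨y, hy⟩
  have hx : (R.subtype.comp (e.symm : R₁ ≃* R).toMonoidHom) (Subgroup.inclusion le_rfl (e ⟨y, hy'⟩)) ∈
      (R₁.subgroupOf R₁).map (R.subtype.comp (e.symm : R₁ ≃* R).toMonoidHom) := by
    have : (R.subtype.comp (e.symm : R₁ ≃* R).toMonoidHom) (Subgroup.inclusion le_rfl (e ⟨y, hy'⟩)) = y := by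
      show ((e.symm (e ⟨y, hy'⟩) : R) : Ω) = y
      rw [MulEquiv.symm_apply_apply]
    rw [this]; exact hy
  have h3 := hχe (e ⟨y, hy'⟩) hx
  have h4 : (⟨y, hy⟩ : (R₁.subgroupOf R₁).map (R.subtype.comp (e.symm : R₁ ≃* R).toMonoidHom)) =
      ⟨(R.subtype.comp (e.symm : R₁ ≃* R).toMonoidHom) (Subgroup.inclusion le_rfl (e ⟨y, hy'⟩)), hx⟩ := by
    apply Subtype.ext
    show y = ((e.symm (e ⟨y, hy'⟩) : R) : Ω)
    rw [MulEquiv.symm_apply_apply]
  rw [h4, h3]
  show ((γ ⟨y, hy'⟩ : R) : Ω) = ((e.symm (γ₁ (e ⟨y, hy'⟩)) : R) : Ω)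
  rw [hγ₁, MulAut.congr_apply]
  simp

end aux

/-- Variant of `Helper98.FusionNoRadical.isSimple_of_hb` where `R` runs over all centric subgroups. -/
theorem isSimple_of_hb' {G : Type*} [Group G] [Finite G] (p : ℕ) [Fact p.Prime] (S : Sylow p G)
    (hS1 : (S : Subgroup G) ≠ ⊥)
    (ha : ∀ T : Subgroup G, (Cfsg.groupFusionSystem (S : Subgroup G)).StronglyClosed T →
      T = ⊥ ∨ T = (S : Subgroup G))
    (hb : Cfsg.autInducedBy ⊤ (S : Subgroup G) ≤ ⨆ (R : Subgroup G)
      (_ : (Cfsg.groupFusionSystem (S : Subgroup G)).IsCentric R),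
      Cfsg.autInducedBy (Subgroup.closure {g : G | g ∈ Subgroup.normalizer (R : Set G) ∧
        ∃ k : ℕ, orderOf g = p ^ k}) (S : Subgroup G)) :
    (Cfsg.groupFusionSystem (S : Subgroup G)).IsSimple p := by
  have hS : IsPGroup p (S : Subgroup G) := S.isPGroup'
  have hF : (Cfsg.groupFusionSystem (S : Subgroup G)).IsSaturated p :=
    Cfsg.Agent.Lib.Helper85.groupFusionSystem_isSaturated S
  refine ⟨hF, hS1, ?_⟩
  intro T E hE
  obtain ⟨⟨hEsat, -, hEinv⟩, -⟩ := hE
  have hTsc : (Cfsg.groupFusionSystem (S : Subgroup G)).StronglyClosed T := hEinv.2.1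
  rcases ha T hTsc with h | h
  · exact Or.inl h
  · right
    subst h
    refine ⟨rfl, fun P => ?_⟩
    have hEF : E.IsSubsystemOf (Cfsg.groupFusionSystem (S : Subgroup G)) := hEinv.1
    have hSI : Invariance.SIProp E (Cfsg.groupFusionSystem (S : Subgroup G)) :=
      (Invariance.invariant_iff_strong p hS _ hF E hEF hTsc).1 hEinv
    have hfrat := hEinv.2.2.2
    have hkey : (Cfsg.groupFusionSystem (S : Subgroup G)).autGroup (S : Subgroup G) ≤
        E.autGroup (S : Subgroup G) := by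
      have h1 : (Cfsg.groupFusionSystem (S : Subgroup G)).autGroup (S : Subgroup G) ≤
          Cfsg.autInducedBy ⊤ (S : Subgroup G) := by
        intro α hα
        have h2 := (Cfsg.Agent.Lib.Helper87.mem_autGroup_iff _ le_rfl).1 hα
        obtain ⟨-, -, g, hg⟩ := h2
        exact mem_autInducedBy_iff.2 ⟨g, Subgroup.mem_top g, fun x => hg x⟩
      refine (h1.trans hb).trans ?_
      refine iSup_le fun R => iSup_le fun hRc => ?_
      have hRS : R ≤ (S : Subgroup G) := hRc.1
      have hsub : ∀ g ∈ Subgroup.closure {g : G | g ∈ Subgroup.normalizer (R : Set G) ∧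
          ∃ k : ℕ, orderOf g = p ^ k},
          ∃ β ∈ E.autGroup R, ∀ x : R, ((β x : R) : G) = g * (x : G) * g⁻¹ := by
        intro g hg
        induction hg using Subgroup.closure_induction with
        | mem g hg =>
          obtain ⟨hgN, k, hk⟩ := hg
          refine ⟨conjAut R g hgN, ?_, fun x => rfl⟩
          have hγF : conjAut R g hgN ∈ (Cfsg.groupFusionSystem (S : Subgroup G)).autGroup R := by
            rw [Cfsg.Agent.Lib.Helper87.mem_autGroup_iff _ hRS]
            exact ⟨hRS, fun x => hRS (conjAut R g hgN x).2, g, fun x => rfl⟩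
          have hpow : conjAut R g hgN ^ p ^ k = 1 := by
            ext x
            rw [conj_pow_apply (g := g) (fun y => rfl), ← hk, pow_orderOf_eq_one]
            simp
          exact pElement_mem_autGroup' E _ hS hF hSI hRS hγF hpow
        | one => exact ⟨1, Subgroup.one_mem _, fun x => by simp⟩
        | mul a b _ _ iha ihb =>
          obtain ⟨β₁, hβ₁, h₁⟩ := iha
          obtain ⟨β₂, hβ₂, h₂⟩ := ihb
          refine ⟨β₁ * β₂, Subgroup.mul_mem _ hβ₁ hβ₂, fun x => ?_⟩
          rw [MulAut.mul_apply, h₁, h₂]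
          simp [mul_assoc]
        | inv a _ iha =>
          obtain ⟨β₁, hβ₁, h₁⟩ := iha
          refine ⟨β₁⁻¹, Subgroup.inv_mem _ hβ₁, fun x => ?_⟩
          have := h₁ (β₁⁻¹ x)
          rw [MulAut.apply_inv_self] at this
          rw [this]
          simp [mul_assoc]
      intro α hα
      obtain ⟨g, hg, hgα⟩ := mem_autInducedBy_iff.1 hα
      obtain ⟨β, hβ, hβg⟩ := hsub g hg
      rw [Cfsg.Agent.Lib.Helper87.mem_autGroup_iff E le_rfl]
      have hψF : (S : Subgroup G).subtype.comp (α : (S : Subgroup G) ≃* (S : Subgroup G)).toMonoidHom ∈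
          (Cfsg.groupFusionSystem (S : Subgroup G)).Hom (S : Subgroup G) :=
        ⟨le_rfl, fun x => (α x).2, g, fun x => hgα x⟩
      refine mem_of_restrict_centric_mem _ E hS hF hEsat hEF hRS hRc hψF ?_
      have hβE := (Cfsg.Agent.Lib.Helper87.mem_autGroup_iff E hRS).1 hβ
      refine hom_of_eq_on E rfl hβE (fun x hx _ => ?_)
      show ((α ⟨x, hRS hx⟩ : (S : Subgroup G)) : G) = ((β ⟨x, hx⟩ : R) : G)
      rw [hgα, hβg]
    apply Set.Subset.antisymm (hEF P)
    intro φ hφ
    have hPS : P ≤ (S : Subgroup G) := hom_le _ hφ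
    obtain ⟨α, hα, φ₀, hφ₀, hφeq⟩ := hfrat P hPS φ hφ
    have hαE := (Cfsg.Agent.Lib.Helper87.mem_autGroup_iff E le_rfl).1 (hkey hα)
    exact comp_mem' E hφ₀ hαE (fun x => hom_map_mem E hφ₀ x) (fun x => hφeq x _)

/-! ### The group-theoretic package -/

variable {G : Type*} [Group G]

/-- `R` is a subgroup of `S` containing its centralizer in `G`. -/
def GoodR' (S R : Subgroup G) : Prop :=
  R ≤ S ∧ ∀ x : G, (∀ r ∈ R, x * r = r * x) → x ∈ R

/-- The generating set of `N_G(S)` used in the criterion. -/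
def genSet' (p : ℕ) (S : Subgroup G) : Set G :=
  {g : G | g ∈ Subgroup.normalizer (S : Set G) ∧ ∃ R : Subgroup G, GoodR' S R ∧ g ∈ pGen p R}

/-- Group-theoretic data implying simplicity of `F_S(G)`. -/
structure SimpleData' (p : ℕ) (S : Subgroup G) : Prop where
  ne_bot : S ≠ ⊥
  closed : ∀ T : Subgroup G, T ≤ S → FusionCyclicQuot.FusClosed T S → T = ⊥ ∨ T = S
  gens : Subgroup.normalizer (S : Set G) ≤ Subgroup.closure (genSet' p S)

theorem isSimple_of_simpleData' [Finite G] (p : ℕ) [Fact p.Prime] (S : Sylow p G)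
    (h : SimpleData' p (S : Subgroup G)) :
    (Cfsg.groupFusionSystem (S : Subgroup G)).IsSimple p := by
  apply isSimple_of_hb' p S h.ne_bot
  · intro T hT
    exact h.closed T hT.1 (FusionCyclicQuot.fusClosed_of_stronglyClosed hT)
  · have key : ∀ g ∈ Subgroup.closure (genSet' p (S : Subgroup G)),
        ∃ β ∈ (⨆ (R : Subgroup G)
          (_ : (Cfsg.groupFusionSystem (S : Subgroup G)).IsCentric R),
          Cfsg.autInducedBy (Subgroup.closure {g : G | g ∈ Subgroup.normalizer (R : Set G) ∧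
            ∃ k : ℕ, orderOf g = p ^ k}) (S : Subgroup G)),
          ∀ x : (S : Subgroup G), ((β x : (S : Subgroup G)) : G) = g * (x : G) * g⁻¹ := by
      intro g hg
      induction hg using Subgroup.closure_induction with
      | mem g hg =>
        obtain ⟨hgN, R, ⟨hRS, hc⟩, hgR⟩ := hg
        refine ⟨Cfsg.Agent.Lib.Helper87.conjAut (S : Subgroup G) g hgN, ?_, fun x => rfl⟩
        refine (le_iSup₂ (f := fun (R : Subgroup G)
          (_ : (Cfsg.groupFusionSystem (S : Subgroup G)).IsCentric R) =>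
          Cfsg.autInducedBy (Subgroup.closure {g : G | g ∈ Subgroup.normalizer (R : Set G) ∧
            ∃ k : ℕ, orderOf g = p ^ k}) (S : Subgroup G)) R
          (FusionNoRadical.isCentric_of_centralizer_le hRS hc)) ?_
        exact Cfsg.Agent.Lib.Helper87.mem_autInducedBy_iff.2 ⟨g, hgR, fun x => rfl⟩
      | one => exact ⟨1, Subgroup.one_mem _, fun x => by simp⟩
      | mul a b _ _ iha ihb =>
        obtain ⟨β₁, hβ₁, h₁⟩ := iha
        obtain ⟨β₂, hβ₂, h₂⟩ := ihb
        refine ⟨β₁ * β₂, Subgroup.mul_mem _ hβ₁ hβ₂, fun x => ?_⟩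
        rw [MulAut.mul_apply, h₁, h₂]
        simp [mul_assoc]
      | inv a _ iha =>
        obtain ⟨β₁, hβ₁, h₁⟩ := iha
        refine ⟨β₁⁻¹, Subgroup.inv_mem _ hβ₁, fun x => ?_⟩
        have := h₁ (β₁⁻¹ x)
        rw [MulAut.apply_inv_self] at this
        rw [this]
        simp [mul_assoc]
    intro α hα
    obtain ⟨g, -, hg⟩ := Cfsg.Agent.Lib.Helper87.mem_autInducedBy_iff.1 hα
    have hgN : g ∈ Subgroup.normalizer (((S : Subgroup G)) : Set G) :=
      FusionSelfNorm.mem_normalizer_of_induces α hg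
    obtain ⟨β, hβ, hβg⟩ := key g (h.gens hgN)
    have : α = β := by
      ext x
      rw [hg, hβg]
    rw [this]
    exact hβ

/-! ### Invariance under isomorphisms -/

variable {H : Type*} [Group H]

theorem map_normalizer_le' (φ : G ≃* H) (S : Subgroup G) :
    Subgroup.normalizer ((S.map φ.toMonoidHom : Subgroup H) : Set H) ≤
      (Subgroup.normalizer (S : Set G)).map φ.toMonoidHom := by
  intro g hg
  refine ⟨φ.symm g, ?_, by simp⟩
  show φ.symm g ∈ Subgroup.normalizer (S : Set G)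
  rw [Subgroup.mem_normalizer_iff] at hg ⊢
  intro h
  have := hg (φ h)
  constructor
  · intro hh
    have h1 : φ h ∈ S.map φ.toMonoidHom := ⟨h, hh, rfl⟩
    obtain ⟨y, hy, hy'⟩ := this.1 h1
    have : φ.symm g * h * (φ.symm g)⁻¹ = y := by
      apply φ.injective
      simp only [map_mul, map_inv, MulEquiv.apply_symm_apply]
      exact hy'.symm
    rw [this]; exact hy
  · intro hh
    have h1 : g * φ h * g⁻¹ ∈ S.map φ.toMonoidHom := by
      refine ⟨φ.symm g * h * (φ.symm g)⁻¹, hh, ?_⟩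
      simp
    obtain ⟨y, hy, hy'⟩ := this.2 h1
    have : h = y := φ.injective hy'.symm
    rw [this]; exact hy

theorem mem_normalizer_map' (φ : G ≃* H) {S : Subgroup G} {g : G}
    (hg : g ∈ Subgroup.normalizer (S : Set G)) :
    φ g ∈ Subgroup.normalizer ((S.map φ.toMonoidHom : Subgroup H) : Set H) := by
  rw [Subgroup.mem_normalizer_iff] at hg ⊢
  intro h
  constructor
  · rintro ⟨y, hy, rfl⟩
    refine ⟨g * y * g⁻¹, (hg y).1 hy, by simp⟩
  · rintro ⟨y, hy, hy'⟩
    refine ⟨φ.symm h, ?_, by simp⟩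
    show φ.symm h ∈ S
    rw [hg]
    have : g * φ.symm h * g⁻¹ = y := by
      apply φ.injective
      simp only [map_mul, map_inv, MulEquiv.apply_symm_apply]
      exact hy'.symm
    rw [this]; exact hy

theorem goodR'_map (φ : G ≃* H) {S R : Subgroup G} (h : GoodR' S R) :
    GoodR' (S.map φ.toMonoidHom) (R.map φ.toMonoidHom) := by
  obtain ⟨hRS, hc⟩ := h
  refine ⟨Subgroup.map_mono hRS, ?_⟩
  intro x hx
  refine ⟨φ.symm x, hc _ (fun r hr => ?_), by simp⟩
  apply φ.injective
  simp only [map_mul, MulEquiv.apply_symm_apply]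
  exact hx (φ r) ⟨r, hr, rfl⟩

theorem pGen_map' (p : ℕ) (φ : G ≃* H) (R : Subgroup G) {g : G} (hg : g ∈ pGen p R) :
    φ g ∈ pGen p (R.map φ.toMonoidHom) := by
  unfold pGen at hg ⊢
  induction hg using Subgroup.closure_induction with
  | mem g hg =>
    apply Subgroup.subset_closure
    obtain ⟨hgN, k, hk⟩ := hg
    refine ⟨mem_normalizer_map' φ hgN, k, ?_⟩
    rw [← hk]
    exact MulEquiv.orderOf_eq φ g
  | one => rw [map_one]; exact Subgroup.one_mem _
  | mul a b _ _ iha ihb => rw [map_mul]; exact Subgroup.mul_mem _ iha ihb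
  | inv a _ iha => rw [map_inv]; exact Subgroup.inv_mem _ iha

theorem SimpleData'.map {p : ℕ} {S : Subgroup G} (h : SimpleData' p S) (φ : G ≃* H) :
    SimpleData' p (S.map φ.toMonoidHom) := by
  refine ⟨?_, ?_, ?_⟩
  · intro hbot
    exact h.ne_bot ((Subgroup.map_eq_bot_iff_of_injective S φ.injective).1 hbot)
  · intro T hTS hT
    have hT' : T.comap φ.toMonoidHom ≤ S := by
      intro x hx
      obtain ⟨s, hs, hs'⟩ := hTS hx
      have : x = s := φ.injective hs'.symm
      rw [this]; exact hs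
    have hcl : FusionCyclicQuot.FusClosed (T.comap φ.toMonoidHom) S := by
      intro m hm g hg
      show φ (g * m * g⁻¹) ∈ T
      have := hT (φ m) hm (φ g) (by
        refine ⟨g * m * g⁻¹, hg, by simp⟩)
      simpa using this
    have hmap : (T.comap φ.toMonoidHom).map φ.toMonoidHom = T :=
      Subgroup.map_comap_eq_self_of_surjective φ.surjective T
    rcases h.closed _ hT' hcl with h1 | h1
    · left
      rw [← hmap, h1, Subgroup.map_bot]
    · right
      rw [← hmap, h1]
  · intro g hg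
    obtain ⟨g₀, hg₀, rfl⟩ := map_normalizer_le' φ S hg
    have h1 := h.gens hg₀
    have : ∀ y ∈ Subgroup.closure (genSet' p S),
        φ y ∈ Subgroup.closure (genSet' p (S.map φ.toMonoidHom)) := by
      intro y hy
      induction hy using Subgroup.closure_induction with
      | mem y hy =>
        apply Subgroup.subset_closure
        obtain ⟨hyN, R, hR, hyR⟩ := hy
        exact ⟨mem_normalizer_map' φ hyN, R.map φ.toMonoidHom, goodR'_map φ hR, pGen_map' p φ R hyR⟩
      | one => rw [map_one]; exact Subgroup.one_mem _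
      | mul a b _ _ iha ihb => rw [map_mul]; exact Subgroup.mul_mem _ iha ihb
      | inv a _ iha => rw [map_inv]; exact Subgroup.inv_mem _ iha
    exact this g₀ h1

end Cfsg.Agent.Lib.Helper86.AltFus
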