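import Cfsg.Agent.Lib.Helper86.AltFusCrit

/-!
# The simplicity data relative to a subgroup of an ambient group (helper86)

`RelData p G S` is `SimpleData' p (S.subgroupOf G)` phrased with elements of the ambient group.
-/

set_option autoImplicit false

namespace Cfsg.Agent.Lib.Helper86.AltFus

open Cfsg Cfsg.Agent.Lib.Helper98 Cfsg.Agent.Lib.Helper86.FusSimple

variable {Ω : Type*} [Group Ω]

/-- The subgroup generated by the `p`-elements of `N_G(R)`. -/
def relP (p : ℕ) (G R : Subgroup Ω) : Subgroup Ω :=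
  Subgroup.closure {k : Ω | k ∈ G ∧ k ∈ Subgroup.normalizer (R : Set Ω) ∧ ∃ j : ℕ, orderOf k = p ^ j}

/-- `R ≤ S` contains its centralizer in `G`. -/
def RelGood (G S R : Subgroup Ω) : Prop :=
  R ≤ S ∧ ∀ x ∈ G, (∀ r ∈ R, x * r = r * x) → x ∈ R

/-- The generating set. -/
def relGen (p : ℕ) (G S : Subgroup Ω) : Set Ω :=
  {h : Ω | h ∈ G ∧ h ∈ Subgroup.normalizer (S : Set Ω) ∧ ∃ R : Subgroup Ω, RelGood G S R ∧ h ∈ relP p G R}

/-- Relative simplicity data. -/
structure RelData (p : ℕ) (G S : Subgroup Ω) : Prop where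
  le : S ≤ G
  ne_bot : S ≠ ⊥
  closed : ∀ T : Subgroup Ω, T ≤ S →
    (∀ t ∈ T, ∀ g ∈ G, g * t * g⁻¹ ∈ S → g * t * g⁻¹ ∈ T) → T = ⊥ ∨ T = S
  gens : ∀ g ∈ G, g ∈ Subgroup.normalizer (S : Set Ω) → g ∈ Subgroup.closure (relGen p G S)

theorem mem_normalizer_subgroupOf_iff {G S : Subgroup Ω} (hSG : S ≤ G) (g : G) :
    g ∈ Subgroup.normalizer ((S.subgroupOf G : Subgroup G) : Set G) ↔
      (g : Ω) ∈ Subgroup.normalizer (S : Set Ω) := by
  rw [← Subgroup.subgroupOf_normalizer_eq hSG, Subgroup.mem_subgroupOf]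

theorem relP_le_map (p : ℕ) {G R : Subgroup Ω} (hRG : R ≤ G) :
    relP p G R ≤ (pGen p (R.subgroupOf G)).map G.subtype := by
  unfold relP
  rw [Subgroup.closure_le]
  rintro k ⟨hkG, hkN, j, hj⟩
  refine ⟨⟨k, hkG⟩, ?_, rfl⟩
  apply Subgroup.subset_closure
  refine ⟨(mem_normalizer_subgroupOf_iff hRG ⟨k, hkG⟩).2 hkN, j, ?_⟩
  rw [← hj]
  exact Subgroup.orderOf_mk k hkG

theorem RelData.simpleData' {p : ℕ} {G S : Subgroup Ω} (h : RelData p G S) :
    SimpleData' p (S.subgroupOf G) := by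
  have hSG := h.le
  refine ⟨?_, ?_, ?_⟩
  · intro hbot
    rw [Subgroup.subgroupOf_eq_bot, disjoint_iff, inf_eq_left.2 hSG] at hbot
    exact h.ne_bot hbot
  · intro T' hT'S hT'
    have hmapS : (S.subgroupOf G).map G.subtype = S := by
      rw [Subgroup.subgroupOf_map_subtype, inf_eq_left.2 hSG]
    have h1 : T'.map G.subtype ≤ S := by
      rw [← hmapS]
      exact Subgroup.map_mono hT'S
    have h2 : ∀ t ∈ T'.map G.subtype, ∀ g ∈ G, g * t * g⁻¹ ∈ S → g * t * g⁻¹ ∈ T'.map G.subtype := by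
      rintro _ ⟨t', ht', rfl⟩ g hg hgt
      have := hT' t' ht' ⟨g, hg⟩ (by
        rw [Subgroup.mem_subgroupOf]
        exact hgt)
      exact ⟨_, this, rfl⟩
    have hcomap : (T'.map G.subtype).comap G.subtype = T' :=
      Subgroup.comap_map_eq_self_of_injective G.subtype_injective T'
    rcases h.closed _ h1 h2 with h3 | h3
    · left
      exact (Subgroup.map_eq_bot_iff_of_injective T' G.subtype_injective).1 h3
    · right
      rw [← hcomap, h3]
      rfl
  · intro g hg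
    have hgN : (g : Ω) ∈ Subgroup.normalizer (S : Set Ω) := (mem_normalizer_subgroupOf_iff hSG g).1 hg
    have h1 := h.gens g g.2 hgN
    have h2 : Subgroup.closure (relGen p G S) ≤
        (Subgroup.closure (genSet' p (S.subgroupOf G))).map G.subtype := by
      rw [Subgroup.closure_le]
      rintro x ⟨hxG, hxN, R, ⟨hRS, hRc⟩, hxR⟩
      have hRG : R ≤ G := hRS.trans hSG
      obtain ⟨x', hx', hx'x⟩ := relP_le_map p hRG hxR
      have hx'eq : x' = ⟨x, hxG⟩ := Subtype.ext hx'x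
      refine ⟨⟨x, hxG⟩, ?_, rfl⟩
      apply Subgroup.subset_closure
      refine ⟨(mem_normalizer_subgroupOf_iff hSG ⟨x, hxG⟩).2 hxN, R.subgroupOf G, ⟨?_, ?_⟩, ?_⟩
      · intro y hy
        rw [Subgroup.mem_subgroupOf] at hy ⊢
        exact hRS hy
      · intro y hy
        rw [Subgroup.mem_subgroupOf]
        apply hRc (y : Ω) y.2
        intro r hr
        have := hy ⟨r, hRG hr⟩ (by rw [Subgroup.mem_subgroupOf]; exact hr)
        exact congrArg Subtype.val this
      · rw [← hx'eq]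
        exact hx'
    obtain ⟨g', hg', hg'g⟩ := h2 h1
    have : g' = g := Subtype.ext hg'g
    rw [← this]
    exact hg'

end Cfsg.Agent.Lib.Helper86.AltFus
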