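import Cfsg.Agent.Lib.Helper86.AltFusNE
import Cfsg.Agent.Lib.Helper86.AltFusClosed2
import Cfsg.Agent.Lib.Helper86.AltFusRel

/-!
# Generation of the Sylow normalizer, `p = 2` (helper86)
-/

set_option autoImplicit false
set_option linter.unusedSectionVars false
set_option linter.unusedSimpArgs false

namespace Cfsg.Agent.Lib.Helper86.AltFus

open Equiv Cfsg.Agent.Lib.Helper35

theorem orderOf_eq_pow_of_pow_eq_one {G : Type*} [Group G] {p : ℕ} (hp : p.Prime) {k : G}
    (h : k ^ p = 1) : ∃ j : ℕ, orderOf k = p ^ j := by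
  have := orderOf_dvd_of_pow_eq_one h
  rcases (Nat.dvd_prime hp).1 this with h1 | h1
  · exact ⟨0, by rw [h1, pow_zero]⟩
  · exact ⟨1, by rw [h1, pow_one]⟩

theorem z2_ne_add_one : ∀ i : ZMod 2, i ≠ i + 1 := by decide
theorem z2_eq_or : ∀ i j : ZMod 2, j = i ∨ j = i + 1 := by decide
theorem z2_add_one_add_one : ∀ i : ZMod 2, i + 1 + 1 = i := by decide
theorem z2_zero_add_one_ne : (0 : ZMod 2) + 1 ≠ 0 := by decide
theorem z2_zero_ne_one : (0 : ZMod 2) ≠ 1 := by decide
theorem z2_of_ne : ∀ u v : ZMod 2, u ≠ v → v = 1 + u := by decide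
theorem z2_eq_or_of_ne : ∀ j u v : ZMod 2, u ≠ v → j = u ∨ j = v := by decide

section two

variable {B R : Type*} [Fintype B] [DecidableEq B] [Fintype R] [DecidableEq R]

theorem sign_pair_two (b b' : B) (hbb : b ≠ b') :
    Perm.sign (monX (R := R) 2 (1 : Perm B) 1 (Pi.single b 1 + Pi.single b' 1)) = 1 := by
  rw [sign_base_two_eq, eps2_eq_one]
  simp only [Pi.add_apply, Finset.sum_add_distrib]
  rw [Finset.sum_pi_single' b, Finset.sum_pi_single' b']
  simp
  decide

theorem monX_single_two_eq_swap (b : B) (i : ZMod 2) :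
    monX (R := R) 2 (1 : Perm B) 1 (Pi.single b 1) =
      Equiv.swap (Sum.inl (b, i)) (Sum.inl (b, i + 1)) := by
  ext x
  rcases x with ⟨b', j⟩ | r
  · rw [monX_inl]
    by_cases h : b' = b
    · subst h
      simp only [Perm.one_apply, Pi.one_apply, Units.val_one, one_mul, Pi.single_eq_same]
      have hij : j = i ∨ j = i + 1 := z2_eq_or i j
      rcases hij with rfl | rfl
      · rw [Equiv.swap_apply_left]
      · rw [Equiv.swap_apply_right]
        congr 2
        exact z2_add_one_add_one i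
    · simp only [Perm.one_apply, Pi.one_apply, Units.val_one, one_mul, Pi.single_eq_of_ne h, add_zero]
      rw [Equiv.swap_apply_of_ne_of_ne]
      · intro h'; exact h (congrArg Prod.fst (Sum.inl_injective h'))
      · intro h'; exact h (congrArg Prod.fst (Sum.inl_injective h'))
  · rw [monX_inr, Equiv.swap_apply_of_ne_of_ne] <;> exact Sum.inr_ne_inl

/-- Elements of the wreath product fixing a point fix its whole block (`p = 2`). -/
theorem WX_fix_block {P : Subgroup (Perm B)} {s : Perm ((B × ZMod 2) ⊕ R)} (hs : s ∈ WX R 2 P)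
    {b : B} {i : ZMod 2} (h : s (Sum.inl (b, i)) = Sum.inl (b, i)) (j : ZMod 2) :
    s (Sum.inl (b, j)) = Sum.inl (b, j) := by
  obtain ⟨π, -, c, rfl⟩ := hs
  rw [monX_inl] at h ⊢
  have h1 := Sum.inl_injective h
  have h2 : π b = b := congrArg Prod.fst h1
  have h3 : ((1 : B → (ZMod 2)ˣ) b : ZMod 2) * i + c b = i := congrArg Prod.snd h1
  have h4 : c b = 0 := by
    simp only [Pi.one_apply, Units.val_one, one_mul] at h3
    exact add_eq_left.1 h3
  rw [h2, h4]
  simp

/-- A transposition normalizing `S = (C_2 ≀ P) ∩ A` is a block transposition. -/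
theorem swap_eq_of_normalizes (hB : 3 ≤ Fintype.card B) (P : Subgroup (Perm B))
    {b : B} {i : ZMod 2} {y : (B × ZMod 2) ⊕ R} (hy : y ≠ Sum.inl (b, i))
    (hN : Equiv.swap (Sum.inl (b, i)) y ∈ Subgroup.normalizer
      ((WX R 2 P ⊓ alternatingGroup ((B × ZMod 2) ⊕ R) : Subgroup _) : Set _)) :
    y = Sum.inl (b, i + 1) := by
  by_contra hne
  set x : (B × ZMod 2) ⊕ R := Sum.inl (b, i) with hx
  set x' : (B × ZMod 2) ⊕ R := Sum.inl (b, i + 1) with hx'
  have hxx' : x ≠ x' := by
    intro h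
    have := congrArg Prod.snd (Sum.inl_injective h)
    exact z2_ne_add_one i this
  -- a block avoiding `b` and the block of `y`
  obtain ⟨b', hb'b, hb'y⟩ : ∃ b' : B, b' ≠ b ∧ ∀ j, y ≠ Sum.inl (b', j) := by
    rcases y with ⟨by', jy⟩ | r
    · have : ∃ b' ∈ (Finset.univ : Finset B), b' ∉ ({b, by'} : Finset B) := by
        apply Finset.exists_mem_notMem_of_card_lt_card
        calc ({b, by'} : Finset B).card ≤ 2 := Finset.card_le_two
          _ < Finset.univ.card := by rw [Finset.card_univ]; omega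
      obtain ⟨b', -, hb'⟩ := this
      rw [Finset.mem_insert, Finset.mem_singleton] at hb'
      push Not at hb'
      refine ⟨b', hb'.1, fun j h => hb'.2 ?_⟩
      exact (congrArg Prod.fst (Sum.inl_injective h)).symm
    · have : ∃ b' ∈ (Finset.univ : Finset B), b' ∉ ({b} : Finset B) := by
        apply Finset.exists_mem_notMem_of_card_lt_card
        rw [Finset.card_singleton, Finset.card_univ]; omega
      obtain ⟨b', -, hb'⟩ := this
      rw [Finset.mem_singleton] at hb'
      exact ⟨b', hb', fun j h => Sum.inr_ne_inl h⟩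
  set w := monX (R := R) 2 (1 : Perm B) 1 (Pi.single b 1 + Pi.single b' 1) with hw
  have hwS : w ∈ WX R 2 P ⊓ alternatingGroup ((B × ZMod 2) ⊕ R) :=
    ⟨⟨1, P.one_mem, _, rfl⟩, Perm.mem_alternatingGroup.2 (sign_pair_two b b' (Ne.symm hb'b))⟩
  set t := Equiv.swap x y with ht
  have hconj : t * w * t⁻¹ ∈ WX R 2 P ⊓ alternatingGroup ((B × ZMod 2) ⊕ R) :=
    (Subgroup.mem_normalizer_iff.1 hN w).1 hwS
  have htinv : t⁻¹ = t := Equiv.swap_inv x y
  have hwy : w y = y := by
    rcases hyy : y with ⟨by', jy⟩ | r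
    · rw [hw, monX_inl]
      have h1 : by' ≠ b' := fun h => hb'y jy (by rw [hyy, h])
      have h2 : by' ≠ b := by
        intro h
        subst h
        have : jy = i ∨ jy = i + 1 := z2_eq_or i jy
        rcases this with rfl | rfl
        · exact hy hyy
        · exact hne hyy
      simp [Pi.single_eq_of_ne h1, Pi.single_eq_of_ne h2]
    · rw [hw, monX_inr]
  have hwx' : w x' = x := by
    rw [hw, hx', hx, monX_inl]
    simp only [Perm.one_apply, Pi.one_apply, Units.val_one, one_mul, Pi.add_apply, Pi.single_eq_same,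
      Pi.single_eq_of_ne (Ne.symm hb'b), add_zero]
    congr 2
    exact z2_add_one_add_one i
  have h1 : (t * w * t⁻¹) x = x := by
    rw [htinv, Perm.mul_apply, Perm.mul_apply, ht, Equiv.swap_apply_left, hwy, Equiv.swap_apply_right]
  have h2 : (t * w * t⁻¹) x' = y := by
    rw [htinv, Perm.mul_apply, Perm.mul_apply, ht,
      Equiv.swap_apply_of_ne_of_ne (Ne.symm hxx') (Ne.symm hne), hwx', Equiv.swap_apply_left]
  have h3 := WX_fix_block hconj.1 h1 (i + 1)
  rw [← hx', h2] at h3
  exact hne h3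

/-- Generation of `N_{A_n}(S)`, `p = 2`: every even permutation normalizing `S` is a product of
even involutions normalizing `E ∩ A_n`. -/
theorem gens_two [Subsingleton R] (hB : 3 ≤ Fintype.card B) (P : Subgroup (Perm B))
    {g : Perm ((B × ZMod 2) ⊕ R)} (hgA : Perm.sign g = 1)
    (hgN : g ∈ Subgroup.normalizer
      ((WX R 2 P ⊓ alternatingGroup ((B × ZMod 2) ⊕ R) : Subgroup _) : Set _)) :
    g ∈ relP 2 (alternatingGroup ((B × ZMod 2) ⊕ R))
      (EX B R 2 ⊓ alternatingGroup ((B × ZMod 2) ⊕ R)) := by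
  set S := WX R 2 P ⊓ alternatingGroup ((B × ZMod 2) ⊕ R) with hS
  have hWN : WX R 2 P ≤ Subgroup.normalizer ((S : Subgroup _) : Set _) := by
    intro x hx
    rw [Subgroup.mem_normalizer_iff]
    intro h
    constructor
    · rintro ⟨h1, h2⟩
      exact ⟨(WX R 2 P).mul_mem ((WX R 2 P).mul_mem hx h1) ((WX R 2 P).inv_mem hx),
        (alternatingGroup.normal).conj_mem h h2 x⟩
    · rintro ⟨h1, h2⟩
      refine ⟨?_, ?_⟩
      · have := (WX R 2 P).mul_mem ((WX R 2 P).mul_mem ((WX R 2 P).inv_mem hx) h1) hx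
        have e : x⁻¹ * (x * h * x⁻¹) * x = h := by group
        rwa [e] at this
      · have := (alternatingGroup.normal).conj_mem _ h2 x⁻¹
        have e : x⁻¹ * (x * h * x⁻¹) * x⁻¹⁻¹ = h := by group
        rwa [e] at this
  -- `g` is monomial
  have hgM : g ∈ MX B R 2 := by
    apply mem_MX_of_conj_mem
    intro b
    have h1 : monX (R := R) 2 (1 : Perm B) 1 (Pi.single b 1) ∈
        Subgroup.normalizer ((S : Subgroup _) : Set _) := hWN ⟨1, P.one_mem, _, rfl⟩
    have h2 : g * monX (R := R) 2 (1 : Perm B) 1 (Pi.single b 1) * g⁻¹ ∈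
        Subgroup.normalizer ((S : Subgroup _) : Set _) :=
      Subgroup.mul_mem _ (Subgroup.mul_mem _ hgN h1) (Subgroup.inv_mem _ hgN)
    rw [monX_single_two_eq_swap b 0] at h2 ⊢
    have h3 : g * Equiv.swap (Sum.inl (b, (0 : ZMod 2))) (Sum.inl (b, 0 + 1)) * g⁻¹ =
        Equiv.swap (g (Sum.inl (b, 0))) (g (Sum.inl (b, 0 + 1))) := by
      rw [Equiv.swap_apply_apply]
    rw [h3] at h2 ⊢
    have hne : g (Sum.inl (b, (0 : ZMod 2) + 1)) ≠ g (Sum.inl (b, 0)) := by
      intro h
      have := congrArg Prod.snd (Sum.inl_injective (g.injective h))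
      exact z2_zero_add_one_ne this
    rcases hgx : g (Sum.inl (b, (0 : ZMod 2))) with ⟨b₁, i₁⟩ | r
    · rw [hgx] at h2 hne
      have h4 := swap_eq_of_normalizes hB P hne h2
      rw [h4, ← monX_single_two_eq_swap b₁ i₁]
      exact ⟨_, rfl⟩
    · rcases hgy : g (Sum.inl (b, (0 : ZMod 2) + 1)) with ⟨b₁, i₁⟩ | r'
      · rw [hgx, hgy, Equiv.swap_comm] at h2
        rw [hgx, hgy] at hne
        have h4 := swap_eq_of_normalizes hB P hne.symm h2
        exact absurd h4 Sum.inr_ne_inl
      · rw [hgx, hgy, Subsingleton.elim r' r] at hne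
        exact absurd rfl hne
  obtain ⟨π, a, c, rfl⟩ := hgM
  have ha : a = 1 := by
    ext b
    have : ∀ u : (ZMod 2)ˣ, u = 1 := by decide
    rw [this (a b)]
    rfl
  subst ha
  rw [monX_eq_base_mul_lift] at hgA ⊢
  rw [map_mul, sign_liftX_two, mul_one] at hgA
  have hpr : (2 : ℕ).Prime := Nat.prime_two
  have hnormE : ∀ k ∈ MX B R 2, k ∈ Subgroup.normalizer
      ((EX B R 2 ⊓ alternatingGroup ((B × ZMod 2) ⊕ R) : Subgroup _) : Set _) := by
    intro k hk
    have hkN := MX_le_normalizer 2 hk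
    rw [Subgroup.mem_normalizer_iff] at hkN ⊢
    intro h
    constructor
    · rintro ⟨h1, h2⟩
      exact ⟨(hkN h).1 h1, (alternatingGroup.normal).conj_mem h h2 k⟩
    · rintro ⟨h1, h2⟩
      refine ⟨(hkN h).2 h1, ?_⟩
      have := (alternatingGroup.normal).conj_mem _ h2 k⁻¹
      have e : k⁻¹ * (k * h * k⁻¹) * k⁻¹⁻¹ = h := by group
      rwa [e] at this
  apply Subgroup.mul_mem
  · apply Subgroup.subset_closure
    refine ⟨Perm.mem_alternatingGroup.2 hgA, hnormE _ ⟨1, 1, _, rfl⟩, ?_⟩
    exact orderOf_eq_pow_of_pow_eq_one hpr (monX_pow_p 2 _)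
  · have h1 : π ∈ Subgroup.closure {σ : Perm B | σ.IsSwap} := by
      rw [Equiv.Perm.closure_isSwap]; exact Subgroup.mem_top _
    have h2 : liftX R 2 π ∈ (Subgroup.closure {σ : Perm B | σ.IsSwap}).map (liftX R 2) :=
      Subgroup.mem_map_of_mem _ h1
    rw [MonoidHom.map_closure] at h2
    refine (Subgroup.closure_mono ?_) h2
    rintro _ ⟨σ, hσ, rfl⟩
    refine ⟨Perm.mem_alternatingGroup.2 (sign_liftX_two σ), hnormE _ ⟨σ, 1, 0, rfl⟩, ?_⟩
    apply orderOf_eq_pow_of_pow_eq_one hpr
    rw [← map_pow]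
    obtain ⟨x, y, hxy, rfl⟩ := hσ
    rw [pow_two, Equiv.swap_mul_self, map_one]

/-- `E ∩ A_n` contains its centralizer (`p = 2`, at least three blocks). -/
theorem centralizer_E0_two [Subsingleton R] (hB : 3 ≤ Fintype.card B)
    {x : Perm ((B × ZMod 2) ⊕ R)}
    (hx : ∀ r ∈ EX B R 2 ⊓ alternatingGroup ((B × ZMod 2) ⊕ R), x * r = r * x) :
    x ∈ EX B R 2 := by
  -- `x` preserves the support of every pair element
  have hsupp : ∀ (b b' : B), b ≠ b' → ∀ z, z ∈ (monX (R := R) 2 (1 : Perm B) 1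
      (Pi.single b 1 + Pi.single b' 1)).support → x z ∈ (monX (R := R) 2 (1 : Perm B) 1
      (Pi.single b 1 + Pi.single b' 1)).support := by
    intro b b' hbb z hz
    have hcomm := hx _ ⟨⟨_, rfl⟩, Perm.mem_alternatingGroup.2 (sign_pair_two (R := R) b b' hbb)⟩
    rw [Perm.mem_support] at hz ⊢
    intro h
    apply hz
    have h1 := congrArg (fun σ : Perm ((B × ZMod 2) ⊕ R) => σ z) hcomm
    simp only [Perm.mul_apply] at h1
    rw [h] at h1
    exact (x.injective h1)
  have hblock : ∀ (b : B) (i : ZMod 2), ∃ j : ZMod 2, x (Sum.inl (b, i)) = Sum.inl (b, j) := by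
    intro b i
    obtain ⟨b', hb', b'', hb'', hbb⟩ : ∃ b' : B, b' ≠ b ∧ ∃ b'' : B, b'' ≠ b ∧ b' ≠ b'' := by
      have h1 : ∃ b' ∈ (Finset.univ : Finset B), b' ∉ ({b} : Finset B) := by
        apply Finset.exists_mem_notMem_of_card_lt_card
        rw [Finset.card_singleton, Finset.card_univ]; omega
      obtain ⟨b', -, hb'⟩ := h1
      rw [Finset.mem_singleton] at hb'
      have h2 : ∃ b'' ∈ (Finset.univ : Finset B), b'' ∉ ({b, b'} : Finset B) := by
        apply Finset.exists_mem_notMem_of_card_lt_card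
        calc ({b, b'} : Finset B).card ≤ 2 := Finset.card_le_two
          _ < Finset.univ.card := by rw [Finset.card_univ]; omega
      obtain ⟨b'', -, hb''⟩ := h2
      rw [Finset.mem_insert, Finset.mem_singleton] at hb''
      push Not at hb''
      exact ⟨b', hb', b'', hb''.1, Ne.symm hb''.2⟩
    have h1 := hsupp b b' (Ne.symm hb') (Sum.inl (b, i)) (by
      rw [mem_support_monX_base]; simp [Pi.single_eq_of_ne (Ne.symm hb')])
    have h2 := hsupp b b'' (Ne.symm hb'') (Sum.inl (b, i)) (by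
      rw [mem_support_monX_base]; simp [Pi.single_eq_of_ne (Ne.symm hb'')])
    rcases hxz : x (Sum.inl (b, i)) with ⟨b₃, j⟩ | r
    · rw [hxz, mem_support_monX_base] at h1 h2
      refine ⟨j, ?_⟩
      by_contra hne
      have hb₃ : b₃ ≠ b := fun h => hne (by rw [h])
      simp only [Pi.add_apply, Pi.single_eq_of_ne hb₃, zero_add] at h1 h2
      have e1 : b₃ = b' := by
        by_contra h; exact h1 (Pi.single_eq_of_ne h _)
      have e2 : b₃ = b'' := by
        by_contra h; exact h2 (Pi.single_eq_of_ne h _)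
      exact hbb (e1.symm.trans e2)
    · rw [hxz] at h1
      exact absurd h1 (not_inr_mem_support_monX_base 2)
  choose f hf using hblock
  refine ⟨fun b => f b 0, ?_⟩
  ext z
  rcases z with ⟨b, i⟩ | r
  · rw [monX_inl, hf]
    simp only [Perm.one_apply, Pi.one_apply, Units.val_one, one_mul]
    congr 2
    have hne : f b 0 ≠ f b 1 := by
      intro h
      have h1 : x (Sum.inl (b, 0)) = x (Sum.inl (b, 1)) := by rw [hf, hf, h]
      have := congrArg Prod.snd (Sum.inl_injective (x.injective h1))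
      exact z2_zero_ne_one this
    have hv : f b 1 = 1 + f b 0 := z2_of_ne _ _ hne
    have hi : i = 0 ∨ i = 1 := zmod2_cases i
    rcases hi with rfl | rfl
    · simp
    · rw [hv]
  · rw [monX_inr]
    rcases hxr : x (Sum.inr r) with ⟨b, j⟩ | r'
    · exfalso
      -- the block `b` is already the image of block `b`
      have h0 := hf b 0
      have h1 := hf b 1
      have hne : f b 0 ≠ f b 1 := by
        intro h
        have h2 : x (Sum.inl (b, 0)) = x (Sum.inl (b, 1)) := by rw [hf, hf, h]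
        have := congrArg Prod.snd (Sum.inl_injective (x.injective h2))
        exact z2_zero_ne_one this
      have hj : j = f b 0 ∨ j = f b 1 := z2_eq_or_of_ne _ _ _ hne
      rcases hj with rfl | rfl
      · rw [← h0] at hxr
        exact Sum.inr_ne_inl (x.injective hxr)
      · rw [← h1] at hxr
        exact Sum.inr_ne_inl (x.injective hxr)
    · rw [Subsingleton.elim r' r]

end two

end Cfsg.Agent.Lib.Helper86.AltFus
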