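import Cfsg.Agent.Lib.Helper86.AltFusGens2

/-!
# Generation of the Sylow normalizer, `p` odd: the part generated by `p`-elements of `N(E)` (helper86)
-/

set_option autoImplicit false
set_option linter.unusedSectionVars false
set_option linter.unusedSimpArgs false

namespace Cfsg.Agent.Lib.Helper86.AltFus

open Equiv Cfsg.Agent.Lib.Helper35

section alt

variable {B : Type*} [Fintype B] [DecidableEq B] (p : ℕ) [Fact p.Prime]

/-- The alternating group is generated by its elements of order dividing `p`, `p` odd. -/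
theorem alternating_le_closure_pow (hp : p ≠ 2) (hB : p ≤ Fintype.card B) :
    alternatingGroup B ≤ Subgroup.closure {σ : Perm B | Perm.sign σ = 1 ∧ σ ^ p = 1} := by
  have hpp : p.Prime := Fact.out
  have hodd : Odd p := hpp.odd_of_ne_two hp
  -- an element of order `p`
  obtain ⟨σ, hσ⟩ : ∃ σ : Perm B, orderOf σ = p := by
    apply exists_prime_orderOf_dvd_card p
    rw [Fintype.card_perm]
    exact Nat.dvd_factorial hpp.pos hB
  have hσp : σ ^ p = 1 := by rw [← hσ]; exact pow_orderOf_eq_one σ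
  have hσ1 : σ ≠ 1 := by
    intro h
    rw [h, orderOf_one] at hσ
    exact hpp.one_lt.ne hσ
  obtain ⟨x, hx⟩ : ∃ x, σ x ≠ x := by
    by_contra h
    push Not at h
    exact hσ1 (Equiv.ext h)
  have hx2 : σ (σ x) ≠ x := by
    intro h
    obtain ⟨k, hk⟩ := hodd
    have h1 : (σ ^ 2) x = x := by rw [pow_two, Perm.mul_apply, h]
    have h2 : ((σ ^ 2) ^ k) x = x := Perm.pow_apply_eq_self_of_apply_eq_self h1 k
    have h3 : (σ ^ p) x = σ x := by
      rw [hk, pow_succ', pow_mul, Perm.mul_apply, h2]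
    rw [hσp, Perm.one_apply] at h3
    exact hx h3.symm
  have hx3 : σ (σ x) ≠ σ x := fun h => hx (σ.injective h)
  -- the 3-cycle
  set s := Equiv.swap x (σ x) with hs
  set τ := s * σ⁻¹ * s⁻¹ with hτ
  have hστ : σ * τ = Equiv.swap (σ x) (σ (σ x)) * Equiv.swap (σ x) x := by
    rw [Equiv.swap_apply_apply, hτ, hs, Equiv.swap_inv, Equiv.swap_comm (σ x) x]
    group
  have h3c : Perm.IsThreeCycle (σ * τ) := by
    rw [hστ]
    exact Perm.isThreeCycle_swap_mul_swap_same (Ne.symm hx3) hx (hx2)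
  have hsσ : Perm.sign σ = 1 := sign_eq_one_of_pow_odd hodd hσp
  rw [← Equiv.Perm.closure_three_cycles_eq_alternating, Subgroup.closure_le]
  intro γ hγ
  have hconj : IsConj (σ * τ) γ := by
    rw [Perm.isConj_iff_cycleType_eq, h3c.cycleType, Perm.IsThreeCycle.cycleType hγ]
  obtain ⟨g, hg⟩ := isConj_iff.1 hconj
  have e : γ = (g * σ * g⁻¹) * (g * τ * g⁻¹) := by
    rw [← hg]; group
  rw [e]
  apply Subgroup.mul_mem
  · apply Subgroup.subset_closure
    refine ⟨?_, ?_⟩
    · rw [map_mul, map_mul, map_inv, hsσ]; simp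
    · rw [conj_pow, hσp]; group
  · apply Subgroup.subset_closure
    refine ⟨?_, ?_⟩
    · rw [hτ]
      simp only [map_mul, map_inv, hsσ]
      simp
    · rw [conj_pow, hτ, conj_pow, inv_pow, hσp]; group

end alt

section K

variable {B R : Type*} [Fintype B] [DecidableEq B] [Fintype R] [DecidableEq R] (p : ℕ) [Fact p.Prime]

/-- Scalar parts as a homomorphism. -/
def scX (R : Type*) (p : ℕ) [Fact p.Prime] : (B → (ZMod p)ˣ) →* Perm ((B × ZMod p) ⊕ R) where
  toFun a := monX p 1 a 0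
  map_one' := monX_one p
  map_mul' a a' := by
    rw [monX_mul]
    congr 1
    · ext b; simp

theorem scX_apply (a : B → (ZMod p)ˣ) : scX R p a = monX p 1 a 0 := rfl

theorem lift_conj_sc (σ : Perm B) (a : B → (ZMod p)ˣ) :
    liftX R p σ * scX R p a * (liftX R p σ)⁻¹ = scX R p (fun b => a (σ⁻¹ b)) := by
  rw [mul_inv_eq_iff_eq_mul, liftX_apply, scX_apply, scX_apply, monX_mul, monX_mul]
  congr 1
  · ext b; simp
  · ext b; simp

/-- The subgroup generated by the `p`-elements of `N_{A}(E)`. -/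
abbrev KX (B R : Type*) [Fintype B] [DecidableEq B] [Fintype R] [DecidableEq R] (p : ℕ)
    [Fact p.Prime] : Subgroup (Perm ((B × ZMod p) ⊕ R)) :=
  relP p (alternatingGroup ((B × ZMod p) ⊕ R)) (EX B R p)

theorem conj_mem_KX {y : Perm ((B × ZMod p) ⊕ R)} (hy : y ∈ MX B R p)
    {k : Perm ((B × ZMod p) ⊕ R)} (hk : k ∈ KX B R p) : y * k * y⁻¹ ∈ KX B R p := by
  have h1 : (KX B R p).map (MulAut.conj y).toMonoidHom ≤ KX B R p := by
    unfold KX relP
    rw [MonoidHom.map_closure, Subgroup.closure_le]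
    rintro _ ⟨k, ⟨hkA, hkN, j, hj⟩, rfl⟩
    apply Subgroup.subset_closure
    refine ⟨?_, ?_, j, ?_⟩
    · exact (alternatingGroup.normal).conj_mem k hkA y
    · exact Subgroup.mul_mem _ (Subgroup.mul_mem _ (MX_le_normalizer p hy) hkN)
        (Subgroup.inv_mem _ (MX_le_normalizer p hy))
    · rw [← hj]
      exact (MulAut.conj y).orderOf_eq k
  exact h1 ⟨k, hk, rfl⟩

theorem base_mem_KX (hp : p ≠ 2) (c : B → ZMod p) : monX (R := R) p 1 1 c ∈ KX B R p := by
  apply Subgroup.subset_closure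
  refine ⟨Perm.mem_alternatingGroup.2 (sign_monX_base_odd p hp c),
    MX_le_normalizer p ⟨1, 1, c, rfl⟩, ?_⟩
  exact orderOf_eq_pow_of_pow_eq_one Fact.out (monX_pow_p p c)

theorem lift_mem_KX (hp : p ≠ 2) (hB : p ≤ Fintype.card B) {σ : Perm B} (hσ : Perm.sign σ = 1) :
    liftX R p σ ∈ KX B R p := by
  have h1 : σ ∈ Subgroup.closure {σ : Perm B | Perm.sign σ = 1 ∧ σ ^ p = 1} :=
    alternating_le_closure_pow p hp hB (Perm.mem_alternatingGroup.2 hσ)
  have h2 : liftX R p σ ∈ (Subgroup.closure {σ : Perm B | Perm.sign σ = 1 ∧ σ ^ p = 1}).map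
      (liftX R p) := Subgroup.mem_map_of_mem _ h1
  rw [MonoidHom.map_closure] at h2
  refine (Subgroup.closure_le _).2 ?_ h2
  rintro _ ⟨τ, ⟨hτs, hτp⟩, rfl⟩
  apply Subgroup.subset_closure
  refine ⟨?_, MX_le_normalizer p ⟨τ, 1, 0, rfl⟩, ?_⟩
  · rw [Perm.mem_alternatingGroup, liftX_apply, sign_monX_lift, hτs, one_pow]
  · apply orderOf_eq_pow_of_pow_eq_one Fact.out
    rw [← map_pow, hτp, map_one]

theorem pair_mem_KX (hp : p ≠ 2) (hB : p ≤ Fintype.card B) {b b' : B} (hbb : b ≠ b') (x : (ZMod p)ˣ) :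
    scX R p (Pi.mulSingle b x * (Pi.mulSingle b' x)⁻¹) ∈ KX B R p := by
  have hp3 : 3 ≤ p := by
    have h2 : 2 ≤ p := (Fact.out : p.Prime).two_le
    omega
  obtain ⟨b'', hb''⟩ : ∃ b'' : B, b'' ≠ b ∧ b'' ≠ b' := by
    have : ∃ b'' ∈ (Finset.univ : Finset B), b'' ∉ ({b, b'} : Finset B) := by
      apply Finset.exists_mem_notMem_of_card_lt_card
      calc ({b, b'} : Finset B).card ≤ 2 := Finset.card_le_two
        _ < Finset.univ.card := by rw [Finset.card_univ]; omega
    obtain ⟨b'', -, h⟩ := this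
    rw [Finset.mem_insert, Finset.mem_singleton] at h
    push Not at h
    exact ⟨b'', h⟩
  set σ : Perm B := Equiv.swap b b' * Equiv.swap b' b'' with hσ
  have hσs : Perm.sign σ = 1 := by
    rw [hσ, map_mul, Perm.sign_swap hbb, Perm.sign_swap (Ne.symm hb''.2)]
    decide
  have hσb : σ b = b' := by
    rw [hσ, Perm.mul_apply, Equiv.swap_apply_of_ne_of_ne hbb (Ne.symm hb''.1), Equiv.swap_apply_left]
  have hk := lift_mem_KX (R := R) p hp hB hσs
  have hy : scX R p (Pi.mulSingle b x) ∈ MX B R p := ⟨1, _, 0, rfl⟩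
  have h1 := conj_mem_KX p hy (Subgroup.inv_mem _ hk)
  have h2 := Subgroup.mul_mem _ hk h1
  have e : liftX R p σ * (scX R p (Pi.mulSingle b x) * (liftX R p σ)⁻¹ * (scX R p (Pi.mulSingle b x))⁻¹) =
      scX R p (Pi.mulSingle b' x * (Pi.mulSingle b x)⁻¹) := by
    have e1 : liftX R p σ * (scX R p (Pi.mulSingle b x) * (liftX R p σ)⁻¹ * (scX R p (Pi.mulSingle b x))⁻¹)
        = (liftX R p σ * scX R p (Pi.mulSingle b x) * (liftX R p σ)⁻¹) * (scX R p (Pi.mulSingle b x))⁻¹ := by
      group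
    rw [e1, lift_conj_sc, ← map_inv, ← map_mul]
    congr 2
    ext b₀
    by_cases h : b₀ = b'
    · subst h
      have : σ⁻¹ b₀ = b := by rw [Perm.inv_eq_iff_eq, hσb]
      simp [this]
    · have : σ⁻¹ b₀ ≠ b := by
        intro h'
        rw [Perm.inv_eq_iff_eq, hσb] at h'
        exact h h'
      simp [Pi.mulSingle_eq_of_ne h]
      exact Pi.mulSingle_eq_of_ne this _
  rw [e] at h2
  have h3 := Subgroup.inv_mem _ h2
  rw [← map_inv] at h3
  convert h3 using 2
  rw [mul_inv, inv_inv, mul_comm]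

theorem sc_mem_KX (hp : p ≠ 2) (hB : p ≤ Fintype.card B) {a : B → (ZMod p)ˣ} (ha : ∏ b, a b = 1) :
    scX R p a ∈ KX B R p := by
  have hpos : 0 < Fintype.card B := lt_of_lt_of_le (Fact.out : p.Prime).pos hB
  obtain ⟨b₀⟩ : Nonempty B := Fintype.card_pos_iff.1 hpos
  have e : a = ∏ b, (Pi.mulSingle b (a b) * (Pi.mulSingle b₀ (a b))⁻¹ : B → (ZMod p)ˣ) := by
    rw [Finset.prod_mul_distrib, Finset.univ_prod_mulSingle]
    have h1 : ∏ b, ((Pi.mulSingle b₀ (a b))⁻¹ : B → (ZMod p)ˣ) = 1 := by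
      rw [Finset.prod_inv_distrib, inv_eq_one]
      have h2 := map_prod (MonoidHom.mulSingle (fun _ : B => (ZMod p)ˣ) b₀) a Finset.univ
      simp only [MonoidHom.mulSingle_apply] at h2
      rw [← h2, ha, Pi.mulSingle_one]
    rw [h1, mul_one]
  have hD : a ∈ (KX B R p).comap (scX R p) := by
    rw [e]
    apply Subgroup.prod_mem
    intro b _
    by_cases h : b = b₀
    · subst h
      rw [mul_inv_cancel]
      exact Subgroup.one_mem _
    · exact pair_mem_KX p hp hB h (a b)
  exact hD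

/-- **The `K`-part.** Monomial permutations with even block permutation and scalar part of
determinant one are products of `p`-elements of `N_A(E)`. -/
theorem monX_mem_KX (hp : p ≠ 2) (hB : p ≤ Fintype.card B) {π : Perm B} (hπ : Perm.sign π = 1)
    {a : B → (ZMod p)ˣ} (ha : ∏ b, a b = 1) (c : B → ZMod p) :
    monX (R := R) p π a c ∈ KX B R p := by
  rw [monX_decomp]
  apply Subgroup.mul_mem _ (base_mem_KX p hp _)
  exact Subgroup.mul_mem _ (lift_mem_KX p hp hB hπ) (sc_mem_KX p hp hB ha)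

theorem card_support_single (b : B) :
    (monX (R := R) p (1 : Perm B) 1 (Pi.single b 1)).support.card = p := by
  rw [card_support_monX_base, filter_single p (one_ne_zero), Finset.card_singleton, one_mul]

/-- The normalizer of `C_p ≀ P` consists of monomial permutations. -/
theorem mem_MX_of_mem_normalizer_WX [Subsingleton R] (P : Subgroup (Perm B))
    {g : Perm ((B × ZMod p) ⊕ R)}
    (hg : g ∈ Subgroup.normalizer ((WX R p P : Subgroup _) : Set _)) : g ∈ MX B R p := by
  apply mem_MX_of_conj_mem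
  intro b
  have h1 : g * monX (R := R) p 1 1 (Pi.single b 1) * g⁻¹ ∈ WX R p P :=
    (Subgroup.mem_normalizer_iff.1 hg _).1 ⟨1, P.one_mem, _, rfl⟩
  apply mem_EX_of_card_support_lt p h1
  rw [Perm.card_support_conj, card_support_single]
  have := (Fact.out : p.Prime).pos
  omega

/-- The base group is self-centralizing. -/
theorem centralizer_EX_le [Subsingleton R] {x : Perm ((B × ZMod p) ⊕ R)}
    (hx : ∀ r ∈ EX B R p, x * r = r * x) : x ∈ EX B R p := by
  have hM : x ∈ MX B R p := by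
    apply mem_MX_of_conj_mem
    intro b
    rw [hx _ ⟨_, rfl⟩, mul_inv_cancel_right]
    exact ⟨_, rfl⟩
  obtain ⟨π, a, c, rfl⟩ := hM
  have key : ∀ b : B, π b = b ∧ a b = 1 := by
    intro b
    have h1 := hx _ ⟨Pi.single b 1, rfl⟩
    have h2 : monX (R := R) p π a c * monX p 1 1 (Pi.single b 1) * (monX p π a c)⁻¹ =
        monX p 1 1 (Pi.single b 1) := by
      rw [h1, mul_inv_cancel_right]
    rw [monX_conj_base] at h2
    have h3 := (monX_injective p h2).2.2
    have h4 := congrFun h3 (π b)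
    have h5 : π⁻¹ (π b) = b := π.symm_apply_apply b
    rw [h5, Pi.single_eq_same, mul_one] at h4
    have hπ : π b = b := by
      by_contra hne
      rw [Pi.single_eq_of_ne hne] at h4
      exact (a b).ne_zero h4
    refine ⟨hπ, ?_⟩
    rw [hπ, Pi.single_eq_same] at h4
    exact Units.ext h4
  have hπ : π = 1 := Equiv.ext fun b => (key b).1
  have ha : a = 1 := funext fun b => (key b).2
  subst hπ; subst ha
  exact ⟨c, rfl⟩

end K

end Cfsg.Agent.Lib.Helper86.AltFus
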