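import Cfsg.Agent.Lib.Helper86.AltFusGensK

/-!
# Generation of the Sylow normalizer, `p` odd: the torus elements (helper86)

Two-level structure `X = (((C × ZMod p) ⊕ L) × ZMod p) ⊕ R`.
-/

set_option autoImplicit false
set_option linter.unusedSectionVars false
set_option linter.unusedSimpArgs false

namespace Cfsg.Agent.Lib.Helper86.AltFus

open Equiv Cfsg.Agent.Lib.Helper35

theorem mem_normalizer_of_conj_mem {G : Type*} [Group G] {H : Subgroup G} {x : G}
    (h1 : ∀ h ∈ H, x * h * x⁻¹ ∈ H) (h2 : ∀ h ∈ H, x⁻¹ * h * x ∈ H) :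
    x ∈ Subgroup.normalizer (H : Set G) := by
  rw [Subgroup.mem_normalizer_iff]
  intro h
  refine ⟨h1 h, fun hh => ?_⟩
  have := h2 _ hh
  have e : x⁻¹ * (x * h * x⁻¹) * x = h := by group
  rwa [e] at this

section onelevel

variable {B R : Type*} [Fintype B] [DecidableEq B] [Fintype R] [DecidableEq R] (p : ℕ) [Fact p.Prime]

theorem conj_mem_WX {P : Subgroup (Perm B)} {π : Perm B} (hπ : ∀ σ ∈ P, π * σ * π⁻¹ ∈ P)
    {a : B → (ZMod p)ˣ} (ha : ∀ σ ∈ P, ∀ b, a (σ b) = a b)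
    {h : Perm ((B × ZMod p) ⊕ R)} (hh : h ∈ WX R p P) :
    monX p π a 0 * h * (monX p π a 0)⁻¹ ∈ WX R p P := by
  obtain ⟨σ, hσ, d, rfl⟩ := hh
  refine ⟨π * σ * π⁻¹, hπ σ hσ, fun b => (a (π⁻¹ b) : ZMod p) * d (π⁻¹ b), ?_⟩
  rw [mul_inv_eq_iff_eq_mul, monX_mul, monX_mul]
  congr 1
  · ext b; simp
  · ext b
    simp [ha σ hσ b]
  · ext b
    simp [ha σ hσ b]

theorem monX_mem_normalizer_WX {P : Subgroup (Perm B)} {π : Perm B}
    (hπ : π ∈ Subgroup.normalizer (P : Set (Perm B)))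
    {a : B → (ZMod p)ˣ} (ha : ∀ σ ∈ P, ∀ b, a (σ b) = a b) :
    monX (R := R) p π a 0 ∈ Subgroup.normalizer ((WX R p P : Subgroup _) : Set _) := by
  apply mem_normalizer_of_conj_mem
  · intro h hh
    exact conj_mem_WX p (fun σ hσ => (Subgroup.mem_normalizer_iff.1 hπ σ).1 hσ) ha hh
  · intro h hh
    have hπ' : π⁻¹ ∈ Subgroup.normalizer (P : Set (Perm B)) := Subgroup.inv_mem _ hπ
    have e : (monX (R := R) p π a 0)⁻¹ = monX p π⁻¹ (fun b => (a (π⁻¹ b))⁻¹) 0 := by
      rw [monX_inv]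
      congr 1
      ext b
      exact mul_zero _
    have h3 := conj_mem_WX (R := R) p (π := π⁻¹) (a := fun b => (a (π⁻¹ b))⁻¹)
      (fun σ hσ => (Subgroup.mem_normalizer_iff.1 hπ' σ).1 hσ) (by
        intro σ hσ b
        have h4 : π⁻¹ * σ * π⁻¹⁻¹ ∈ P := (Subgroup.mem_normalizer_iff.1 hπ' σ).1 hσ
        have h5 := ha _ h4 (π⁻¹ b)
        simp only [Perm.mul_apply, inv_inv] at h5
        have h6 : π (π⁻¹ b) = b := π.apply_symm_apply b
        rw [h6] at h5
        show (a (π⁻¹ (σ b)))⁻¹ = (a (π⁻¹ b))⁻¹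
        rw [h5]) hh
    rw [← e, inv_inv] at h3
    exact h3

end onelevel

section twolevel

variable {C L R : Type*} (p : ℕ) [Fact p.Prime]

/-- A family of permutations of `ZMod p × ZMod p` acting chunkwise. -/
def chunkFun (M : C → (ZMod p × ZMod p) → (ZMod p × ZMod p)) :
    ((((C × ZMod p) ⊕ L) × ZMod p) ⊕ R) → ((((C × ZMod p) ⊕ L) × ZMod p) ⊕ R)
  | Sum.inl (Sum.inl (c, j), i) => Sum.inl (Sum.inl (c, (M c (j, i)).1), (M c (j, i)).2)
  | Sum.inl (Sum.inr l, i) => Sum.inl (Sum.inr l, i)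
  | Sum.inr r => Sum.inr r

theorem chunkFun_comp (M M' : C → (ZMod p × ZMod p) → (ZMod p × ZMod p))
    (z : (((C × ZMod p) ⊕ L) × ZMod p) ⊕ R) :
    chunkFun (L := L) (R := R) p M (chunkFun p M' z) = chunkFun p (fun c => M c ∘ M' c) z := by
  rcases z with ⟨(⟨c, j⟩ | l), i⟩ | r <;> rfl

theorem chunkFun_id (z : (((C × ZMod p) ⊕ L) × ZMod p) ⊕ R) :
    chunkFun (L := L) (R := R) p (fun _ : C => id) z = z := by
  rcases z with ⟨(⟨c, j⟩ | l), i⟩ | r <;> rfl

/-- Chunkwise permutations. -/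
def chunkPerm (M : C → Perm (ZMod p × ZMod p)) : Perm ((((C × ZMod p) ⊕ L) × ZMod p) ⊕ R) where
  toFun := chunkFun p (fun c => M c)
  invFun := chunkFun p (fun c => (M c).symm)
  left_inv z := by
    rw [chunkFun_comp]
    convert chunkFun_id p z using 2
    ext c x <;> simp
  right_inv z := by
    rw [chunkFun_comp]
    convert chunkFun_id p z using 2
    ext c x <;> simp

theorem chunkPerm_chunk (M : C → Perm (ZMod p × ZMod p)) (c : C) (j i : ZMod p) :
    chunkPerm (L := L) (R := R) p M (Sum.inl (Sum.inl (c, j), i)) =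
      Sum.inl (Sum.inl (c, (M c (j, i)).1), (M c (j, i)).2) := rfl

theorem chunkPerm_L (M : C → Perm (ZMod p × ZMod p)) (l : L) (i : ZMod p) :
    chunkPerm (L := L) (R := R) p M (Sum.inl (Sum.inr l, i)) = Sum.inl (Sum.inr l, i) := rfl

theorem chunkPerm_R (M : C → Perm (ZMod p × ZMod p)) (r : R) :
    chunkPerm (L := L) (R := R) p M (Sum.inr r) = Sum.inr r := rfl

/-- Chunkwise permutations as a homomorphism. -/
def chunkHom (L R : Type*) (p : ℕ) [Fact p.Prime] :
    (C → Perm (ZMod p × ZMod p)) →* Perm ((((C × ZMod p) ⊕ L) × ZMod p) ⊕ R) where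
  toFun := chunkPerm p
  map_one' := by
    ext z
    rcases z with ⟨(⟨c, j⟩ | l), i⟩ | r <;> rfl
  map_mul' M M' := by
    ext z
    rcases z with ⟨(⟨c, j⟩ | l), i⟩ | r <;> rfl

theorem chunkHom_apply (M : C → Perm (ZMod p × ZMod p)) : chunkHom L R p M = chunkPerm p M := rfl

/-- The family equal to `m` on `O` and trivial elsewhere. -/
def indO (O : C → Prop) [DecidablePred O] : Perm (ZMod p × ZMod p) →* (C → Perm (ZMod p × ZMod p)) where
  toFun m := fun c => if O c then m else 1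
  map_one' := by
    ext c : 1
    by_cases h : O c <;> simp [h]
  map_mul' m m' := by
    ext c : 1
    by_cases h : O c <;> simp [h]

/-- The action on the chunks in `O`. -/
def thetaO (L R : Type*) (p : ℕ) [Fact p.Prime] (O : C → Prop) [DecidablePred O] :
    Perm (ZMod p × ZMod p) →* Perm ((((C × ZMod p) ⊕ L) × ZMod p) ⊕ R) :=
  (chunkHom L R p).comp (indO p O)

theorem thetaO_chunk_pos (O : C → Prop) [DecidablePred O] (m : Perm (ZMod p × ZMod p)) {c : C}
    (hc : O c) (j i : ZMod p) :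
    thetaO L R p O m (Sum.inl (Sum.inl (c, j), i)) =
      Sum.inl (Sum.inl (c, (m (j, i)).1), (m (j, i)).2) := by
  show chunkPerm p (fun c => if O c then m else 1) _ = _
  rw [chunkPerm_chunk, if_pos hc]

theorem thetaO_chunk_neg (O : C → Prop) [DecidablePred O] (m : Perm (ZMod p × ZMod p)) {c : C}
    (hc : ¬ O c) (j i : ZMod p) :
    thetaO L R p O m (Sum.inl (Sum.inl (c, j), i)) = Sum.inl (Sum.inl (c, j), i) := by
  show chunkPerm p (fun c => if O c then m else 1) _ = _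
  rw [chunkPerm_chunk, if_neg hc]
  rfl

theorem thetaO_L (O : C → Prop) [DecidablePred O] (m : Perm (ZMod p × ZMod p)) (l : L) (i : ZMod p) :
    thetaO L R p O m (Sum.inl (Sum.inr l, i)) = Sum.inl (Sum.inr l, i) := rfl

theorem thetaO_R (O : C → Prop) [DecidablePred O] (m : Perm (ZMod p × ZMod p)) (r : R) :
    thetaO L R p O m (Sum.inr r) = Sum.inr r := rfl

/-- Translations of the chunks and of the `L`-blocks. -/
def trX (f h : C → ZMod p) (w : L → ZMod p) : Perm ((((C × ZMod p) ⊕ L) × ZMod p) ⊕ R) :=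
  monX p (monX p 1 1 f) 1 (Sum.elim (fun cj => h cj.1) w)

theorem trX_chunk (f h : C → ZMod p) (w : L → ZMod p) (c : C) (j i : ZMod p) :
    trX (R := R) p f h w (Sum.inl (Sum.inl (c, j), i)) = Sum.inl (Sum.inl (c, j + f c), i + h c) := by
  unfold trX
  rw [monX_inl, monX_inl]
  simp

theorem trX_L (f h : C → ZMod p) (w : L → ZMod p) (l : L) (i : ZMod p) :
    trX (R := R) p f h w (Sum.inl (Sum.inr l, i)) = Sum.inl (Sum.inr l, i + w l) := by
  unfold trX
  rw [monX_inl, monX_inr]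
  simp

theorem trX_R (f h : C → ZMod p) (w : L → ZMod p) (r : R) :
    trX (R := R) p f h w (Sum.inr r) = Sum.inr r := rfl

theorem trX_mul (f h : C → ZMod p) (w : L → ZMod p) (f' h' : C → ZMod p) (w' : L → ZMod p) :
    trX (R := R) p f h w * trX p f' h' w' = trX p (f + f') (h + h') (w + w') := by
  ext z
  rcases z with ⟨(⟨c, j⟩ | l), i⟩ | r
  · rw [Perm.mul_apply, trX_chunk, trX_chunk, trX_chunk]
    simp only [Pi.add_apply]
    have e1 : j + f' c + f c = j + (f c + f' c) := by ring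
    have e2 : i + h' c + h c = i + (h c + h' c) := by ring
    rw [e1, e2]
  · rw [Perm.mul_apply, trX_L, trX_L, trX_L]
    simp only [Pi.add_apply]
    have e2 : i + w' l + w l = i + (w l + w' l) := by ring
    rw [e2]
  · rfl

theorem trX_zero : trX (C := C) (L := L) (R := R) p 0 0 0 = 1 := by
  ext z
  rcases z with ⟨(⟨c, j⟩ | l), i⟩ | r
  · rw [trX_chunk]; simp
  · rw [trX_L]; simp
  · rfl

theorem trX_inv (f h : C → ZMod p) (w : L → ZMod p) :
    (trX (R := R) p f h w)⁻¹ = trX p (-f) (-h) (-w) := by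
  apply inv_eq_of_mul_eq_one_right
  rw [trX_mul, add_neg_cancel, add_neg_cancel, add_neg_cancel, trX_zero]

/-- The translation subgroup. -/
def TX (C L R : Type*) (p : ℕ) [Fact p.Prime] : Subgroup (Perm ((((C × ZMod p) ⊕ L) × ZMod p) ⊕ R)) where
  carrier := {x | ∃ (f h : C → ZMod p) (w : L → ZMod p), x = trX p f h w}
  mul_mem' := by
    rintro _ _ ⟨f, h, w, rfl⟩ ⟨f', h', w', rfl⟩
    exact ⟨_, _, _, trX_mul p f h w f' h' w'⟩
  one_mem' := ⟨0, 0, 0, (trX_zero p).symm⟩
  inv_mem' := by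
    rintro _ ⟨f, h, w, rfl⟩
    exact ⟨_, _, _, trX_inv p f h w⟩

theorem TX_le_WX (P₂ : Subgroup (Perm C)) : TX C L R p ≤ WX R p (WX L p P₂) := by
  rintro _ ⟨f, h, w, rfl⟩
  exact ⟨_, ⟨1, P₂.one_mem, f, rfl⟩, _, rfl⟩

/-- Additive permutations of `ZMod p × ZMod p` normalize the translation subgroup. -/
theorem thetaO_conj_trX (O : C → Prop) [DecidablePred O] {m : Perm (ZMod p × ZMod p)}
    (hm : ∀ x y, m (x + y) = m x + m y) (f h : C → ZMod p) (w : L → ZMod p) :
    thetaO L R p O m * trX p f h w * (thetaO L R p O m)⁻¹ =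
      trX p (fun c => if O c then (m (f c, h c)).1 else f c)
        (fun c => if O c then (m (f c, h c)).2 else h c) w := by
  rw [mul_inv_eq_iff_eq_mul]
  ext z
  rcases z with ⟨(⟨c, j⟩ | l), i⟩ | r
  · by_cases hc : O c
    · rw [Perm.mul_apply, Perm.mul_apply, trX_chunk, thetaO_chunk_pos p O m hc,
        thetaO_chunk_pos p O m hc, trX_chunk]
      simp only [if_pos hc]
      have := hm (j, i) (f c, h c)
      rw [Prod.mk_add_mk] at this
      rw [this]
      rfl
    · rw [Perm.mul_apply, Perm.mul_apply, trX_chunk, thetaO_chunk_neg p O m hc,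
        thetaO_chunk_neg p O m hc, trX_chunk]
      simp only [if_neg hc]
  · rw [Perm.mul_apply, Perm.mul_apply, trX_L, thetaO_L, thetaO_L, trX_L]
  · rfl

theorem symm_additive {m : Perm (ZMod p × ZMod p)} (hm : ∀ x y, m (x + y) = m x + m y) :
    ∀ x y, m⁻¹ (x + y) = m⁻¹ x + m⁻¹ y := by
  intro x y
  rw [Perm.inv_eq_iff_eq, hm]
  congr 1
  · exact (m.apply_symm_apply x).symm
  · exact (m.apply_symm_apply y).symm

theorem thetaO_mem_normalizer (O : C → Prop) [DecidablePred O] {m : Perm (ZMod p × ZMod p)}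
    (hm : ∀ x y, m (x + y) = m x + m y) :
    thetaO L R p O m ∈ Subgroup.normalizer ((TX C L R p : Subgroup _) : Set _) := by
  apply mem_normalizer_of_conj_mem
  · rintro _ ⟨f, h, w, rfl⟩
    exact ⟨_, _, _, thetaO_conj_trX p O hm f h w⟩
  · rintro _ ⟨f, h, w, rfl⟩
    have := thetaO_conj_trX (L := L) (R := R) p O (symm_additive p hm) f h w
    rw [map_inv, inv_inv] at this
    exact ⟨_, _, _, this⟩

theorem fix_iff_of_comm {α : Type*} {x t : Perm α} (h : x * t = t * x) (z : α) :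
    t (x z) = x z ↔ t z = z := by
  have h1 : t (x z) = x (t z) := by
    rw [← Perm.mul_apply, ← h, Perm.mul_apply]
  rw [h1]
  exact x.injective.eq_iff

variable [DecidableEq C] [DecidableEq L]

theorem comm_chunk {y : Perm ((((C × ZMod p) ⊕ L) × ZMod p) ⊕ R)}
    (hy : ∀ t ∈ TX C L R p, y * t = t * y) (c : C) (j i : ZMod p) :
    ∃ j' i' : ZMod p, y (Sum.inl (Sum.inl (c, j), i)) = Sum.inl (Sum.inl (c, j'), i') := by
  set t := trX (L := L) (R := R) p (Pi.single c 1) 0 0 with ht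
  have htT : t ∈ TX C L R p := ⟨_, _, _, rfl⟩
  have hmove : t (Sum.inl (Sum.inl (c, j), i)) ≠ Sum.inl (Sum.inl (c, j), i) := by
    rw [ht, trX_chunk, Pi.single_eq_same]
    intro h
    have h1 := congrArg Prod.snd (Sum.inl_injective (congrArg Prod.fst (Sum.inl_injective h)))
    simp at h1
  have hmove' : t (y (Sum.inl (Sum.inl (c, j), i))) ≠ y (Sum.inl (Sum.inl (c, j), i)) :=
    fun h => hmove ((fix_iff_of_comm (hy t htT) _).1 h)
  rcases hyz : y (Sum.inl (Sum.inl (c, j), i)) with ⟨(⟨c', j'⟩ | l), i'⟩ | r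
  · by_cases hc : c' = c
    · subst hc
      exact ⟨j', i', rfl⟩
    · exfalso
      apply hmove'
      rw [hyz, ht, trX_chunk, Pi.single_eq_of_ne hc]
      simp
  · exfalso
    apply hmove'
    rw [hyz, ht, trX_L]
    simp
  · exfalso
    apply hmove'
    rw [hyz, ht, trX_R]

theorem comm_L {y : Perm ((((C × ZMod p) ⊕ L) × ZMod p) ⊕ R)}
    (hy : ∀ t ∈ TX C L R p, y * t = t * y) (l : L) (i : ZMod p) :
    ∃ i' : ZMod p, y (Sum.inl (Sum.inr l, i)) = Sum.inl (Sum.inr l, i') := by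
  set t := trX (C := C) (R := R) p 0 0 (Pi.single l 1) with ht
  have htT : t ∈ TX C L R p := ⟨_, _, _, rfl⟩
  have hmove : t (Sum.inl (Sum.inr l, i)) ≠ Sum.inl (Sum.inr l, i) := by
    rw [ht, trX_L, Pi.single_eq_same]
    intro h
    have h1 := congrArg Prod.snd (Sum.inl_injective h)
    simp at h1
  have hmove' : t (y (Sum.inl (Sum.inr l, i))) ≠ y (Sum.inl (Sum.inr l, i)) :=
    fun h => hmove ((fix_iff_of_comm (hy t htT) _).1 h)
  rcases hyz : y (Sum.inl (Sum.inr l, i)) with ⟨(⟨c', j'⟩ | l'), i'⟩ | r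
  · exfalso
    apply hmove'
    rw [hyz, ht, trX_chunk]
    simp
  · by_cases hl : l' = l
    · subst hl
      exact ⟨i', rfl⟩
    · exfalso
      apply hmove'
      rw [hyz, ht, trX_L, Pi.single_eq_of_ne hl]
      simp
  · exfalso
    apply hmove'
    rw [hyz, ht, trX_R]

/-- The translation subgroup is self-centralizing. -/
theorem centralizer_TX_le [Subsingleton R] {x : Perm ((((C × ZMod p) ⊕ L) × ZMod p) ⊕ R)}
    (hx : ∀ t ∈ TX C L R p, x * t = t * x) : x ∈ TX C L R p := by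
  have hx' : ∀ t ∈ TX C L R p, x⁻¹ * t = t * x⁻¹ := by
    intro t ht
    rw [inv_mul_eq_iff_eq_mul, ← mul_assoc, hx t ht, mul_inv_cancel_right]
  choose f' hf' using fun c => comm_chunk p hx c 0 0
  choose h' hh' using hf'
  choose w' hw' using fun l => comm_L p hx l 0
  refine ⟨f', h', w', ?_⟩
  ext z
  rcases z with ⟨(⟨c, j⟩ | l), i⟩ | r
  · set t := trX (L := L) (R := R) p (fun _ : C => j) (fun _ : C => i) 0 with ht
    have htT : t ∈ TX C L R p := ⟨_, _, _, rfl⟩
    have e : (Sum.inl (Sum.inl (c, j), i) : (((C × ZMod p) ⊕ L) × ZMod p) ⊕ R) =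
        t (Sum.inl (Sum.inl (c, 0), 0)) := by
      rw [ht, trX_chunk, zero_add, zero_add]
    rw [e, ← Perm.mul_apply, hx t htT, Perm.mul_apply, hh', ht, trX_chunk, trX_chunk, trX_chunk]
    simp only [zero_add]
    rw [add_comm (f' c), add_comm (h' c)]
  · set t := trX (C := C) (R := R) p 0 0 (fun _ : L => i) with ht
    have htT : t ∈ TX C L R p := ⟨_, _, _, rfl⟩
    have e : (Sum.inl (Sum.inr l, i) : (((C × ZMod p) ⊕ L) × ZMod p) ⊕ R) =
        t (Sum.inl (Sum.inr l, 0)) := by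
      rw [ht, trX_L, zero_add]
    rw [e, ← Perm.mul_apply, hx t htT, Perm.mul_apply, hw', ht, trX_L, trX_L, trX_L]
    simp only [zero_add]
    rw [add_comm (w' l)]
  · rw [trX_R]
    rcases hxr : x (Sum.inr r) with ⟨(⟨c', j'⟩ | l'), i'⟩ | r'
    · exfalso
      obtain ⟨j'', i'', h1⟩ := comm_chunk p hx' c' j' i'
      rw [← hxr] at h1
      have h2 : x⁻¹ (x (Sum.inr r)) = Sum.inr r := x.symm_apply_apply _
      rw [h2] at h1
      exact Sum.inr_ne_inl h1
    · exfalso
      obtain ⟨i'', h1⟩ := comm_L p hx' l' i'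
      rw [← hxr] at h1
      have h2 : x⁻¹ (x (Sum.inr r)) = Sum.inr r := x.symm_apply_apply _
      rw [h2] at h1
      exact Sum.inr_ne_inl h1
    · rw [Subsingleton.elim r' r]

end twolevel

end Cfsg.Agent.Lib.Helper86.AltFus
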