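import Cfsg.Agent.Lib.Helper86.AltFusGensU

/-!
# Elementary permutations of `ZMod p × ZMod p` (helper86)
-/

set_option autoImplicit false
set_option linter.unusedSectionVars false
set_option linter.unusedSimpArgs false

namespace Cfsg.Agent.Lib.Helper86.AltFus

open Equiv

section V

variable (p : ℕ) [Fact p.Prime]

/-- `(j, i) ↦ (j, i + s j)`. -/
def e12 (s : ZMod p) : Perm (ZMod p × ZMod p) where
  toFun x := (x.1, x.2 + s * x.1)
  invFun x := (x.1, x.2 - s * x.1)
  left_inv x := by
    rcases x with ⟨j, i⟩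
    simp
  right_inv x := by
    rcases x with ⟨j, i⟩
    simp

/-- `(j, i) ↦ (j + s i, i)`. -/
def e21 (s : ZMod p) : Perm (ZMod p × ZMod p) where
  toFun x := (x.1 + s * x.2, x.2)
  invFun x := (x.1 - s * x.2, x.2)
  left_inv x := by
    rcases x with ⟨j, i⟩
    simp
  right_inv x := by
    rcases x with ⟨j, i⟩
    simp

/-- `(j, i) ↦ (t j, s i)` for `s t = 1`. -/
def dgV (s t : ZMod p) (hst : s * t = 1) : Perm (ZMod p × ZMod p) where
  toFun x := (t * x.1, s * x.2)
  invFun x := (s * x.1, t * x.2)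
  left_inv x := by
    rcases x with ⟨j, i⟩
    apply Prod.ext
    · show s * (t * j) = j
      rw [← mul_assoc, hst, one_mul]
    · show t * (s * i) = i
      rw [← mul_assoc, mul_comm t s, hst, one_mul]
  right_inv x := by
    rcases x with ⟨j, i⟩
    apply Prod.ext
    · show t * (s * j) = j
      rw [← mul_assoc, mul_comm t s, hst, one_mul]
    · show s * (t * i) = i
      rw [← mul_assoc, hst, one_mul]

theorem e12_apply (s j i : ZMod p) : e12 p s (j, i) = (j, i + s * j) := rfl
theorem e21_apply (s j i : ZMod p) : e21 p s (j, i) = (j + s * i, i) := rfl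
theorem dgV_apply (s t : ZMod p) (hst : s * t = 1) (j i : ZMod p) :
    dgV p s t hst (j, i) = (t * j, s * i) := rfl

theorem e12_additive (s : ZMod p) (x y : ZMod p × ZMod p) : e12 p s (x + y) = e12 p s x + e12 p s y := by
  rcases x with ⟨j, i⟩
  rcases y with ⟨j', i'⟩
  rw [Prod.mk_add_mk, e12_apply, e12_apply, e12_apply, Prod.mk_add_mk]
  congr 1
  ring

theorem e21_additive (s : ZMod p) (x y : ZMod p × ZMod p) : e21 p s (x + y) = e21 p s x + e21 p s y := by
  rcases x with ⟨j, i⟩
  rcases y with ⟨j', i'⟩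
  rw [Prod.mk_add_mk, e21_apply, e21_apply, e21_apply, Prod.mk_add_mk]
  congr 1
  ring

theorem e12_pow (s : ZMod p) (k : ℕ) : (e12 p s) ^ k = e12 p (k * s) := by
  induction k with
  | zero =>
    ext ⟨j, i⟩ <;> simp [e12_apply]
  | succ k ih =>
    rw [pow_succ, ih]
    ext ⟨j, i⟩
    · simp [Perm.mul_apply, e12_apply]
    · simp only [Perm.mul_apply, e12_apply]
      push_cast
      ring

theorem e21_pow (s : ZMod p) (k : ℕ) : (e21 p s) ^ k = e21 p (k * s) := by
  induction k with
  | zero =>
    ext ⟨j, i⟩ <;> simp [e21_apply]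
  | succ k ih =>
    rw [pow_succ, ih]
    ext ⟨j, i⟩
    · simp only [Perm.mul_apply, e21_apply]
      push_cast
      ring
    · simp [Perm.mul_apply, e21_apply]

theorem e12_pow_p (s : ZMod p) : (e12 p s) ^ p = 1 := by
  rw [e12_pow]
  ext ⟨j, i⟩ <;> simp [e12_apply]

theorem e21_pow_p (s : ZMod p) : (e21 p s) ^ p = 1 := by
  rw [e21_pow]
  ext ⟨j, i⟩ <;> simp [e21_apply]

/-- The torus element as a product of six elementary permutations. -/
theorem dgV_eq (s t : ZMod p) (hst : s * t = 1) :
    dgV p s t hst = e21 p t * e12 p (-s) * e21 p t * e21 p (-1) * e12 p 1 * e21 p (-1) := by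
  ext ⟨j, i⟩
  · simp only [Perm.mul_apply, e12_apply, e21_apply, dgV_apply]
    linear_combination (-(i - t * j)) * hst
  · simp only [Perm.mul_apply, e12_apply, e21_apply, dgV_apply]
    linear_combination (j) * hst

end V

end Cfsg.Agent.Lib.Helper86.AltFus
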