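import Cfsg.Agent.Lib.Helper86.AltFusGensV

/-!
# Generation of the Sylow normalizer, `p` odd (helper86)
-/

set_option autoImplicit false
set_option linter.unusedSectionVars false
set_option linter.unusedSimpArgs false

namespace Cfsg.Agent.Lib.Helper86.AltFus

open Equiv Cfsg.Agent.Lib.Helper35

section W

variable {C L R : Type*} [Fintype C] [DecidableEq C] [Fintype L] [DecidableEq L]
  [Fintype R] [DecidableEq R] (p : ℕ) [Fact p.Prime]

/-- The scalar function of the torus element. -/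
def aU (O : C → Prop) [DecidablePred O] (z : (ZMod p)ˣ) : ((C × ZMod p) ⊕ L) → (ZMod p)ˣ :=
  Sum.elim (fun cj => if O cj.1 then z else 1) (fun _ => 1)

/-- The block permutation of the torus element. -/
def piU (O : C → Prop) [DecidablePred O] (z : (ZMod p)ˣ) : Perm ((C × ZMod p) ⊕ L) :=
  monX p (1 : Perm C) (fun c => if O c then z⁻¹ else 1) 0

/-- The torus element. -/
def uX (R : Type*) (O : C → Prop) [DecidablePred O] (z : (ZMod p)ˣ) :
    Perm ((((C × ZMod p) ⊕ L) × ZMod p) ⊕ R) :=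
  thetaO L R p O (dgV p (z : ZMod p) ((z⁻¹ : (ZMod p)ˣ) : ZMod p) (Units.mul_inv z))

theorem uX_eq (O : C → Prop) [DecidablePred O] (z : (ZMod p)ˣ) :
    uX (L := L) p R O z = monX p (piU p O z) (aU p O z) 0 := by
  ext x
  rcases x with ⟨(⟨c, j⟩ | l), i⟩ | r
  · by_cases hc : O c
    · unfold uX
      rw [thetaO_chunk_pos p O _ hc, dgV_apply, monX_inl]
      unfold piU aU
      rw [monX_inl]
      simp only [Sum.elim_inl, if_pos hc, Perm.one_apply, Pi.zero_apply, add_zero]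
    · unfold uX
      rw [thetaO_chunk_neg p O _ hc, monX_inl]
      unfold piU aU
      rw [monX_inl]
      simp [hc]
  · unfold uX
    rw [thetaO_L, monX_inl]
    unfold piU aU
    rw [monX_inr]
    simp
  · rfl

theorem uX_mem_normalizer (O : C → Prop) [DecidablePred O] (z : (ZMod p)ˣ) (P₂ : Subgroup (Perm C))
    (hO : ∀ σ ∈ P₂, ∀ c, O (σ c) ↔ O c) :
    uX (L := L) p R O z ∈ Subgroup.normalizer ((WX R p (WX L p P₂) : Subgroup _) : Set _) := by
  rw [uX_eq]
  apply monX_mem_normalizer_WX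
  · unfold piU
    apply monX_mem_normalizer_WX p (Subgroup.one_mem _)
    intro σ hσ c
    simp only [hO σ hσ c]
  · rintro _ ⟨σ, hσ, d, rfl⟩ b
    rcases b with ⟨c, j⟩ | l
    · rw [monX_inl]
      unfold aU
      simp only [Sum.elim_inl, hO σ hσ c]
    · rw [monX_inr]

theorem prod_aU (O : C → Prop) [DecidablePred O] (z : (ZMod p)ˣ) {k : ℕ}
    (hk : (Finset.univ.filter O).card = p ^ k) : ∏ b, aU (L := L) p O z b = z := by
  unfold aU
  rw [Fintype.prod_sum_type]
  simp only [Sum.elim_inl, Sum.elim_inr, Finset.prod_const_one, mul_one]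
  rw [Fintype.prod_prod_type]
  have h1 : ∀ c : C, ∏ _j : ZMod p, (if O c then z else 1) = if O c then z ^ p else 1 := by
    intro c
    rw [Finset.prod_const, Finset.card_univ, ZMod.card]
    split_ifs <;> simp
  simp only [h1]
  rw [Finset.prod_ite, Finset.prod_const_one, mul_one, Finset.prod_const, hk, ← pow_mul, ← pow_succ']
  apply Units.ext
  rw [Units.val_pow_eq_pow_val, ZMod.pow_card_pow]

theorem thetaO_mem_relP (hp : p ≠ 2) (O : C → Prop) [DecidablePred O] {m : Perm (ZMod p × ZMod p)}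
    (hm : ∀ x y, m (x + y) = m x + m y) (hmp : m ^ p = 1) :
    thetaO L R p O m ∈ relP p (alternatingGroup ((((C × ZMod p) ⊕ L) × ZMod p) ⊕ R)) (TX C L R p) := by
  have hpow : (thetaO L R p O m) ^ p = 1 := by rw [← map_pow, hmp, map_one]
  apply Subgroup.subset_closure
  refine ⟨?_, thetaO_mem_normalizer p O hm, orderOf_eq_pow_of_pow_eq_one Fact.out hpow⟩
  rw [Perm.mem_alternatingGroup]
  exact sign_eq_one_of_pow_odd ((Fact.out : p.Prime).odd_of_ne_two hp) hpow

theorem uX_mem_relP (hp : p ≠ 2) (O : C → Prop) [DecidablePred O] (z : (ZMod p)ˣ) :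
    uX (L := L) p R O z ∈
      relP p (alternatingGroup ((((C × ZMod p) ⊕ L) × ZMod p) ⊕ R)) (TX C L R p) := by
  unfold uX
  rw [dgV_eq]
  simp only [map_mul]
  refine Subgroup.mul_mem _ (Subgroup.mul_mem _ (Subgroup.mul_mem _ (Subgroup.mul_mem _
    (Subgroup.mul_mem _ ?_ ?_) ?_) ?_) ?_) ?_
  · exact thetaO_mem_relP p hp O (e21_additive p _) (e21_pow_p p _)
  · exact thetaO_mem_relP p hp O (e12_additive p _) (e12_pow_p p _)
  · exact thetaO_mem_relP p hp O (e21_additive p _) (e21_pow_p p _)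
  · exact thetaO_mem_relP p hp O (e21_additive p _) (e21_pow_p p _)
  · exact thetaO_mem_relP p hp O (e12_additive p _) (e12_pow_p p _)
  · exact thetaO_mem_relP p hp O (e21_additive p _) (e21_pow_p p _)

theorem relP_le (p : ℕ) {Ω : Type*} [Group Ω] (G Q : Subgroup Ω) : relP p G Q ≤ G := by
  unfold relP
  rw [Subgroup.closure_le]
  rintro k ⟨hk, -, -⟩
  exact hk

/-- **Generation, `p` odd.** -/
theorem gens_odd (hp : p ≠ 2) [Subsingleton R] [Nonempty C] (P₂ : Subgroup (Perm C))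
    (hP₂ : IsPGroup p P₂) {g : Perm ((((C × ZMod p) ⊕ L) × ZMod p) ⊕ R)}
    (hgA : g ∈ alternatingGroup ((((C × ZMod p) ⊕ L) × ZMod p) ⊕ R))
    (hgN : g ∈ Subgroup.normalizer ((WX R p (WX L p P₂) : Subgroup _) : Set _)) :
    g ∈ Subgroup.closure (relGen p (alternatingGroup ((((C × ZMod p) ⊕ L) × ZMod p) ⊕ R))
      (WX R p (WX L p P₂))) := by
  classical
  have hpp : p.Prime := Fact.out
  obtain ⟨π, a, c, rfl⟩ := mem_MX_of_mem_normalizer_WX p _ hgN
  set z : (ZMod p)ˣ := ∏ b, a b with hz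
  obtain ⟨c₀⟩ : Nonempty C := inferInstance
  set O : C → Prop := fun c => ∃ σ ∈ P₂, σ c₀ = c with hOdef
  have hO : ∀ σ ∈ P₂, ∀ c, O (σ c) ↔ O c := by
    intro σ hσ c
    constructor
    · rintro ⟨τ, hτ, h⟩
      refine ⟨σ⁻¹ * τ, P₂.mul_mem (P₂.inv_mem hσ) hτ, ?_⟩
      rw [Perm.mul_apply, h]
      exact σ.symm_apply_apply c
    · rintro ⟨τ, hτ, h⟩
      exact ⟨σ * τ, P₂.mul_mem hσ hτ, by rw [Perm.mul_apply, h]⟩
  obtain ⟨k, hk⟩ : ∃ k : ℕ, (Finset.univ.filter O).card = p ^ k := by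
    obtain ⟨k, hk⟩ := hP₂.card_orbit (α := C) c₀
    refine ⟨k, ?_⟩
    rw [← hk, Nat.card_eq_fintype_card, ← Set.toFinset_card]
    congr 1
    ext c
    simp only [Finset.mem_filter, Finset.mem_univ, true_and, Set.mem_toFinset, MulAction.mem_orbit_iff]
    constructor
    · rintro ⟨σ, hσ, h⟩
      exact ⟨⟨σ, hσ⟩, h⟩
    · rintro ⟨⟨σ, hσ⟩, h⟩
      exact ⟨σ, hσ, h⟩
  set u := uX (L := L) p R O z with hu
  have huN := uX_mem_normalizer (L := L) (R := R) p O z P₂ hO
  have huP := uX_mem_relP (L := L) (R := R) p hp O z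
  have huA : u ∈ alternatingGroup ((((C × ZMod p) ⊕ L) × ZMod p) ⊕ R) := relP_le p _ _ huP
  -- the two generators
  have hB : p ≤ Fintype.card ((C × ZMod p) ⊕ L) := by
    rw [Fintype.card_sum, Fintype.card_prod, ZMod.card]
    have : 0 < Fintype.card C := Fintype.card_pos
    nlinarith
  have hu_gen : u ∈ relGen p (alternatingGroup ((((C × ZMod p) ⊕ L) × ZMod p) ⊕ R))
      (WX R p (WX L p P₂)) := by
    refine ⟨huA, huN, TX C L R p, ⟨TX_le_WX p P₂, ?_⟩, huP⟩
    intro x _ hx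
    exact centralizer_TX_le p hx
  have hg' : monX p π a c * u⁻¹ ∈ relGen p (alternatingGroup ((((C × ZMod p) ⊕ L) × ZMod p) ⊕ R))
      (WX R p (WX L p P₂)) := by
    have hA' : monX p π a c * u⁻¹ ∈ alternatingGroup ((((C × ZMod p) ⊕ L) × ZMod p) ⊕ R) :=
      Subgroup.mul_mem _ hgA (Subgroup.inv_mem _ huA)
    refine ⟨hA', Subgroup.mul_mem _ hgN (Subgroup.inv_mem _ huN), EX _ R p,
      ⟨EX_le_WX p _, ?_⟩, ?_⟩
    · intro x _ hx
      exact centralizer_EX_le p hx
    · have e : monX (R := R) p π a c * u⁻¹ = monX p (π * (piU p O z)⁻¹)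
          (fun b => a ((piU p O z)⁻¹ b) * (aU p O z ((piU p O z)⁻¹ b))⁻¹)
          (fun b => c ((piU p O z)⁻¹ b)) := by
        rw [hu, uX_eq, monX_inv, monX_mul]
        congr 1
        ext b
        show (a ((piU p O z)⁻¹ b) : ZMod p) * (-_ * (0 : ZMod p)) + c ((piU p O z)⁻¹ b) = _
        rw [mul_zero, mul_zero, zero_add]
      have hprod : ∏ b, (a ((piU p O z)⁻¹ b) * (aU (L := L) p O z ((piU p O z)⁻¹ b))⁻¹) = 1 := by
        rw [Equiv.prod_comp (piU (L := L) p O z)⁻¹ (fun b => a b * (aU (L := L) p O z b)⁻¹),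
          Finset.prod_mul_distrib, Finset.prod_inv_distrib, prod_aU p O z hk, ← hz, mul_inv_cancel]
      rw [e] at hA' ⊢
      rw [Perm.mem_alternatingGroup, sign_monX_odd p hp, hprod, map_one, mul_one] at hA'
      exact monX_mem_KX p hp hB hA' hprod _
  have e : monX (R := R) p π a c = (monX p π a c * u⁻¹) * u := by group
  rw [e]
  exact Subgroup.mul_mem _ (Subgroup.subset_closure hg') (Subgroup.subset_closure hu_gen)

end W

end Cfsg.Agent.Lib.Helper86.AltFus
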