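import Cfsg.Agent.Lib.Helper86.AltFusGensW
import Cfsg.Agent.Lib.Helper86.AltFusClosed

/-!
# The fusion system of the alternating group is simple: assembly (helper86)
-/

set_option autoImplicit false
set_option linter.unusedSectionVars false
set_option linter.unusedSimpArgs false

namespace Cfsg.Agent.Lib.Helper86.AltFus

open Equiv Cfsg.Agent.Lib.Helper35
open scoped Pointwise

theorem relIndex_dvd_index_of_normal' {G : Type*} [Group G] [Finite G] (W N : Subgroup G)
    [N.Normal] : W.relIndex N ∣ W.index := by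
  have h1 : (W ⊓ N).relIndex W * W.relIndex (W ⊔ N) = (W ⊓ N).relIndex (W ⊔ N) :=
    Subgroup.relIndex_mul_relIndex _ _ _ inf_le_left le_sup_left
  have h2 : (W ⊓ N).relIndex N * N.relIndex (W ⊔ N) = (W ⊓ N).relIndex (W ⊔ N) :=
    Subgroup.relIndex_mul_relIndex _ _ _ inf_le_right le_sup_right
  rw [Subgroup.inf_relIndex_left] at h1
  rw [Subgroup.inf_relIndex_right, Subgroup.relIndex_sup_right] at h2
  have h3 : N.relIndex W ≠ 0 := by
    unfold Subgroup.relIndex
    exact Subgroup.index_ne_zero_of_finite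
  have h4 : W.relIndex (W ⊔ N) = W.relIndex N := by
    have : N.relIndex W * W.relIndex (W ⊔ N) = N.relIndex W * W.relIndex N := by
      rw [h1, ← h2, mul_comm]
    exact Nat.eq_of_mul_eq_mul_left (Nat.pos_of_ne_zero h3) this
  rw [← h4]
  exact Subgroup.relIndex_dvd_index_of_le le_sup_left

/-- Transport of the simplicity data to `A_n` on `Fin n` and to an arbitrary Sylow subgroup. -/
theorem isSimple_of_relData {X : Type} [Fintype X] [DecidableEq X] {n p : ℕ} [Fact p.Prime]
    (hX : Fintype.card X = n) {W : Subgroup (Perm X)} (hWp : IsPGroup p W) (hWi : ¬ p ∣ W.index)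
    (h : RelData p (alternatingGroup X) (W ⊓ alternatingGroup X))
    (S : Sylow p (alternatingGroup (Fin n))) :
    (Cfsg.groupFusionSystem (S : Subgroup (alternatingGroup (Fin n)))).IsSimple p := by
  have hd := h.simpleData'
  -- the Sylow subgroup of `A_X`
  have hp1 : IsPGroup p ((W ⊓ alternatingGroup X).subgroupOf (alternatingGroup X)) := by
    intro x
    obtain ⟨k, hk⟩ := hWp ⟨x.1.1, x.2.1⟩
    refine ⟨k, ?_⟩
    apply Subtype.ext
    apply Subtype.ext
    have h1 := congrArg Subtype.val hk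
    simp only [Subgroup.coe_pow, Subgroup.coe_one] at h1 ⊢
    exact h1
  have hp2 : ¬ p ∣ ((W ⊓ alternatingGroup X).subgroupOf (alternatingGroup X)).index := by
    intro hdvd
    apply hWi
    have h1 : ((W ⊓ alternatingGroup X).subgroupOf (alternatingGroup X)).index =
        W.relIndex (alternatingGroup X) := by
      rw [Subgroup.inf_subgroupOf_right]
      rfl
    rw [h1] at hdvd
    exact hdvd.trans (relIndex_dvd_index_of_normal' W (alternatingGroup X))
  set S₁ : Sylow p (alternatingGroup X) := hp1.toSylow hp2 with hS₁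
  let e : X ≃ Fin n := Fintype.equivFinOfCardEq hX
  let φ : alternatingGroup X ≃* alternatingGroup (Fin n) := Equiv.altCongrHom e
  have hd2 := hd.map φ
  -- a Sylow subgroup of `A_n`
  have hq1 : IsPGroup p (((W ⊓ alternatingGroup X).subgroupOf (alternatingGroup X)).map
      φ.toMonoidHom) := hp1.map _
  have hq2 : ¬ p ∣ (((W ⊓ alternatingGroup X).subgroupOf (alternatingGroup X)).map
      φ.toMonoidHom).index := by
    rw [Subgroup.index_map_of_bijective φ.bijective]
    exact hp2
  set S₂ : Sylow p (alternatingGroup (Fin n)) := hq1.toSylow hq2 with hS₂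
  obtain ⟨g, hg⟩ := MulAction.exists_smul_eq (alternatingGroup (Fin n)) S₂ S
  have hd3 := hd2.map (MulAut.conj g)
  have e3 : ((S : Subgroup (alternatingGroup (Fin n)))) =
      (((W ⊓ alternatingGroup X).subgroupOf (alternatingGroup X)).map φ.toMonoidHom).map
        (MulAut.conj g).toMonoidHom := by
    rw [← hg]
    rfl
  apply isSimple_of_simpleData' p S
  rw [e3]
  exact hd3

section data

variable {B R : Type*} [Fintype B] [DecidableEq B] [Fintype R] [DecidableEq R] (p : ℕ) [Fact p.Prime]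

theorem card_WX_sylow (hR : Fintype.card R < p) (P : Subgroup (Perm B))
    (hP : Nat.card P = p ^ padicValNat p (Fintype.card B).factorial) :
    Nat.card (WX R p P) = p ^ padicValNat p (Fintype.card ((B × ZMod p) ⊕ R)).factorial := by
  rw [card_WX, hP, card_XT, mul_comm (Fintype.card B) p, padicValNat_factorial_mul_add _ hR,
    padicValNat_factorial_mul, pow_add, Nat.card_eq_fintype_card]

theorem isPGroup_of_card_sylow {X : Type*} [Fintype X] [DecidableEq X] {W : Subgroup (Perm X)}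
    (hW : Nat.card W = p ^ padicValNat p (Fintype.card X).factorial) :
    IsPGroup p W ∧ ¬ p ∣ W.index := by
  have hc : Nat.card W = p ^ (Nat.card (Perm X)).factorization p := by
    rw [hW, Nat.card_eq_fintype_card, Fintype.card_perm, Nat.factorization_def _ Fact.out]
  exact ⟨(Sylow.ofCard W hc).isPGroup', (Sylow.ofCard W hc).not_dvd_index⟩

end data

section odd

variable {C L R : Type*} [Fintype C] [DecidableEq C] [Fintype L] [DecidableEq L]
  [Fintype R] [DecidableEq R] (p : ℕ) [Fact p.Prime]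

theorem relData_odd (hp : p ≠ 2) [Nonempty C] [Subsingleton R] (hL : Fintype.card L < p)
    (hR : Fintype.card R < p) (P₂ : Subgroup (Perm C))
    (hP₂c : Nat.card P₂ = p ^ padicValNat p (Fintype.card C).factorial) (hP₂g : GenP p P₂) :
    RelData p (alternatingGroup ((((C × ZMod p) ⊕ L) × ZMod p) ⊕ R))
      (WX R p (WX L p P₂) ⊓ alternatingGroup ((((C × ZMod p) ⊕ L) × ZMod p) ⊕ R)) := by
  have hpp : p.Prime := Fact.out
  have hodd : Odd p := hpp.odd_of_ne_two hp
  have hp3 : 3 ≤ p := by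
    have := hpp.two_le
    omega
  have hcardP := card_WX_sylow p hL P₂ hP₂c
  have hcardS := card_WX_sylow p hR _ hcardP
  obtain ⟨hSp, -⟩ := isPGroup_of_card_sylow p hcardS
  have hle : WX R p (WX L p P₂) ≤ alternatingGroup ((((C × ZMod p) ⊕ L) × ZMod p) ⊕ R) := by
    intro x hx
    obtain ⟨k, hk⟩ := hSp ⟨x, hx⟩
    have hk' : x ^ p ^ k = 1 := congrArg Subtype.val hk
    exact Perm.mem_alternatingGroup.2 (sign_eq_one_of_pow_odd (Odd.pow hodd) hk')
  rw [inf_eq_left.2 hle]
  have hB : 3 ≤ Fintype.card ((C × ZMod p) ⊕ L) := by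
    rw [Fintype.card_sum, Fintype.card_prod, ZMod.card]
    have : 0 < Fintype.card C := Fintype.card_pos
    nlinarith
  obtain ⟨c₀⟩ : Nonempty C := inferInstance
  refine ⟨hle, ?_, ?_, ?_⟩
  · intro hbot
    have h1 : monX (R := R) p (1 : Perm ((C × ZMod p) ⊕ L)) 1 (Pi.single (Sum.inl (c₀, 0)) 1) ∈
        WX R p (WX L p P₂) := ⟨1, Subgroup.one_mem _, _, rfl⟩
    rw [hbot, Subgroup.mem_bot] at h1
    have h2 := card_support_single (R := R) p (Sum.inl (c₀, (0 : ZMod p)) : (C × ZMod p) ⊕ L)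
    rw [h1, Perm.support_one, Finset.card_empty] at h2
    exact hpp.pos.ne h2
  · intro T hTS hcl
    by_cases hT : T = ⊥
    · exact Or.inl hT
    · right
      apply closed_odd p hp hR hB (EX_le_WX p _) hSp (genP_WX p (genP_WX p hP₂g)) hTS hT
      intro t ht g hg
      exact hcl t ht g (Perm.mem_alternatingGroup.2 hg)
  · intro g hgA hgN
    exact gens_odd p hp P₂ (IsPGroup.of_card hP₂c) hgA hgN

end odd

section two

variable {B R : Type*} [Fintype B] [DecidableEq B] [Fintype R] [DecidableEq R]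

theorem relData_two (hB : 3 ≤ Fintype.card B) [Subsingleton R] (hR : Fintype.card R < 2)
    (P : Subgroup (Perm B)) (hP2 : IsPGroup 2 P) (hPgen : GenP 2 P) {b₁ b₂ : B} (hb : b₁ ≠ b₂)
    (hsw : Equiv.swap b₁ b₂ ∈ P) :
    RelData 2 (alternatingGroup ((B × ZMod 2) ⊕ R))
      (WX R 2 P ⊓ alternatingGroup ((B × ZMod 2) ⊕ R)) := by
  refine ⟨inf_le_right, ?_, ?_, ?_⟩
  · intro hbot
    have h1 : monX (R := R) 2 (1 : Perm B) 1 (Pi.single b₁ 1 + Pi.single b₂ 1) ∈
        WX R 2 P ⊓ alternatingGroup ((B × ZMod 2) ⊕ R) :=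
      ⟨⟨1, P.one_mem, _, rfl⟩, Perm.mem_alternatingGroup.2 (sign_pair_two b₁ b₂ hb)⟩
    rw [hbot, Subgroup.mem_bot] at h1
    have h2 := congrArg (fun σ : Perm ((B × ZMod 2) ⊕ R) => σ (Sum.inl (b₁, 0))) h1
    simp only [monX_inl, Perm.one_apply] at h2
    have h3 := congrArg Prod.snd (Sum.inl_injective h2)
    simp [Pi.single_eq_of_ne hb] at h3
  · intro T hTS hcl
    by_cases hT : T = ⊥
    · exact Or.inl hT
    · right
      apply closed_two hR hB hP2 hPgen hb hsw hTS hT
      intro t ht g hg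
      exact hcl t ht g (Perm.mem_alternatingGroup.2 hg)
  · intro g hgA hgN
    apply Subgroup.subset_closure
    refine ⟨hgA, hgN, EX B R 2 ⊓ alternatingGroup ((B × ZMod 2) ⊕ R),
      ⟨inf_le_inf_right _ (EX_le_WX 2 P), ?_⟩, gens_two hB P (Perm.mem_alternatingGroup.1 hgA) hgN⟩
    intro x hxA hx
    exact ⟨centralizer_E0_two hB hx, hxA⟩

end two

/-- A Sylow `2`-subgroup of `Sym(m)` generated by involutions and containing a transposition. -/
theorem exists_sylow_with_swap (m : ℕ) (hm : 2 ≤ m) :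
    ∃ P : Subgroup (Perm (Fin m)), Nat.card P = 2 ^ padicValNat 2 m.factorial ∧ GenP 2 P ∧
      ∃ b₁ b₂ : Fin m, b₁ ≠ b₂ ∧ Equiv.swap b₁ b₂ ∈ P := by
  obtain ⟨Q, hQc, hQg, -⟩ := exists_sylow_model 2 m (Fin m) (by simp)
  refine ⟨Q, hQc, hQg, ?_⟩
  have hc : Nat.card Q = 2 ^ (Nat.card (Perm (Fin m))).factorization 2 := by
    rw [hQc, Nat.card_eq_fintype_card, Fintype.card_perm, Fintype.card_fin,
      Nat.factorization_def _ Nat.prime_two]
  set Qs : Sylow 2 (Perm (Fin m)) := Sylow.ofCard Q hc with hQs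
  set x₀ : Fin m := ⟨0, by omega⟩ with hx₀
  set x₁ : Fin m := ⟨1, by omega⟩ with hx₁
  have hne : x₀ ≠ x₁ := by
    intro h
    have := congrArg Fin.val h
    simp [hx₀, hx₁] at this
  have hZ : IsPGroup 2 (Subgroup.zpowers (Equiv.swap x₀ x₁)) := by
    apply IsPGroup.of_card (n := 1)
    rw [Nat.card_zpowers, Perm.IsSwap.orderOf ⟨x₀, x₁, hne, rfl⟩, pow_one]
  obtain ⟨Q', hQ'⟩ := hZ.exists_le_sylow
  obtain ⟨g, hg⟩ := MulAction.exists_smul_eq (Perm (Fin m)) Q' Qs
  have h1 : Equiv.swap x₀ x₁ ∈ (Q' : Subgroup (Perm (Fin m))) := hQ' (Subgroup.mem_zpowers _)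
  have h2 : MulAut.conj g • Equiv.swap x₀ x₁ ∈ MulAut.conj g • (Q' : Subgroup (Perm (Fin m))) :=
    Subgroup.smul_mem_pointwise_smul _ _ _ h1
  rw [← Sylow.coe_subgroup_smul, hg, MulAut.smul_def, MulAut.conj_apply,
    ← Equiv.swap_apply_apply] at h2
  exact ⟨g x₀, g x₁, fun h => hne (g.injective h), h2⟩

/-- **The `p`-fusion system of `A_n` is simple** for `n ≥ 6`, `p² ≤ n` and `n % p ≤ 1`. -/
theorem alt_fusion_simple (n p : ℕ) (hn : 6 ≤ n) [Fact p.Prime] (hnp : p ^ 2 ≤ n) (hb : n % p ≤ 1)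
    (S : Sylow p (alternatingGroup (Fin n))) :
    (Cfsg.groupFusionSystem (S : Subgroup (alternatingGroup (Fin n)))).IsSimple p := by
  have hpp : p.Prime := Fact.out
  by_cases hp : p = 2
  · subst hp
    have hm : 3 ≤ n / 2 := by omega
    obtain ⟨P, hPc, hPg, b₁, b₂, hbb, hsw⟩ := exists_sylow_with_swap (n / 2) (by omega)
    have hsub : Subsingleton (Fin (n % 2)) := Fin.subsingleton_iff_le_one.2 hb
    have hR : Fintype.card (Fin (n % 2)) < 2 := by
      rw [Fintype.card_fin]; omega
    have hX : Fintype.card ((Fin (n / 2) × ZMod 2) ⊕ Fin (n % 2)) = n := by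
      rw [card_XT, Fintype.card_fin, Fintype.card_fin]
      omega
    have hPc' : Nat.card P = 2 ^ padicValNat 2 (Fintype.card (Fin (n / 2))).factorial := by
      rw [Fintype.card_fin]; exact hPc
    obtain ⟨hWp, hWi⟩ := isPGroup_of_card_sylow 2 (card_WX_sylow 2 hR P hPc')
    exact isSimple_of_relData hX hWp hWi
      (relData_two (by rw [Fintype.card_fin]; exact hm) hR P (IsPGroup.of_card hPc) hPg hbb hsw) S
  · have hp3 : 3 ≤ p := by
      have := hpp.two_le
      omega
    have hm : p ≤ n / p := by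
      rw [Nat.le_div_iff_mul_le hpp.pos, ← pow_two]
      exact hnp
    have hc : 1 ≤ n / p / p := by
      rw [Nat.le_div_iff_mul_le hpp.pos, one_mul]
      exact hm
    obtain ⟨P₂, hP₂c, hP₂g, -⟩ := exists_sylow_model p (n / p / p) (Fin (n / p / p)) (by simp)
    have hsub : Subsingleton (Fin (n % p)) := Fin.subsingleton_iff_le_one.2 hb
    have hne : Nonempty (Fin (n / p / p)) := ⟨⟨0, hc⟩⟩
    have hR : Fintype.card (Fin (n % p)) < p := by
      rw [Fintype.card_fin]; exact Nat.mod_lt _ hpp.pos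
    have hL : Fintype.card (Fin (n / p % p)) < p := by
      rw [Fintype.card_fin]; exact Nat.mod_lt _ hpp.pos
    have hX : Fintype.card ((((Fin (n / p / p) × ZMod p) ⊕ Fin (n / p % p)) × ZMod p) ⊕
        Fin (n % p)) = n := by
      rw [card_XT, card_XT, Fintype.card_fin, Fintype.card_fin, Fintype.card_fin,
        Nat.div_add_mod' (n / p) p, Nat.div_add_mod' n p]
    have hP₂c' : Nat.card P₂ = p ^ padicValNat p (Fintype.card (Fin (n / p / p))).factorial := by
      rw [Fintype.card_fin]; exact hP₂c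
    obtain ⟨hWp, hWi⟩ := isPGroup_of_card_sylow p
      (card_WX_sylow p hR _ (card_WX_sylow p hL P₂ hP₂c'))
    exact isSimple_of_relData hX hWp hWi (relData_odd p hp hL hR P₂ hP₂c' hP₂g) S

end Cfsg.Agent.Lib.Helper86.AltFus
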