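import Cfsg.Agent.Lib.Helper86.AltFusWr2

/-!
# The normalizer of the base group is the monomial group (helper86)
-/

set_option autoImplicit false
set_option linter.unusedSectionVars false
set_option linter.unusedSimpArgs false

namespace Cfsg.Agent.Lib.Helper86.AltFus

open Equiv

variable {B R : Type*} [Fintype B] [DecidableEq B] [Fintype R] [DecidableEq R] (p : ℕ) [Fact p.Prime]

theorem mem_support_monX_base {c : B → ZMod p} {b : B} {i : ZMod p} :
    (Sum.inl (b, i) : (B × ZMod p) ⊕ R) ∈ (monX (R := R) p (1 : Perm B) 1 c).support ↔ c b ≠ 0 := by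
  rw [support_monX_base]
  simp

theorem not_inr_mem_support_monX_base {c : B → ZMod p} {r : R} :
    (Sum.inr r : (B × ZMod p) ⊕ R) ∉ (monX (R := R) p (1 : Perm B) 1 c).support := by
  rw [support_monX_base]
  simp

/-- A permutation conjugating each basic `p`-cycle into the base group is monomial. -/
theorem mem_MX_of_conj_mem [Subsingleton R] {g : Perm ((B × ZMod p) ⊕ R)}
    (hg : ∀ b : B, g * monX p 1 1 (Pi.single b 1) * g⁻¹ ∈ EX B R p) : g ∈ MX B R p := by
  have hp : p.Prime := Fact.out
  -- the image cycle of each block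
  have h1 : ∀ b : B, ∃ (b' : B) (s : ZMod p), s ≠ 0 ∧
      g * monX (R := R) p 1 1 (Pi.single b 1) * g⁻¹ = monX p 1 1 (Pi.single b' s) := by
    intro b
    obtain ⟨c, hc⟩ := hg b
    have hcard : (Finset.univ.filter (fun x => c x ≠ 0)).card = 1 := by
      have h2 := Perm.card_support_conj (σ := g) (τ := monX (R := R) p 1 1 (Pi.single b 1))
      rw [hc, card_support_monX_base, card_support_monX_base] at h2
      have h3 : Finset.univ.filter (fun x => (Pi.single b 1 : B → ZMod p) x ≠ 0) = {b} := by
        ext x
        rw [Finset.mem_filter, Finset.mem_singleton]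
        by_cases h : x = b
        · subst h; simp
        · simp [h]
      rw [h3, Finset.card_singleton] at h2
      exact Nat.eq_of_mul_eq_mul_right hp.pos h2
    obtain ⟨b', hb'⟩ := Finset.card_eq_one.1 hcard
    have hb'c : c b' ≠ 0 := by
      have : b' ∈ Finset.univ.filter (fun x => c x ≠ 0) := by rw [hb']; exact Finset.mem_singleton_self _
      exact (Finset.mem_filter.1 this).2
    refine ⟨b', c b', hb'c, ?_⟩
    rw [hc]
    congr 1
    ext x
    by_cases h : x = b'
    · subst h; simp
    · rw [Pi.single_eq_of_ne h]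
      by_contra hx
      have : x ∈ Finset.univ.filter (fun x => c x ≠ 0) := Finset.mem_filter.2 ⟨Finset.mem_univ _, hx⟩
      rw [hb', Finset.mem_singleton] at this
      exact h this
  choose π₀ s hs hconj using h1
  -- the image of the base point of each block
  have h2 : ∀ b : B, ∃ f : ZMod p, g (Sum.inl (b, 0)) = Sum.inl (π₀ b, f) := by
    intro b
    have hmem : g (Sum.inl (b, 0)) ∈ (g * monX (R := R) p 1 1 (Pi.single b 1) * g⁻¹).support := by
      rw [Perm.support_conj, Finset.mem_map]
      refine ⟨Sum.inl (b, 0), ?_, rfl⟩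
      rw [mem_support_monX_base]
      simp
    rw [hconj b] at hmem
    rcases hgx : g (Sum.inl (b, 0)) with ⟨b'', j⟩ | r
    · rw [hgx, mem_support_monX_base] at hmem
      have : b'' = π₀ b := by
        by_contra h
        rw [Pi.single_eq_of_ne h] at hmem
        exact hmem rfl
      subst this
      exact ⟨j, rfl⟩
    · rw [hgx] at hmem
      exact absurd hmem (not_inr_mem_support_monX_base p)
  choose f hf using h2
  -- the action on the blocks
  have h3 : ∀ (b : B) (n : ℕ), g (Sum.inl (b, (n : ZMod p))) = Sum.inl (π₀ b, s b * n + f b) := by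
    intro b n
    induction n with
    | zero => simp [hf]
    | succ n ih =>
      have hrel : g * monX (R := R) p 1 1 (Pi.single b 1) =
          monX p 1 1 (Pi.single (π₀ b) (s b)) * g := by
        rw [← hconj b]; group
      have h4 := congrArg (fun σ : Perm ((B × ZMod p) ⊕ R) => σ (Sum.inl (b, (n : ZMod p)))) hrel
      simp only [Perm.mul_apply, monX_inl, Perm.one_apply, Pi.one_apply, Units.val_one, one_mul,
        Pi.single_eq_same] at h4
      rw [ih] at h4
      simp only [monX_inl, Perm.one_apply, Pi.one_apply, Units.val_one, one_mul, Pi.single_eq_same] at h4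
      rw [Nat.cast_succ, h4]
      congr 2
      ring
  have h3' : ∀ (b : B) (i : ZMod p), g (Sum.inl (b, i)) = Sum.inl (π₀ b, s b * i + f b) := by
    intro b i
    have := h3 b i.val
    rwa [ZMod.natCast_zmod_val] at this
  -- solving for the second coordinate
  have hsolve : ∀ (b : B) (j : ZMod p), ∃ i : ZMod p, s b * i + f b = j := by
    intro b j
    refine ⟨(s b)⁻¹ * (j - f b), ?_⟩
    rw [← mul_assoc, mul_inv_cancel₀ (hs b), one_mul, sub_add_cancel]
  have hinj : Function.Injective π₀ := by
    intro b₁ b₂ h
    obtain ⟨i, hi⟩ := hsolve b₂ (f b₁)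
    have h5 : g (Sum.inl (b₂, i)) = g (Sum.inl (b₁, 0)) := by
      rw [h3', h3', hi, h, mul_zero, zero_add]
    have := g.injective h5
    exact (congrArg Prod.fst (Sum.inl_injective this)).symm
  have hbij : Function.Bijective π₀ := Finite.injective_iff_bijective.1 hinj
  refine ⟨Equiv.ofBijective π₀ hbij, fun b => Units.mk0 (s b) (hs b), f, ?_⟩
  ext x
  rcases x with ⟨b, i⟩ | r
  · rw [h3', monX_inl]
    rfl
  · rw [monX_inr]
    rcases hgr : g (Sum.inr r) with ⟨b', j⟩ | r'
    · exfalso
      obtain ⟨b, rfl⟩ := hbij.2 b'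
      obtain ⟨i, hi⟩ := hsolve b j
      have h5 : g (Sum.inl (b, i)) = g (Sum.inr r) := by rw [h3', hi, hgr]
      have := g.injective h5
      exact Sum.inl_ne_inr this
    · rw [Subsingleton.elim r' r]

/-- Consequence: the normalizer of the base group is the monomial group. -/
theorem normalizer_EX_le [Subsingleton R] :
    Subgroup.normalizer ((EX B R p : Subgroup _) : Set _) ≤ MX B R p := by
  intro g hg
  apply mem_MX_of_conj_mem
  intro b
  exact (Subgroup.mem_normalizer_iff.1 hg _).1 ⟨_, rfl⟩

end Cfsg.Agent.Lib.Helper86.AltFus
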