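import Mathlib

/-!
# Monomial permutations of `(B × ZMod p) ⊕ R` (helper86)

`monX π a c` is the permutation `(b, i) ↦ (π b, a b * i + c b)` of the blocks part, fixing `R` pointwise.
The subgroups `EX` (base group `C_p^B`), `WX P` (`C_p ≀ P`) and `MX` (all monomial permutations).
-/

set_option autoImplicit false

namespace Cfsg.Agent.Lib.Helper86.AltFus

open Equiv

section mon

variable {B R : Type*} (p : ℕ) [Fact p.Prime]

/-- The permutation `(b, i) ↦ (π b, a b * i + c b)` of `B × ZMod p`. -/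
def mon (π : Perm B) (a : B → (ZMod p)ˣ) (c : B → ZMod p) : Perm (B × ZMod p) where
  toFun x := (π x.1, (a x.1 : ZMod p) * x.2 + c x.1)
  invFun y := (π.symm y.1, ((a (π.symm y.1))⁻¹ : (ZMod p)ˣ) * (y.2 - c (π.symm y.1)))
  left_inv x := by
    rcases x with ⟨b, i⟩
    apply Prod.ext
    · exact π.symm_apply_apply b
    · show (((a (π.symm (π b)))⁻¹ : (ZMod p)ˣ) : ZMod p) * ((a b : ZMod p) * i + c b - c (π.symm (π b))) = i
      rw [π.symm_apply_apply, add_sub_cancel_right, Units.inv_mul_cancel_left]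
  right_inv y := by
    rcases y with ⟨b, i⟩
    apply Prod.ext
    · exact π.apply_symm_apply b
    · show (a (π.symm b) : ZMod p) * ((((a (π.symm b))⁻¹ : (ZMod p)ˣ) : ZMod p) * (i - c (π.symm b))) +
        c (π.symm b) = i
      rw [Units.mul_inv_cancel_left, sub_add_cancel]

theorem mon_apply (π : Perm B) (a : B → (ZMod p)ˣ) (c : B → ZMod p) (b : B) (i : ZMod p) :
    mon p π a c (b, i) = (π b, (a b : ZMod p) * i + c b) := rfl

/-- The monomial permutation of `(B × ZMod p) ⊕ R` fixing `R`. -/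
def monX (π : Perm B) (a : B → (ZMod p)ˣ) (c : B → ZMod p) : Perm ((B × ZMod p) ⊕ R) :=
  Equiv.sumCongr (mon p π a c) (Equiv.refl R)

@[simp] theorem monX_inl (π : Perm B) (a : B → (ZMod p)ˣ) (c : B → ZMod p) (b : B) (i : ZMod p) :
    monX (R := R) p π a c (Sum.inl (b, i)) = Sum.inl (π b, (a b : ZMod p) * i + c b) := rfl

@[simp] theorem monX_inr (π : Perm B) (a : B → (ZMod p)ˣ) (c : B → ZMod p) (r : R) :
    monX (R := R) p π a c (Sum.inr r) = Sum.inr r := rfl

theorem monX_mul (π π' : Perm B) (a a' : B → (ZMod p)ˣ) (c c' : B → ZMod p) :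
    monX (R := R) p π a c * monX p π' a' c' =
      monX p (π * π') (fun b => a (π' b) * a' b) (fun b => (a (π' b) : ZMod p) * c' b + c (π' b)) := by
  ext x
  rcases x with ⟨b, i⟩ | r
  · simp only [Perm.mul_apply, monX_inl, Units.val_mul]
    congr 2
    ring
  · simp [Perm.mul_apply]

theorem monX_one : monX (R := R) p (1 : Perm B) 1 0 = 1 := by
  ext x
  rcases x with ⟨b, i⟩ | r <;> simp

theorem monX_inv (π : Perm B) (a : B → (ZMod p)ˣ) (c : B → ZMod p) :
    (monX (R := R) p π a c)⁻¹ =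
      monX p π⁻¹ (fun b => (a (π⁻¹ b))⁻¹) (fun b => -(((a (π⁻¹ b))⁻¹ : (ZMod p)ˣ) : ZMod p) * c (π⁻¹ b)) := by
  apply inv_eq_of_mul_eq_one_right
  rw [monX_mul]
  convert monX_one (R := R) (B := B) p using 2
  · simp
  · ext b
    simp
  · ext b
    have h1 : (a (π⁻¹ b) : ZMod p) * (((a (π⁻¹ b))⁻¹ : (ZMod p)ˣ) : ZMod p) = 1 := Units.mul_inv _
    show (a (π⁻¹ b) : ZMod p) * (-(((a (π⁻¹ b))⁻¹ : (ZMod p)ˣ) : ZMod p) * c (π⁻¹ b)) + c (π⁻¹ b) = 0
    linear_combination (-(c (π⁻¹ b))) * h1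

/-- Block permutations as a homomorphism. -/
def liftX (R : Type*) (p : ℕ) [Fact p.Prime] : Perm B →* Perm ((B × ZMod p) ⊕ R) where
  toFun π := monX p π 1 0
  map_one' := monX_one p
  map_mul' π π' := by
    rw [monX_mul]
    congr 1
    · ext b; simp
    · ext b; simp

theorem liftX_apply (π : Perm B) : liftX R p π = monX p π 1 0 := rfl

theorem monX_eq_base_mul_lift (π : Perm B) (c : B → ZMod p) :
    monX (R := R) p π 1 c = monX p 1 1 (fun b => c (π⁻¹ b)) * liftX R p π := by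
  rw [liftX_apply, monX_mul]
  congr 1
  · ext b; simp
  · ext b; simp

theorem monX_injective {π π' : Perm B} {a a' : B → (ZMod p)ˣ} {c c' : B → ZMod p}
    (h : monX (R := R) p π a c = monX p π' a' c') : π = π' ∧ a = a' ∧ c = c' := by
  have h0 : ∀ b : B, (π b, (a b : ZMod p) * 0 + c b) = (π' b, (a' b : ZMod p) * 0 + c' b) := by
    intro b
    have := congrArg (fun f : Perm ((B × ZMod p) ⊕ R) => f (Sum.inl (b, 0))) h
    simpa using this
  have h1 : ∀ b : B, (π b, (a b : ZMod p) * 1 + c b) = (π' b, (a' b : ZMod p) * 1 + c' b) := by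
    intro b
    have := congrArg (fun f : Perm ((B × ZMod p) ⊕ R) => f (Sum.inl (b, 1))) h
    simpa using this
  have hc : c = c' := by
    ext b
    have := congrArg Prod.snd (h0 b)
    simpa using this
  refine ⟨?_, ?_, hc⟩
  · ext b
    exact congrArg Prod.fst (h0 b)
  · ext b
    have := congrArg Prod.snd (h1 b)
    rw [hc] at this
    simpa using this

theorem monX_pow_one_one (c : B → ZMod p) (k : ℕ) :
    (monX (R := R) p (1 : Perm B) 1 c) ^ k = monX p 1 1 (k • c) := by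
  induction k with
  | zero => simp [monX_one]
  | succ k ih =>
    rw [pow_succ, ih, monX_mul]
    congr 1
    · ext b; simp
    · ext b
      simp [add_smul, add_comm]

theorem monX_pow_p (c : B → ZMod p) : (monX (R := R) p (1 : Perm B) 1 c) ^ p = 1 := by
  rw [monX_pow_one_one]
  convert monX_one (R := R) (B := B) p using 2
  ext b
  simp

theorem monX_add (c c' : B → ZMod p) :
    monX (R := R) p (1 : Perm B) 1 (c + c') = monX p 1 1 c * monX p 1 1 c' := by
  rw [monX_mul]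
  congr 1
  · ext b; simp
  · ext b; simp [add_comm]

/-- Conjugation formula: a monomial permutation conjugates the base group to itself. -/
theorem monX_conj_base (π : Perm B) (a : B → (ZMod p)ˣ) (c d : B → ZMod p) :
    monX (R := R) p π a c * monX p 1 1 d * (monX p π a c)⁻¹ =
      monX p 1 1 (fun b => (a (π⁻¹ b) : ZMod p) * d (π⁻¹ b)) := by
  rw [mul_inv_eq_iff_eq_mul, monX_mul, monX_mul]
  congr 1
  · ext b; simp
  · ext b
    simp
    ring

/-! ### The subgroups -/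

end mon

section subgroups

/-- The base group `C_p^B`. -/
def EX (B R : Type*) (p : ℕ) [Fact p.Prime] : Subgroup (Perm ((B × ZMod p) ⊕ R)) where
  carrier := {x | ∃ c : B → ZMod p, x = monX p 1 1 c}
  mul_mem' := by
    rintro _ _ ⟨c, rfl⟩ ⟨c', rfl⟩
    exact ⟨c + c', (monX_add p c c').symm⟩
  one_mem' := ⟨0, (monX_one p).symm⟩
  inv_mem' := by
    rintro _ ⟨c, rfl⟩
    refine ⟨-c, ?_⟩
    rw [monX_inv]
    congr 1
    ext b; simp

/-- The wreath product `C_p ≀ P`. -/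
def WX {B : Type*} (R : Type*) (p : ℕ) [Fact p.Prime] (P : Subgroup (Perm B)) :
    Subgroup (Perm ((B × ZMod p) ⊕ R)) where
  carrier := {x | ∃ π ∈ P, ∃ c : B → ZMod p, x = monX p π 1 c}
  mul_mem' := by
    rintro _ _ ⟨π, hπ, c, rfl⟩ ⟨π', hπ', c', rfl⟩
    refine ⟨π * π', P.mul_mem hπ hπ', fun b => c' b + c (π' b), ?_⟩
    rw [monX_mul]
    congr 1
    · ext b; simp
    · ext b; simp
  one_mem' := ⟨1, P.one_mem, 0, (monX_one p).symm⟩
  inv_mem' := by
    rintro _ ⟨π, hπ, c, rfl⟩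
    refine ⟨π⁻¹, P.inv_mem hπ, fun b => - c (π⁻¹ b), ?_⟩
    rw [monX_inv]
    congr 1
    ext b; simp

/-- The full monomial group. -/
def MX (B R : Type*) (p : ℕ) [Fact p.Prime] : Subgroup (Perm ((B × ZMod p) ⊕ R)) where
  carrier := {x | ∃ (π : Perm B) (a : B → (ZMod p)ˣ) (c : B → ZMod p), x = monX p π a c}
  mul_mem' := by
    rintro _ _ ⟨π, a, c, rfl⟩ ⟨π', a', c', rfl⟩
    exact ⟨_, _, _, monX_mul p π π' a a' c c'⟩
  one_mem' := ⟨1, 1, 0, (monX_one p).symm⟩
  inv_mem' := by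
    rintro _ ⟨π, a, c, rfl⟩
    exact ⟨_, _, _, monX_inv p π a c⟩

variable {B R : Type*} (p : ℕ) [Fact p.Prime]

theorem mem_EX {x : Perm ((B × ZMod p) ⊕ R)} : x ∈ EX B R p ↔ ∃ c : B → ZMod p, x = monX p 1 1 c := Iff.rfl

theorem mem_WX {P : Subgroup (Perm B)} {x : Perm ((B × ZMod p) ⊕ R)} :
    x ∈ WX R p P ↔ ∃ π ∈ P, ∃ c : B → ZMod p, x = monX p π 1 c := Iff.rfl

theorem mem_MX {x : Perm ((B × ZMod p) ⊕ R)} :
    x ∈ MX B R p ↔ ∃ (π : Perm B) (a : B → (ZMod p)ˣ) (c : B → ZMod p), x = monX p π a c := Iff.rfl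

theorem EX_le_WX (P : Subgroup (Perm B)) : EX B R p ≤ WX R p P := by
  rintro _ ⟨c, rfl⟩
  exact ⟨1, P.one_mem, c, rfl⟩

theorem WX_le_MX (P : Subgroup (Perm B)) : WX R p P ≤ MX B R p := by
  rintro _ ⟨π, -, c, rfl⟩
  exact ⟨π, 1, c, rfl⟩

theorem WX_mono {P Q : Subgroup (Perm B)} (h : P ≤ Q) : WX R p P ≤ WX R p Q := by
  rintro _ ⟨π, hπ, c, rfl⟩
  exact ⟨π, h hπ, c, rfl⟩

/-- The monomial group normalizes the base group. -/
theorem MX_le_normalizer : MX B R p ≤ Subgroup.normalizer ((EX B R p : Subgroup _) : Set _) := by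
  rintro _ ⟨π, a, c, rfl⟩
  rw [Subgroup.mem_normalizer_iff]
  intro h
  constructor
  · rintro ⟨d, rfl⟩
    exact ⟨_, monX_conj_base p π a c d⟩
  · rintro ⟨d, hd⟩
    have h1 : h = (monX (R := R) p π a c)⁻¹ * monX p 1 1 d * ((monX p π a c)⁻¹)⁻¹ := by
      rw [← hd]; group
    rw [h1, monX_inv, monX_conj_base]
    exact ⟨_, rfl⟩

theorem card_WX [Finite B] (P : Subgroup (Perm B)) :
    Nat.card (WX R p P) = Nat.card P * p ^ Nat.card B := by
  have e : (↥P × (B → ZMod p)) ≃ ↥(WX R p P) :=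
    Equiv.ofBijective (fun x => ⟨monX p x.1.1 1 x.2, ⟨x.1.1, x.1.2, x.2, rfl⟩⟩) (by
      constructor
      · rintro ⟨⟨σ, hσ⟩, c⟩ ⟨⟨τ, hτ⟩, d⟩ h
        have h' := monX_injective p (congrArg Subtype.val h)
        simp only at h'
        obtain ⟨h1, -, h2⟩ := h'
        subst h1; subst h2; rfl
      · rintro ⟨f, σ, hσ, c, rfl⟩
        exact ⟨⟨⟨σ, hσ⟩, c⟩, rfl⟩)
  rw [← Nat.card_congr e, Nat.card_prod, Nat.card_fun, Nat.card_zmod]

end subgroups

end Cfsg.Agent.Lib.Helper86.AltFus
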