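import Cfsg.Agent.Lib.Helper86.AltFusWr

/-!
# Signs and supports of monomial permutations (helper86)
-/

set_option autoImplicit false

namespace Cfsg.Agent.Lib.Helper86.AltFus

open Equiv

section signs

variable {B R : Type*} [Fintype B] [DecidableEq B] [Fintype R] [DecidableEq R] (p : ℕ) [Fact p.Prime]

/-- The sign of multiplication by a unit on `ZMod p`. -/
noncomputable def chi : (ZMod p)ˣ →* ℤˣ :=
  Perm.sign.comp (MulAction.toPermHom (ZMod p)ˣ (ZMod p))

omit [Fintype B] [DecidableEq B] [Fintype R] [DecidableEq R] in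
theorem monX_decomp (π : Perm B) (a : B → (ZMod p)ˣ) (c : B → ZMod p) :
    monX (R := R) p π a c = monX p 1 1 (fun b => c (π⁻¹ b)) * (monX p π 1 0 * monX p 1 a 0) := by
  rw [monX_mul, monX_mul]
  congr 1
  · ext b; simp
  · ext b; simp

theorem sign_monX_lift (π : Perm B) :
    Perm.sign (monX (R := R) p π 1 0) = Perm.sign π ^ p := by
  have h : mon p π (1 : B → (ZMod p)ˣ) 0 = Equiv.prodCongrLeft (fun _ : ZMod p => π) := by
    apply Equiv.ext
    rintro ⟨b, i⟩
    rw [mon_apply]
    simp [Equiv.prodCongrLeft]
  unfold monX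
  rw [Perm.sign_sumCongr, h, Perm.sign_prodCongrLeft, Finset.prod_const, Finset.card_univ, ZMod.card]
  simp

theorem sign_monX_sc (a : B → (ZMod p)ˣ) :
    Perm.sign (monX (R := R) p (1 : Perm B) a 0) = chi p (∏ b, a b) := by
  have h : mon p (1 : Perm B) a 0 =
      Equiv.prodCongrRight (fun b : B => MulAction.toPermHom (ZMod p)ˣ (ZMod p) (a b)) := by
    apply Equiv.ext
    rintro ⟨b, i⟩
    rw [mon_apply]
    show ((1 : Perm B) b, (a b : ZMod p) * i + (0 : B → ZMod p) b) = (b, (a b) • i)
    rw [Perm.one_apply, Pi.zero_apply, add_zero, Units.smul_def, smul_eq_mul]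
  unfold monX
  rw [Perm.sign_sumCongr, h, Perm.sign_prodCongrRight, map_prod]
  simp [chi]

theorem sign_eq_one_of_pow_odd {γ : Type*} [Fintype γ] [DecidableEq γ] {q : ℕ} (hq : Odd q)
    {x : Perm γ} (hx : x ^ q = 1) : Perm.sign x = 1 := by
  have h1 : Perm.sign x ^ q = 1 := by rw [← map_pow, hx, map_one]
  rcases Int.units_eq_one_or (Perm.sign x) with h | h
  · exact h
  · rw [h, Odd.neg_one_pow hq] at h1
    exact absurd h1 (by decide)

theorem sign_monX_base_odd (hp : p ≠ 2) (c : B → ZMod p) :
    Perm.sign (monX (R := R) p (1 : Perm B) 1 c) = 1 :=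
  sign_eq_one_of_pow_odd ((Fact.out : p.Prime).odd_of_ne_two hp) (monX_pow_p p c)

/-- For `p` odd the sign of a monomial permutation. -/
theorem sign_monX_odd (hp : p ≠ 2) (π : Perm B) (a : B → (ZMod p)ˣ) (c : B → ZMod p) :
    Perm.sign (monX (R := R) p π a c) = Perm.sign π * chi p (∏ b, a b) := by
  rw [monX_decomp, map_mul, map_mul, sign_monX_base_odd p hp, sign_monX_lift, sign_monX_sc, one_mul]
  congr 1
  have hodd : Odd p := (Fact.out : p.Prime).odd_of_ne_two hp
  rcases Int.units_eq_one_or (Perm.sign π) with h | h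
  · rw [h, one_pow]
  · rw [h, Odd.neg_one_pow hodd]

end signs

section two

variable {B R : Type*} [Fintype B] [DecidableEq B] [Fintype R] [DecidableEq R]

theorem sign_monX_base_two (c : B → ZMod 2) :
    Perm.sign (monX (R := R) 2 (1 : Perm B) 1 c) = ∏ b, (if c b = 0 then (1 : ℤˣ) else -1) := by
  have h : mon 2 (1 : Perm B) 1 c = Equiv.prodCongrRight (fun b : B => Equiv.addRight (c b)) := by
    apply Equiv.ext
    rintro ⟨b, i⟩
    rw [mon_apply]
    simp [Equiv.prodCongrRight]
  unfold monX
  rw [Perm.sign_sumCongr, h, Perm.sign_prodCongrRight]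
  simp only [Perm.sign_refl, mul_one]
  apply Finset.prod_congr rfl
  intro b _
  have h01 : ∀ z : ZMod 2, Perm.sign (Equiv.addRight z) = if z = 0 then (1 : ℤˣ) else -1 := by decide
  exact h01 (c b)

theorem sign_monX_two (π : Perm B) (c : B → ZMod 2) :
    Perm.sign (monX (R := R) 2 π 1 c) = ∏ b, (if c b = 0 then (1 : ℤˣ) else -1) := by
  rw [monX_decomp, map_mul, map_mul, sign_monX_base_two, sign_monX_lift, monX_one, map_one, mul_one]
  rw [Int.units_sq, mul_one]
  exact Fintype.prod_equiv π⁻¹ _ _ (fun b => rfl)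

end two

section supp

variable {B R : Type*} [Fintype B] [DecidableEq B] [Fintype R] [DecidableEq R] (p : ℕ) [Fact p.Prime]

theorem support_monX_base (c : B → ZMod p) :
    (monX (R := R) p (1 : Perm B) 1 c).support =
      ((Finset.univ.filter (fun b => c b ≠ 0)) ×ˢ (Finset.univ : Finset (ZMod p))).map
        ⟨Sum.inl, Sum.inl_injective⟩ := by
  ext x
  rcases x with ⟨b, i⟩ | r
  · simp [Perm.mem_support]
  · simp [Perm.mem_support]

theorem card_support_monX_base (c : B → ZMod p) :
    (monX (R := R) p (1 : Perm B) 1 c).support.card = (Finset.univ.filter (fun b => c b ≠ 0)).card * p := by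
  rw [support_monX_base, Finset.card_map, Finset.card_product, Finset.card_univ, ZMod.card]

/-- A wreath element with nontrivial block permutation moves at least `2p` points. -/
theorem two_mul_le_card_support {π : Perm B} (hπ : π ≠ 1) (a : B → (ZMod p)ˣ) (c : B → ZMod p) :
    2 * p ≤ (monX (R := R) p π a c).support.card := by
  obtain ⟨b, hb⟩ : ∃ b, π b ≠ b := by
    by_contra h
    push Not at h
    exact hπ (Equiv.ext h)
  have hb' : π (π b) ≠ π b := fun h => hb (π.injective h)
  have hsub : (({b, π b} : Finset B) ×ˢ (Finset.univ : Finset (ZMod p))).map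
      ⟨Sum.inl, Sum.inl_injective⟩ ⊆ (monX (R := R) p π a c).support := by
    intro x hx
    rw [Finset.mem_map] at hx
    obtain ⟨⟨b', i⟩, hbi, rfl⟩ := hx
    rw [Finset.mem_product, Finset.mem_insert, Finset.mem_singleton] at hbi
    rw [Perm.mem_support]
    show monX (R := R) p π a c (Sum.inl (b', i)) ≠ Sum.inl (b', i)
    rw [monX_inl]
    intro h
    have h1 : π b' = b' := congrArg Prod.fst (Sum.inl_injective h)
    rcases hbi.1 with rfl | rfl
    · exact hb h1
    · exact hb' h1
  have hcard := Finset.card_le_card hsub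
  rw [Finset.card_map, Finset.card_product, Finset.card_univ, ZMod.card,
    Finset.card_pair (Ne.symm hb)] at hcard
  exact hcard

theorem mem_EX_of_card_support_lt {P : Subgroup (Perm B)} {x : Perm ((B × ZMod p) ⊕ R)}
    (hx : x ∈ WX R p P) (hc : x.support.card < 2 * p) : x ∈ EX B R p := by
  obtain ⟨π, -, c, rfl⟩ := hx
  by_cases hπ : π = 1
  · subst hπ
    exact ⟨c, rfl⟩
  · exact absurd (two_mul_le_card_support p hπ 1 c) (not_le.2 hc)

/-- Induction principle for functions `B → ZMod p`. -/
theorem fun_induction {motive : (B → ZMod p) → Prop} (h0 : motive 0)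
    (hadd : ∀ (c : B → ZMod p) (b : B) (s : ZMod p), motive c → motive (c + Pi.single b s)) :
    ∀ c, motive c := by
  have key : ∀ (t : Finset B) (c : B → ZMod p), (∀ b, b ∉ t → c b = 0) → motive c := by
    intro t
    induction t using Finset.induction_on with
    | empty =>
      intro c hc
      have : c = 0 := by
        ext b
        exact hc b (Finset.notMem_empty b)
      rw [this]
      exact h0
    | insert b t hb ih =>
      intro c hc
      have h1 : c = (c - Pi.single b (c b)) + Pi.single b (c b) := by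
        rw [sub_add_cancel]
      rw [h1]
      apply hadd
      apply ih
      intro b' hb'
      by_cases hbb : b' = b
      · subst hbb
        simp
      · have : b' ∉ insert b t := by
          rw [Finset.mem_insert]
          push Not
          exact ⟨hbb, hb'⟩
        simp [hc b' this, hbb]
  intro c
  exact key Finset.univ c (fun b hb => absurd (Finset.mem_univ b) hb)

end supp

end Cfsg.Agent.Lib.Helper86.AltFus
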