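/-
BHR-[E8] (project ASCH second sheet, coordinator helper99): over the field with two elements,
GL_2(2) ⊗ GL_m(2) normalises the field subalgebra F_4 ⊗ 1.
-/
import Mathlib
import Cfsg.Prelude.Def_GeometricClasses

set_option autoImplicit false

namespace Cfsg.Agent.Lib.Helper86.BhrE8

open Cfsg Cfsg.Geo
open scoped MatrixGroups Matrix Kronecker

variable {F : Type*} [Field F]

/-- the subalgebra `{a + b k₀}` of `M_2(F)`, `k₀ = !![0,1;1,1]` -/
def K0 (F : Type*) [Field F] : Subalgebra F (Matrix (Fin 2) (Fin 2) F) where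
  carrier := {m | m 1 0 = m 0 1 ∧ m 1 1 = m 0 0 + m 0 1}
  mul_mem' := by
    rintro a b ⟨ha1, ha2⟩ ⟨hb1, hb2⟩
    simp only [Set.mem_ofPred_eq, Matrix.mul_apply, Fin.sum_univ_two]
    constructor
    · rw [ha1, ha2, hb1, hb2]; ring
    · rw [ha1, ha2, hb1, hb2]; ring
  add_mem' := by
    rintro a b ⟨ha1, ha2⟩ ⟨hb1, hb2⟩
    simp only [Set.mem_ofPred_eq, Matrix.add_apply]
    constructor
    · rw [ha1, hb1]
    · rw [ha2, hb2]; ring
  algebraMap_mem' := by
    intro c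
    simp only [Set.mem_ofPred_eq, Matrix.algebraMap_matrix_apply]
    simp

lemma mem_K0 (m : Matrix (Fin 2) (Fin 2) F) :
    m ∈ K0 F ↔ m 1 0 = m 0 1 ∧ m 1 1 = m 0 0 + m 0 1 := Iff.rfl

lemma K0_comm (a b : Matrix (Fin 2) (Fin 2) F) (ha : a ∈ K0 F) (hb : b ∈ K0 F) :
    a * b = b * a := by
  obtain ⟨ha1, ha2⟩ := ha
  obtain ⟨hb1, hb2⟩ := hb
  ext i j
  fin_cases i <;> fin_cases j <;>
    simp only [Matrix.mul_apply, Fin.sum_univ_two, Fin.zero_eta, Fin.mk_one, Fin.isValue,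
      ha1, ha2, hb1, hb2] <;> ring

lemma two_eq_zero_of_01 (h01 : ∀ t : F, t = 0 ∨ t = 1) : (1 : F) + 1 = 0 := by
  rcases h01 ((1 : F) + 1) with h | h
  · exact h
  · exfalso; exact one_ne_zero (α := F) (by linear_combination h)

/-- nonzero elements of `K0` are invertible in `K0` when `F = {0, 1}` -/
lemma K0_inv (h01 : ∀ t : F, t = 0 ∨ t = 1) (a : Matrix (Fin 2) (Fin 2) F) (ha : a ∈ K0 F)
    (ha0 : a ≠ 0) : ∃ b ∈ K0 F, a * b = 1 := by
  obtain ⟨ha1, ha2⟩ := ha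
  have h2 : (1 : F) + 1 = 0 := two_eq_zero_of_01 h01
  have hne : ¬ (a 0 0 = 0 ∧ a 0 1 = 0) := by
    rintro ⟨h1, h2'⟩
    apply ha0
    ext i j
    fin_cases i <;> fin_cases j <;> simp [h1, h2', ha1, ha2]
  have key : a 0 0 * (a 0 0 + a 0 1) + a 0 1 * a 0 1 = 1 := by
    rcases h01 (a 0 0) with h | h <;> rcases h01 (a 0 1) with h' | h'
    · exact absurd ⟨h, h'⟩ hne
    · rw [h, h']; ring
    · rw [h, h']; ring
    · rw [h, h']; linear_combination h2
  have hcross : a 0 0 * a 0 1 + a 0 1 * a 0 0 = 0 := by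
    linear_combination (a 0 0 * a 0 1) * h2
  refine ⟨!![a 0 0 + a 0 1, a 0 1; a 0 1, a 0 0], ⟨by simp, ?_⟩, ?_⟩
  · simp only [Matrix.of_apply, Matrix.cons_val', Matrix.cons_val_zero, Matrix.cons_val_one,
      Matrix.cons_val_fin_one]
    linear_combination (- a 0 1) * h2
  ext i j
  fin_cases i <;> fin_cases j <;>
    simp only [Matrix.mul_apply, Fin.sum_univ_two, Fin.zero_eta, Fin.mk_one, Fin.isValue,
      Matrix.of_apply, Matrix.cons_val', Matrix.cons_val_zero, Matrix.cons_val_one,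
      Matrix.cons_val_fin_one, Matrix.one_apply_eq, ne_eq, zero_ne_one, one_ne_zero,
      not_false_eq_true, Matrix.one_apply_ne, ha1, ha2]
  · exact key
  · exact hcross
  · linear_combination (a 0 1 * a 0 1 + a 0 0 * a 0 1) * h2
  · linear_combination key

/-- the scalar identities behind `a k₀ a⁻¹ ∈ K0` -/
lemma conj_scalar (h01 : ∀ t : F, t = 0 ∨ t = 1) (x y z w : F) (hdet : x * w - y * z = 1) :
    w * w - z * w - z * z = x * x + x * y - y * y ∧
    x * w + x * z - w * y = y * w - x * z - y * z + (x * x + x * y - y * y) := by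
  have h2 : (1 : F) + 1 = 0 := two_eq_zero_of_01 h01
  rcases h01 x with rfl | rfl <;> rcases h01 y with rfl | rfl <;>
    rcases h01 z with rfl | rfl <;> rcases h01 w with rfl | rfl <;>
    first
    | (exfalso; norm_num at hdet; done)
    | (constructor <;>
        first
        | ring1
        | linear_combination h2
        | linear_combination -h2)

/-- the matrix `k₀` -/
def k0 (F : Type*) [Field F] : Matrix (Fin 2) (Fin 2) F := !![0, 1; 1, 1]

lemma k0_mem : k0 F ∈ K0 F := by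
  rw [mem_K0]; simp [k0]

lemma eq_smul_add_smul_k0 (m : Matrix (Fin 2) (Fin 2) F) (hm : m ∈ K0 F) :
    m = m 0 0 • (1 : Matrix (Fin 2) (Fin 2) F) + m 0 1 • k0 F := by
  obtain ⟨h1, h2⟩ := hm
  ext i j
  fin_cases i <;> fin_cases j <;> simp [k0, h1, h2]

lemma conj_k0_mem (h01 : ∀ t : F, t = 0 ∨ t = 1) (a : Matrix (Fin 2) (Fin 2) F)
    (hdet : a.det = 1) : a * k0 F * a.adjugate ∈ K0 F := by
  rw [Matrix.det_fin_two] at hdet
  obtain ⟨hA, hB⟩ := conj_scalar h01 (a 0 0) (a 0 1) (a 1 0) (a 1 1) hdet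
  rw [mem_K0, Matrix.adjugate_fin_two]
  simp only [k0, Matrix.mul_apply, Fin.sum_univ_two, Matrix.of_apply, Matrix.cons_val',
    Matrix.cons_val_zero, Matrix.cons_val_one, Matrix.cons_val_fin_one]
  constructor
  · linear_combination hA
  · linear_combination hB

lemma conj_mem (h01 : ∀ t : F, t = 0 ∨ t = 1) (a : Matrix (Fin 2) (Fin 2) F)
    (hdet : a.det = 1) (m : Matrix (Fin 2) (Fin 2) F) (hm : m ∈ K0 F) :
    a * m * a.adjugate ∈ K0 F := by
  rw [eq_smul_add_smul_k0 m hm, Matrix.mul_add, Matrix.add_mul, Matrix.mul_smul, Matrix.mul_smul,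
    Matrix.smul_mul, Matrix.smul_mul, Matrix.mul_one, Matrix.mul_adjugate, hdet, one_smul]
  exact (K0 F).add_mem ((K0 F).smul_mem (K0 F).one_mem _)
    ((K0 F).smul_mem (conj_k0_mem h01 a hdet) _)

/-- `K0` has dimension 2 -/
noncomputable def K0equiv (F : Type*) [Field F] : (K0 F) ≃ₗ[F] (Fin 2 → F) where
  toFun m := ![(m : Matrix (Fin 2) (Fin 2) F) 0 0, (m : Matrix (Fin 2) (Fin 2) F) 0 1]
  map_add' a b := by
    ext i; fin_cases i <;> simp
  map_smul' c a := by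
    ext i; fin_cases i <;> simp
  invFun v := ⟨v 0 • (1 : Matrix (Fin 2) (Fin 2) F) + v 1 • k0 F,
    (K0 F).add_mem ((K0 F).smul_mem (K0 F).one_mem _) ((K0 F).smul_mem k0_mem _)⟩
  left_inv m := by
    apply Subtype.ext
    simp only [Matrix.cons_val_zero, Matrix.cons_val_one]
    exact (eq_smul_add_smul_k0 _ m.2).symm
  right_inv v := by
    ext i; fin_cases i <;> simp [k0]

lemma finrank_K0 : Module.finrank F (K0 F) = 2 := by
  rw [(K0equiv F).finrank_eq, Module.finrank_fin_fun]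

variable {n : ℕ}

/-- `m ↦ m ⊗ 1` as an algebra hom -/
def kronOne (n₂ : ℕ) :
    Matrix (Fin 2) (Fin 2) F →ₐ[F] Matrix (Fin 2 × Fin n₂) (Fin 2 × Fin n₂) F :=
  AlgHom.ofLinearMap
    { toFun := fun m => m ⊗ₖ (1 : Matrix (Fin n₂) (Fin n₂) F)
      map_add' := fun a b => Matrix.add_kronecker a b 1
      map_smul' := fun c a => Matrix.smul_kronecker c a 1 }
    Matrix.one_kronecker_one
    (fun a b => by
      change (a * b) ⊗ₖ (1 : Matrix (Fin n₂) (Fin n₂) F) = (a ⊗ₖ 1) * (b ⊗ₖ 1)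
      rw [← Matrix.mul_kronecker_mul, mul_one])

lemma kronOne_apply (n₂ : ℕ) (m : Matrix (Fin 2) (Fin 2) F) :
    kronOne n₂ m = m ⊗ₖ (1 : Matrix (Fin n₂) (Fin n₂) F) := rfl

lemma kronOne_injective (n₂ : ℕ) (hn₂ : 1 ≤ n₂) :
    Function.Injective (kronOne (F := F) n₂) := by
  rw [injective_iff_map_eq_zero]
  intro m hm
  ext i j
  have := congrFun (congrFun hm (i, ⟨0, by omega⟩)) (j, ⟨0, by omega⟩)
  rw [kronOne_apply, Matrix.kronecker_apply, Matrix.one_apply_eq, mul_one] at this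
  exact this

/-- conjugation by an invertible matrix as an algebra hom -/
def conjAlg (P : GL (Fin n) F) : Matrix (Fin n) (Fin n) F →ₐ[F] Matrix (Fin n) (Fin n) F :=
  AlgHom.ofLinearMap
    { toFun := fun M => (P : Matrix (Fin n) (Fin n) F) * M * ((P⁻¹ : GL (Fin n) F) : Matrix (Fin n) (Fin n) F)
      map_add' := fun a b => by rw [mul_add, add_mul]
      map_smul' := fun c a => by rw [Matrix.mul_smul, Matrix.smul_mul]; rfl }
    (by
      change (P : Matrix (Fin n) (Fin n) F) * 1 * ((P⁻¹ : GL (Fin n) F) : Matrix (Fin n) (Fin n) F) = 1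
      rw [mul_one, ← Units.val_mul, mul_inv_cancel, Units.val_one])
    (fun a b => by
      change (P : Matrix (Fin n) (Fin n) F) * (a * b) * ((P⁻¹ : GL (Fin n) F) : Matrix (Fin n) (Fin n) F)
        = ((P : Matrix (Fin n) (Fin n) F) * a * ((P⁻¹ : GL (Fin n) F) : Matrix (Fin n) (Fin n) F)) *
          ((P : Matrix (Fin n) (Fin n) F) * b * ((P⁻¹ : GL (Fin n) F) : Matrix (Fin n) (Fin n) F))
      have h : ((P⁻¹ : GL (Fin n) F) : Matrix (Fin n) (Fin n) F) * (P : Matrix (Fin n) (Fin n) F) = 1 := by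
        rw [← Units.val_mul, inv_mul_cancel, Units.val_one]
      calc (P : Matrix (Fin n) (Fin n) F) * (a * b) * ((P⁻¹ : GL (Fin n) F) : Matrix (Fin n) (Fin n) F)
          = (P : Matrix (Fin n) (Fin n) F) * a * (1 : Matrix (Fin n) (Fin n) F) * b *
              ((P⁻¹ : GL (Fin n) F) : Matrix (Fin n) (Fin n) F) := by
            rw [mul_one, mul_assoc (P : Matrix (Fin n) (Fin n) F) a b]
        _ = _ := by rw [← h]; simp only [mul_assoc])

lemma conjAlg_apply (P : GL (Fin n) F) (M : Matrix (Fin n) (Fin n) F) :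
    conjAlg P M = (P : Matrix (Fin n) (Fin n) F) * M * ((P⁻¹ : GL (Fin n) F) : Matrix (Fin n) (Fin n) F) := rfl

lemma conjAlg_injective (P : GL (Fin n) F) : Function.Injective (conjAlg P) := by
  intro a b hab
  rw [conjAlg_apply, conjAlg_apply] at hab
  have h : ((P⁻¹ : GL (Fin n) F) : Matrix (Fin n) (Fin n) F) * (P : Matrix (Fin n) (Fin n) F) = 1 := by
    rw [← Units.val_mul, inv_mul_cancel, Units.val_one]
  have h' : (P : Matrix (Fin n) (Fin n) F) * ((P⁻¹ : GL (Fin n) F) : Matrix (Fin n) (Fin n) F) = 1 := by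
    rw [← Units.val_mul, mul_inv_cancel, Units.val_one]
  calc a = ((P⁻¹ : GL (Fin n) F) : Matrix (Fin n) (Fin n) F) *
        ((P : Matrix (Fin n) (Fin n) F) * a * ((P⁻¹ : GL (Fin n) F) : Matrix (Fin n) (Fin n) F)) *
        (P : Matrix (Fin n) (Fin n) F) := by
          rw [← mul_assoc, ← mul_assoc, h, one_mul, mul_assoc, h, mul_one]
    _ = b := by rw [hab, ← mul_assoc, ← mul_assoc, h, one_mul, mul_assoc, h, mul_one]

/-- the algebra hom `M ↦ P (reindex M) P⁻¹` -/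
def Theta (n₂ : ℕ) (e : Fin n ≃ Fin 2 × Fin n₂) (P : GL (Fin n) F) :
    Matrix (Fin 2 × Fin n₂) (Fin 2 × Fin n₂) F →ₐ[F] Matrix (Fin n) (Fin n) F :=
  (conjAlg P).comp (Matrix.reindexAlgEquiv F F e.symm).toAlgHom

lemma Theta_injective (n₂ : ℕ) (e : Fin n ≃ Fin 2 × Fin n₂) (P : GL (Fin n) F) :
    Function.Injective (Theta n₂ e P) :=
  (conjAlg_injective P).comp (Matrix.reindexAlgEquiv F F e.symm).injective

/-- the group hom `conj P ∘ glReindex e.symm` agrees with `Theta` on matrices -/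
lemma val_conj_glReindex (n₂ : ℕ) (e : Fin n ≃ Fin 2 × Fin n₂) (P : GL (Fin n) F)
    (k : GL (Fin 2 × Fin n₂) F) :
    (((MulAut.conj P).toMonoidHom ((glReindex e.symm).toMonoidHom k) : GL (Fin n) F) :
      Matrix (Fin n) (Fin n) F) = Theta n₂ e P (k : Matrix (Fin 2 × Fin n₂) (Fin 2 × Fin n₂) F) := by
  rfl

/-- the field subalgebra `K = Θ(K0 ⊗ 1)` -/
def KK (n₂ : ℕ) (e : Fin n ≃ Fin 2 × Fin n₂) (P : GL (Fin n) F) :
    Subalgebra F (Matrix (Fin n) (Fin n) F) :=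
  (K0 F).map ((Theta n₂ e P).comp (kronOne n₂))

lemma Phi_injective (n₂ : ℕ) (hn₂ : 1 ≤ n₂) (e : Fin n ≃ Fin 2 × Fin n₂) (P : GL (Fin n) F) :
    Function.Injective ((Theta n₂ e P).comp (kronOne (F := F) n₂)) :=
  (Theta_injective n₂ e P).comp (kronOne_injective n₂ hn₂)

lemma KK_isField (h01 : ∀ t : F, t = 0 ∨ t = 1) (n₂ : ℕ) (hn₂ : 1 ≤ n₂)
    (e : Fin n ≃ Fin 2 × Fin n₂) (P : GL (Fin n) F) :
    IsFieldSubalgebra 2 (KK n₂ e P) := by
  refine ⟨?_, ?_, ?_⟩
  · intro x hx y hy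
    obtain ⟨a, ha, rfl⟩ := Subalgebra.mem_map.mp hx
    obtain ⟨b, hb, rfl⟩ := Subalgebra.mem_map.mp hy
    rw [← map_mul, ← map_mul, K0_comm a b ha hb]
  · intro x hx hx0
    obtain ⟨a, ha, rfl⟩ := Subalgebra.mem_map.mp hx
    have ha0 : a ≠ 0 := by
      rintro rfl
      exact hx0 (map_zero _)
    obtain ⟨b, hb, hab⟩ := K0_inv h01 a ha ha0
    refine ⟨_, Subalgebra.mem_map.mpr ⟨b, hb, rfl⟩, ?_⟩
    rw [← map_mul, hab, map_one]
  · rw [← finrank_K0 (F := F)]
    exact ((K0 F).equivMapOfInjective _ (Phi_injective n₂ hn₂ e P)).toLinearEquiv.finrank_eq.symm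

/-- forward half of the normalisation -/
lemma conj_mem_KK (h01 : ∀ t : F, t = 0 ∨ t = 1) (n₂ : ℕ)
    (e : Fin n ≃ Fin 2 × Fin n₂) (P : GL (Fin n) F) (g : GL (Fin n) F)
    (hg : g ∈ tensorProductSubgroup 2 n₂ e P) (M : Matrix (Fin n) (Fin n) F)
    (hM : M ∈ KK n₂ e P) :
    (g : Matrix (Fin n) (Fin n) F) * M * ((g⁻¹ : GL (Fin n) F) : Matrix (Fin n) (Fin n) F)
      ∈ KK n₂ e P := by
  obtain ⟨g₁, hg₁, rfl⟩ := hg
  obtain ⟨k, hk, rfl⟩ := hg₁
  obtain ⟨a, b, hkab⟩ := hk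
  obtain ⟨m, hm, rfl⟩ := Subalgebra.mem_map.mp hM
  rw [← map_inv, ← map_inv, val_conj_glReindex, val_conj_glReindex, AlgHom.comp_apply,
    ← map_mul, ← map_mul]
  -- determinant of `a` is one
  have hdet : (a : Matrix (Fin 2) (Fin 2) F).det = 1 := by
    rcases h01 (a : Matrix (Fin 2) (Fin 2) F).det with h | h
    · exfalso
      have := Matrix.GeneralLinearGroup.det_ne_zero a
      exact this h
    · exact h
  have hainv : ((a⁻¹ : GL (Fin 2) F) : Matrix (Fin 2) (Fin 2) F)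
      = (a : Matrix (Fin 2) (Fin 2) F).adjugate := by
    rw [Matrix.coe_units_inv, Matrix.inv_def, hdet, Ring.inverse_one, one_smul]
  have haa : (a : Matrix (Fin 2) (Fin 2) F) * ((a⁻¹ : GL (Fin 2) F) : Matrix (Fin 2) (Fin 2) F) = 1 := by
    rw [← Units.val_mul, mul_inv_cancel, Units.val_one]
  have haa' : ((a⁻¹ : GL (Fin 2) F) : Matrix (Fin 2) (Fin 2) F) * (a : Matrix (Fin 2) (Fin 2) F) = 1 := by
    rw [← Units.val_mul, inv_mul_cancel, Units.val_one]
  have hkk : (k : Matrix (Fin 2 × Fin n₂) (Fin 2 × Fin n₂) F) *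
      ((k⁻¹ : GL (Fin 2 × Fin n₂) F) : Matrix (Fin 2 × Fin n₂) (Fin 2 × Fin n₂) F) = 1 := by
    rw [← Units.val_mul, mul_inv_cancel, Units.val_one]
  have hcomp : (k : Matrix (Fin 2 × Fin n₂) (Fin 2 × Fin n₂) F) * kronOne n₂ m *
      ((k⁻¹ : GL (Fin 2 × Fin n₂) F) : Matrix (Fin 2 × Fin n₂) (Fin 2 × Fin n₂) F)
      = kronOne n₂ ((a : Matrix (Fin 2) (Fin 2) F) * m * (a : Matrix (Fin 2) (Fin 2) F).adjugate) := by
    have h1 : (k : Matrix (Fin 2 × Fin n₂) (Fin 2 × Fin n₂) F) * kronOne n₂ m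
        = kronOne n₂ ((a : Matrix (Fin 2) (Fin 2) F) * m * (a : Matrix (Fin 2) (Fin 2) F).adjugate) *
          (k : Matrix (Fin 2 × Fin n₂) (Fin 2 × Fin n₂) F) := by
      rw [hkab, kronOne_apply, kronOne_apply, ← Matrix.mul_kronecker_mul, ← Matrix.mul_kronecker_mul,
        mul_one, one_mul, ← hainv, mul_assoc, mul_assoc, haa', mul_one]
    rw [h1, mul_assoc, hkk, mul_one]
  rw [hcomp]
  exact Subalgebra.mem_map.mpr ⟨_, conj_mem h01 _ hdet m hm, rfl⟩

end Cfsg.Agent.Lib.Helper86.BhrE8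

namespace Cfsg.Agent.Lib.Helper99.Asch

open Cfsg Cfsg.Geo
open Cfsg.Agent.Lib.Helper86.BhrE8
open scoped MatrixGroups Matrix Kronecker

variable {n : ℕ} {F : Type*} [Field F] [Fintype F]

/-- BHR-[E8]. -/
theorem tensor_two_card_two (n₂ : ℕ) (hn₂ : 1 ≤ n₂) (e : Fin n ≃ Fin 2 × Fin n₂) (P : GL (Fin n) F)
    (hq : Fintype.card F = 2) :
    ∃ K : Subalgebra F (Matrix (Fin n) (Fin n) F), IsFieldSubalgebra 2 K ∧
      tensorProductSubgroup 2 n₂ e P ≤ subalgebraNormalizer K := by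
  have h01 : ∀ t : F, t = 0 ∨ t = 1 := by
    intro t
    classical
    by_contra h
    push Not at h
    have h3 : ({0, 1, t} : Finset F).card = 3 := by
      rw [Finset.card_insert_of_notMem, Finset.card_insert_of_notMem, Finset.card_singleton]
      · simpa using h.2.symm
      · simp only [Finset.mem_insert, Finset.mem_singleton, not_or]
        exact ⟨zero_ne_one, h.1.symm⟩
    have := Finset.card_le_univ ({0, 1, t} : Finset F)
    omega
  refine ⟨KK n₂ e P, KK_isField h01 n₂ hn₂ e P, ?_⟩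
  intro g hg M
  constructor
  · exact conj_mem_KK h01 n₂ e P g hg M
  · intro h
    have := conj_mem_KK h01 n₂ e P g⁻¹ (inv_mem hg) _ h
    rw [inv_inv] at this
    have h1 : ((g⁻¹ : GL (Fin n) F) : Matrix (Fin n) (Fin n) F) * (g : Matrix (Fin n) (Fin n) F) = 1 := by
      rw [← Units.val_mul, inv_mul_cancel, Units.val_one]
    have h2 : ((g⁻¹ : GL (Fin n) F) : Matrix (Fin n) (Fin n) F) *
        ((g : Matrix (Fin n) (Fin n) F) * M * ((g⁻¹ : GL (Fin n) F) : Matrix (Fin n) (Fin n) F)) *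
        (g : Matrix (Fin n) (Fin n) F) = M := by
      rw [← mul_assoc, ← mul_assoc, h1, one_mul, mul_assoc, h1, mul_one]
    rw [h2] at this
    exact this

end Cfsg.Agent.Lib.Helper99.Asch
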