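/-
BHR-[P8] (project ASCH second sheet, coordinator helper99): no similarity group of a nondegenerate
symplectic / unitary / quadratic form contains SL_n, n ≥ 3.
-/
import Mathlib
import Cfsg.Prelude.Def_GeometricClasses

set_option autoImplicit false

namespace Cfsg.Agent.Lib.Helper86.BhrP8

open Cfsg Cfsg.Geo
open scoped MatrixGroups Matrix

variable {n : ℕ} {F : Type*} [Field F]

/-- the transvection `1 + E_ij` as an element of GL -/
noncomputable def tv (i j : Fin n) (hij : i ≠ j) : GL (Fin n) F :=
  Matrix.GeneralLinearGroup.mkOfDetNeZero (Matrix.transvection i j (1 : F))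
    (by rw [Matrix.det_transvection_of_ne _ _ hij]; exact one_ne_zero)

lemma tv_val (i j : Fin n) (hij : i ≠ j) :
    ((tv i j hij : GL (Fin n) F) : Matrix (Fin n) (Fin n) F) = Matrix.transvection i j (1 : F) := rfl

lemma tv_mem_sl (i j : Fin n) (hij : i ≠ j) :
    (tv i j hij : GL (Fin n) F) ∈ specialLinear (Fin n) F := by
  unfold specialLinear
  rw [MonoidHom.mem_ker]
  apply Units.ext
  rw [Matrix.GeneralLinearGroup.val_det_apply, tv_val, Matrix.det_transvection_of_ne _ _ hij]
  rfl

lemma tv_mulVec (i j : Fin n) (hij : i ≠ j) (x : Fin n → F) :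
    ((tv i j hij : GL (Fin n) F) : Matrix (Fin n) (Fin n) F) *ᵥ x = x + x j • Pi.single i (1 : F) := by
  rw [tv_val, Matrix.transvection, Matrix.add_mulVec, Matrix.one_mulVec, Matrix.single_mulVec_eq, one_mul]

/-- General form of the argument: a nondegenerate form, linear on the left, additive and
semilinear on the right, is not preserved up to scalars by all of `SL_n`, `n ≥ 3`. -/
theorem not_sl_le_similarityGroup_general (hn : 3 ≤ n) (σ : F → F)
    (f : (Fin n → F) → (Fin n → F) → F)
    (hal : ∀ x y v, f (x + y) v = f x v + f y v)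
    (har : ∀ v x y, f v (x + y) = f v x + f v y)
    (hsr : ∀ (c : F) (v x : Fin n → F), f v (c • x) = σ c * f v x)
    (hnd : IsNondegenerateForm f) :
    ¬ specialLinear (Fin n) F ≤ similarityGroup f := by
  intro hle
  -- key: for `i ≠ j` and `v j = 0`, `f e_i v = 0`
  have key : ∀ (i j : Fin n), i ≠ j → ∀ v : Fin n → F, v j = 0 → f (Pi.single i 1) v = 0 := by
    intro i j hij v hv
    obtain ⟨c, hc⟩ := hle (tv_mem_sl (F := F) i j hij)
    simp only [tv_mulVec] at hc
    set w : Fin n → F := Pi.single i 1 with hw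
    have hwj : w j = 0 := by rw [hw, Pi.single_apply, if_neg (Ne.symm hij)]
    have hw0 : w ≠ 0 := by
      intro h
      have := congrFun h i
      rw [hw, Pi.single_eq_same] at this
      exact one_ne_zero this
    -- c = 1
    have hc1 : (c : F) = 1 := by
      by_cases hww : f w w = 0
      · obtain ⟨x, hx⟩ := (hnd w hw0).2
        have h2 := hc w x
        rw [hwj, zero_smul, add_zero, har, hsr, hww, mul_zero, add_zero] at h2
        have : ((c : F) - 1) * f w x = 0 := by rw [sub_mul, one_mul, ← h2, sub_self]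
        rcases mul_eq_zero.mp this with h | h
        · exact sub_eq_zero.mp h
        · exact absurd h hx
      · have h1 := hc w w
        rw [hwj, zero_smul, add_zero] at h1
        have : ((c : F) - 1) * f w w = 0 := by rw [sub_mul, one_mul, ← h1, sub_self]
        rcases mul_eq_zero.mp this with h | h
        · exact sub_eq_zero.mp h
        · exact absurd h hww
    have h3 := hc (Pi.single j 1) v
    rw [hv, zero_smul, add_zero, Pi.single_eq_same, one_smul, hal, hc1, one_mul] at h3
    exact left_eq_add.mp h3.symm |>.symm ▸ rfl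
  -- pick three distinct indices
  obtain ⟨i, j, k, hij, hik, hjk⟩ : ∃ i j k : Fin n, i ≠ j ∧ i ≠ k ∧ j ≠ k := by
    refine ⟨⟨0, by omega⟩, ⟨1, by omega⟩, ⟨2, by omega⟩, ?_, ?_, ?_⟩ <;>
      simp [Fin.ext_iff]
  have hei : (Pi.single i 1 : Fin n → F) ≠ 0 := by
    intro h
    have := congrFun h i
    rw [Pi.single_eq_same] at this
    exact one_ne_zero this
  obtain ⟨x, hx⟩ := (hnd _ hei).2
  apply hx
  have hdec : x = (x - x j • Pi.single j 1) + x j • Pi.single j 1 := by
    rw [sub_add_cancel]
  rw [hdec, har, key i j hij, key i k hik, add_zero]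
  · rw [Pi.smul_apply, Pi.single_apply, if_neg (Ne.symm hjk), smul_zero]
  · rw [Pi.sub_apply, Pi.smul_apply, Pi.single_eq_same, smul_eq_mul, mul_one, sub_self]

end Cfsg.Agent.Lib.Helper86.BhrP8

namespace Cfsg.Agent.Lib.Helper99.Asch

open Cfsg Cfsg.Geo
open scoped MatrixGroups Matrix Kronecker

variable {n : ℕ} {F : Type*} [Field F] [Fintype F]

/-- BHR-[P8], symplectic case. -/
theorem not_sl_le_similarityGroup_symplectic (hn : 3 ≤ n) (f : (Fin n → F) → (Fin n → F) → F)
    (hf : IsSymplecticForm f) : ¬ specialLinear (Fin n) F ≤ similarityGroup f :=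
  Cfsg.Agent.Lib.Helper86.BhrP8.not_sl_le_similarityGroup_general hn id f
    hf.bilinear.add_left hf.bilinear.add_right hf.bilinear.smul_right hf.nondegenerate

/-- BHR-[P8], unitary case. -/
theorem not_sl_le_similarityGroup_unitary (hn : 3 ≤ n) (σ : F ≃+* F)
    (f : (Fin n → F) → (Fin n → F) → F) (hf : IsUnitaryForm σ f) :
    ¬ specialLinear (Fin n) F ≤ similarityGroup f := by
  refine Cfsg.Agent.Lib.Helper86.BhrP8.not_sl_le_similarityGroup_general hn σ f
    hf.add_left ?_ ?_ hf.nondegenerate
  · intro v x y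
    rw [hf.herm v (x + y), hf.add_left, map_add, ← hf.herm, ← hf.herm]
  · intro c v x
    rw [hf.herm v (c • x), hf.smul_left, map_mul, ← hf.herm]

/-- BHR-[P8], quadratic case. -/
theorem not_sl_le_quadSimilarityGroup (hn : 3 ≤ n) (Q : (Fin n → F) → F)
    (hQ : IsNondegenerateQuadraticForm Q) (hodd : Odd (Fintype.card F)) :
    ¬ specialLinear (Fin n) F ≤ quadSimilarityGroup Q := by
  intro hle
  refine Cfsg.Agent.Lib.Helper86.BhrP8.not_sl_le_similarityGroup_general hn id
    (QuadraticMap.polar Q) hQ.polar_bilinear.add_left hQ.polar_bilinear.add_right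
    hQ.polar_bilinear.smul_right hQ.nondegenerate ?_
  intro g hg
  obtain ⟨c, hc⟩ := hle hg
  refine ⟨c, fun u v => ?_⟩
  unfold QuadraticMap.polar
  rw [← Matrix.mulVec_add, hc, hc, hc]
  ring

end Cfsg.Agent.Lib.Helper99.Asch
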