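/-
BHR-[P3] (project ASCH second sheet, coordinator helper99): the normaliser of a field subalgebra of
prime degree does not contain SL_n, n ≥ 3.
-/
import Mathlib
import Cfsg.Prelude.Def_GeometricClasses
import Cfsg.Agent.Lib.Helper86.BhrP8

set_option autoImplicit false

namespace Cfsg.Agent.Lib.Helper86.BhrP3

open Cfsg Cfsg.Geo
open Cfsg.Agent.Lib.Helper86.BhrP8
open scoped MatrixGroups Matrix

variable {n : ℕ} {F : Type*} [Field F]

lemma tv_inv_val (i j : Fin n) (hij : i ≠ j) :
    (((tv i j hij : GL (Fin n) F)⁻¹ : GL (Fin n) F) : Matrix (Fin n) (Fin n) F)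
      = Matrix.transvection i j (-1 : F) := by
  have h : (tv i j hij : GL (Fin n) F)⁻¹ =
      Matrix.GeneralLinearGroup.mkOfDetNeZero (Matrix.transvection i j (-1 : F))
        (by rw [Matrix.det_transvection_of_ne i j hij (-1 : F)]; exact one_ne_zero) := by
    apply inv_eq_of_mul_eq_one_right
    apply Units.ext
    rw [Units.val_mul, tv_val]
    change Matrix.transvection i j (1 : F) * Matrix.transvection i j (-1 : F) = 1
    rw [Matrix.transvection_mul_transvection_same _ _ hij, add_neg_cancel, Matrix.transvection_zero]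
  rw [h]
  rfl

lemma tv_inv_mulVec (i j : Fin n) (hij : i ≠ j) (x : Fin n → F) :
    (((tv i j hij : GL (Fin n) F)⁻¹ : GL (Fin n) F) : Matrix (Fin n) (Fin n) F) *ᵥ x
      = x - x j • Pi.single i (1 : F) := by
  rw [tv_inv_val, Matrix.transvection, Matrix.add_mulVec, Matrix.one_mulVec,
    Matrix.single_mulVec_eq, neg_one_mul, neg_smul, sub_eq_add_neg]

/-- a nonzero element of a field subalgebra kills no nonzero vector -/
lemma eq_zero_of_mulVec_eq_zero {r : ℕ} {K : Subalgebra F (Matrix (Fin n) (Fin n) F)}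
    (hK : IsFieldSubalgebra r K) {E : Matrix (Fin n) (Fin n) F} (hE : E ∈ K)
    {x : Fin n → F} (hx : x ≠ 0) (hEx : E *ᵥ x = 0) : E = 0 := by
  by_contra hE0
  obtain ⟨y, hyK, hy⟩ := hK.inv E hE hE0
  have hy' : y * E = 1 := by rw [← hK.comm E hE y hyK, hy]
  apply hx
  calc x = (1 : Matrix (Fin n) (Fin n) F) *ᵥ x := (Matrix.one_mulVec x).symm
    _ = y *ᵥ (E *ᵥ x) := by rw [← hy', Matrix.mulVec_mulVec]
    _ = 0 := by rw [hEx, Matrix.mulVec_zero]

end Cfsg.Agent.Lib.Helper86.BhrP3

namespace Cfsg.Agent.Lib.Helper99.Asch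

open Cfsg Cfsg.Geo
open Cfsg.Agent.Lib.Helper86.BhrP8 Cfsg.Agent.Lib.Helper86.BhrP3
open scoped MatrixGroups Matrix Kronecker

variable {n : ℕ} {F : Type*} [Field F] [Fintype F]

/-- BHR-[P3]. -/
theorem not_sl_le_subalgebraNormalizer (hn : 3 ≤ n) (r : ℕ) (hr : r.Prime)
    (K : Subalgebra F (Matrix (Fin n) (Fin n) F)) (hK : IsFieldSubalgebra r K) :
    ¬ specialLinear (Fin n) F ≤ subalgebraNormalizer K := by
  intro hle
  have hKne : K ≠ ⊥ := by
    intro h
    have h1 := hK.finrank_eq
    have : Nonempty (Fin n) := ⟨⟨0, by omega⟩⟩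
    rw [h, Subalgebra.finrank_bot] at h1
    exact hr.ne_one h1.symm
  by_cases hoff : ∃ k ∈ K, ∃ i j : Fin n, i ≠ j ∧ k j i ≠ 0
  · -- Case A
    obtain ⟨k, hkK, i, j, hij, hkji⟩ := hoff
    obtain ⟨l, hli, hlj⟩ : ∃ l : Fin n, l ≠ i ∧ l ≠ j := by
      by_cases h0 : (⟨0, by omega⟩ : Fin n) ≠ i ∧ (⟨0, by omega⟩ : Fin n) ≠ j
      · exact ⟨_, h0⟩
      by_cases h1 : (⟨1, by omega⟩ : Fin n) ≠ i ∧ (⟨1, by omega⟩ : Fin n) ≠ j
      · exact ⟨_, h1⟩
      by_cases h2 : (⟨2, by omega⟩ : Fin n) ≠ i ∧ (⟨2, by omega⟩ : Fin n) ≠ j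
      · exact ⟨_, h2⟩
      exfalso
      simp only [ne_eq, Fin.ext_iff, not_and_or, not_not] at h0 h1 h2 hij
      omega
    have hτ := hle (tv_mem_sl (F := F) i j hij)
    have hconj : ((tv i j hij : GL (Fin n) F) : Matrix (Fin n) (Fin n) F) * k *
        (((tv i j hij : GL (Fin n) F)⁻¹ : GL (Fin n) F) : Matrix (Fin n) (Fin n) F) ∈ K :=
      (hτ k).mp hkK
    set T : Matrix (Fin n) (Fin n) F := ((tv i j hij : GL (Fin n) F) : Matrix (Fin n) (Fin n) F)
      with hT
    set T' : Matrix (Fin n) (Fin n) F :=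
      (((tv i j hij : GL (Fin n) F)⁻¹ : GL (Fin n) F) : Matrix (Fin n) (Fin n) F) with hT'
    have hEK : T * k * T' - k ∈ K := K.sub_mem hconj hkK
    -- the vector x
    set x : Fin n → F := k j l • Pi.single i 1 - k j i • Pi.single l 1 with hx
    have hxj : x j = 0 := by
      rw [hx, Pi.sub_apply, Pi.smul_apply, Pi.smul_apply, Pi.single_apply, Pi.single_apply,
        if_neg (Ne.symm hij), if_neg hlj.symm, smul_zero, smul_zero, sub_zero]
    have hxl : x l = - k j i := by
      rw [hx, Pi.sub_apply, Pi.smul_apply, Pi.smul_apply, Pi.single_apply, Pi.single_apply,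
        if_neg hli, if_pos rfl, smul_zero, zero_sub, smul_eq_mul, mul_one]
    have hx0 : x ≠ 0 := by
      intro h
      have := congrFun h l
      rw [hxl, Pi.zero_apply, neg_eq_zero] at this
      exact hkji this
    have hkxj : (k *ᵥ x) j = 0 := by
      rw [hx, Matrix.mulVec_sub, Matrix.mulVec_smul, Matrix.mulVec_smul, Pi.sub_apply,
        Pi.smul_apply, Pi.smul_apply, Matrix.mulVec_single_one, Matrix.mulVec_single_one,
        smul_eq_mul, smul_eq_mul]
      simp only [Matrix.col_apply]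
      ring
    have hEx : (T * k * T' - k) *ᵥ x = 0 := by
      rw [Matrix.sub_mulVec, ← Matrix.mulVec_mulVec, ← Matrix.mulVec_mulVec, hT', tv_inv_mulVec,
        hxj, zero_smul, sub_zero, hT, tv_mulVec, hkxj, zero_smul, add_zero, sub_self]
    have hE0 := eq_zero_of_mulVec_eq_zero hK hEK hx0 hEx
    -- so T k = k T
    have hcomm : T * k = k * T := by
      have h1 : T * k * T' = k := sub_eq_zero.mp hE0
      have h2 : T' * T = 1 := by
        rw [hT', hT, ← Units.val_mul, inv_mul_cancel, Units.val_one]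
      calc T * k = T * k * (T' * T) := by rw [h2, mul_one]
        _ = (T * k * T') * T := by rw [mul_assoc, mul_assoc, mul_assoc]
        _ = k * T := by rw [h1]
    -- evaluate at e_i, coordinate j ... use (T k e_i)_i vs (k T e_i)_i
    have h3 := congrArg (fun M : Matrix (Fin n) (Fin n) F => (M *ᵥ Pi.single i 1) i) hcomm
    simp only [← Matrix.mulVec_mulVec] at h3
    rw [hT, tv_mulVec, tv_mulVec] at h3
    rw [Pi.single_apply, if_neg (Ne.symm hij), zero_smul, add_zero, Pi.add_apply, Pi.smul_apply,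
      Pi.single_eq_same, smul_eq_mul, mul_one, Matrix.mulVec_single_one] at h3
    simp only [Matrix.col_apply] at h3
    exact hkji (left_eq_add.mp h3.symm |>.symm ▸ rfl)
  · -- Case B: K consists of diagonal matrices
    push Not at hoff
    obtain ⟨k, hkK, hkbot⟩ := SetLike.exists_of_lt (bot_lt_iff_ne_bot.mpr hKne)
    have hab : ∃ a b : Fin n, k a a ≠ k b b := by
      by_contra h
      push Not at h
      apply hkbot
      rw [Algebra.mem_bot]
      refine ⟨k ⟨0, by omega⟩ ⟨0, by omega⟩, ?_⟩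
      ext a b
      rw [Matrix.algebraMap_matrix_apply]
      by_cases hab : a = b
      · subst hab
        rw [if_pos rfl]
        exact (h a _).symm
      · rw [if_neg hab]
        exact (hoff k hkK b a (Ne.symm hab)).symm
    obtain ⟨a, b, hab⟩ := hab
    have hk'K : k - algebraMap F _ (k a a) ∈ K := K.sub_mem hkK (K.algebraMap_mem _)
    have hk'0 : k - algebraMap F (Matrix (Fin n) (Fin n) F) (k a a) ≠ 0 := by
      intro h
      have := congrFun (congrFun h b) b
      rw [Matrix.sub_apply, Matrix.algebraMap_matrix_apply, if_pos rfl, Matrix.zero_apply,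
        sub_eq_zero] at this
      exact hab this.symm
    have hea : (Pi.single a 1 : Fin n → F) ≠ 0 := by
      intro h
      have := congrFun h a
      rw [Pi.single_eq_same] at this
      exact one_ne_zero this
    apply hk'0
    apply eq_zero_of_mulVec_eq_zero hK hk'K hea
    ext c
    rw [Matrix.mulVec_single_one]
    simp only [Matrix.col_apply, Matrix.sub_apply, Matrix.algebraMap_matrix_apply, Pi.zero_apply]
    by_cases hca : c = a
    · subst hca
      rw [if_pos rfl]
      exact sub_self (k c c)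
    · rw [if_neg hca, sub_zero]
      exact hoff k hkK a c (Ne.symm hca)

end Cfsg.Agent.Lib.Helper99.Asch
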