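import Mathlib
import Cfsg.Prelude.Def_GeometricClasses
import Cfsg.Agent.Lib.Helper94.BHRSP.Sp4Model

/-!
# Project BHRSP (helper94), phase 2, module [3B-NF-I] (helper86): a degree-2 adjoint-closed, not self-adjoint
field subalgebra of `M_4(F_3)` is `F + F i` with `i² = −1`, `i` anti-self-adjoint.
-/

set_option autoImplicit false

namespace Cfsg.Agent.Lib.Helper94.BHRSP.Sp4

open Cfsg Cfsg.Geo
open scoped MatrixGroups Matrix

namespace NFI86

section Gen

variable {F : Type*} [Field F] {ι : Type} [Fintype ι] [DecidableEq ι]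

/-- a field subalgebra of degree 2 is `F + F A` with `A² = s A − n`, `x² − s x + n` without roots -/
theorem exists_quadratic_span (K : Subalgebra F (Matrix ι ι F)) (hK : IsFieldSubalgebra 2 K) :
    ∃ A ∈ K, ∃ s n : F, A * A = s • A - n • (1 : Matrix ι ι F) ∧ (∀ b : F, b * b - s * b + n ≠ 0) ∧
      ∀ k ∈ K, ∃ α β : F, k = α • (1 : Matrix ι ι F) + β • A := by
  have : FiniteDimensional F K := Module.finite_of_finrank_pos (by rw [hK.finrank_eq]; norm_num)
  obtain ⟨α, hα⟩ : ∃ α : K, α ∉ Submodule.span F {(1 : K)} := by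
    by_contra hcon
    push Not at hcon
    have htop : Submodule.span F {(1 : K)} = ⊤ := by
      rw [eq_top_iff]; intro x _; exact hcon x
    have h1 := finrank_span_le_card (R := F) ({(1 : K)} : Set K)
    rw [htop, finrank_top, hK.finrank_eq] at h1
    simp at h1
  have hnotscalar : ∀ c : F, α ≠ c • (1 : K) := by
    intro c hc
    exact hα (Submodule.mem_span_singleton.mpr ⟨c, hc.symm⟩)
  have hone : (1 : K) ≠ 0 := by
    intro h1
    apply hnotscalar 0
    rw [zero_smul, ← mul_one α, h1, mul_zero]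
  have hli : LinearIndependent F ![(1 : K), α] := by
    rw [LinearIndependent.pair_iff]
    intro a c hac
    have hc : c = 0 := by
      by_contra hc
      apply hnotscalar (-(c⁻¹ * a))
      have : c • α = -(a • (1 : K)) := eq_neg_of_add_eq_zero_right hac
      calc α = c⁻¹ • (c • α) := by rw [smul_smul, inv_mul_cancel₀ hc, one_smul]
        _ = -(c⁻¹ * a) • (1 : K) := by rw [this, smul_neg, smul_smul, neg_smul]
    refine ⟨?_, hc⟩
    rw [hc, zero_smul, add_zero] at hac
    rcases smul_eq_zero.mp hac with h | h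
    · exact h
    · exact absurd h hone
  have hspan := hli.span_eq_top_of_card_eq_finrank' (by rw [hK.finrank_eq]; simp)
  have hrepr : ∀ x : K, ∃ c : Fin 2 → F, c 0 • (1 : K) + c 1 • α = x := by
    intro x
    have hmem : x ∈ Submodule.span F (Set.range ![(1 : K), α]) := by rw [hspan]; trivial
    obtain ⟨c, hc⟩ := (Submodule.mem_span_range_iff_exists_fun F).mp hmem
    rw [Fin.sum_univ_two] at hc
    simp only [Matrix.cons_val_zero, Matrix.cons_val_one] at hc
    exact ⟨c, hc⟩
  obtain ⟨c, hc⟩ := hrepr (α * α)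
  have hrel : (α : Matrix ι ι F) * (α : Matrix ι ι F) =
      c 1 • (α : Matrix ι ι F) - (-(c 0)) • (1 : Matrix ι ι F) := by
    have := congrArg (Subtype.val : K → Matrix ι ι F) hc
    simp only [Subalgebra.coe_add, Subalgebra.coe_smul, Subalgebra.coe_one,
      MulMemClass.coe_mul] at this
    rw [← this, neg_smul, sub_neg_eq_add, add_comm]
  refine ⟨α.1, α.2, c 1, -(c 0), hrel, ?_, ?_⟩
  · intro b hb
    set A : Matrix ι ι F := (α : Matrix ι ι F) with hA
    have hprod : (A - b • 1) * (A - (c 1 - b) • 1) = 0 := by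
      have e1 : (A - b • 1) * (A - (c 1 - b) • 1) =
          A * A - c 1 • A + (b * (c 1 - b)) • (1 : Matrix ι ι F) := by
        simp only [sub_mul, mul_sub, Matrix.smul_mul, Matrix.mul_smul, Matrix.one_mul, Matrix.mul_one,
          smul_smul, sub_smul, mul_sub]
        module
      rw [e1, hrel]
      have e2 : b * (c 1 - b) = -(c 0) := by linear_combination -hb
      rw [e2]
      module
    have hx : A - b • (1 : Matrix ι ι F) ∈ K := K.sub_mem α.2 (K.smul_mem K.one_mem b)
    have hx0 : A - b • (1 : Matrix ι ι F) ≠ 0 := by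
      intro h0
      apply hnotscalar b
      apply Subtype.ext
      simp only [Subalgebra.coe_smul, Subalgebra.coe_one]
      exact sub_eq_zero.mp h0
    obtain ⟨y, hy, hxy⟩ := hK.inv _ hx hx0
    have hyx : y * (A - b • (1 : Matrix ι ι F)) = 1 := by rw [← hK.comm _ hx _ hy, hxy]
    have hz : A - (c 1 - b) • (1 : Matrix ι ι F) = 0 := by
      calc A - (c 1 - b) • (1 : Matrix ι ι F)
          = (y * (A - b • (1 : Matrix ι ι F))) * (A - (c 1 - b) • 1) := by rw [hyx, one_mul]
        _ = 0 := by rw [mul_assoc, hprod, mul_zero]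
    apply hnotscalar (c 1 - b)
    apply Subtype.ext
    simp only [Subalgebra.coe_smul, Subalgebra.coe_one]
    exact sub_eq_zero.mp hz
  · intro k hk
    obtain ⟨d, hd⟩ := hrepr ⟨k, hk⟩
    refine ⟨d 0, d 1, ?_⟩
    have := congrArg (Subtype.val : K → Matrix ι ι F) hd
    simp only [Subalgebra.coe_add, Subalgebra.coe_smul, Subalgebra.coe_one] at this
    exact this.symm

end Gen

section F3

variable {F : Type*} [Field F] [Fintype F]

theorem three_eq_zero (hq : Fintype.card F = 3) : (3 : F) = 0 := by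
  have := FiniteField.cast_card_eq_zero F
  rw [hq] at this
  exact_mod_cast this

theorem f3_cases (hq : Fintype.card F = 3) (x : F) : x = 0 ∨ x = 1 ∨ x = -1 := by
  have h := FiniteField.pow_card x
  rw [hq] at h
  have h2 : x * (x - 1) * (x + 1) = 0 := by linear_combination h
  rcases mul_eq_zero.1 h2 with h3 | h3
  · rcases mul_eq_zero.1 h3 with h4 | h4
    · exact Or.inl h4
    · exact Or.inr (Or.inl (sub_eq_zero.1 h4))
  · exact Or.inr (Or.inr (eq_neg_of_add_eq_zero_left h3))

theorem two_ne_zero3 (hq : Fintype.card F = 3) : (2 : F) ≠ 0 := by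
  intro h2
  have h3 := three_eq_zero hq
  have : (1 : F) = 0 := by linear_combination h3 - h2
  exact one_ne_zero this

theorem neg_one_not_sq (hq : Fintype.card F = 3) (t : F) : t * t ≠ -1 := by
  have h3 := three_eq_zero hq
  have h2 := two_ne_zero3 hq
  intro ht
  rcases f3_cases hq t with rfl | rfl | rfl
  · have : (1 : F) = 0 := by linear_combination ht
    exact one_ne_zero this
  · apply h2; linear_combination ht
  · apply h2; linear_combination ht

end F3

end NFI86

open NFI86

variable {F : Type*} [Field F] [Fintype F]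

/-- **[3B-NF-I]** -/
theorem exists_i_of_field (hq : Fintype.card F = 3)
    (K : Subalgebra F (Matrix (Fin 2 ⊕ Fin 2) (Fin 2 ⊕ Fin 2) F)) (hK : IsFieldSubalgebra 2 K)
    (hac : IsAdjointClosedFor (sympForm 2 F) K) (hnsa : ¬ IsSelfAdjointFor (sympForm 2 F) K) :
    ∃ i : Matrix (Fin 2 ⊕ Fin 2) (Fin 2 ⊕ Fin 2) F, i ∈ K ∧ i * i = -1 ∧
      (∀ u v, sympForm 2 F (i *ᵥ u) v = - sympForm 2 F u (i *ᵥ v)) ∧
      ∀ k : Matrix (Fin 2 ⊕ Fin 2) (Fin 2 ⊕ Fin 2) F, k ∈ K ↔
        ∃ α β : F, k = α • (1 : Matrix (Fin 2 ⊕ Fin 2) (Fin 2 ⊕ Fin 2) F) + β • i := by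
  have h3 := three_eq_zero hq
  have h2 := two_ne_zero3 hq
  obtain ⟨A, hAK, s, n, hrel, hroot, hspan⟩ := exists_quadratic_span K hK
  obtain ⟨i, hi⟩ : ∃ i, i = A + s • (1 : Matrix (Fin 2 ⊕ Fin 2) (Fin 2 ⊕ Fin 2) F) := ⟨_, rfl⟩
  have hiK : i ∈ K := by rw [hi]; exact K.add_mem hAK (K.smul_mem K.one_mem s)
  have hAi : A = i - s • (1 : Matrix (Fin 2 ⊕ Fin 2) (Fin 2 ⊕ Fin 2) F) := by rw [hi]; abel
  -- i² = (s² − n) • 1
  have hii0 : i * i = (s * s - n) • (1 : Matrix (Fin 2 ⊕ Fin 2) (Fin 2 ⊕ Fin 2) F) := by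
    have e : i * i = A * A + (2 * s) • A + (s * s) • (1 : Matrix (Fin 2 ⊕ Fin 2) (Fin 2 ⊕ Fin 2) F) := by
      rw [hi]
      simp only [add_mul, mul_add, Matrix.smul_mul, Matrix.mul_smul, Matrix.one_mul, Matrix.mul_one,
        smul_smul]
      module
    have h0 : (3 * s) • A = 0 := by rw [h3, zero_mul, zero_smul]
    rw [e, hrel]
    linear_combination (norm := module) h0
  have hnsq : ∀ r : F, r * r ≠ s * s - n := by
    intro r hr
    exact hroot (r - s) (by linear_combination hr + (s * s - r * s) * h3)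
  have hc : s * s - n = -1 := by
    rcases f3_cases hq (s * s - n) with h | h | h
    · exact absurd (by rw [h, mul_zero]) (hnsq 0)
    · exact absurd (by rw [h, mul_one]) (hnsq 1)
    · exact h
  have hii : i * i = -1 := by rw [hii0, hc, neg_smul, one_smul]
  -- K = F + F i
  have hK_iff : ∀ k : Matrix (Fin 2 ⊕ Fin 2) (Fin 2 ⊕ Fin 2) F, k ∈ K ↔
      ∃ α β : F, k = α • (1 : Matrix (Fin 2 ⊕ Fin 2) (Fin 2 ⊕ Fin 2) F) + β • i := by
    intro k
    constructor
    · intro hk
      obtain ⟨a, b, hab⟩ := hspan k hk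
      refine ⟨a - b * s, b, ?_⟩
      rw [hab, hAi]
      module
    · rintro ⟨a, b, rfl⟩
      exact K.add_mem (K.smul_mem K.one_mem a) (K.smul_mem hiK b)
  -- independence of 1, i
  have hone : (1 : Matrix (Fin 2 ⊕ Fin 2) (Fin 2 ⊕ Fin 2) F) ≠ 0 := one_ne_zero
  have hindep : ∀ a b : F, a • (1 : Matrix (Fin 2 ⊕ Fin 2) (Fin 2 ⊕ Fin 2) F) + b • i = 0 → a = 0 ∧ b = 0 := by
    intro a b hab
    have hb : b = 0 := by
      by_contra hb
      have hi2 : i = (-(b⁻¹ * a)) • (1 : Matrix (Fin 2 ⊕ Fin 2) (Fin 2 ⊕ Fin 2) F) := by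
        have : b • i = -(a • (1 : Matrix (Fin 2 ⊕ Fin 2) (Fin 2 ⊕ Fin 2) F)) := eq_neg_of_add_eq_zero_right hab
        calc i = b⁻¹ • (b • i) := by rw [smul_smul, inv_mul_cancel₀ hb, one_smul]
          _ = _ := by rw [this, smul_neg, smul_smul, neg_smul]
      have h4 : i * i = ((-(b⁻¹ * a)) * (-(b⁻¹ * a))) • (1 : Matrix (Fin 2 ⊕ Fin 2) (Fin 2 ⊕ Fin 2) F) := by
        conv_lhs => rw [hi2]
        rw [Matrix.smul_mul, Matrix.mul_smul, Matrix.one_mul, smul_smul]
      rw [hii] at h4
      have h5 : ((-(b⁻¹ * a)) * (-(b⁻¹ * a)) + 1) • (1 : Matrix (Fin 2 ⊕ Fin 2) (Fin 2 ⊕ Fin 2) F) = 0 := by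
        rw [add_smul, ← h4, one_smul, neg_add_cancel]
      rcases smul_eq_zero.mp h5 with h6 | h6
      · exact neg_one_not_sq hq _ (eq_neg_of_add_eq_zero_left h6)
      · exact hone h6
    refine ⟨?_, hb⟩
    rw [hb, zero_smul, add_zero] at hab
    rcases smul_eq_zero.mp hab with h | h
    · exact h
    · exact absurd h hone
  -- the adjoint of i
  obtain ⟨i', hi'K, hi'⟩ := hac i hiK
  obtain ⟨a, b, hab⟩ := (hK_iff i').mp hi'K
  have hnd : ∀ w : Fin 2 ⊕ Fin 2 → F, (∀ u, sympForm 2 F u w = 0) → w = 0 := by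
    intro w hw
    by_contra hw0
    obtain ⟨x, hx⟩ := exists_sympForm_ne_zero w hw0
    apply hx
    rw [sympForm_skew, hw x, neg_zero]
  have hi'2 : i' * i' = -1 := by
    have hv : ∀ v : Fin 2 ⊕ Fin 2 → F, (i' * i' + 1) *ᵥ v = 0 := by
      intro v
      apply hnd
      intro u
      rw [Matrix.add_mulVec, Matrix.one_mulVec, sympForm_add_right, ← Matrix.mulVec_mulVec, ← hi', ← hi',
        Matrix.mulVec_mulVec, hii, Matrix.neg_mulVec, Matrix.one_mulVec]
      have : sympForm 2 F (-u) v = - sympForm 2 F u v := by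
        have := sympForm_smul_left (m := 2) (-1 : F) u v
        rw [neg_one_smul, neg_one_mul] at this
        exact this
      rw [this, neg_add_cancel]
    have : i' * i' + 1 = 0 := by
      rw [Matrix.ext_iff_mulVec]
      intro v
      rw [hv v, Matrix.zero_mulVec]
    exact eq_neg_of_add_eq_zero_left this
  -- expand (a + b i)² = −1
  have hexp : (a * a - b * b + 1) • (1 : Matrix (Fin 2 ⊕ Fin 2) (Fin 2 ⊕ Fin 2) F) + (2 * a * b) • i = 0 := by
    have e : i' * i' = (a * a) • (1 : Matrix (Fin 2 ⊕ Fin 2) (Fin 2 ⊕ Fin 2) F) + (2 * a * b) • i +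
        (b * b) • (i * i) := by
      rw [hab]
      simp only [add_mul, mul_add, Matrix.smul_mul, Matrix.mul_smul, Matrix.one_mul, Matrix.mul_one,
        smul_smul]
      module
    rw [hii] at e
    rw [hi'2] at e
    linear_combination (norm := module) -e
  obtain ⟨h5, h6⟩ := hindep _ _ hexp
  have hab0 : a = 0 ∨ b = 0 := by
    rcases mul_eq_zero.mp h6 with h | h
    · rcases mul_eq_zero.mp h with h' | h'
      · exact absurd h' h2
      · exact Or.inl h'
    · exact Or.inr h
  have ha0 : a = 0 := by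
    rcases hab0 with h | h
    · exact h
    · exfalso
      rw [h] at h5
      exact neg_one_not_sq hq a (by linear_combination h5)
  rw [ha0] at h5 hab
  have hb1 : b = 1 ∨ b = -1 := by
    have : (b - 1) * (b + 1) = 0 := by linear_combination -h5
    rcases mul_eq_zero.mp this with h | h
    · exact Or.inl (sub_eq_zero.mp h)
    · exact Or.inr (eq_neg_of_add_eq_zero_left h)
  rw [zero_smul, zero_add] at hab
  refine ⟨i, hiK, hii, ?_, hK_iff⟩
  rcases hb1 with hb | hb
  · -- i' = i: K self-adjoint, contradiction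
    exfalso
    rw [hb, one_smul] at hab
    rw [hab] at hi'
    apply hnsa
    intro k hk u v
    obtain ⟨c, d, rfl⟩ := (hK_iff k).mp hk
    rw [Matrix.add_mulVec, Matrix.add_mulVec, Matrix.smul_mulVec, Matrix.smul_mulVec, Matrix.smul_mulVec,
      Matrix.smul_mulVec, Matrix.one_mulVec, Matrix.one_mulVec, sympForm_add_left, sympForm_add_right,
      sympForm_smul_left, sympForm_smul_left, sympForm_smul_right, sympForm_smul_right, hi']
  · intro u v
    rw [hi' u v, hab, hb, neg_one_smul, Matrix.neg_mulVec]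
    have := sympForm_smul_right (m := 2) (-1 : F) u (i *ᵥ v)
    rw [neg_one_smul, neg_one_mul] at this
    exact this

end Cfsg.Agent.Lib.Helper94.BHRSP.Sp4
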