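import Mathlib
import Cfsg.Prelude.Def_GeometricClasses
import Cfsg.Agent.Lib.Helper94.BHRSP.Kit
import Cfsg.Agent.Lib.Helper83.BhrspEQ3

/-!
# Project BHRSP (helper94), phase 2, module [E-SP4-2B] (helper86), part 1: the standard model

On `F^4 = Fin 2 ⊕ Fin 2 → F` with `sympForm 2 F`: the coordinate planes `Rs` (`inl`-coordinates zero) and
`Ls` (`inr`-coordinates zero) are totally singular; `Es ε = {v | v(inl 0) = −ε v(inr 1), v(inl 1) = ε v(inr 0)}`;
`Es 1, Es (−1)` is a non-degenerate decomposition (`2 ≠ 0`) and an isometry permuting `Rs, Ls` maps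
`Es ε` into `Es (ε δ)` for a `δ ≠ 0` depending only on the isometry.
-/

set_option autoImplicit false

namespace Cfsg.Agent.Lib.Helper86.ESp42B

open Cfsg Cfsg.Geo Cfsg.Agent.Lib.Helper94 Cfsg.Agent.Lib.Helper94.BHRSP
open scoped MatrixGroups Matrix

variable {F : Type*} [Field F]

local notation "V4" => (Fin 2 ⊕ Fin 2 → F)
local notation "M4" => Matrix (Fin 2 ⊕ Fin 2) (Fin 2 ⊕ Fin 2) F

/-- the form in coordinates -/
theorem form4 (u v : V4) : sympForm 2 F u v =
    u (Sum.inr 0) * v (Sum.inl 0) - u (Sum.inl 0) * v (Sum.inr 0) +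
      (u (Sum.inr 1) * v (Sum.inl 1) - u (Sum.inl 1) * v (Sum.inr 1)) := by
  rw [sympForm_eq_sum, Fin.sum_univ_two]

/-- `mulVec` in coordinates -/
theorem mulVec4 (M : M4) (v : V4) (a : Fin 2 ⊕ Fin 2) :
    (M *ᵥ v) a = M a (Sum.inl 0) * v (Sum.inl 0) + M a (Sum.inl 1) * v (Sum.inl 1) +
      (M a (Sum.inr 0) * v (Sum.inr 0) + M a (Sum.inr 1) * v (Sum.inr 1)) := by
  simp only [Matrix.mulVec, dotProduct, Fintype.sum_sum_type, Fin.sum_univ_two]

/-- the coordinate plane spanned by the `inr` basis vectors -/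
def Rs : Submodule F V4 where
  carrier := {v | v (Sum.inl 0) = 0 ∧ v (Sum.inl 1) = 0}
  add_mem' := by
    rintro a b ⟨h1, h2⟩ ⟨h3, h4⟩
    exact ⟨by rw [Pi.add_apply, h1, h3, add_zero], by rw [Pi.add_apply, h2, h4, add_zero]⟩
  zero_mem' := ⟨rfl, rfl⟩
  smul_mem' := by
    rintro c a ⟨h1, h2⟩
    exact ⟨by rw [Pi.smul_apply, h1, smul_zero], by rw [Pi.smul_apply, h2, smul_zero]⟩

/-- the coordinate plane spanned by the `inl` basis vectors -/
def Ls : Submodule F V4 where
  carrier := {v | v (Sum.inr 0) = 0 ∧ v (Sum.inr 1) = 0}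
  add_mem' := by
    rintro a b ⟨h1, h2⟩ ⟨h3, h4⟩
    exact ⟨by rw [Pi.add_apply, h1, h3, add_zero], by rw [Pi.add_apply, h2, h4, add_zero]⟩
  zero_mem' := ⟨rfl, rfl⟩
  smul_mem' := by
    rintro c a ⟨h1, h2⟩
    exact ⟨by rw [Pi.smul_apply, h1, smul_zero], by rw [Pi.smul_apply, h2, smul_zero]⟩

theorem mem_Rs (v : V4) : v ∈ (Rs : Submodule F V4) ↔ v (Sum.inl 0) = 0 ∧ v (Sum.inl 1) = 0 := Iff.rfl
theorem mem_Ls (v : V4) : v ∈ (Ls : Submodule F V4) ↔ v (Sum.inr 0) = 0 ∧ v (Sum.inr 1) = 0 := Iff.rfl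

/-- the graph planes -/
def Es (ε : F) : Submodule F V4 where
  carrier := {v | v (Sum.inl 0) = -(ε * v (Sum.inr 1)) ∧ v (Sum.inl 1) = ε * v (Sum.inr 0)}
  add_mem' := by
    rintro a b ⟨h1, h2⟩ ⟨h3, h4⟩
    refine ⟨?_, ?_⟩
    · simp only [Pi.add_apply, h1, h3]; ring
    · simp only [Pi.add_apply, h2, h4]; ring
  zero_mem' := ⟨by simp, by simp⟩
  smul_mem' := by
    rintro c a ⟨h1, h2⟩
    refine ⟨?_, ?_⟩
    · simp only [Pi.smul_apply, smul_eq_mul, h1]; ring
    · simp only [Pi.smul_apply, smul_eq_mul, h2]; ring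

theorem mem_Es (ε : F) (v : V4) : v ∈ Es ε ↔
    v (Sum.inl 0) = -(ε * v (Sum.inr 1)) ∧ v (Sum.inl 1) = ε * v (Sum.inr 0) := Iff.rfl

/-- the element of `Es ε` with given `inr`-coordinates -/
def mkE (ε y0 y1 : F) : V4 := Sum.elim ![-(ε * y1), ε * y0] ![y0, y1]

theorem mkE_mem (ε y0 y1 : F) : mkE ε y0 y1 ∈ Es ε := by
  rw [mem_Es]
  simp [mkE]

/-- the parametrisation of `Es ε` -/
def phi (ε : F) : (Fin 2 → F) →ₗ[F] V4 where
  toFun y := mkE ε (y 0) (y 1)
  map_add' y z := by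
    funext a
    rcases a with a | a <;> fin_cases a <;> simp [mkE] <;> ring
  map_smul' c y := by
    funext a
    rcases a with a | a <;> fin_cases a <;> simp [mkE] <;> ring

theorem range_phi (ε : F) : LinearMap.range (phi ε) = Es ε := by
  apply le_antisymm
  · rintro _ ⟨y, rfl⟩
    exact mkE_mem ε (y 0) (y 1)
  · intro v hv
    obtain ⟨h1, h2⟩ := (mem_Es ε v).mp hv
    refine ⟨fun j => v (Sum.inr j), ?_⟩
    funext a
    rcases a with a | a <;> fin_cases a <;> simp [phi, mkE, h1, h2]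

theorem phi_injective (ε : F) : Function.Injective (phi ε) := by
  intro y z hyz
  funext j
  have := congrFun hyz (Sum.inr j)
  fin_cases j <;> simpa [phi, mkE] using this

theorem finrank_Es (ε : F) : Module.finrank F (Es ε) = 2 := by
  rw [← range_phi, LinearMap.finrank_range_of_inj (phi_injective ε)]
  simp

/-- the form on two graph planes -/
theorem form_Es (ε δ : F) (u v : V4) (hu : u ∈ Es ε) (hv : v ∈ Es δ) :
    sympForm 2 F u v = (δ + ε) * (u (Sum.inr 1) * v (Sum.inr 0) - u (Sum.inr 0) * v (Sum.inr 1)) := by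
  obtain ⟨h1, h2⟩ := (mem_Es ε u).mp hu
  obtain ⟨h3, h4⟩ := (mem_Es δ v).mp hv
  rw [form4, h1, h2, h3, h4]
  ring

theorem eq_zero_of_mem_Es (ε : F) (v : V4) (hv : v ∈ Es ε) (h0 : v (Sum.inr 0) = 0)
    (h1 : v (Sum.inr 1) = 0) : v = 0 := by
  obtain ⟨h2, h3⟩ := (mem_Es ε v).mp hv
  funext a
  rcases a with a | a <;> fin_cases a <;> simp [h0, h1, h2, h3]

/-- the standard planes form a non-degenerate decomposition -/
theorem std_decomp (h2 : (2 : F) ≠ 0) :
    IsNondegenerateMDecomposition (sympForm 2 F) 2 (![Es (1 : F), Es (-1)] : Fin 2 → Submodule F V4) := by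
  have hnd : ∀ ε : F, ε ≠ 0 → IsNondegenerateOn (sympForm 2 F) (Es ε) := by
    intro ε hε w hw hw0
    have key : ∃ x ∈ Es ε, sympForm 2 F x w ≠ 0 := by
      by_cases h0 : w (Sum.inr 0) = 0
      · have h1 : w (Sum.inr 1) ≠ 0 := fun h1 => hw0 (eq_zero_of_mem_Es ε w hw h0 h1)
        refine ⟨mkE ε 1 0, mkE_mem ε 1 0, ?_⟩
        rw [form_Es ε ε _ _ (mkE_mem ε 1 0) hw]
        simp only [mkE, Sum.elim_inr, Matrix.cons_val_zero, Matrix.cons_val_one]
        intro h
        have : (ε + ε) * w (Sum.inr 1) = 0 := by linear_combination -h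
        rcases mul_eq_zero.mp this with h' | h'
        · have : (2 : F) * ε = 0 := by linear_combination h'
          rcases mul_eq_zero.mp this with h'' | h''
          · exact h2 h''
          · exact hε h''
        · exact h1 h'
      · refine ⟨mkE ε 0 1, mkE_mem ε 0 1, ?_⟩
        rw [form_Es ε ε _ _ (mkE_mem ε 0 1) hw]
        simp only [mkE, Sum.elim_inr, Matrix.cons_val_zero, Matrix.cons_val_one]
        intro h
        have : (ε + ε) * w (Sum.inr 0) = 0 := by linear_combination h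
        rcases mul_eq_zero.mp this with h' | h'
        · have : (2 : F) * ε = 0 := by linear_combination h'
          rcases mul_eq_zero.mp this with h'' | h''
          · exact h2 h''
          · exact hε h''
        · exact h0 h'
    obtain ⟨x, hx, hxw⟩ := key
    refine ⟨⟨x, hx, hxw⟩, ⟨x, hx, ?_⟩⟩
    rw [sympForm_skew]
    exact neg_ne_zero.mpr hxw
  have hnd' : ∀ i : Fin 2, IsNondegenerateOn (sympForm 2 F)
      ((![Es (1 : F), Es (-1)] : Fin 2 → Submodule F V4) i) := by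
    intro i
    fin_cases i
    · exact hnd 1 one_ne_zero
    · exact hnd (-1) (neg_ne_zero.mpr one_ne_zero)
  have horth : ∀ i j : Fin 2, i ≠ j → AreOrthogonalFor (sympForm 2 F)
      ((![Es (1 : F), Es (-1)] : Fin 2 → Submodule F V4) i)
      ((![Es (1 : F), Es (-1)] : Fin 2 → Submodule F V4) j) := by
    intro i j hij u hu v hv
    fin_cases i <;> fin_cases j
    · exact absurd rfl hij
    · rw [form_Es 1 (-1) u v hu hv]; ring
    · rw [form_Es (-1) 1 u v hu hv]; ring
    · exact absurd rfl hij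
  refine ⟨⟨le_refl 2, by norm_num, ?_, ?_, ?_⟩, hnd', horth⟩
  · intro i
    fin_cases i
    · exact finrank_Es 1
    · exact finrank_Es (-1)
  · exact Cfsg.Agent.Lib.Helper83.BhrspEQ3.iSupIndep_of_orthogonal
      (isSymplecticForm_sympForm (m := 2) (F := F)).bilinear _ hnd' horth
  · rw [eq_top_iff]
    intro v _
    have hsum : v = mkE 1 ((2 : F)⁻¹ * (v (Sum.inr 0) + v (Sum.inl 1)))
          ((2 : F)⁻¹ * (v (Sum.inr 1) - v (Sum.inl 0))) +
        mkE (-1) ((2 : F)⁻¹ * (v (Sum.inr 0) - v (Sum.inl 1)))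
          ((2 : F)⁻¹ * (v (Sum.inr 1) + v (Sum.inl 0))) := by
      funext a
      rcases a with a | a <;> fin_cases a <;> simp [mkE] <;> field_simp <;> ring
    rw [hsum]
    refine Submodule.add_mem _ ?_ ?_
    · exact (le_iSup (![Es (1 : F), Es (-1)] : Fin 2 → Submodule F V4) 0) (mkE_mem 1 _ _)
    · exact (le_iSup (![Es (1 : F), Es (-1)] : Fin 2 → Submodule F V4) 1) (mkE_mem (-1) _ _)

/-- column of a matrix as the image of a basis vector -/
theorem mulVec_single_apply (M : M4) (b a : Fin 2 ⊕ Fin 2) :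
    (M *ᵥ Pi.single b (1 : F)) a = M a b := by
  rw [Matrix.mulVec_single_one]
  rfl

theorem single_inr_mem_Rs (j : Fin 2) : (Pi.single (Sum.inr j) (1 : F) : V4) ∈ (Rs : Submodule F V4) := by
  rw [mem_Rs]
  simp

theorem single_inl_mem_Ls (j : Fin 2) : (Pi.single (Sum.inl j) (1 : F) : V4) ∈ (Ls : Submodule F V4) := by
  rw [mem_Ls]
  simp

/-- the isometry condition on a pair of basis vectors `inl j`, `inr k` -/
theorem form_cols (M : M4)
    (hM : ∀ u v, sympForm 2 F (M *ᵥ u) (M *ᵥ v) = sympForm 2 F u v) (j k : Fin 2) :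
    M (Sum.inr 0) (Sum.inl j) * M (Sum.inl 0) (Sum.inr k) -
      M (Sum.inl 0) (Sum.inl j) * M (Sum.inr 0) (Sum.inr k) +
      (M (Sum.inr 1) (Sum.inl j) * M (Sum.inl 1) (Sum.inr k) -
        M (Sum.inl 1) (Sum.inl j) * M (Sum.inr 1) (Sum.inr k)) = if j = k then -1 else 0 := by
  have h := hM (Pi.single (Sum.inl j) 1) (Pi.single (Sum.inr k) 1)
  rw [form4, form4] at h
  simp only [mulVec_single_apply] at h
  rw [h]
  fin_cases j <;> fin_cases k <;> simp

/-- Cramer's rule for `Aᵀ D = 1`, `2 × 2` -/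
theorem cramer2 (a00 a01 a10 a11 d00 d01 d10 d11 : F)
    (E00 : a00 * d00 + a10 * d10 = 1) (E01 : a00 * d01 + a10 * d11 = 0)
    (E10 : a01 * d00 + a11 * d10 = 0) (E11 : a01 * d01 + a11 * d11 = 1) :
    (a00 * a11 - a01 * a10) * (d00 * d11 - d01 * d10) = 1 ∧
    (a00 * a11 - a01 * a10) * d10 = -a01 ∧ (a00 * a11 - a01 * a10) * d11 = a00 ∧
    (a00 * a11 - a01 * a10) * d00 = a11 ∧ (a00 * a11 - a01 * a10) * d01 = -a10 := by
  refine ⟨?_, ?_, ?_, ?_, ?_⟩
  · linear_combination (a01 * d01 + a11 * d11) * E00 + E11 - (a01 * d00 + a11 * d10) * E01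
  · linear_combination a00 * E10 - a01 * E00
  · linear_combination a00 * E11 - a01 * E01
  · linear_combination a11 * E00 - a10 * E10
  · linear_combination a11 * E01 - a10 * E11

/-- an isometry permuting `Rs`, `Ls` maps `Es ε` into `Es (ε δ)` -/
theorem exists_delta (M : M4)
    (hM : ∀ u v, sympForm 2 F (M *ᵥ u) (M *ᵥ v) = sympForm 2 F u v)
    (hperm : ((∀ v ∈ (Rs : Submodule F V4), M *ᵥ v ∈ (Rs : Submodule F V4)) ∧
        (∀ v ∈ (Ls : Submodule F V4), M *ᵥ v ∈ (Ls : Submodule F V4))) ∨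
      ((∀ v ∈ (Rs : Submodule F V4), M *ᵥ v ∈ (Ls : Submodule F V4)) ∧
        (∀ v ∈ (Ls : Submodule F V4), M *ᵥ v ∈ (Rs : Submodule F V4)))) :
    ∃ δ : F, δ ≠ 0 ∧ ∀ ε : F, ε * ε = 1 → δ * δ = 1 → ∀ v ∈ Es ε, M *ᵥ v ∈ Es (ε * δ) := by
  have e00 := form_cols M hM 0 0
  have e01 := form_cols M hM 0 1
  have e10 := form_cols M hM 1 0
  have e11 := form_cols M hM 1 1
  simp only [if_true, Fin.isValue, if_false, zero_ne_one, one_ne_zero] at e00 e01 e10 e11
  rcases hperm with ⟨hR, hL⟩ | ⟨hR, hL⟩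
  · -- block diagonal
    have zA : ∀ i j : Fin 2, M (Sum.inl i) (Sum.inr j) = 0 := by
      intro i j
      have := (mem_Rs _).mp (hR _ (single_inr_mem_Rs j))
      simp only [mulVec_single_apply] at this
      fin_cases i
      · exact this.1
      · exact this.2
    have zB : ∀ i j : Fin 2, M (Sum.inr i) (Sum.inl j) = 0 := by
      intro i j
      have := (mem_Ls _).mp (hL _ (single_inl_mem_Ls j))
      simp only [mulVec_single_apply] at this
      fin_cases i
      · exact this.1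
      · exact this.2
    simp only [zA, zB, mul_zero, zero_sub] at e00 e01 e10 e11
    obtain ⟨hdet, i1, i2, i3, i4⟩ := cramer2 (M (Sum.inl 0) (Sum.inl 0)) (M (Sum.inl 0) (Sum.inl 1))
      (M (Sum.inl 1) (Sum.inl 0)) (M (Sum.inl 1) (Sum.inl 1)) (M (Sum.inr 0) (Sum.inr 0))
      (M (Sum.inr 0) (Sum.inr 1)) (M (Sum.inr 1) (Sum.inr 0)) (M (Sum.inr 1) (Sum.inr 1))
      (by linear_combination -e00) (by linear_combination -e01) (by linear_combination -e10)
      (by linear_combination -e11)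
    refine ⟨M (Sum.inl 0) (Sum.inl 0) * M (Sum.inl 1) (Sum.inl 1) -
      M (Sum.inl 0) (Sum.inl 1) * M (Sum.inl 1) (Sum.inl 0), ?_, ?_⟩
    · intro h0
      rw [h0, zero_mul] at hdet
      exact zero_ne_one hdet
    · intro ε _ _ v hv
      obtain ⟨h1, h2⟩ := (mem_Es ε v).mp hv
      rw [mem_Es]
      simp only [mulVec4, zA, zB, zero_mul, add_zero, zero_add, h1, h2]
      constructor
      · linear_combination (ε * v (Sum.inr 0)) * i1 + (ε * v (Sum.inr 1)) * i2
      · linear_combination (-(ε * v (Sum.inr 0))) * i3 - (ε * v (Sum.inr 1)) * i4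
  · -- block anti-diagonal
    have zA : ∀ i j : Fin 2, M (Sum.inr i) (Sum.inr j) = 0 := by
      intro i j
      have := (mem_Ls _).mp (hR _ (single_inr_mem_Rs j))
      simp only [mulVec_single_apply] at this
      fin_cases i
      · exact this.1
      · exact this.2
    have zB : ∀ i j : Fin 2, M (Sum.inl i) (Sum.inl j) = 0 := by
      intro i j
      have := (mem_Rs _).mp (hL _ (single_inl_mem_Ls j))
      simp only [mulVec_single_apply] at this
      fin_cases i
      · exact this.1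
      · exact this.2
    simp only [zA, zB, mul_zero, sub_zero] at e00 e01 e10 e11
    obtain ⟨hdet, i1, i2, i3, i4⟩ := cramer2 (M (Sum.inr 0) (Sum.inl 0)) (M (Sum.inr 0) (Sum.inl 1))
      (M (Sum.inr 1) (Sum.inl 0)) (M (Sum.inr 1) (Sum.inl 1)) (-M (Sum.inl 0) (Sum.inr 0))
      (-M (Sum.inl 0) (Sum.inr 1)) (-M (Sum.inl 1) (Sum.inr 0)) (-M (Sum.inl 1) (Sum.inr 1))
      (by linear_combination -e00) (by linear_combination -e01) (by linear_combination -e10)
      (by linear_combination -e11)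
    refine ⟨M (Sum.inr 0) (Sum.inl 0) * M (Sum.inr 1) (Sum.inl 1) -
      M (Sum.inr 0) (Sum.inl 1) * M (Sum.inr 1) (Sum.inl 0), ?_, ?_⟩
    · intro h0
      rw [h0, zero_mul] at hdet
      exact zero_ne_one hdet
    · intro ε hε hγ v hv
      obtain ⟨h1, h2⟩ := (mem_Es ε v).mp hv
      rw [mem_Es]
      simp only [mulVec4, zA, zB, zero_mul, add_zero, zero_add, h1, h2]
      generalize M (Sum.inr 0) (Sum.inl 0) = c00 at *
      generalize M (Sum.inr 0) (Sum.inl 1) = c01 at *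
      generalize M (Sum.inr 1) (Sum.inl 0) = c10 at *
      generalize M (Sum.inr 1) (Sum.inl 1) = c11 at *
      generalize M (Sum.inl 0) (Sum.inr 0) = b00 at *
      generalize M (Sum.inl 0) (Sum.inr 1) = b01 at *
      generalize M (Sum.inl 1) (Sum.inr 0) = b10 at *
      generalize M (Sum.inl 1) (Sum.inr 1) = b11 at *
      generalize v (Sum.inr 0) = y0 at *
      generalize v (Sum.inr 1) = y1 at *
      constructor
      · linear_combination (-(ε * ε * (c00 * c11 - c01 * c10) * y1)) * i4 -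
          (ε * ε * (c00 * c11 - c01 * c10) * y0) * i3 - (b00 * y0 + b01 * y1) * hε -
          ((b00 * y0 + b01 * y1) * ε * ε) * hγ
      · linear_combination (-(ε * ε * (c00 * c11 - c01 * c10) * y1)) * i2 -
          (ε * ε * (c00 * c11 - c01 * c10) * y0) * i1 - (b10 * y0 + b11 * y1) * hε -
          ((b10 * y0 + b11 * y1) * ε * ε) * hγ

end Cfsg.Agent.Lib.Helper86.ESp42B
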