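import Mathlib
import Cfsg.Prelude.Def_GeometricClasses
import Cfsg.Agent.Lib.Helper94.BHRSP.Kit
import Cfsg.Agent.Lib.Helper94.BHRSP.Kit2
import Cfsg.Agent.Lib.Helper83.DecompKit
import Cfsg.Agent.Lib.Helper86.BhrspESp42BStd

/-!
# Project BHRSP (helper94), phase 2, module [E-SP4-2B] (helper86), part 2: a symplectic basis adapted to a
pair of complementary totally singular planes, and the change of basis `P ∈ spGL 2 F`.
-/

set_option autoImplicit false

namespace Cfsg.Agent.Lib.Helper86.ESp42B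

open Cfsg Cfsg.Geo Cfsg.Agent.Lib.Helper94 Cfsg.Agent.Lib.Helper94.BHRSP
open scoped MatrixGroups Matrix

variable {F : Type*} [Field F]

local notation "V4" => (Fin 2 ⊕ Fin 2 → F)
local notation "M4" => Matrix (Fin 2 ⊕ Fin 2) (Fin 2 ⊕ Fin 2) F

/-- dual bases of a pair of complementary totally singular planes -/
theorem exists_dual_bases (D : Fin 2 → Submodule F V4) (hD : IsMDecomposition 2 D)
    (hts : ∀ i, IsTotallySingularFor (sympForm 2 F) (D i)) :
    ∃ u0 u1 u0' u1' : V4, u0 ∈ D 0 ∧ u1 ∈ D 0 ∧ u0' ∈ D 1 ∧ u1' ∈ D 1 ∧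
      sympForm 2 F u0 u0' = 1 ∧ sympForm 2 F u0 u1' = 0 ∧ sympForm 2 F u1 u0' = 0 ∧
      sympForm 2 F u1 u1' = 1 := by
  -- a dual vector for every non-zero vector of `D 0`
  have hdual : ∀ u ∈ D 0, u ≠ 0 → ∃ u' ∈ D 1, sympForm 2 F u u' = 1 := by
    intro u hu hu0
    obtain ⟨x, hx⟩ := exists_sympForm_ne_zero u hu0
    obtain ⟨w, hw, hws⟩ := Cfsg.Agent.Lib.Helper83.Decomp.exists_decomp hD.iSup_eq_top x
    rw [Fin.sum_univ_two] at hws
    have h1 : sympForm 2 F u x = sympForm 2 F u (w 1) := by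
      rw [← hws, sympForm_add_right, hts 0 u hu (w 0) (hw 0), zero_add]
    rw [h1] at hx
    refine ⟨(sympForm 2 F u (w 1))⁻¹ • w 1, (D 1).smul_mem _ (hw 1), ?_⟩
    rw [sympForm_smul_right, inv_mul_cancel₀ hx]
  have hne : D 0 ≠ ⊥ := by
    intro h
    have := hD.finrank_eq 0
    rw [h, finrank_bot] at this
    omega
  obtain ⟨u0, hu0, hu00⟩ := Submodule.exists_mem_ne_zero_of_ne_bot hne
  obtain ⟨u0', hu0', h00⟩ := hdual u0 hu0 hu00
  -- a second vector of `D 0`
  obtain ⟨z, hz, hzs⟩ : ∃ z ∈ D 0, z ∉ Submodule.span F {u0} := by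
    by_contra hcon
    push Not at hcon
    have hle : D 0 ≤ Submodule.span F {u0} := fun z hz => hcon z hz
    have h1 := Submodule.finrank_mono hle
    rw [hD.finrank_eq 0, finrank_span_singleton hu00] at h1
    omega
  obtain ⟨u1, hu1def⟩ : ∃ u1, u1 = z - sympForm 2 F z u0' • u0 := ⟨_, rfl⟩
  have hu1 : u1 ∈ D 0 := by
    rw [hu1def]; exact (D 0).sub_mem hz ((D 0).smul_mem _ hu0)
  have hu10 : u1 ≠ 0 := by
    intro h
    apply hzs
    rw [hu1def, sub_eq_zero] at h
    rw [h]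
    exact Submodule.smul_mem _ _ (Submodule.subset_span rfl)
  have h10 : sympForm 2 F u1 u0' = 0 := by
    have hneg : ∀ a b : V4, sympForm 2 F (a - b) u0' = sympForm 2 F a u0' - sympForm 2 F b u0' := by
      intro a b
      have := sympForm_add_left (m := 2) (F := F) a (-b) u0'
      have h2 := sympForm_smul_left (m := 2) (-1 : F) b u0'
      rw [neg_one_smul, neg_one_mul] at h2
      rw [sub_eq_add_neg, this, h2, sub_eq_add_neg]
    rw [hu1def, hneg, sympForm_smul_left, h00, mul_one, sub_self]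
  obtain ⟨u1'', hu1'', h11''⟩ := hdual u1 hu1 hu10
  refine ⟨u0, u1, u0', u1'' - sympForm 2 F u0 u1'' • u0', hu0, hu1, hu0',
    (D 1).sub_mem hu1'' ((D 1).smul_mem _ hu0'), h00, ?_, h10, ?_⟩
  · have hneg : ∀ a b : V4, sympForm 2 F u0 (a - b) = sympForm 2 F u0 a - sympForm 2 F u0 b := by
      intro a b
      have := sympForm_add_right (m := 2) (F := F) u0 a (-b)
      have h2 := sympForm_smul_right (m := 2) (-1 : F) u0 b
      rw [neg_one_smul, neg_one_mul] at h2
      rw [sub_eq_add_neg, this, h2, sub_eq_add_neg]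
    rw [hneg, sympForm_smul_right, h00, mul_one, sub_self]
  · have hneg : ∀ a b : V4, sympForm 2 F u1 (a - b) = sympForm 2 F u1 a - sympForm 2 F u1 b := by
      intro a b
      have := sympForm_add_right (m := 2) (F := F) u1 a (-b)
      have h2 := sympForm_smul_right (m := 2) (-1 : F) u1 b
      rw [neg_one_smul, neg_one_mul] at h2
      rw [sub_eq_add_neg, this, h2, sub_eq_add_neg]
    rw [hneg, sympForm_smul_right, h10, mul_zero, sub_zero, h11'']

/-- the Gram matrix of the columns -/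
theorem transpose_J_mul_apply (A : M4) (a b : Fin 2 ⊕ Fin 2) :
    (Aᵀ * Matrix.J (Fin 2) F * A) a b = sympForm 2 F (fun c => A c a) (fun c => A c b) := by
  rw [Matrix.mul_assoc, Matrix.mul_apply]
  unfold sympForm
  simp only [dotProduct, Matrix.mulVec, Matrix.mul_apply, Matrix.transpose_apply]

/-- the change of basis -/
theorem exists_P (D : Fin 2 → Submodule F V4) (hD : IsMDecomposition 2 D)
    (hts : ∀ i, IsTotallySingularFor (sympForm 2 F) (D i)) :
    ∃ P : GL (Fin 2 ⊕ Fin 2) F, P ∈ spGL 2 F ∧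
      (∀ j, (P : M4) *ᵥ Pi.single (Sum.inr j) 1 ∈ D 0) ∧
      (∀ j, (P : M4) *ᵥ Pi.single (Sum.inl j) 1 ∈ D 1) := by
  obtain ⟨u0, u1, u0', u1', hu0, hu1, hu0', hu1', h00, h01, h10, h11⟩ := exists_dual_bases D hD hts
  let w : Fin 2 ⊕ Fin 2 → V4 := Sum.elim ![u0', u1'] ![u0, u1]
  let Pm : M4 := Matrix.of fun a b => w b a
  have hcol : ∀ b, (fun c => Pm c b) = w b := fun b => rfl
  have hPm : Pm ∈ Matrix.symplecticGroup (Fin 2) F := by
    rw [SymplecticGroup.mem_iff']
    ext a b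
    rw [transpose_J_mul_apply, hcol, hcol]
    have s00 : sympForm 2 F u0' u0 = -1 := by rw [sympForm_skew, h00]
    have s01 : sympForm 2 F u0' u1 = 0 := by rw [sympForm_skew, h10, neg_zero]
    have s10 : sympForm 2 F u1' u0 = 0 := by rw [sympForm_skew, h01, neg_zero]
    have s11 : sympForm 2 F u1' u1 = -1 := by rw [sympForm_skew, h11]
    rcases a with a | a <;> rcases b with b | b <;> fin_cases a <;> fin_cases b <;>
      simp [w, Matrix.J, sympForm_self, h00, h01, h10, h11, s00, s01, s10, s11,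
        hts 0 _ hu0 _ hu1, hts 0 _ hu1 _ hu0, hts 1 _ hu0' _ hu1', hts 1 _ hu1' _ hu0']
  refine ⟨sympToGL 2 F ⟨Pm, hPm⟩, sympToGL_mem _, ?_, ?_⟩
  · intro j
    rw [sympToGL_coe, Matrix.mulVec_single_one]
    fin_cases j
    · exact hu0
    · exact hu1
  · intro j
    rw [sympToGL_coe, Matrix.mulVec_single_one]
    fin_cases j
    · exact hu0'
    · exact hu1'

end Cfsg.Agent.Lib.Helper86.ESp42B
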