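import Mathlib
import Cfsg.Prelude.Def_GeometricClasses
import Cfsg.Agent.Lib.Helper94.BHRSP.Kit
import Cfsg.Agent.Lib.Helper94.BHRSP.Kit2
import Cfsg.Agent.Lib.Helper83.BhrspEQ3
import Cfsg.Agent.Lib.Helper86.BhrspESp42BStd
import Cfsg.Agent.Lib.Helper86.BhrspESp42BBasis

/-!
# Project BHRSP (helper94), phase 2, module [E-SP4-2B] (helper86): `|F| = 3`, the stabiliser in `Sp_4(3)` of a pair
of complementary totally singular planes stabilises a pair of orthogonal non-degenerate planes.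
-/

set_option autoImplicit false

namespace Cfsg.Agent.Lib.Helper86.ESp42B

open Cfsg Cfsg.Geo Cfsg.Agent.Lib.Helper94 Cfsg.Agent.Lib.Helper94.BHRSP
open scoped MatrixGroups Matrix

section Transport

variable {F : Type*} [Field F] {ι : Type} [Fintype ι] [DecidableEq ι]

theorem mulVec_inv_mulVec' (P : GL ι F) (v : ι → F) :
    (P : Matrix ι ι F) *ᵥ (((P⁻¹ : GL ι F) : Matrix ι ι F) *ᵥ v) = v := by
  rw [Matrix.mulVec_mulVec, ← Units.val_mul, mul_inv_cancel, Units.val_one, Matrix.one_mulVec]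

theorem inv_mulVec_mulVec' (P : GL ι F) (v : ι → F) :
    ((P⁻¹ : GL ι F) : Matrix ι ι F) *ᵥ ((P : Matrix ι ι F) *ᵥ v) = v := by
  rw [Matrix.mulVec_mulVec, ← Units.val_mul, inv_mul_cancel, Units.val_one, Matrix.one_mulVec]

theorem mem_map_toLin'_iff (P : GL ι F) (S : Submodule F (ι → F)) (v : ι → F) :
    v ∈ S.map (Matrix.toLin' (P : Matrix ι ι F)) ↔ ((P⁻¹ : GL ι F) : Matrix ι ι F) *ᵥ v ∈ S := by
  constructor
  · rintro ⟨s, hs, rfl⟩
    rw [Matrix.toLin'_apply, inv_mulVec_mulVec']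
    exact hs
  · intro h
    exact ⟨_, h, by rw [Matrix.toLin'_apply, mulVec_inv_mulVec']⟩

theorem toLin'_injective (P : GL ι F) : Function.Injective (Matrix.toLin' (P : Matrix ι ι F)) := by
  intro v w h
  rw [Matrix.toLin'_apply, Matrix.toLin'_apply] at h
  have := congrArg (fun x => ((P⁻¹ : GL ι F) : Matrix ι ι F) *ᵥ x) h
  simpa only [inv_mulVec_mulVec'] using this

theorem finrank_map_toLin' (P : GL ι F) (S : Submodule F (ι → F)) :
    Module.finrank F (S.map (Matrix.toLin' (P : Matrix ι ι F))) = Module.finrank F S :=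
  (Submodule.equivMapOfInjective _ (toLin'_injective P) S).finrank_eq.symm

/-- transport of a non-degenerate decomposition along an isometry -/
theorem transport_decomp {f : (ι → F) → (ι → F) → F} (hf : IsBilinearForm f) (P : GL ι F)
    (hP : ∀ u v, f ((P : Matrix ι ι F) *ᵥ u) ((P : Matrix ι ι F) *ᵥ v) = f u v) {t k : ℕ}
    (E : Fin t → Submodule F (ι → F)) (hE : IsNondegenerateMDecomposition f k E) :
    IsNondegenerateMDecomposition f k (fun i => (E i).map (Matrix.toLin' (P : Matrix ι ι F))) := by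
  have hPinv : ∀ u v, f u v = f (((P⁻¹ : GL ι F) : Matrix ι ι F) *ᵥ u)
      (((P⁻¹ : GL ι F) : Matrix ι ι F) *ᵥ v) := by
    intro u v
    have := hP (((P⁻¹ : GL ι F) : Matrix ι ι F) *ᵥ u) (((P⁻¹ : GL ι F) : Matrix ι ι F) *ᵥ v)
    rw [mulVec_inv_mulVec', mulVec_inv_mulVec'] at this
    exact this
  have hnd : ∀ i, IsNondegenerateOn f ((E i).map (Matrix.toLin' (P : Matrix ι ι F))) := by
    intro i w hw hw0
    have he := (mem_map_toLin'_iff P (E i) w).mp hw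
    have he0 : ((P⁻¹ : GL ι F) : Matrix ι ι F) *ᵥ w ≠ 0 := by
      intro h
      apply hw0
      rw [← mulVec_inv_mulVec' P w, h, Matrix.mulVec_zero]
    obtain ⟨⟨x, hx, hxw⟩, ⟨y, hy, hyw⟩⟩ := hE.nondegenerate i _ he he0
    refine ⟨⟨(P : Matrix ι ι F) *ᵥ x, ⟨x, hx, Matrix.toLin'_apply _ _⟩, ?_⟩,
      ⟨(P : Matrix ι ι F) *ᵥ y, ⟨y, hy, Matrix.toLin'_apply _ _⟩, ?_⟩⟩
    · rw [hPinv, inv_mulVec_mulVec']; exact hxw
    · rw [hPinv, inv_mulVec_mulVec']; exact hyw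
  have horth : ∀ i j, i ≠ j → AreOrthogonalFor f ((E i).map (Matrix.toLin' (P : Matrix ι ι F)))
      ((E j).map (Matrix.toLin' (P : Matrix ι ι F))) := by
    intro i j hij u hu v hv
    rw [hPinv]
    exact hE.orthogonal i j hij _ ((mem_map_toLin'_iff P (E i) u).mp hu) _
      ((mem_map_toLin'_iff P (E j) v).mp hv)
  refine ⟨⟨hE.decomp.two_le, hE.decomp.pos, ?_, ?_, ?_⟩, hnd, horth⟩
  · intro i
    rw [finrank_map_toLin', hE.decomp.finrank_eq]
  · exact Cfsg.Agent.Lib.Helper83.BhrspEQ3.iSupIndep_of_orthogonal hf _ hnd horth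
  · rw [← Submodule.map_iSup, hE.decomp.iSup_eq_top, Submodule.map_top, LinearMap.range_eq_top]
    intro v
    exact ⟨_, by rw [Matrix.toLin'_apply, mulVec_inv_mulVec']⟩

end Transport

section Main

variable {F : Type*} [Field F] [Fintype F]

local notation "V4" => (Fin 2 ⊕ Fin 2 → F)
local notation "M4" => Matrix (Fin 2 ⊕ Fin 2) (Fin 2 ⊕ Fin 2) F

theorem three_eq_zero (hq : Fintype.card F = 3) : (3 : F) = 0 := by
  have := FiniteField.cast_card_eq_zero F
  rw [hq] at this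
  exact_mod_cast this

theorem f3_cases (hq : Fintype.card F = 3) (x : F) : x = 0 ∨ x = 1 ∨ x = -1 := by
  have h := FiniteField.pow_card x
  rw [hq] at h
  have h2 : x * (x - 1) * (x + 1) = 0 := by linear_combination h
  rcases mul_eq_zero.1 h2 with h3 | h3
  · rcases mul_eq_zero.1 h3 with h4 | h4
    · exact Or.inl h4
    · exact Or.inr (Or.inl (sub_eq_zero.1 h4))
  · exact Or.inr (Or.inr (eq_neg_of_add_eq_zero_left h3))

theorem two_ne_zero3 (hq : Fintype.card F = 3) : (2 : F) ≠ 0 := by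
  intro h2
  have h3 := three_eq_zero hq
  have : (1 : F) = 0 := by linear_combination h3 - h2
  exact one_ne_zero this

omit [Fintype F] in
/-- `D 0 = P Rs`, `D 1 = P Ls` -/
theorem D_eq_map (D : Fin 2 → Submodule F V4) (hts : ∀ i, IsTotallySingularFor (sympForm 2 F) (D i))
    (P : GL (Fin 2 ⊕ Fin 2) F) (hP : P ∈ spGL 2 F)
    (hP0 : ∀ j, (P : M4) *ᵥ Pi.single (Sum.inr j) 1 ∈ D 0)
    (hP1 : ∀ j, (P : M4) *ᵥ Pi.single (Sum.inl j) 1 ∈ D 1) :
    D = fun i => ((![Rs, Ls] : Fin 2 → Submodule F V4) i).map (Matrix.toLin' (P : M4)) := by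
  have hexp : ∀ v : V4, (P : M4) *ᵥ v =
      v (Sum.inl 0) • ((P : M4) *ᵥ Pi.single (Sum.inl 0) 1) +
      v (Sum.inl 1) • ((P : M4) *ᵥ Pi.single (Sum.inl 1) 1) +
      (v (Sum.inr 0) • ((P : M4) *ᵥ Pi.single (Sum.inr 0) 1) +
      v (Sum.inr 1) • ((P : M4) *ᵥ Pi.single (Sum.inr 1) 1)) := by
    intro v
    funext a
    simp only [Pi.add_apply, Pi.smul_apply, mulVec_single_apply, smul_eq_mul]
    rw [mulVec4]
    ring
  have hPf : ∀ u v, sympForm 2 F ((P : M4) *ᵥ u) ((P : M4) *ᵥ v) = sympForm 2 F u v :=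
    (mem_spGL_iff P).mp hP
  funext i
  fin_cases i
  · show D 0 = (Rs : Submodule F V4).map (Matrix.toLin' (P : M4))
    apply le_antisymm
    · intro w hw
      rw [mem_map_toLin'_iff, mem_Rs]
      have key : ∀ j : Fin 2, (((P⁻¹ : GL (Fin 2 ⊕ Fin 2) F) : M4) *ᵥ w) (Sum.inl j) = 0 := by
        intro j
        have h1 := hPf (Pi.single (Sum.inr j) 1) (((P⁻¹ : GL (Fin 2 ⊕ Fin 2) F) : M4) *ᵥ w)
        rw [mulVec_inv_mulVec', hts 0 _ (hP0 j) _ hw, form4] at h1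
        fin_cases j <;> simpa using h1.symm
      exact ⟨key 0, key 1⟩
    · rintro _ ⟨v, hv, rfl⟩
      obtain ⟨h0, h1⟩ := (mem_Rs v).mp hv
      rw [Matrix.toLin'_apply, hexp, h0, h1, zero_smul, zero_smul, zero_add, zero_add]
      exact (D 0).add_mem ((D 0).smul_mem _ (hP0 0)) ((D 0).smul_mem _ (hP0 1))
  · show D 1 = (Ls : Submodule F V4).map (Matrix.toLin' (P : M4))
    apply le_antisymm
    · intro w hw
      rw [mem_map_toLin'_iff, mem_Ls]
      have key : ∀ j : Fin 2, (((P⁻¹ : GL (Fin 2 ⊕ Fin 2) F) : M4) *ᵥ w) (Sum.inr j) = 0 := by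
        intro j
        have h1 := hPf (Pi.single (Sum.inl j) 1) (((P⁻¹ : GL (Fin 2 ⊕ Fin 2) F) : M4) *ᵥ w)
        rw [mulVec_inv_mulVec', hts 1 _ (hP1 j) _ hw, form4] at h1
        fin_cases j <;> simpa using h1.symm
      exact ⟨key 0, key 1⟩
    · rintro _ ⟨v, hv, rfl⟩
      obtain ⟨h0, h1⟩ := (mem_Ls v).mp hv
      rw [Matrix.toLin'_apply, hexp, h0, h1, zero_smul, zero_smul, add_zero, add_zero]
      exact (D 1).add_mem ((D 1).smul_mem _ (hP1 0)) ((D 1).smul_mem _ (hP1 1))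

/-- **[E-SP4-2B]** -/
theorem singular_pair_core (hq : Fintype.card F = 3) (D : Fin 2 → Submodule F V4)
    (hD : IsMDecomposition 2 D) (hts : ∀ i, IsTotallySingularFor (sympForm 2 F) (D i)) :
    ∃ D' : Fin 2 → Submodule F V4, IsNondegenerateMDecomposition (sympForm 2 F) 2 D' ∧
      decompositionStabilizer D ⊓ spGL 2 F ≤ decompositionStabilizer D' ⊓ spGL 2 F := by
  obtain ⟨P, hP, hP0, hP1⟩ := exists_P D hD hts
  have hPf := (mem_spGL_iff P).mp hP
  have hDeq := D_eq_map D hts P hP hP0 hP1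
  have hDi : ∀ i, D i = ((![Rs, Ls] : Fin 2 → Submodule F V4) i).map (Matrix.toLin' (P : M4)) :=
    fun i => congrFun hDeq i
  refine ⟨fun i => ((![Es (1 : F), Es (-1)] : Fin 2 → Submodule F V4) i).map (Matrix.toLin' (P : M4)),
    transport_decomp (isSymplecticForm_sympForm (m := 2) (F := F)).bilinear P hPf _
      (std_decomp (two_ne_zero3 hq)), ?_⟩
  rintro g ⟨⟨σ, hσ⟩, hg⟩
  refine ⟨?_, hg⟩
  -- `h = P⁻¹ g P`
  obtain ⟨h, hhdef⟩ : ∃ h : GL (Fin 2 ⊕ Fin 2) F, h = P⁻¹ * g * P := ⟨_, rfl⟩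
  have hh : ∀ v : V4, (h : M4) *ᵥ v =
      ((P⁻¹ : GL (Fin 2 ⊕ Fin 2) F) : M4) *ᵥ ((g : M4) *ᵥ ((P : M4) *ᵥ v)) := by
    intro v
    rw [hhdef, Units.val_mul, Units.val_mul, Matrix.mulVec_mulVec, Matrix.mulVec_mulVec]
  have hPh : ∀ v : V4, (P : M4) *ᵥ ((h : M4) *ᵥ v) = (g : M4) *ᵥ ((P : M4) *ᵥ v) := by
    intro v
    rw [hh, mulVec_inv_mulVec']
  have hhS : h ∈ spGL 2 F := by
    rw [hhdef]
    exact (spGL 2 F).mul_mem ((spGL 2 F).mul_mem ((spGL 2 F).inv_mem hP) hg) hP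
  have hhf := (mem_spGL_iff h).mp hhS
  have hS : ∀ i, ∀ v ∈ (![Rs, Ls] : Fin 2 → Submodule F V4) i,
      (h : M4) *ᵥ v ∈ (![Rs, Ls] : Fin 2 → Submodule F V4) (σ i) := by
    intro i v hv
    rw [hh]
    have h1 : (P : M4) *ᵥ v ∈ D i := by
      rw [hDi]; exact ⟨v, hv, Matrix.toLin'_apply _ _⟩
    have h2 : (g : M4) *ᵥ ((P : M4) *ᵥ v) ∈ D (σ i) := by
      rw [← hσ i]; exact ⟨_, h1, Matrix.toLin'_apply _ _⟩
    rw [hDi] at h2
    exact (mem_map_toLin'_iff P _ _).mp h2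
  have hperm : ((∀ v ∈ (Rs : Submodule F V4), (h : M4) *ᵥ v ∈ (Rs : Submodule F V4)) ∧
        (∀ v ∈ (Ls : Submodule F V4), (h : M4) *ᵥ v ∈ (Ls : Submodule F V4))) ∨
      ((∀ v ∈ (Rs : Submodule F V4), (h : M4) *ᵥ v ∈ (Ls : Submodule F V4)) ∧
        (∀ v ∈ (Ls : Submodule F V4), (h : M4) *ᵥ v ∈ (Rs : Submodule F V4))) := by
    have hne : σ 0 ≠ σ 1 := fun h01 => absurd (σ.injective h01) (by decide)
    have h0 := hS 0
    have h1 := hS 1
    generalize σ 0 = a at *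
    generalize σ 1 = b at *
    fin_cases a <;> fin_cases b
    · exact absurd rfl hne
    · exact Or.inl ⟨h0, h1⟩
    · exact Or.inr ⟨h0, h1⟩
    · exact absurd rfl hne
  obtain ⟨δ, hδ0, hδ⟩ := exists_delta (h : M4) hhf hperm
  have hδ1 : δ = 1 ∨ δ = -1 := (f3_cases hq δ).resolve_left hδ0
  have hδδ : δ * δ = 1 := by rcases hδ1 with rfl | rfl <;> ring
  have key : ∀ ε : F, ε * ε = 1 → ((Es ε).map (Matrix.toLin' (P : M4))).map (Matrix.toLin' (g : M4)) =
      (Es (ε * δ)).map (Matrix.toLin' (P : M4)) := by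
    intro ε hε
    apply Submodule.eq_of_le_of_finrank_eq
    · rintro _ ⟨_, ⟨e, he, rfl⟩, rfl⟩
      rw [Matrix.toLin'_apply, Matrix.toLin'_apply, ← hPh]
      exact ⟨_, hδ ε hε hδδ e he, Matrix.toLin'_apply _ _⟩
    · rw [finrank_map_toLin', finrank_map_toLin', finrank_map_toLin', finrank_Es, finrank_Es]
  rcases hδ1 with rfl | rfl
  · refine ⟨1, fun i => ?_⟩
    fin_cases i
    · have := key 1 (by ring)
      rw [mul_one] at this
      exact this
    · have := key (-1) (by ring)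
      rw [mul_one] at this
      exact this
  · refine ⟨Equiv.swap 0 1, fun i => ?_⟩
    fin_cases i
    · have := key 1 (by ring)
      rw [one_mul] at this
      exact this
    · have := key (-1) (by ring)
      rw [neg_mul_neg, one_mul] at this
      exact this

end Main

end Cfsg.Agent.Lib.Helper86.ESp42B
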