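import Mathlib
import Cfsg.Prelude.Def_GeometricClasses
import Cfsg.Agent.Lib.Helper94.BHRSP.Kit
import Cfsg.Agent.Lib.Helper86.BhrspESp42B

/-!
# Project BHRSP (helper94), phase 2, module [E-SP4-2B] (helper86): exact sheet statement
(wrapper around `Cfsg.Agent.Lib.Helper86.ESp42B.singular_pair_core`).
-/

set_option autoImplicit false

namespace Cfsg.Agent.Lib.Helper94.BHRSP

open Cfsg Cfsg.Geo
open scoped MatrixGroups Matrix Kronecker

variable {F : Type*} [Field F] [Fintype F]

/-- **[E-SP4-2B]** `|F| = 3`: the stabiliser in `Sp_4(3)` of a pair of complementary totally singular planes stabilises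
a pair of orthogonal non-degenerate planes. -/
theorem singular_pair_sp4_card_three (hq : Fintype.card F = 3) (D : Fin 2 → Submodule F (Fin 2 ⊕ Fin 2 → F))
    (hD : IsMDecomposition 2 D) (hts : ∀ i, IsTotallySingularFor (sympForm 2 F) (D i)) :
    ∃ D' : Fin 2 → Submodule F (Fin 2 ⊕ Fin 2 → F), IsNondegenerateMDecomposition (sympForm 2 F) 2 D' ∧
      decompositionStabilizer D ⊓ spGL 2 F ≤ decompositionStabilizer D' ⊓ spGL 2 F :=
  Cfsg.Agent.Lib.Helper86.ESp42B.singular_pair_core hq D hD hts

end Cfsg.Agent.Lib.Helper94.BHRSP
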