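import Mathlib
import Cfsg.Agent.Lib.Helper94.SympBasic

/-!
# Project BHRSP (helper94), module [A-C3TWO] (helper86), abstract part

`B` alternating non-degenerate, `α` self-adjoint with `B (α v) v = 0`, `α² = s α − n`, `x² − s x + n` without
roots: every non-degenerate `α`-invariant subspace has dimension divisible by 4.
-/

set_option autoImplicit false

namespace Cfsg.Agent.Lib.Helper86.AC3Two

open Cfsg.Agent.Lib.Helper94 Cfsg.Agent.Lib.Helper94.SympData
open LinearMap (BilinForm)

variable {K V : Type*} [Field K] [AddCommGroup V] [Module K V] {B : BilinForm K V}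

/-- the orthogonal complement of a non-degenerate subspace inside a non-degenerate subspace is non-degenerate -/
lemma nondegOn_inf_orthogonal [FiniteDimensional K V] (h : SympData B) {U N : Submodule K V}
    (hUN : U ≤ N) (hU : NondegOn B U) (hN : NondegOn B N) : NondegOn B (N ⊓ B.orthogonal U) := by
  intro x hx hxy
  apply hN x hx.1
  intro y hy
  have hc := NondegOn.isCompl h hU
  have hy2 : y ∈ U ⊔ B.orthogonal U := by rw [hc.sup_eq_top]; trivial
  obtain ⟨u, hu, y', hy', rfl⟩ := Submodule.mem_sup.mp hy2
  have hy'N : y' ∈ N := by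
    have : y' = (u + y') - u := by abel
    rw [this]; exact N.sub_mem hy (hUN hu)
  rw [map_add, (h.mem_orthogonal.1 hx.2) u hu, hxy y' ⟨hy'N, hy'⟩, add_zero]

/-- dimension count -/
lemma finrank_eq_add [FiniteDimensional K V] (h : SympData B) {U N : Submodule K V} (hUN : U ≤ N)
    (hU : NondegOn B U) :
    Module.finrank K N = Module.finrank K U + Module.finrank K ↥(N ⊓ B.orthogonal U) := by
  have hc := NondegOn.isCompl h hU
  have hsup : U ⊔ (N ⊓ B.orthogonal U) = N := by
    apply le_antisymm (sup_le hUN inf_le_left)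
    intro y hy
    have hy2 : y ∈ U ⊔ B.orthogonal U := by rw [hc.sup_eq_top]; trivial
    obtain ⟨u, hu, y', hy', rfl⟩ := Submodule.mem_sup.mp hy2
    have hy'N : y' ∈ N := by
      have : y' = (u + y') - u := by abel
      rw [this]; exact N.sub_mem hy (hUN hu)
    exact Submodule.add_mem_sup hu ⟨hy'N, hy'⟩
  have hinf : U ⊓ (N ⊓ B.orthogonal U) = ⊥ := by
    apply le_bot_iff.mp
    intro x hx
    exact (Submodule.disjoint_def.mp hc.disjoint) x hx.1 hx.2.2
  have := Submodule.finrank_sup_add_finrank_inf_eq U (N ⊓ B.orthogonal U)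
  rw [hsup, hinf, finrank_bot, add_zero] at this
  exact this

lemma gram_solve {s n : K} (hroot : ∀ b : K, b * b - s * b + n ≠ 0) (c0 c1 b : K)
    (h1 : c0 + c1 * b = 0) (h2 : c0 * b + c1 * (s * b - n) = 0) : c0 = 0 ∧ c1 = 0 := by
  have hc0 : c0 = - (c1 * b) := eq_neg_of_add_eq_zero_left h1
  have h3 : c1 * (b * b - s * b + n) = 0 := by
    rw [hc0] at h2
    linear_combination -h2
  have hc1 : c1 = 0 := by
    rcases mul_eq_zero.mp h3 with h | h
    · exact h
    · exact absurd h (hroot b)
  refine ⟨?_, hc1⟩
  rw [hc0, hc1, zero_mul, neg_zero]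

/-- **abstract [A-C3TWO]** -/
theorem four_dvd_finrank [FiniteDimensional K V] (h : SympData B) (α : V →ₗ[K] V) (s n : K)
    (hsa : ∀ u v, B (α u) v = B u (α v)) (halt : ∀ v, B (α v) v = 0)
    (hquad : ∀ x, α (α x) = s • α x - n • x) (hroot : ∀ b : K, b * b - s * b + n ≠ 0) :
    ∀ (d : ℕ) (N : Submodule K V), Module.finrank K N = d → NondegOn B N →
      (∀ x ∈ N, α x ∈ N) → 4 ∣ d := by
  intro d
  induction d using Nat.strong_induction_on with
  | _ d ih =>
    intro N hd hN hinv
    by_cases hbot : N = ⊥
    · subst hbot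
      rw [finrank_bot] at hd
      subst hd
      exact dvd_zero 4
    obtain ⟨v, hv, hv0⟩ := Submodule.exists_mem_ne_zero_of_ne_bot hbot
    obtain ⟨w, hw, hvw⟩ : ∃ w ∈ N, B v w = 1 := by
      by_contra hcon
      push Not at hcon
      apply hv0
      apply hN v hv
      intro y hy
      by_contra hne
      apply hcon ((B v y)⁻¹ • y) (N.smul_mem _ hy)
      rw [map_smul, smul_eq_mul, inv_mul_cancel₀ hne]
    -- Gram values
    obtain ⟨b, hb⟩ : ∃ b, b = B v (α w) := ⟨_, rfl⟩
    have g00 : B v v = 0 := h.alt v
    have g01 : B v (α v) = 0 := by rw [h.skew, halt, neg_zero]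
    have g02 : B v w = 1 := hvw
    have g03 : B v (α w) = b := hb.symm
    have g10 : B (α v) v = 0 := halt v
    have g11 : B (α v) (α v) = 0 := h.alt _
    have g12 : B (α v) w = b := by rw [hsa, g03]
    have g13 : B (α v) (α w) = s * b - n := by
      rw [hsa, hquad, map_sub, map_smul, map_smul, g03, g02, smul_eq_mul, smul_eq_mul, mul_one]
    have g20 : B w v = -1 := by rw [h.skew, g02]
    have g21 : B w (α v) = -b := by rw [h.skew, g12]
    have g22 : B w w = 0 := h.alt w
    have g23 : B w (α w) = 0 := by rw [h.skew, halt, neg_zero]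
    have g30 : B (α w) v = -b := by rw [h.skew, g03]
    have g31 : B (α w) (α v) = -(s * b - n) := by rw [h.skew, g13]
    have g32 : B (α w) w = 0 := halt w
    have g33 : B (α w) (α w) = 0 := h.alt _
    let vec : Fin 4 → V := ![v, α v, w, α w]
    have key : ∀ c : Fin 4 → K, (∀ j, B (∑ i, c i • vec i) (vec j) = 0) → c = 0 := by
      intro c hc
      have e0 := hc 0
      have e1 := hc 1
      have e2 := hc 2
      have e3 := hc 3
      simp only [Fin.sum_univ_four, vec, map_add, map_smul, LinearMap.add_apply,
        LinearMap.smul_apply, smul_eq_mul, Matrix.cons_val_zero, Matrix.cons_val_one,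
        Matrix.cons_val, g00, g01, g02, g03, g10, g11, g12, g13, g20, g21, g22, g23, g30, g31, g32,
        g33] at e0 e1 e2 e3
      have hA := gram_solve hroot (c 0) (c 1) b (by linear_combination e2) (by linear_combination e3)
      have hB := gram_solve hroot (c 2) (c 3) b (by linear_combination -e0) (by linear_combination -e1)
      funext i
      fin_cases i
      · exact hA.1
      · exact hA.2
      · exact hB.1
      · exact hB.2
    set U : Submodule K V := Submodule.span K (Set.range vec) with hUdef
    have hvecN : ∀ i, vec i ∈ N := by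
      intro i
      fin_cases i
      · exact hv
      · exact hinv v hv
      · exact hw
      · exact hinv w hw
    have hUN : U ≤ N := by
      rw [hUdef, Submodule.span_le]
      rintro _ ⟨i, rfl⟩
      exact hvecN i
    have hli : LinearIndependent K vec := by
      rw [Fintype.linearIndependent_iff]
      intro c hc i
      have : c = 0 := key c (fun j => by rw [hc]; simp)
      rw [this]; rfl
    have hU4 : Module.finrank K U = 4 := by
      rw [hUdef, finrank_span_eq_card hli]; simp
    have hUnd : NondegOn B U := by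
      intro x hx hxy
      obtain ⟨c, rfl⟩ := (Submodule.mem_span_range_iff_exists_fun K).mp hx
      have : c = 0 := key c (fun j => hxy _ (Submodule.subset_span ⟨j, rfl⟩))
      rw [this]; simp
    have hαvec : ∀ i, α (vec i) ∈ U := by
      intro i
      fin_cases i
      · exact Submodule.subset_span ⟨1, rfl⟩
      · show α (α v) ∈ U
        rw [hquad]
        exact U.sub_mem (U.smul_mem _ (Submodule.subset_span ⟨1, rfl⟩))
          (U.smul_mem _ (Submodule.subset_span ⟨0, rfl⟩))
      · exact Submodule.subset_span ⟨3, rfl⟩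
      · show α (α w) ∈ U
        rw [hquad]
        exact U.sub_mem (U.smul_mem _ (Submodule.subset_span ⟨3, rfl⟩))
          (U.smul_mem _ (Submodule.subset_span ⟨2, rfl⟩))
    have hUinv : ∀ x ∈ U, α x ∈ U := by
      intro x hx
      obtain ⟨c, rfl⟩ := (Submodule.mem_span_range_iff_exists_fun K).mp hx
      rw [map_sum]
      apply Submodule.sum_mem
      intro i _
      rw [map_smul]
      exact U.smul_mem _ (hαvec i)
    -- the complement
    have hN' := nondegOn_inf_orthogonal h hUN hUnd hN
    have hinv' : ∀ x ∈ N ⊓ B.orthogonal U, α x ∈ N ⊓ B.orthogonal U := by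
      intro x hx
      refine Submodule.mem_inf.mpr ⟨hinv x hx.1, ?_⟩
      rw [h.mem_orthogonal]
      intro u hu
      rw [hsa]
      exact (h.mem_orthogonal.1 hx.2) _ (hUinv u hu)
    have hdim := finrank_eq_add h hUN hUnd
    rw [hd, hU4] at hdim
    have hlt : Module.finrank K ↥(N ⊓ B.orthogonal U) < d := by omega
    have := ih _ hlt (N ⊓ B.orthogonal U) rfl hN' hinv'
    omega

end Cfsg.Agent.Lib.Helper86.AC3Two
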