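import Mathlib
import Cfsg.Prelude.Def_GeometricClasses
import Cfsg.Agent.Lib.Helper94.BHRSP.Kit
import Cfsg.Agent.Lib.Helper86.BhrspAC3TwoAbs

/-!
# Project BHRSP (helper94), module [A-C3TWO] (helper86): a degree-2 self-adjoint field `K` with
`f (k v) v = 0` on the symplectic space `F^(2m)` forces `m` even.
-/

set_option autoImplicit false

namespace Cfsg.Agent.Lib.Helper94.BHRSP

open Cfsg Cfsg.Geo Cfsg.Agent.Lib.Helper94
open scoped MatrixGroups Matrix Kronecker

namespace AC3Two86

variable {F : Type*} [Field F] {ι : Type} [Fintype ι] [DecidableEq ι]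

/-- a field subalgebra of degree 2 contains a non-scalar `A` with `A² = s A − n`, `x² − s x + n` without roots -/
theorem exists_quadratic (K : Subalgebra F (Matrix ι ι F)) (hK : IsFieldSubalgebra 2 K) :
    ∃ A ∈ K, ∃ s n : F, A * A = s • A - n • (1 : Matrix ι ι F) ∧ ∀ b : F, b * b - s * b + n ≠ 0 := by
  have : FiniteDimensional F K := Module.finite_of_finrank_pos (by rw [hK.finrank_eq]; norm_num)
  -- a non-scalar element
  obtain ⟨α, hα⟩ : ∃ α : K, α ∉ Submodule.span F {(1 : K)} := by
    by_contra hcon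
    push Not at hcon
    have htop : Submodule.span F {(1 : K)} = ⊤ := by
      rw [eq_top_iff]; intro x _; exact hcon x
    have h1 := finrank_span_le_card (R := F) ({(1 : K)} : Set K)
    rw [htop, finrank_top, hK.finrank_eq] at h1
    simp at h1
  have hnotscalar : ∀ c : F, α ≠ c • (1 : K) := by
    intro c hc
    exact hα (Submodule.mem_span_singleton.mpr ⟨c, hc.symm⟩)
  have hone : (1 : K) ≠ 0 := by
    intro h1
    apply hnotscalar 0
    rw [zero_smul, ← mul_one α, h1, mul_zero]
  have hli : LinearIndependent F ![(1 : K), α] := by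
    rw [LinearIndependent.pair_iff]
    intro a c hac
    have hc : c = 0 := by
      by_contra hc
      apply hnotscalar (-(c⁻¹ * a))
      have : c • α = -(a • (1 : K)) := eq_neg_of_add_eq_zero_right hac
      calc α = c⁻¹ • (c • α) := by rw [smul_smul, inv_mul_cancel₀ hc, one_smul]
        _ = -(c⁻¹ * a) • (1 : K) := by rw [this, smul_neg, smul_smul, neg_smul]
    refine ⟨?_, hc⟩
    rw [hc, zero_smul, add_zero] at hac
    rcases smul_eq_zero.mp hac with h | h
    · exact h
    · exact absurd h hone
  have hspan := hli.span_eq_top_of_card_eq_finrank' (by rw [hK.finrank_eq]; simp)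
  have hmem : α * α ∈ Submodule.span F (Set.range ![(1 : K), α]) := by rw [hspan]; trivial
  obtain ⟨c, hc⟩ := (Submodule.mem_span_range_iff_exists_fun F).mp hmem
  rw [Fin.sum_univ_two] at hc
  simp only [Matrix.cons_val_zero, Matrix.cons_val_one] at hc
  -- the relation in the matrix algebra
  have hrel : (α : Matrix ι ι F) * (α : Matrix ι ι F) =
      c 1 • (α : Matrix ι ι F) - (-(c 0)) • (1 : Matrix ι ι F) := by
    have := congrArg (Subtype.val : K → Matrix ι ι F) hc
    simp only [Subalgebra.coe_add, Subalgebra.coe_smul, Subalgebra.coe_one,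
      MulMemClass.coe_mul] at this
    rw [← this, neg_smul, sub_neg_eq_add, add_comm]
  refine ⟨α.1, α.2, c 1, -(c 0), hrel, ?_⟩
  intro b hb
  -- (α − b)(α − (s − b)) = 0
  set A : Matrix ι ι F := (α : Matrix ι ι F) with hA
  have hprod : (A - b • 1) * (A - (c 1 - b) • 1) = 0 := by
    have e1 : (A - b • 1) * (A - (c 1 - b) • 1) =
        A * A - c 1 • A + (b * (c 1 - b)) • (1 : Matrix ι ι F) := by
      simp only [sub_mul, mul_sub, Matrix.smul_mul, Matrix.mul_smul, Matrix.one_mul, Matrix.mul_one,
        smul_smul, sub_smul, mul_sub]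
      module
    rw [e1, hrel]
    have e2 : b * (c 1 - b) = -(c 0) := by linear_combination -hb
    rw [e2]
    module
  have hx : A - b • (1 : Matrix ι ι F) ∈ K := K.sub_mem α.2 (K.smul_mem K.one_mem b)
  have hx0 : A - b • (1 : Matrix ι ι F) ≠ 0 := by
    intro h0
    apply hnotscalar b
    apply Subtype.ext
    simp only [Subalgebra.coe_smul, Subalgebra.coe_one]
    exact sub_eq_zero.mp h0
  obtain ⟨y, hy, hxy⟩ := hK.inv _ hx hx0
  have hyx : y * (A - b • (1 : Matrix ι ι F)) = 1 := by rw [← hK.comm _ hx _ hy, hxy]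
  have hz : A - (c 1 - b) • (1 : Matrix ι ι F) = 0 := by
    calc A - (c 1 - b) • (1 : Matrix ι ι F)
        = (y * (A - b • (1 : Matrix ι ι F))) * (A - (c 1 - b) • 1) := by rw [hyx, one_mul]
      _ = 0 := by rw [mul_assoc, hprod, mul_zero]
  apply hnotscalar (c 1 - b)
  apply Subtype.ext
  simp only [Subalgebra.coe_smul, Subalgebra.coe_one]
  exact sub_eq_zero.mp hz

end AC3Two86

open AC3Two86

variable {F : Type*} [Field F] [Fintype F] {m : ℕ}

set_option linter.unusedSectionVars false in
/-- **[A-C3TWO]** (hedge copy; the official provider is `Lib/Helper17/BhrspC3Two.lean`, which landed first) -/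
theorem even_of_selfAdjoint_degree_two_h86
    (K : Subalgebra F (Matrix (Fin m ⊕ Fin m) (Fin m ⊕ Fin m) F)) (hK : IsFieldSubalgebra 2 K)
    (hsa : IsSelfAdjointFor (sympForm m F) K) (halt : ∀ k ∈ K, ∀ v, sympForm m F (k *ᵥ v) v = 0) : Even m := by
  obtain ⟨A, hAK, s, n, hrel, hroot⟩ := exists_quadratic K hK
  have hd := sympData_sympBilin (F := F) m
  have h4 := Cfsg.Agent.Lib.Helper86.AC3Two.four_dvd_finrank hd (Matrix.toLin' A) s n
    (by
      intro u v
      rw [sympBilin_apply, sympBilin_apply, Matrix.toLin'_apply, Matrix.toLin'_apply]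
      exact hsa A hAK u v)
    (by
      intro v
      rw [sympBilin_apply, Matrix.toLin'_apply]
      exact halt A hAK v)
    (by
      intro x
      rw [Matrix.toLin'_apply, Matrix.toLin'_apply, Matrix.mulVec_mulVec, hrel, Matrix.sub_mulVec,
        Matrix.smul_mulVec, Matrix.smul_mulVec, Matrix.one_mulVec])
    hroot _ ⊤ rfl
    (by
      intro x _ hx
      exact hd.nondeg x fun y => hx y trivial)
    (fun _ _ => trivial)
  rw [finrank_top, Module.finrank_fintype_fun_eq_card, Fintype.card_sum, Fintype.card_fin] at h4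
  obtain ⟨k, hk⟩ := h4
  exact ⟨k, by omega⟩

end Cfsg.Agent.Lib.Helper94.BHRSP
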