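/-
helper86, BHRSU6-[E-SU6-DEC6]: `q = 2`, the stabiliser in `SU_6(2)` of six mutually orthogonal non-degenerate points is
not maximal.  Transport of the standard-frame statement `Dec6.std_between` along a unitary change of basis.
-/
import Mathlib
import Cfsg.Prelude.Def_GeometricClasses
import Cfsg.Prelude.Def_ClassicalGeometry
import Cfsg.Agent.Lib.Helper37.BHRSU.Defs
import Cfsg.Agent.Lib.Helper70.AschU.Form
import Cfsg.Agent.Lib.Helper94.SympBridge3
import Cfsg.Agent.Lib.Helper86.Bhrsu6Dec6Std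

set_option autoImplicit false
set_option linter.unusedSectionVars false

namespace Cfsg.Agent.Lib.Helper86.Dec6

open Cfsg Cfsg.Geo Cfsg.Agent.Lib.Helper37.BHRSU Cfsg.Agent.Lib.Helper86.BHRSU6
open Cfsg.Agent.Lib.Helper70.AschU
open scoped MatrixGroups Matrix

variable {F : Type*} [Field F] [Fintype F]

/-- a norm-one spanning vector of a non-degenerate point -/
theorem exists_unit_vector (hF : Fintype.card F = 4) (W : Submodule F (Fin 6 → F))
    (hfr : Module.finrank F W = 1) (hnd : IsNondegenerateOn (hermForm 6 F 2) W) :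
    ∃ b : Fin 6 → F, W = Submodule.span F {b} ∧ hermForm 6 F 2 b b = 1 := by
  have hF' : Fintype.card F = 2 ^ 2 := by rw [hF]; norm_num
  obtain ⟨⟨b, hbW⟩, hb0, hb⟩ := finrank_eq_one_iff'.mp hfr
  have hb0' : b ≠ 0 := fun h => hb0 (Subtype.ext h)
  have hspan : W = Submodule.span F {b} := by
    apply le_antisymm
    · intro w hw
      obtain ⟨c, hc⟩ := hb ⟨w, hw⟩
      have : c • b = w := congrArg Subtype.val hc
      rw [← this]
      exact Submodule.smul_mem _ _ (Submodule.subset_span rfl)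
    · rw [Submodule.span_le, Set.singleton_subset_iff]; exact hbW
  refine ⟨b, hspan, ?_⟩
  obtain ⟨⟨x, hxW, hx⟩, -⟩ := hnd b hbW hb0'
  obtain ⟨c, hc⟩ := hb ⟨x, hxW⟩
  have hxc : c • b = x := congrArg Subtype.val hc
  rw [← hxc, Cfsg.Agent.Lib.Helper13.hermForm_smul_left] at hx
  have hbb : hermForm 6 F 2 b b ≠ 0 := fun h => hx (by rw [h, mul_zero])
  have hsq := Cfsg.Agent.Lib.Helper13.hermForm_conj hF' b b
  -- `a ^ 2 = a`, `a ≠ 0`
  have h1 : hermForm 6 F 2 b b * (hermForm 6 F 2 b b - 1) = 0 := by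
    linear_combination hsq
  rcases mul_eq_zero.mp h1 with h | h
  · exact absurd h hbb
  · exact sub_eq_zero.mp h

/-- a unitary matrix adapted to a decomposition into six orthogonal non-degenerate points -/
theorem exists_adapted (hF : Fintype.card F = 4) (D : Fin 6 → Submodule F (Fin 6 → F))
    (hD : IsNondegenerateMDecomposition (hermForm 6 F 2) 1 D) :
    ∃ P : GL (Fin 6) F, P ∈ GU 6 F 2 ∧
      ∀ i, (D0 F i).map (Matrix.toLin' (P : Matrix (Fin 6) (Fin 6) F)) = D i := by
  have hF' : Fintype.card F = 2 ^ 2 := by rw [hF]; norm_num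
  obtain ⟨σ, hσ⟩ := exists_uctx hF'
  have h1 : ∀ i, ∃ b : Fin 6 → F, D i = Submodule.span F {b} ∧ hermForm 6 F 2 b b = 1 :=
    fun i => exists_unit_vector hF (D i) (hD.decomp.finrank_eq i) (hD.nondegenerate i)
  choose b hspan hnorm using h1
  have horth : ∀ i j, i ≠ j → hermForm 6 F 2 (b i) (b j) = 0 := by
    intro i j hij
    apply hD.orthogonal i j hij
    · rw [hspan i]; exact Submodule.subset_span rfl
    · rw [hspan j]; exact Submodule.subset_span rfl
  let M : Matrix (Fin 6) (Fin 6) F := Matrix.of fun k i => b i k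
  have hM : Mᵀ * M.map σ = 1 := by
    ext i j
    rw [Matrix.mul_apply, Matrix.one_apply]
    have : ∑ k, Mᵀ i k * (M.map σ) k j = hermForm 6 F 2 (b i) (b j) := by
      unfold hermForm
      refine Finset.sum_congr rfl fun k _ => ?_
      rw [Matrix.transpose_apply, Matrix.map_apply, hσ.frob]
      rfl
    rw [this]
    by_cases hij : i = j
    · subst hij; rw [if_pos rfl, hnorm]
    · rw [if_neg hij, horth i j hij]
  have hdet : M.det ≠ 0 := by
    intro h0
    have h2 := congrArg Matrix.det hM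
    rw [Matrix.det_mul, Matrix.det_transpose, h0, zero_mul, Matrix.det_one] at h2
    exact zero_ne_one h2
  refine ⟨Matrix.GeneralLinearGroup.mkOfDetNeZero M hdet, ?_, fun i => ?_⟩
  · rw [mem_GU_iff_matrix hσ]
    exact hM
  · show (Submodule.span F {Pi.single i 1}).map (Matrix.toLin' M) = D i
    rw [Submodule.map_span, Set.image_singleton, Matrix.toLin'_apply, Matrix.mulVec_single_one, hspan i]
    rfl

/-- conjugation by `P⁻¹` maps the stabiliser of `D` onto the stabiliser of the standard frame -/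
theorem map_conj_stab (P : GL (Fin 6) F) (D : Fin 6 → Submodule F (Fin 6 → F))
    (hP : ∀ i, (D0 F i).map (Matrix.toLin' (P : Matrix (Fin 6) (Fin 6) F)) = D i) :
    (decompositionStabilizer D).map (MulAut.conj P⁻¹).toMonoidHom = decompositionStabilizer (D0 F) := by
  have hPinv : ∀ i, (D i).map (Matrix.toLin' ((P⁻¹ : GL (Fin 6) F) : Matrix (Fin 6) (Fin 6) F)) = D0 F i := by
    intro i
    rw [← hP i, ← Submodule.map_comp, ← Matrix.toLin'_mul, ← Units.val_mul, inv_mul_cancel, Units.val_one,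
      Matrix.toLin'_one, Submodule.map_id]
  ext g
  constructor
  · rintro ⟨h, ⟨τ, hτ⟩, rfl⟩
    refine ⟨τ, fun i => ?_⟩
    show (D0 F i).map (Matrix.toLin' ((P⁻¹ * h * P⁻¹⁻¹ : GL (Fin 6) F) : Matrix (Fin 6) (Fin 6) F)) = _
    rw [inv_inv, Units.val_mul, Units.val_mul, Matrix.toLin'_mul, Matrix.toLin'_mul, Submodule.map_comp,
      Submodule.map_comp, hP, hτ, hPinv]
  · rintro ⟨τ, hτ⟩
    refine ⟨P * g * P⁻¹, ⟨τ, fun i => ?_⟩, ?_⟩
    · rw [Units.val_mul, Units.val_mul, Matrix.toLin'_mul, Matrix.toLin'_mul, Submodule.map_comp,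
        Submodule.map_comp, hPinv, hτ, hP]
    · show P⁻¹ * (P * g * P⁻¹) * P⁻¹⁻¹ = g
      group

/-- conjugation by an element of `GU` fixes `SU` -/
theorem map_conj_SUg (P : GL (Fin 6) F) (hP : P ∈ GU 6 F 2) :
    (SUg 6 F 2).map (MulAut.conj P⁻¹).toMonoidHom = SUg 6 F 2 := by
  have key : ∀ Q : GL (Fin 6) F, Q ∈ GU 6 F 2 → ∀ g ∈ SUg 6 F 2, Q * g * Q⁻¹ ∈ SUg 6 F 2 := by
    intro Q hQ g hg
    obtain ⟨hgu, hgs⟩ := Subgroup.mem_inf.mp hg
    refine Subgroup.mem_inf.mpr ⟨mul_mem (mul_mem hQ hgu) (inv_mem hQ), ?_⟩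
    have hn : (specialLinear (Fin 6) F).Normal := by
      unfold specialLinear; infer_instance
    exact hn.conj_mem g hgs Q
  ext g
  constructor
  · rintro ⟨h, hh, rfl⟩
    exact key P⁻¹ (inv_mem hP) h hh
  · intro hg
    refine ⟨P * g * P⁻¹, ?_, ?_⟩
    · have := key P hP g hg
      exact this
    · show P⁻¹ * (P * g * P⁻¹) * P⁻¹⁻¹ = g
      group

end Cfsg.Agent.Lib.Helper86.Dec6

namespace Cfsg.Agent.Lib.Helper86.BHRSU6

open Cfsg Cfsg.Geo Cfsg.Agent.Lib.Helper37.BHRSU Cfsg.Agent.Lib.Helper86.Dec6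
open scoped MatrixGroups Matrix

variable {F : Type*} [Field F] [Fintype F]

/-- BHRSU6-[E-SU6-DEC6]  `q = 2`: the stabiliser in `SU_6(2)` of six mutually orthogonal non-degenerate points
(`3^5 : S_6`) is not maximal. -/
theorem exists_between_decomp_points_six (hF : Fintype.card F = 4)
    (D : Fin 6 → Submodule F (Fin 6 → F)) (hD : IsNondegenerateMDecomposition (hermForm 6 F 2) 1 D) :
    ∃ K : Subgroup (GL (Fin 6) F), decompositionStabilizer D ⊓ SUg 6 F 2 < K ∧ K < SUg 6 F 2 := by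
  obtain ⟨P, hPU, hP⟩ := exists_adapted hF D hD
  apply Cfsg.Agent.Lib.Helper94.exists_between_of_map (MulAut.conj P⁻¹)
  have hinj : Function.Injective (MulAut.conj P⁻¹ : GL (Fin 6) F ≃* GL (Fin 6) F).toMonoidHom :=
    (MulAut.conj P⁻¹ : GL (Fin 6) F ≃* GL (Fin 6) F).injective
  rw [Subgroup.map_inf _ _ _ hinj, map_conj_stab P D hP, map_conj_SUg P hPU]
  exact ⟨L0 F, std_between hF⟩

end Cfsg.Agent.Lib.Helper86.BHRSU6
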