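/-
helper86, BHRSU6-[E-SU6-DEC6], part 1: the brute-force check over the concrete field with four elements and its
transport to an arbitrary field with four elements: the unitary transvection `x ↦ x + (∑ x_i)(1,…,1)` preserves the
pattern set `InR6`.
-/
import Mathlib
import Cfsg.Agent.Lib.Helper56.F4
import Cfsg.Agent.Lib.Helper86.BHRSU6.Defs

set_option autoImplicit false

namespace Cfsg.Agent.Lib.Helper86.Dec6

open Cfsg.Agent.Lib.Helper86.BHRSU6
open Cfsg.Agent.Lib.Helper56 (F4)

instance instDecInR6F4 (v : Fin 6 → F4) : Decidable (InR6 v) := by unfold InR6; infer_instance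

set_option maxRecDepth 100000 in
/-- brute force over the 4096 vectors of `F4^6` -/
theorem tv_pres_F4_aux : ∀ a b c d e f : F4, InR6 ![a, b, c, d, e, f] →
    InR6 ![a + (a + b + c + d + e + f), b + (a + b + c + d + e + f), c + (a + b + c + d + e + f),
      d + (a + b + c + d + e + f), e + (a + b + c + d + e + f), f + (a + b + c + d + e + f)] := by
  decide +kernel

end Cfsg.Agent.Lib.Helper86.Dec6
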