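/-
helper86, BHRSU6-[E-SU6-DEC6], part 3: the standard frame.  `L0 F` = the subgroup of `SU_6(2)` preserving the pattern set
`InR6`; it lies strictly between the stabiliser of the standard frame and `SU_6(2)`.
-/
import Mathlib
import Cfsg.Prelude.Def_GeometricClasses
import Cfsg.Prelude.Def_ClassicalGeometry
import Cfsg.Agent.Lib.Helper37.BHRSU.Defs
import Cfsg.Agent.Lib.Helper37.BHRSU.Kit
import Cfsg.Agent.Lib.Helper13.Herm
import Cfsg.Agent.Lib.Helper86.BHRSU6.Defs
import Cfsg.Agent.Lib.Helper86.Bhrsu6Dec6Tv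

set_option autoImplicit false
set_option linter.unusedSectionVars false
set_option linter.unnecessarySeqFocus false

namespace Cfsg.Agent.Lib.Helper86.Dec6

open Cfsg Cfsg.Geo Cfsg.Agent.Lib.Helper37.BHRSU Cfsg.Agent.Lib.Helper86.BHRSU6
open scoped MatrixGroups Matrix

variable {F : Type*} [Field F]

/-- the standard frame -/
def D0 (F : Type*) [Field F] : Fin 6 → Submodule F (Fin 6 → F) := fun i => Submodule.span F {Pi.single i 1}

/-- the overgroup for the standard frame: the elements of `SU_6(2)` preserving the pattern set `InR6` -/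
def L0 (F : Type*) [Field F] : Subgroup (GL (Fin 6) F) where
  carrier := {g | g ∈ SUg 6 F 2 ∧
    ∀ v : Fin 6 → F, InR6 v ↔ InR6 ((g : Matrix (Fin 6) (Fin 6) F) *ᵥ v)}
  one_mem' := ⟨one_mem _, fun v => by simp⟩
  mul_mem' := by
    rintro a b ⟨ha, ha'⟩ ⟨hb, hb'⟩
    refine ⟨mul_mem ha hb, fun v => ?_⟩
    rw [Units.val_mul, ← Matrix.mulVec_mulVec]
    exact (hb' v).trans (ha' _)
  inv_mem' := by
    rintro a ⟨ha, ha'⟩
    refine ⟨inv_mem ha, fun v => ?_⟩
    have h := ha' (((a⁻¹ : GL (Fin 6) F) : Matrix (Fin 6) (Fin 6) F) *ᵥ v)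
    rw [Matrix.mulVec_mulVec, ← Units.val_mul, mul_inv_cancel, Units.val_one, Matrix.one_mulVec] at h
    exact h.symm

theorem mem_L0_iff (g : GL (Fin 6) F) : g ∈ L0 F ↔ g ∈ SUg 6 F 2 ∧
    ∀ v : Fin 6 → F, InR6 v ↔ InR6 ((g : Matrix (Fin 6) (Fin 6) F) *ᵥ v) := Iff.rfl

theorem L0_le : L0 F ≤ SUg 6 F 2 := fun _ hg => hg.1

/-! ### monomial matrices -/

/-- an element of the stabiliser of the standard frame is monomial -/
theorem monomial_of_mem_stab (g : GL (Fin 6) F) (hg : g ∈ decompositionStabilizer (D0 F)) :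
    ∃ (σ : Equiv.Perm (Fin 6)) (c : Fin 6 → F), (∀ i, c i ≠ 0) ∧
      ∀ j i, (g : Matrix (Fin 6) (Fin 6) F) j i = if j = σ i then c i else 0 := by
  obtain ⟨σ, hσ⟩ := hg
  have h1 : ∀ i, ∃ c : F, c • (Pi.single (σ i) 1 : Fin 6 → F) =
      (g : Matrix (Fin 6) (Fin 6) F) *ᵥ Pi.single i 1 := by
    intro i
    have hmem : (g : Matrix (Fin 6) (Fin 6) F) *ᵥ Pi.single i 1 ∈ D0 F (σ i) := by
      rw [← hσ i]
      exact Submodule.mem_map.mpr ⟨Pi.single i 1, Submodule.subset_span rfl, by
        rw [Matrix.toLin'_apply]⟩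
    exact Submodule.mem_span_singleton.mp hmem
  choose c hc using h1
  have hentry : ∀ j i, (g : Matrix (Fin 6) (Fin 6) F) j i = if j = σ i then c i else 0 := by
    intro j i
    have h2 := congrFun (hc i) j
    rw [Matrix.mulVec_single_one] at h2
    rw [Matrix.col_apply] at h2
    rw [← h2]
    simp [Pi.single_apply]
  refine ⟨σ, c, fun i hci => ?_, hentry⟩
  -- column `i` vanishes: contradiction with invertibility
  have hcol : (g : Matrix (Fin 6) (Fin 6) F) *ᵥ Pi.single i 1 = 0 := by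
    rw [← hc i, hci, zero_smul]
  have h3 : ((g⁻¹ : GL (Fin 6) F) : Matrix (Fin 6) (Fin 6) F) *ᵥ
      ((g : Matrix (Fin 6) (Fin 6) F) *ᵥ Pi.single i 1) = Pi.single i 1 := by
    rw [Matrix.mulVec_mulVec, ← Units.val_mul, inv_mul_cancel, Units.val_one, Matrix.one_mulVec]
  rw [hcol, Matrix.mulVec_zero] at h3
  have h4 := congrFun h3 i
  simp at h4

theorem monomial_mulVec (g : Matrix (Fin 6) (Fin 6) F) (σ : Equiv.Perm (Fin 6)) (c : Fin 6 → F)
    (hentry : ∀ j i, g j i = if j = σ i then c i else 0) (v : Fin 6 → F) (i : Fin 6) :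
    (g *ᵥ v) (σ i) = c i * v i := by
  rw [Matrix.mulVec, dotProduct, Finset.sum_eq_single i]
  · rw [hentry, if_pos rfl]
  · intro k _ hk
    rw [hentry, if_neg (fun h => hk (σ.injective h).symm), zero_mul]
  · intro h
    exact absurd (Finset.mem_univ i) h

theorem monomial_det (h2 : (2 : F) = 0) (g : Matrix (Fin 6) (Fin 6) F) (σ : Equiv.Perm (Fin 6))
    (c : Fin 6 → F) (hentry : ∀ j i, g j i = if j = σ i then c i else 0) : g.det = ∏ i, c i := by
  have hg : g = (1 : Matrix (Fin 6) (Fin 6) F).submatrix id σ * Matrix.diagonal c := by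
    ext j i
    rw [Matrix.mul_diagonal, hentry, Matrix.submatrix_apply, Matrix.one_apply, id]
    split_ifs <;> simp
  rw [hg, Matrix.det_mul, Matrix.det_permute', Matrix.det_one, Matrix.det_diagonal, mul_one]
  have hs : ((Equiv.Perm.sign σ : ℤˣ) : F) = 1 := by
    rcases Int.units_eq_one_or (Equiv.Perm.sign σ) with h | h
    · rw [h]; simp
    · rw [h]
      have : (-1 : F) = 1 := by linear_combination -h2
      simpa using this
  rw [hs, one_mul]

/-- monomial matrices of determinant one preserve the pattern set -/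
theorem monomial_pres (h2 : (2 : F) = 0) (g : GL (Fin 6) F) (hg : g ∈ decompositionStabilizer (D0 F))
    (hdet : (g : Matrix (Fin 6) (Fin 6) F).det = 1) (v : Fin 6 → F) (hv : InR6 v) :
    InR6 ((g : Matrix (Fin 6) (Fin 6) F) *ᵥ v) := by
  obtain ⟨σ, c, hc, hentry⟩ := monomial_of_mem_stab g hg
  have hmv := monomial_mulVec (g : Matrix (Fin 6) (Fin 6) F) σ c hentry v
  have hprod : ∏ i, c i = 1 := by rw [← monomial_det h2 _ σ c hentry, hdet]
  rcases hv with ⟨i, j, hij, hi, hj, hz⟩ | ⟨hnz, hp⟩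
  · left
    refine ⟨σ i, σ j, fun h => hij (σ.injective h), ?_, ?_, ?_⟩
    · rw [hmv]; exact mul_ne_zero (hc i) hi
    · rw [hmv]; exact mul_ne_zero (hc j) hj
    · intro k hki hkj
      obtain ⟨m, rfl⟩ := σ.surjective k
      rw [hmv, hz m (fun h => hki (by rw [h])) (fun h => hkj (by rw [h])), mul_zero]
  · right
    refine ⟨fun k => ?_, ?_⟩
    · obtain ⟨m, rfl⟩ := σ.surjective k
      rw [hmv]; exact mul_ne_zero (hc m) (hnz m)
    · rw [← Equiv.prod_comp σ]
      simp only [hmv]
      rw [Finset.prod_mul_distrib, hprod, hp, one_mul]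

/-- the stabiliser of the standard frame in `SU_6(2)` lies in `L0` -/
theorem stab_le_L0 (h2 : (2 : F) = 0) : decompositionStabilizer (D0 F) ⊓ SUg 6 F 2 ≤ L0 F := by
  intro g hg
  obtain ⟨hgs, hgu⟩ := Subgroup.mem_inf.mp hg
  have hdet : ∀ a : GL (Fin 6) F, a ∈ SUg 6 F 2 → (a : Matrix (Fin 6) (Fin 6) F).det = 1 :=
    fun a ha => (Cfsg.Agent.Lib.Helper13.mem_specialLinear_iff a).mp (Subgroup.mem_inf.mp ha).2
  refine ⟨hgu, fun v => ⟨monomial_pres h2 g hgs (hdet g hgu) v, fun h => ?_⟩⟩
  have h3 := monomial_pres h2 g⁻¹ (inv_mem hgs) (hdet _ (inv_mem hgu)) _ h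
  rwa [Matrix.mulVec_mulVec, ← Units.val_mul, inv_mul_cancel, Units.val_one, Matrix.one_mulVec] at h3


/-! ### the two transvections -/

variable [Fintype F]

theorem two_eq_zero_of_card_four (hF : Fintype.card F = 4) : (2 : F) = 0 := by
  have h4 : ((4 : ℕ) : F) = 0 := by rw [← hF]; exact FiniteField.cast_card_eq_zero F
  have h5 : (2 : F) * 2 = 0 := by
    have : ((4 : ℕ) : F) = 2 * 2 := by norm_num
    rw [← this]; exact h4
  exact (mul_self_eq_zero.mp h5)

/-- the centre `(1,…,1)` -/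
def vOne (F : Type*) [Field F] : Fin 6 → F := fun _ => 1

theorem hermForm_vOne (x : Fin 6 → F) : hermForm 6 F 2 x (vOne F) = ∑ j, x j := by
  unfold hermForm vOne
  simp

theorem hermForm_vOne_self (h2 : (2 : F) = 0) : hermForm 6 F 2 (vOne F) (vOne F) = 0 := by
  rw [hermForm_vOne]
  unfold vOne
  simp only [Finset.sum_const, Finset.card_univ, Fintype.card_fin, nsmul_eq_mul, mul_one]
  have : ((6 : ℕ) : F) = 2 * 3 := by norm_num
  rw [this, h2, zero_mul]

/-- the transvection with centre `(1,…,1)` -/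
theorem exists_tOne (hF : Fintype.card F = 4) :
    ∃ t ∈ SUg 6 F 2, ∀ x : Fin 6 → F,
      (t : Matrix (Fin 6) (Fin 6) F) *ᵥ x = fun i => x i + ∑ j, x j := by
  have h2 := two_eq_zero_of_card_four hF
  have hF' : Fintype.card F = 2 ^ 2 := by rw [hF]; norm_num
  obtain ⟨t, ht, hmat⟩ := exists_tv hF' (vOne F) (hermForm_vOne_self h2) 1 (by
    rw [one_pow]; linear_combination h2)
  refine ⟨t, ht, fun x => ?_⟩
  rw [hmat, Cfsg.Agent.Lib.Helper13.unitaryTransvection_mulVec, hermForm_vOne, one_mul]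
  funext i
  simp [vOne]

/-- the centre `(1,1,1,1,0,0)` -/
def vFour (F : Type*) [Field F] : Fin 6 → F := ![1, 1, 1, 1, 0, 0]

theorem hermForm_vFour (x : Fin 6 → F) : hermForm 6 F 2 x (vFour F) = x 0 + x 1 + x 2 + x 3 := by
  unfold hermForm vFour
  rw [Fin.sum_univ_six]
  simp

theorem exists_tFour (hF : Fintype.card F = 4) :
    ∃ t ∈ SUg 6 F 2, ∀ x : Fin 6 → F,
      (t : Matrix (Fin 6) (Fin 6) F) *ᵥ x = x + (x 0 + x 1 + x 2 + x 3) • vFour F := by
  have h2 := two_eq_zero_of_card_four hF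
  have hF' : Fintype.card F = 2 ^ 2 := by rw [hF]; norm_num
  have hiso : hermForm 6 F 2 (vFour F) (vFour F) = 0 := by
    rw [hermForm_vFour]
    simp only [vFour, Matrix.cons_val_zero, Matrix.cons_val_one, Matrix.cons_val]
    linear_combination 2 * h2
  obtain ⟨t, ht, hmat⟩ := exists_tv hF' (vFour F) hiso 1 (by rw [one_pow]; linear_combination h2)
  refine ⟨t, ht, fun x => ?_⟩
  rw [hmat, Cfsg.Agent.Lib.Helper13.unitaryTransvection_mulVec, hermForm_vFour, one_mul]

/-- `L0` is strictly between the stabiliser of the standard frame and `SU_6(2)` -/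
theorem std_between (hF : Fintype.card F = 4) :
    decompositionStabilizer (D0 F) ⊓ SUg 6 F 2 < L0 F ∧ L0 F < SUg 6 F 2 := by
  have h2 := two_eq_zero_of_card_four hF
  constructor
  · refine lt_of_le_of_ne (stab_le_L0 h2) (fun heq => ?_)
    obtain ⟨t, ht, hmv⟩ := exists_tOne hF
    -- `t ∈ L0`
    have htt : ∀ x : Fin 6 → F, (t : Matrix (Fin 6) (Fin 6) F) *ᵥ
        ((t : Matrix (Fin 6) (Fin 6) F) *ᵥ x) = x := by
      intro x
      rw [hmv, hmv]
      funext i
      simp only [Finset.sum_add_distrib, Finset.sum_const, Finset.card_univ, Fintype.card_fin,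
        nsmul_eq_mul]
      have : ((6 : ℕ) : F) = 2 * 3 := by norm_num
      rw [this, h2]
      linear_combination (∑ j, x j) * h2
    have htL : t ∈ L0 F := by
      refine ⟨ht, fun v => ⟨fun hv => ?_, fun hv => ?_⟩⟩
      · rw [hmv]; exact tv_pres hF v hv
      · have := tv_pres hF _ hv
        rw [← hmv, htt] at this
        exact this
    -- `t` is not in the stabiliser of the frame
    rw [← heq] at htL
    obtain ⟨σ, c, -, hentry⟩ := monomial_of_mem_stab t (Subgroup.mem_inf.mp htL).1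
    have hcol : ∀ j, (t : Matrix (Fin 6) (Fin 6) F) j 0 = ((t : Matrix (Fin 6) (Fin 6) F) *ᵥ
        Pi.single 0 1) j := by
      intro j
      rw [Matrix.mulVec_single_one, Matrix.col_apply]
    have hval : ∀ j : Fin 6, j ≠ 0 → (t : Matrix (Fin 6) (Fin 6) F) j 0 = 1 := by
      intro j hj
      rw [hcol, hmv]
      simp [Pi.single_apply, hj]
    -- two distinct rows `j ≠ 0` with a non-zero entry in column `0`
    have h1 := hval 1 (by decide)
    have h2' := hval 2 (by decide)
    rw [hentry] at h1 h2'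
    have e1 : (1 : Fin 6) = σ 0 := by
      by_contra hne
      rw [if_neg hne] at h1
      exact zero_ne_one h1
    have e2 : (2 : Fin 6) = σ 0 := by
      by_contra hne
      rw [if_neg hne] at h2'
      exact zero_ne_one h2'
    exact absurd (e1.trans e2.symm) (by decide)
  · refine lt_of_le_of_ne L0_le (fun heq => ?_)
    obtain ⟨t, ht, hmv⟩ := exists_tFour hF
    rw [← heq] at ht
    have hx : InR6 (![1, 0, 0, 0, 1, 0] : Fin 6 → F) := by
      left
      refine ⟨0, 4, by decide, by simp, by simp, ?_⟩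
      intro k hk0 hk4
      fin_cases k <;> simp_all
    have himg := (ht.2 _).mp hx
    rw [hmv] at himg
    have hvec : (![1, 0, 0, 0, 1, 0] : Fin 6 → F) +
        ((![1, 0, 0, 0, 1, 0] : Fin 6 → F) 0 + (![1, 0, 0, 0, 1, 0] : Fin 6 → F) 1 +
          (![1, 0, 0, 0, 1, 0] : Fin 6 → F) 2 + (![1, 0, 0, 0, 1, 0] : Fin 6 → F) 3) • vFour F =
        ![0, 1, 1, 1, 1, 0] := by
      funext k
      fin_cases k <;> simp [vFour] <;> linear_combination h2
    rw [hvec] at himg
    rcases himg with ⟨i, j, -, -, -, hz⟩ | ⟨hnz, -⟩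
    · -- the coordinates 1, 2, 3 are non-zero, so each of them is `i` or `j`
      have k1 : (1 : Fin 6) = i ∨ (1 : Fin 6) = j := by
        by_contra hcon
        push Not at hcon
        have := hz 1 hcon.1 hcon.2
        simp at this
      have k2 : (2 : Fin 6) = i ∨ (2 : Fin 6) = j := by
        by_contra hcon
        push Not at hcon
        have := hz 2 hcon.1 hcon.2
        simp at this
      have k3 : (3 : Fin 6) = i ∨ (3 : Fin 6) = j := by
        by_contra hcon
        push Not at hcon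
        have := hz 3 hcon.1 hcon.2
        simp at this
      rcases k1 with k1 | k1 <;> rcases k2 with k2 | k2 <;> rcases k3 with k3 | k3 <;>
        first
        | exact absurd (k1.trans k2.symm) (by decide)
        | exact absurd (k1.trans k3.symm) (by decide)
        | exact absurd (k2.trans k3.symm) (by decide)
    · have := hnz 0
      simp at this

end Cfsg.Agent.Lib.Helper86.Dec6
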