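/-
helper86, BHRSU6-[E-SU6-DEC6], part 2: transport of the brute-force check to an arbitrary field with four elements.
-/
import Mathlib
import Cfsg.Agent.Lib.Helper86.Bhrsu6Dec6F4

set_option autoImplicit false

namespace Cfsg.Agent.Lib.Helper86.Dec6

open Cfsg.Agent.Lib.Helper86.BHRSU6
open Cfsg.Agent.Lib.Helper56 (F4)

theorem tv_pres_F4 (w : Fin 6 → F4) (hw : InR6 w) : InR6 (fun i => w i + ∑ j, w j) := by
  have h1 : w = ![w 0, w 1, w 2, w 3, w 4, w 5] := by
    funext i; fin_cases i <;> rfl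
  have h2 : (fun i => w i + ∑ j, w j) =
      ![w 0 + (w 0 + w 1 + w 2 + w 3 + w 4 + w 5), w 1 + (w 0 + w 1 + w 2 + w 3 + w 4 + w 5),
        w 2 + (w 0 + w 1 + w 2 + w 3 + w 4 + w 5), w 3 + (w 0 + w 1 + w 2 + w 3 + w 4 + w 5),
        w 4 + (w 0 + w 1 + w 2 + w 3 + w 4 + w 5), w 5 + (w 0 + w 1 + w 2 + w 3 + w 4 + w 5)] := by
    funext i
    rw [Fin.sum_univ_six]
    fin_cases i <;> rfl
  rw [h2]
  rw [h1] at hw
  exact tv_pres_F4_aux _ _ _ _ _ _ hw

/-- `InR6` is invariant under ring isomorphisms -/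
theorem inR6_map_iff {F F' : Type*} [Field F] [Field F'] (φ : F ≃+* F') (v : Fin 6 → F) :
    InR6 (fun i => φ (v i)) ↔ InR6 v := by
  unfold InR6
  have h0 : ∀ a : F, φ a ≠ 0 ↔ a ≠ 0 := fun a => by
    rw [Ne, Ne, map_eq_zero_iff φ φ.injective]
  have h0' : ∀ a : F, φ a = 0 ↔ a = 0 := fun a => map_eq_zero_iff φ φ.injective
  have hp : (∏ i, φ (v i) = 1) ↔ (∏ i, v i = 1) := by
    rw [← map_prod φ, ← map_one φ, φ.injective.eq_iff]
  simp only [h0, h0', hp]

/-- the transvection preserves `InR6` over every field with four elements -/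
theorem tv_pres {F : Type*} [Field F] [Fintype F] (hF : Fintype.card F = 4) (v : Fin 6 → F)
    (hv : InR6 v) : InR6 (fun i => v i + ∑ j, v j) := by
  have hcard : Fintype.card F = Fintype.card F4 := by rw [hF, F4.card]
  let φ : F ≃+* F4 := FiniteField.ringEquivOfCardEq hcard
  have h1 : InR6 (fun i => φ (v i)) := (inR6_map_iff φ v).mpr hv
  have h2 := tv_pres_F4 _ h1
  have h3 : (fun i => φ (v i) + ∑ j, φ (v j)) = fun i => φ (v i + ∑ j, v j) := by
    funext i
    rw [map_add, map_sum]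
  rw [h3] at h2
  exact (inR6_map_iff φ _).mp h2

end Cfsg.Agent.Lib.Helper86.Dec6
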