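import Cfsg.Agent.Lib.Helper16.NilStab
import Cfsg.Agent.Lib.Helper16.FusionCent

/-!
# The fusion system of a block on a maximal Brauer pair, as a term (helper86)

`blockFusion hM hPe : FusionSystem P` has as maps with source `Q ≤ P` the conjugations by the
elements `g` carrying the pair `(Q, e_Q) ≤ (P, e)` to a pair again below `(P, e)`.
-/

set_option autoImplicit false

namespace Cfsg.Agent.Lib.Helper86

open Cfsg Cfsg.Agent.Lib.Helper16 Cfsg.Agent.Lib.Helper77

universe u

section Chain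

variable {G : Type u} [Group G] {M : Ideal AlgInt} {p : ℕ}

theorem chain_le {a b : BrauerPairIdx G}
    (h : Relation.ReflTransGen (NormalSubpairRel p M) a b) : a.1 ≤ b.1 := by
  induction h with
  | refl => exact le_rfl
  | tail _ hbc ih => exact ih.trans hbc.2.2.1

theorem chain_pair_right {a b : BrauerPairIdx G}
    (h : Relation.ReflTransGen (NormalSubpairRel p M) a b) (ha : IsBrauerPair p M a.1 a.2) :
    IsBrauerPair p M b.1 b.2 := by
  induction h with
  | refl => exact ha
  | tail _ hbc _ => exact hbc.2.1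

theorem chain_pair_left {a b : BrauerPairIdx G}
    (h : Relation.ReflTransGen (NormalSubpairRel p M) a b) (hb : IsBrauerPair p M b.1 b.2) :
    IsBrauerPair p M a.1 a.2 := by
  induction h using Relation.ReflTransGen.head_induction_on with
  | refl => exact hb
  | head hab _ _ => exact hab.1

end Chain

section Def

variable {G : Type u} [Group G] [Fintype G] {M : Ideal AlgInt} {p : ℕ} [Fact p.Prime]

/-- The maps with source `Q` of the fusion system of a block on `(P, e)`. -/
def blockHom (p : ℕ) (M : Ideal AlgInt) (P : Subgroup G)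
    (e : Set (IrrCharacter (Subgroup.centralizer (P : Set G)))) (Q : Subgroup G) : Set (Q →* G) :=
  {φ | Q ≤ P ∧ ∃ g : G, (∀ u : Q, φ u = g * (u : G) * g⁻¹) ∧
    Q.map (MulAut.conj g).toMonoidHom ≤ P ∧
    ∃ f : Set (IrrCharacter (Subgroup.centralizer (Q : Set G))),
      SubpairLE p M Q f P e ∧
        SubpairLE p M (Q.map (MulAut.conj g).toMonoidHom) (conjBlock Q g f) P e}

/-- Elements of `P` fix the pair `(P, e)`. -/
theorem conjPair_eq_self_of_mem {P : Subgroup G}
    {e : Set (IrrCharacter (Subgroup.centralizer (P : Set G)))} {g : G} (hg : g ∈ P) :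
    conjPair g (⟨P, e⟩ : BrauerPairIdx G) = ⟨P, e⟩ := by
  have h1 : g ∈ stabSubgroup P e := le_stab (mem_stabSubgroup_iff P e) hg
  exact conjPair_eq_self_of_stabilizes h1.1 h1.2

theorem conjHom_mem_blockHom (hM : IsPModular p M) {P : Subgroup G}
    {e : Set (IrrCharacter (Subgroup.centralizer (P : Set G)))} (hPe : IsBrauerPair p M P e)
    {Q : Subgroup G} {g : G} (hQP : Q ≤ P) (hg : g ∈ P) :
    conjHom Q g ∈ blockHom p M P e Q := by
  obtain ⟨f, ⟨_, hfle⟩, _⟩ := Cfsg.Agent.S4655.result p M hM P Q e hPe hQP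
  have h1 : Relation.ReflTransGen (NormalSubpairRel p M) (conjPair g ⟨Q, f⟩)
      (conjPair g (⟨P, e⟩ : BrauerPairIdx G)) := subpairLE_conjPair hfle g
  rw [conjPair_eq_self_of_mem hg] at h1
  exact ⟨hQP, g, fun u => rfl, chain_le h1, f, hfle, h1⟩

theorem comp_mem_blockHom (hM : IsPModular p M) {P : Subgroup G}
    {e : Set (IrrCharacter (Subgroup.centralizer (P : Set G)))} (hPe : IsBrauerPair p M P e)
    {Q R : Subgroup G} {φ : Q →* G} {ψ : R →* G} (hφ : φ ∈ blockHom p M P e Q)
    (hψ : ψ ∈ blockHom p M P e R) (h : ∀ x : Q, φ x ∈ R) :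
    ψ.comp (φ.codRestrict R h) ∈ blockHom p M P e Q := by
  obtain ⟨hQP, g, hφg, _, f, hf, hfg⟩ := hφ
  obtain ⟨_, k, hψk, _, f₂, hf₂, hf₂k⟩ := hψ
  have hQgR : Q.map (MulAut.conj g).toMonoidHom ≤ R := by
    rintro _ ⟨q, hq, rfl⟩
    have := h ⟨q, hq⟩
    rw [hφg] at this
    exact this
  have h1 : SubpairLE p M (Q.map (MulAut.conj g).toMonoidHom) (conjBlock Q g f) R f₂ :=
    subpairLE_of_le_of_subpairLE hM hPe hf₂ hfg hQgR
  have h2 : Relation.ReflTransGen (NormalSubpairRel p M) (conjPair k (conjPair g ⟨Q, f⟩))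
      (conjPair k (⟨R, f₂⟩ : BrauerPairIdx G)) := subpairLE_conjPair h1 k
  have h3 : Relation.ReflTransGen (NormalSubpairRel p M) (conjPair k (conjPair g ⟨Q, f⟩))
      (⟨P, e⟩ : BrauerPairIdx G) := h2.trans hf₂k
  rw [conjPair_conjPair] at h3
  refine ⟨hQP, k * g, fun u => ?_, chain_le h3, f, hf, h3⟩
  rw [MonoidHom.comp_apply, hψk]
  show k * (φ u) * k⁻¹ = _
  rw [hφg]
  group

omit [Fintype G] [Fact p.Prime] in
theorem inv_aux {P : Subgroup G}
    {e : Set (IrrCharacter (Subgroup.centralizer (P : Set G)))}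
    {Q : Subgroup G} {g : G} (hQgP : Q.map (MulAut.conj g).toMonoidHom ≤ P)
    {f : Set (IrrCharacter (Subgroup.centralizer (Q : Set G)))} (hf : SubpairLE p M Q f P e)
    (hfg : SubpairLE p M (Q.map (MulAut.conj g).toMonoidHom) (conjBlock Q g f) P e)
    (R : Subgroup G) (hR : R = Q.map (MulAut.conj g).toMonoidHom) :
    conjHom R g⁻¹ ∈ blockHom p M P e R := by
  subst hR
  have h1 : Relation.ReflTransGen (NormalSubpairRel p M) (conjPair g⁻¹ (conjPair g ⟨Q, f⟩))
      (⟨P, e⟩ : BrauerPairIdx G) := by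
    rw [conjPair_inv_conjPair]
    exact hf
  exact ⟨hQgP, g⁻¹, fun u => rfl, chain_le h1, conjBlock Q g f, hfg, h1⟩

/-- The fusion system of a block on the Brauer pair `(P, e)`. -/
def blockFusion (hM : IsPModular p M) {P : Subgroup G}
    {e : Set (IrrCharacter (Subgroup.centralizer (P : Set G)))} (hPe : IsBrauerPair p M P e) :
    FusionSystem P where
  Hom := blockHom p M P e
  le_of_mem := by
    rintro Q φ ⟨hQP, g, hφg, hQg, _⟩
    refine ⟨hQP, fun x => ?_⟩
    rw [hφg]
    exact hQg ⟨(x : G), x.2, rfl⟩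
  injective_of_mem := by
    rintro Q φ ⟨_, g, hφg, _⟩ x y hxy
    rw [hφg, hφg] at hxy
    exact Subtype.ext (mul_left_cancel (mul_right_cancel hxy))
  conj_mem := fun hQP hg => conjHom_mem_blockHom hM hPe hQP hg
  comp_mem := fun hφ hψ h => comp_mem_blockHom hM hPe hφ hψ h
  inv_mem := by
    rintro Q φ ⟨hQP, g, hφg, hQg, f, hf, hfg⟩
    refine ⟨conjHom φ.range g⁻¹, inv_aux hQg hf hfg φ.range (range_eq_map_conj hφg), ?_⟩
    intro x
    show g⁻¹ * φ x * g⁻¹⁻¹ = (x : G)
    rw [hφg]
    group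

theorem isBlockFusionSystemOn_blockFusion (hM : IsPModular p M) {B : Set (IrrCharacter G)}
    {P : Subgroup G} {e : Set (IrrCharacter (Subgroup.centralizer (P : Set G)))}
    (hmax : IsMaximalBrauerPair p M B P e) :
    IsBlockFusionSystemOn p M B P e (blockFusion hM hmax.1.1) :=
  ⟨hmax, fun _ _ => Iff.rfl⟩

end Def

end Cfsg.Agent.Lib.Helper86
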