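import Cfsg.Agent.Lib.Helper86.BlockFusionSat

/-!
# Receptivity in the fusion system of a block (helper86)
-/

set_option autoImplicit false

namespace Cfsg.Agent.Lib.Helper86

open Cfsg Cfsg.Agent.Lib.Helper16 Cfsg.Agent.Lib.Helper77 Cfsg.FusionSystem

universe u

variable {G : Type u} [Group G] [Fintype G] {M : Ideal AlgInt} {p : ℕ} [Fact p.Prime]

set_option maxHeartbeats 1600000 in
/-- **Receptive.** If `N_P(Q)` is a defect group of the block of `N_G(Q, f)` with the idempotent of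
`f`, then `Q` is receptive in the fusion system of the block. -/
theorem isReceptive_of_isDefectGroup (hM : IsPModular p M) {B : Set (IrrCharacter G)}
    {P : Subgroup G} {e : Set (IrrCharacter (Subgroup.centralizer (P : Set G)))}
    (hmax : IsMaximalBrauerPair p M B P e) (F : FusionSystem P)
    (hF : IsBlockFusionSystemOn p M B P e F) {Q : Subgroup G} (hQP : Q ≤ P)
    {f : Set (IrrCharacter (Subgroup.centralizer (Q : Set G)))} (hf : IsPBlock M f)
    (hle : SubpairLE p M Q f P e)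
    {F' : Set (IrrCharacter ↥(stabSubgroup Q f))} (hF' : IsPBlock M F')
    (hF'f : ∀ t : ↥(stabSubgroup Q f), blockCoeff F' t =
      subgroupBlockCoeff (Subgroup.centralizer (Q : Set G)) f (t : G))
    (hD : IsDefectGroup p M F'
      ((P ⊓ Subgroup.normalizer (Q : Set G)).subgroupOf (stabSubgroup Q f))) :
    F.IsReceptive Q := by
  classical
  have hPe : IsBrauerPair p M P e := hmax.1.1
  have hQf : IsBrauerPair p M Q f := chain_pair_left hle hPe
  have hT := mem_stabSubgroup_iff Q f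
  have hTN : stabSubgroup Q f ≤ Subgroup.normalizer (Q : Set G) := stab_le_normalizer hT
  have hCT : Subgroup.centralizer (Q : Set G) ≤ stabSubgroup Q f := centralizer_le_stab hT
  obtain ⟨N, hNdef⟩ : ∃ N : Subgroup G, N = P ⊓ Subgroup.normalizer (Q : Set G) := ⟨_, rfl⟩
  have hNP : N ≤ P := hNdef ▸ inf_le_left
  have hNnorm : N ≤ Subgroup.normalizer (Q : Set G) := hNdef ▸ inf_le_right
  have hNT : N ≤ stabSubgroup Q f := hNdef ▸ normalizerIn_le_stab hM hT hPe hle
  have hQN : Q ≤ N := hNdef ▸ le_inf hQP Subgroup.le_normalizer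
  -- the pair on `N`
  obtain ⟨eN, ⟨_, heN⟩, _⟩ := Cfsg.Agent.S4655.result p M hM P N e hPe hNP
  have hNe : IsBrauerPair p M N eN := chain_pair_left heN hPe
  have hQNle : SubpairLE p M Q f N eN := subpairLE_of_le_of_subpairLE hM hPe heN hle hQN
  have hNn : IsNormalSubpair p M Q f N eN := isNormalSubpair_of_subpairLE hM hNe hQNle hNnorm
  -- the subgroup `L = N C_G(Q)`
  obtain ⟨L, hLdef⟩ : ∃ L : Subgroup G, L = N ⊔ Subgroup.centralizer (Q : Set G) := ⟨_, rfl⟩
  have hNL : N ≤ L := hLdef ▸ le_sup_left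
  have hCL : Subgroup.centralizer (Q : Set G) ≤ L := hLdef ▸ le_sup_right
  have hQL : Q ≤ L := hQN.trans hNL
  have hLT : L ≤ stabSubgroup Q f := hLdef ▸ sup_le hNT hCT
  have hLN : L ≤ Subgroup.normalizer (Q : Set G) := hLT.trans hTN
  have hstabL : ∀ x ∈ L, StabilizesBlock (Subgroup.centralizer (Q : Set G)) f x :=
    fun x hx => ((hT x).mp (hLT hx)).2
  have : Fintype ↥L := Fintype.ofFinite _
  have : Fintype ↥(stabSubgroup Q f) := Fintype.ofFinite _
  obtain ⟨FL, hFL, hFLf, _⟩ := exists_block_of_stable' hM Q L hQf.1 hQL hLN hCL f hf hstabL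
  have hCN : Subgroup.centralizer (N : Set G) ≤ L := (Subgroup.centralizer_le hQN).trans hCL
  have hpairL : IsBrauerPairOf p M FL (N.subgroupOf L)
      (pullBlock (centEquivIn L N hNL hCN) eN) :=
    isBrauerPairOf_subgroupOf_of_isNormalSubpair hCL hFL hFLf hNL hNn
  -- maximality in `L`
  have hmaxL : IsMaximalBrauerPair p M FL (N.subgroupOf L)
      (pullBlock (centEquivIn L N hNL hCN) eN) := by
    refine ⟨hpairL, ?_⟩
    intro R' g' _ hchain
    obtain ⟨b, hb, hCb, _, hbeq, hab⟩ := subpairLE_of_restrictPair hQL hCL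
      (a := (⟨N, eN⟩ : BrauerPairIdx G)) hNL hCN hQN hchain
    have hbpair : IsBrauerPair p M b.1 b.2 := chain_pair_right hab hNe
    have hQb : Relation.ReflTransGen (NormalSubpairRel p M) (⟨Q, f⟩ : BrauerPairIdx G) b :=
      Relation.ReflTransGen.trans hQNle hab
    have hbn : IsNormalSubpair p M Q f b.1 b.2 :=
      isNormalSubpair_of_subpairLE hM hbpair hQb (hb.trans hLN)
    have hcard := card_le_card_of_isNormalSubpair hM hT hF' hF'f hD hbn
    have hcardN : Nat.card ((P ⊓ Subgroup.normalizer (Q : Set G)).subgroupOf (stabSubgroup Q f)) =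
        Nat.card N := by
      rw [← hNdef]
      exact Nat.card_congr (Subgroup.subgroupOfEquivOfLe hNT).toEquiv
    have hNb : N ≤ b.1 := chain_le hab
    have hbN : N = b.1 := Subgroup.eq_of_le_of_card_ge hNb (by rw [← hcardN]; exact hcard)
    have h1 : b.1.subgroupOf L = R' := congrArg Sigma.fst hbeq
    rw [← h1, ← hbN]
  -- receptivity
  refine ⟨hQP, fun R φ hφ hr => ?_⟩
  obtain ⟨hRP, g, hφg, hRgP, fR, hfR, hfRg⟩ := (hF.2 R φ).mp hφ
  have hRg : R.map (MulAut.conj g).toMonoidHom = Q := by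
    rw [← hr]
    exact (range_eq_map_conj hφg).symm
  have hfRg' : Relation.ReflTransGen (NormalSubpairRel p M) (conjPair g ⟨R, fR⟩)
      (⟨P, e⟩ : BrauerPairIdx G) := hfRg
  have hpairEq : conjPair g (⟨R, fR⟩ : BrauerPairIdx G) = ⟨Q, f⟩ :=
    subpair_unique hM (c := (⟨P, e⟩ : BrauerPairIdx G)) hPe hfRg' hle hRg
  obtain ⟨K, hKdef⟩ : ∃ K : Subgroup G, K = extender P R φ := ⟨_, rfl⟩
  have hKmem : ∀ y : G, y ∈ K ↔ y ∈ P ∧ y ∈ Subgroup.normalizer (R : Set G) ∧
      ∃ h ∈ P, ∀ (x : R) (hx : y * (x : G) * y⁻¹ ∈ R), φ ⟨y * x * y⁻¹, hx⟩ = h * φ x * h⁻¹ := by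
    intro y
    rw [hKdef]
    exact Cfsg.Agent.Lib.Helper85.mem_extender_iff P R φ y
  have hKP : K ≤ P := fun y hy => ((hKmem y).mp hy).1
  have hKN : K ≤ Subgroup.normalizer (R : Set G) := fun y hy => ((hKmem y).mp hy).2.1
  have hRK : R ≤ K := by
    intro r hr'
    rw [hKmem]
    refine ⟨hRP hr', Subgroup.le_normalizer hr', φ ⟨r, hr'⟩, (F.le_of_mem hφ).2 _, fun x hx => ?_⟩
    have h1 : (⟨r * (x : G) * r⁻¹, hx⟩ : R) = ⟨r, hr'⟩ * x * (⟨r, hr'⟩ : R)⁻¹ := rfl
    rw [h1, map_mul, map_mul, map_inv]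
  obtain ⟨fK, ⟨_, hfK⟩, _⟩ := Cfsg.Agent.S4655.result p M hM P K e hPe hKP
  have h1 : SubpairLE p M R fR K fK := subpairLE_of_le_of_subpairLE hM hPe hfK hfR hRK
  have h2 : Relation.ReflTransGen (NormalSubpairRel p M) (conjPair g ⟨R, fR⟩)
      (conjPair g (⟨K, fK⟩ : BrauerPairIdx G)) := subpairLE_conjPair h1 g
  rw [hpairEq] at h2
  have hKgpair : IsBrauerPair p M (K.map (MulAut.conj g).toMonoidHom) (conjBlock K g fK) :=
    chain_pair_right h2 hQf
  have hKgN : K.map (MulAut.conj g).toMonoidHom ≤ Subgroup.normalizer (Q : Set G) := by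
    have h3 := map_conj_le_normalizer_map_conj hKN g
    rwa [hRg] at h3
  have hKn : IsNormalSubpair p M Q f (K.map (MulAut.conj g).toMonoidHom) (conjBlock K g fK) :=
    isNormalSubpair_of_subpairLE hM hKgpair h2 hKgN
  -- `K^g ≤ L`
  have hKgL : K.map (MulAut.conj g).toMonoidHom ≤ L := by
    rintro _ ⟨y, hy, rfl⟩
    obtain ⟨_, hyN, h, hh, hyh⟩ := (hKmem y).mp hy
    show g * y * g⁻¹ ∈ L
    have hcC : h⁻¹ * (g * y * g⁻¹) ∈ Subgroup.centralizer (Q : Set G) := by
      rw [Subgroup.mem_centralizer_iff]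
      intro w hw
      rw [← hRg] at hw
      obtain ⟨x, hx, rfl⟩ := hw
      have hyx : y * x * y⁻¹ ∈ R := (Subgroup.mem_normalizer_iff.mp hyN x).mp hx
      have h3 := hyh ⟨x, hx⟩ hyx
      rw [hφg, hφg] at h3
      have h4 : (g * y * g⁻¹) * (g * x * g⁻¹) * (g * y * g⁻¹)⁻¹ = h * (g * x * g⁻¹) * h⁻¹ := by
        rw [← h3]
        group
      show (g * x * g⁻¹) * (h⁻¹ * (g * y * g⁻¹)) = h⁻¹ * (g * y * g⁻¹) * (g * x * g⁻¹)
      calc (g * x * g⁻¹) * (h⁻¹ * (g * y * g⁻¹))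
          = h⁻¹ * (h * (g * x * g⁻¹) * h⁻¹) * (g * y * g⁻¹) := by group
        _ = h⁻¹ * ((g * y * g⁻¹) * (g * x * g⁻¹) * (g * y * g⁻¹)⁻¹) * (g * y * g⁻¹) := by rw [h4]
        _ = h⁻¹ * (g * y * g⁻¹) * (g * x * g⁻¹) := by group
    have hgyN : g * y * g⁻¹ ∈ Subgroup.normalizer (Q : Set G) := hKgN ⟨y, hy, rfl⟩
    have hhN : h ∈ N := by
      rw [hNdef]
      refine ⟨hh, ?_⟩
      have e1 : h = (g * y * g⁻¹) * (h⁻¹ * (g * y * g⁻¹))⁻¹ := by group
      rw [e1]
      exact Subgroup.mul_mem _ hgyN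
        (Subgroup.inv_mem _ (Subgroup.centralizer_le_normalizer _ hcC))
    have e2 : g * y * g⁻¹ = h * (h⁻¹ * (g * y * g⁻¹)) := by group
    rw [e2, hLdef]
    exact Subgroup.mul_mem_sup hhN hcC
  have hCKg : Subgroup.centralizer ((K.map (MulAut.conj g).toMonoidHom : Subgroup G) : Set G) ≤ L :=
    (Subgroup.centralizer_le hKn.2.2.1).trans hCL
  have hpairLK : IsBrauerPairOf p M FL ((K.map (MulAut.conj g).toMonoidHom).subgroupOf L)
      (pullBlock (centEquivIn L (K.map (MulAut.conj g).toMonoidHom) hKgL hCKg)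
        (conjBlock K g fK)) :=
    isBrauerPairOf_subgroupOf_of_isNormalSubpair hCL hFL hFLf hKgL hKn
  obtain ⟨t, ht⟩ := Cfsg.Agent.S4660.result p M hM FL _ _ _ _ hmaxL hpairLK
  have ha' : (K.map (MulAut.conj g).toMonoidHom).map (MulAut.conj (t : G)).toMonoidHom ≤ L :=
    map_conj_le_of_mem hKgL t.2
  have hC' : Subgroup.centralizer (((K.map (MulAut.conj g).toMonoidHom).map
      (MulAut.conj (t : G)).toMonoidHom : Subgroup G) : Set G) ≤ L :=
    centralizer_map_conj_le hCKg t.2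
  have ht' : Relation.ReflTransGen (NormalSubpairRel p M)
      (conjPair t (restrictPair L
        ⟨K.map (MulAut.conj g).toMonoidHom, conjBlock K g fK⟩ hKgL hCKg))
      (restrictPair L ⟨N, eN⟩ hNL hCN) := ht
  rw [← restrictPair_conjPair _ _ _ hKgL hCKg t ha' hC'] at ht'
  have hQa : Q ≤ (K.map (MulAut.conj g).toMonoidHom).map (MulAut.conj (t : G)).toMonoidHom := by
    have h3 : Q.map (MulAut.conj (t : G)).toMonoidHom ≤
        (K.map (MulAut.conj g).toMonoidHom).map (MulAut.conj (t : G)).toMonoidHom :=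
      Subgroup.map_mono hKn.2.2.1
    rwa [map_conj_eq_of_mem_normalizer Q (hLN t.2)] at h3
  obtain ⟨b, hb, hCb, _, hbeq, hchainG⟩ := subpairLE_of_restrictPair hQL hCL
    (a := (⟨(K.map (MulAut.conj g).toMonoidHom).map (MulAut.conj (t : G)).toMonoidHom,
      conjBlock (K.map (MulAut.conj g).toMonoidHom) (t : G) (conjBlock K g fK)⟩ :
      BrauerPairIdx G)) ha' hC' hQa ht'
  have hbN : b = ⟨N, eN⟩ := restrictPair_injective hb hCb hNL hCN hbeq
  rw [hbN] at hchainG
  have hchainG' : Relation.ReflTransGen (NormalSubpairRel p M)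
      (conjPair (t : G) (conjPair g (⟨K, fK⟩ : BrauerPairIdx G))) ⟨N, eN⟩ := hchainG
  -- decompose `t = n c`
  have hnorm : N ≤ Subgroup.normalizer ((Subgroup.centralizer (Q : Set G) : Subgroup G) : Set G) :=
    hNnorm.trans (normalizer_le_normalizer_centralizer' Q)
  have htL : (t : G) ∈ N ⊔ Subgroup.centralizer (Q : Set G) := hLdef ▸ t.2
  obtain ⟨n, hn, c, hc, htnc⟩ := Cfsg.Agent.Lib.Helper85.mem_sup_of_le_normalizer hnorm htL
  have h5 : Relation.ReflTransGen (NormalSubpairRel p M)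
      (conjPair n⁻¹ (conjPair (t : G) (conjPair g (⟨K, fK⟩ : BrauerPairIdx G))))
      (conjPair n⁻¹ (⟨N, eN⟩ : BrauerPairIdx G)) := subpairLE_conjPair hchainG' n⁻¹
  rw [conjPair_eq_self_of_mem (N.inv_mem hn), conjPair_conjPair, conjPair_conjPair] at h5
  have e3 : n⁻¹ * (t : G) * g = c * g := by
    rw [htnc]
    group
  rw [e3] at h5
  have h6 : Relation.ReflTransGen (NormalSubpairRel p M)
      (conjPair (c * g) (⟨K, fK⟩ : BrauerPairIdx G)) ⟨P, e⟩ := Relation.ReflTransGen.trans h5 heN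
  have hψ : conjHom K (c * g) ∈ F.Hom K :=
    (hF.2 K _).mpr ⟨hKP, c * g, fun u => rfl, chain_le h6, fK, hfK, h6⟩
  subst hKdef
  refine ⟨conjHom (extender P R φ) (c * g), hψ, ?_⟩
  intro x hxR hxK
  show c * g * x * (c * g)⁻¹ = φ ⟨x, hxR⟩
  rw [hφg]
  have hw : g * x * g⁻¹ ∈ Q := by
    rw [← hRg]
    exact ⟨x, hxR, rfl⟩
  have h7 := Subgroup.mem_centralizer_iff.mp hc _ hw
  calc c * g * x * (c * g)⁻¹ = c * (g * x * g⁻¹) * c⁻¹ := by group
    _ = (g * x * g⁻¹) * c * c⁻¹ := by rw [h7]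
    _ = g * x * g⁻¹ := by group

/-- **The fusion system of a block on a maximal Brauer pair is saturated.** -/
theorem isSaturated_of_isBlockFusionSystemOn (hM : IsPModular p M) {B : Set (IrrCharacter G)}
    {P : Subgroup G} {e : Set (IrrCharacter (Subgroup.centralizer (P : Set G)))}
    (hmax : IsMaximalBrauerPair p M B P e) (F : FusionSystem P)
    (hF : IsBlockFusionSystemOn p M B P e F) : F.IsSaturated p := by
  have hPe : IsBrauerPair p M P e := hmax.1.1
  apply Cfsg.Agent.Lib.Helper85.isSaturated_of_fullyAutomized_top_of_receptive hPe.1 F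
  · have hfn : F.IsFullyNormalized P := Cfsg.Agent.Lib.Helper85.isFullyNormalized_top F
    obtain ⟨F', hF', hF'f, hD⟩ := (Cfsg.Agent.S4679.result p M hM B P e hmax F hF P e le_rfl hPe.2
      Relation.ReflTransGen.refl (stabSubgroup P e) (mem_stabSubgroup_iff P e)).mp hfn
    exact isFullyAutomized_of_isDefectGroup hM hmax F hF le_rfl hPe.2
      Relation.ReflTransGen.refl hF' hF'f hD
  · intro Q hQ
    obtain ⟨f, ⟨hf, hle⟩, _⟩ := Cfsg.Agent.S4655.result p M hM P Q e hPe hQ.1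
    obtain ⟨F', hF', hF'f, hD⟩ := (Cfsg.Agent.S4679.result p M hM B P e hmax F hF Q f hQ.1 hf hle
      (stabSubgroup Q f) (mem_stabSubgroup_iff Q f)).mp hQ
    exact isReceptive_of_isDefectGroup hM hmax F hF hQ.1 hf hle hF' hF'f hD

end Cfsg.Agent.Lib.Helper86
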