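import Cfsg.Agent.Lib.Helper86.BlockFusionDef
import Cfsg.Agent.Lib.Helper85.FusionRS
import Cfsg.Agent.Lib.Helper85.FusionGroupSat
import Cfsg.Agent.S4679
import Cfsg.Agent.S4660

/-!
# The fusion system of a block on a maximal Brauer pair is saturated (helper86)

Roberts–Shpectorov criterion (`Helper85.isSaturated_of_fullyAutomized_top_of_receptive`):
* `P` is fully automized: `Aut_F(P) = N_G(P, e) / C_G(P)` and `p ∤ |N_G(P, e) : P C_G(P)|`
  (Fong, `Helper16.not_dvd_index_defectGroup_sup`);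
* a fully normalized `Q` is receptive: `N_P(Q)` is a defect group of the block of `N_G(Q, e_Q)`
  (S4679), hence `(N_P(Q), e_N)` restricts to a maximal pair of the block of
  `L = N_P(Q) C_G(Q)`, and one conjugates inside `L` (S4660 in `L`).
-/

set_option autoImplicit false

namespace Cfsg.Agent.Lib.Helper86

open Cfsg Cfsg.Agent.Lib.Helper16 Cfsg.Agent.Lib.Helper77 Cfsg.FusionSystem

universe u

variable {G : Type u} [Group G] [Fintype G] {M : Ideal AlgInt} {p : ℕ} [Fact p.Prime]

/-- Below a Brauer pair there is at most one pair on each subgroup. -/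
theorem block_unique (hM : IsPModular p M) {P Q : Subgroup G}
    {e : Set (IrrCharacter (Subgroup.centralizer (P : Set G)))} (hPe : IsBrauerPair p M P e)
    {f f' : Set (IrrCharacter (Subgroup.centralizer (Q : Set G)))}
    (h : SubpairLE p M Q f P e) (h' : SubpairLE p M Q f' P e) : f = f' := by
  have hQP : Q ≤ P := chain_le h
  obtain ⟨f₀, _, huniq⟩ := Cfsg.Agent.S4655.result p M hM P Q e hPe hQP
  have h1 := huniq f ⟨(chain_pair_left h hPe).2, h⟩
  have h2 := huniq f' ⟨(chain_pair_left h' hPe).2, h'⟩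
  rw [h1, h2]

/-- **Fully automized.** If `N_P(Q)` is a defect group of the block of `N_G(Q, f)` with the
idempotent of `f`, then `Aut_P(Q)` is a Sylow `p`-subgroup of `Aut_F(Q)`. -/
theorem isFullyAutomized_of_isDefectGroup (hM : IsPModular p M) {B : Set (IrrCharacter G)}
    {P : Subgroup G} {e : Set (IrrCharacter (Subgroup.centralizer (P : Set G)))}
    (hmax : IsMaximalBrauerPair p M B P e) (F : FusionSystem P)
    (hF : IsBlockFusionSystemOn p M B P e F) {Q : Subgroup G} (hQP : Q ≤ P)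
    {f : Set (IrrCharacter (Subgroup.centralizer (Q : Set G)))} (hf : IsPBlock M f)
    (hle : SubpairLE p M Q f P e)
    {F' : Set (IrrCharacter ↥(stabSubgroup Q f))} (hF' : IsPBlock M F')
    (hF'f : ∀ t : ↥(stabSubgroup Q f), blockCoeff F' t =
      subgroupBlockCoeff (Subgroup.centralizer (Q : Set G)) f (t : G))
    (hD : IsDefectGroup p M F'
      ((P ⊓ Subgroup.normalizer (Q : Set G)).subgroupOf (stabSubgroup Q f))) :
    F.IsFullyAutomized p Q := by
  classical
  have hPe : IsBrauerPair p M P e := hmax.1.1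
  have hQf : IsBrauerPair p M Q f := chain_pair_left hle hPe
  have hT := mem_stabSubgroup_iff Q f
  have hTN : stabSubgroup Q f ≤ Subgroup.normalizer (Q : Set G) := stab_le_normalizer hT
  have hQT : Q ≤ stabSubgroup Q f := le_stab hT
  have hCT : Subgroup.centralizer (Q : Set G) ≤ stabSubgroup Q f := centralizer_le_stab hT
  have hNT : P ⊓ Subgroup.normalizer (Q : Set G) ≤ stabSubgroup Q f :=
    normalizerIn_le_stab hM hT hPe hle
  let Θ : ↥(stabSubgroup Q f) →* MulAut Q :=
    (Q.normalizerMonoidHom).comp (Subgroup.inclusion hTN)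
  have hΘ : ∀ (t : ↥(stabSubgroup Q f)) (x : Q), ((Θ t x : Q) : G) = (t : G) * x * (t : G)⁻¹ :=
    fun t x => rfl
  have hΘmem : ∀ t : ↥(stabSubgroup Q f), Θ t ∈ F.autGroup Q := by
    intro t
    rw [Cfsg.Agent.Lib.Helper85.mem_autGroup_iff F hQP]
    have hself : conjPair (t : G) (⟨Q, f⟩ : BrauerPairIdx G) = ⟨Q, f⟩ :=
      conjPair_eq_self_of_stabilizes (hTN t.2) ((hT t).mp t.2).2
    rw [hF.2]
    refine ⟨hQP, (t : G), fun u => rfl, ?_, f, hle, ?_⟩
    · rw [map_conj_eq_of_mem_normalizer Q (hTN t.2)]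
      exact hQP
    · show Relation.ReflTransGen (NormalSubpairRel p M) (conjPair (t : G) ⟨Q, f⟩) ⟨P, e⟩
      rw [hself]
      exact hle
  let Θ' : ↥(stabSubgroup Q f) →* ↥(F.autGroup Q) := Θ.codRestrict _ hΘmem
  have hΘ' : ∀ t : ↥(stabSubgroup Q f), ((Θ' t : ↥(F.autGroup Q)) : MulAut Q) = Θ t := fun t => rfl
  have hsurj : Function.Surjective Θ' := by
    rintro ⟨α, hα⟩
    have hα' := (Cfsg.Agent.Lib.Helper85.mem_autGroup_iff F hQP α).mp hα
    obtain ⟨_, g, hαg, _, f₀, hf₀, hf₀g⟩ := (hF.2 Q _).mp hα'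
    have hαg' : ∀ x : Q, ((α x : Q) : G) = g * (x : G) * g⁻¹ := fun x => hαg x
    have hgN : g ∈ Subgroup.normalizer (Q : Set G) :=
      Cfsg.Agent.Lib.Helper85.mem_normalizer_of_induces hαg'
    have hf₀f : f₀ = f := block_unique hM hPe hf₀ hle
    subst hf₀f
    have hg1 : Relation.ReflTransGen (NormalSubpairRel p M) (conjPair g ⟨Q, f₀⟩)
        (⟨P, e⟩ : BrauerPairIdx G) := hf₀g
    have hfix : conjPair g (⟨Q, f₀⟩ : BrauerPairIdx G) = ⟨Q, f₀⟩ :=
      subpair_unique hM (c := (⟨P, e⟩ : BrauerPairIdx G)) hPe hg1 hle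
        (map_conj_eq_of_mem_normalizer Q hgN)
    have hgT : g ∈ stabSubgroup Q f₀ := stabilizes_of_conjPair_eq_self hfix
    refine ⟨⟨g, hgT⟩, ?_⟩
    apply Subtype.ext
    apply MulEquiv.ext
    intro x
    apply Subtype.ext
    rw [hαg' x]
    rfl
  have hker : Θ'.ker = (Subgroup.centralizer (Q : Set G)).subgroupOf (stabSubgroup Q f) := by
    ext t
    rw [MonoidHom.mem_ker, Subgroup.mem_subgroupOf, Subgroup.mem_centralizer_iff]
    constructor
    · intro h x hx
      have h1 : Θ t = 1 := by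
        have := congrArg Subtype.val h
        exact this
      have h2 := hΘ t ⟨x, hx⟩
      rw [h1] at h2
      have h3 : x = (t : G) * x * (t : G)⁻¹ := h2
      calc x * (t : G) = ((t : G) * x * (t : G)⁻¹) * (t : G) := by rw [← h3]
        _ = (t : G) * x := by group
    · intro h
      apply Subtype.ext
      apply MulEquiv.ext
      intro x
      apply Subtype.ext
      show (t : G) * x * (t : G)⁻¹ = x
      rw [← h x x.2]
      group
  have hA : (autInducedBy P Q).subgroupOf (F.autGroup Q) =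
      ((P ⊓ Subgroup.normalizer (Q : Set G)).subgroupOf (stabSubgroup Q f)).map Θ' := by
    ext ⟨α, hα⟩
    rw [Subgroup.mem_subgroupOf, Cfsg.Agent.Lib.Helper85.mem_autInducedBy_iff]
    constructor
    · rintro ⟨g, hgP, hg⟩
      have hgN : g ∈ Subgroup.normalizer (Q : Set G) :=
        Cfsg.Agent.Lib.Helper85.mem_normalizer_of_induces hg
      refine ⟨⟨g, hNT ⟨hgP, hgN⟩⟩, Subgroup.mem_subgroupOf.mpr ⟨hgP, hgN⟩, ?_⟩
      apply Subtype.ext
      apply MulEquiv.ext
      intro x
      apply Subtype.ext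
      show g * x * g⁻¹ = ((α x : Q) : G)
      rw [hg x]
    · rintro ⟨t, ht, htα⟩
      refine ⟨(t : G), (Subgroup.mem_subgroupOf.mp ht).1, fun x => ?_⟩
      have h1 : Θ t = α := by
        have := congrArg Subtype.val htα
        exact this
      show ((α x : Q) : G) = (t : G) * x * (t : G)⁻¹
      rw [← h1]
      rfl
  have hidx : ¬ p ∣ ((autInducedBy P Q).subgroupOf (F.autGroup Q)).index := by
    rw [hA, Subgroup.index_map, hker, MonoidHom.range_eq_top.mpr hsurj, Subgroup.index_top,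
      mul_one]
    exact not_dvd_index_defectGroup_sup hM Q (stabSubgroup Q f) hQf.1 hQT hTN hCT f hf
      (stab_stabilizes hT) hF' hF'f hD
  have hpg : IsPGroup p ((autInducedBy P Q).subgroupOf (F.autGroup Q)) := by
    rw [hA]
    exact IsPGroup.map ((hPe.1.to_le inf_le_left).comap_subtype) Θ'
  exact ⟨hQP, hpg.toSylow hidx, IsPGroup.toSylow_coe hpg hidx⟩

end Cfsg.Agent.Lib.Helper86
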