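import Mathlib
import Cfsg.Agent.Lib.Helper64.CH4Defs

/-!
# Project CH4 (helper64, S4167), module [LEMMA-L], part a: odd-order elements centralize normal 2-subgroups
-/

set_option autoImplicit false

namespace Cfsg.Agent.Lib.Helper86.CH4

open Cfsg.Agent.Lib.Helper64.CH4

/-- Under `Hyp4` and `AbSyl`, an element of odd order centralizes every normal `2`-subgroup. -/
theorem odd_centralizes_normal_two {K : Type*} [Group K] [Finite K] (h : Hyp4 K) (hab : AbSyl K)
    (M₀ : Subgroup K) [M₀.Normal] (hM₀ : IsPGroup 2 M₀) (y : K) (hy : Odd (orderOf y))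
    (m : K) (hm : m ∈ M₀) : y * m * y⁻¹ = m := by
  have hp2 : Fact (Nat.Prime 2) := ⟨Nat.prime_two⟩
  set C := Subgroup.centralizer ({y} : Set K) with hC
  have hCcomm : ∀ x ∈ C, y * x * y⁻¹ = x := by
    intro x hx
    rw [hC, Subgroup.mem_centralizer_iff] at hx
    rw [hx y rfl, mul_inv_cancel_right]
  obtain ⟨R⟩ : Nonempty (Sylow 2 C) := inferInstance
  set R' : Subgroup K := (R : Subgroup C).map C.subtype with hR'
  have hR'C : R' ≤ C := by
    rintro x ⟨c, -, rfl⟩
    exact c.2
  have hR'p : IsPGroup 2 R' := R.isPGroup'.map _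
  obtain ⟨S, hRS⟩ := hR'p.exists_le_sylow
  have hMS : M₀ ≤ S := hM₀.le_sylow_of_normal S
  have hcomm : ∀ a ∈ S, ∀ b ∈ S, a * b = b * a := hab S
  -- cardinalities
  have hcardS : Nat.card S = 2 ^ (Nat.card K).factorization 2 := S.card_eq_multiplicity
  have hcardR : Nat.card R' = 2 ^ (Nat.card C).factorization 2 := by
    rw [hR', Subgroup.card_map_of_injective (Subgroup.subtype_injective C)]
    exact R.card_eq_multiplicity
  have hidx0 : C.index ≠ 0 := Subgroup.index_ne_zero_of_finite
  have hfac : (Nat.card K).factorization 2 ≤ (Nat.card C).factorization 2 + 1 := by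
    have h1 := Subgroup.card_mul_index C
    have h4 := h y
    rw [← h1, Nat.factorization_mul Nat.card_pos.ne' hidx0, Finsupp.add_apply]
    have : (C.index).factorization 2 ≤ 1 := by
      by_contra hcon
      rw [not_le] at hcon
      apply h4
      have := (Nat.Prime.pow_dvd_iff_le_factorization Nat.prime_two hidx0 (k := 2)).2 hcon
      norm_num at this
      exact this
    omega
  -- the subgroup `T = R' ∩ S` of `S`
  set T : Subgroup S := R'.subgroupOf S with hT
  have hcardT : Nat.card T = Nat.card R' :=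
    Nat.card_congr (Subgroup.subgroupOfEquivOfLe hRS).toEquiv
  have hTidx : T.index ∣ 2 := by
    have h1 := Subgroup.card_mul_index T
    rw [hcardT, hcardR, hcardS] at h1
    have h2 : 2 ^ (Nat.card C).factorization 2 * T.index ∣ 2 ^ (Nat.card C).factorization 2 * 2 := by
      rw [h1, ← pow_succ]
      exact pow_dvd_pow 2 hfac
    exact Nat.dvd_of_mul_dvd_mul_left (by positivity) h2
  have hmS : m ∈ (S : Subgroup K) := hMS hm
  have hm' : y * m * y⁻¹ ∈ M₀ := ‹M₀.Normal›.conj_mem m hm y
  have hm'S : y * m * y⁻¹ ∈ (S : Subgroup K) := hMS hm'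
  rcases (Nat.dvd_prime Nat.prime_two).1 hTidx with h1 | h2
  · -- `R' = S`
    rw [Subgroup.index_eq_one] at h1
    have : (⟨m, hmS⟩ : S) ∈ T := by rw [h1]; exact Subgroup.mem_top _
    exact hCcomm m (hR'C (Subgroup.mem_subgroupOf.1 this))
  · -- index two
    by_cases hmR : m ∈ R'
    · exact hCcomm m (hR'C hmR)
    · have hm'R : y * m * y⁻¹ ∉ R' := by
        intro hcon
        have h3 := hCcomm _ (hR'C hcon)
        have h4 : y * m * y⁻¹ = m := by
          have := congrArg (fun z => y⁻¹ * z * y) h3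
          beta_reduce at this
          rw [show y⁻¹ * (y * (y * m * y⁻¹) * y⁻¹) * y = y * m * y⁻¹ by group,
            show y⁻¹ * (y * m * y⁻¹) * y = m by group] at this
          exact this
        exact hmR (h4 ▸ hcon)
      obtain ⟨a, ha⟩ : ∃ a : K, a = y * m * y⁻¹ * m⁻¹ := ⟨_, rfl⟩
      have haR : a ∈ R' := by
        have h3 := (Subgroup.mul_mem_iff_of_index_two h2 (a := (⟨y * m * y⁻¹, hm'S⟩ : S))
          (b := (⟨m, hmS⟩ : S)⁻¹)).2
          ⟨fun hc => absurd (Subgroup.mem_subgroupOf.1 hc) hm'R,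
            fun hc => absurd (Subgroup.mem_subgroupOf.1 (inv_mem_iff.1 hc)) hmR⟩
        rw [ha]
        exact Subgroup.mem_subgroupOf.1 h3
      have hay : y * a * y⁻¹ = a := hCcomm a (hR'C haR)
      have hsq : m ^ 2 ∈ R' := by
        have h3 := Subgroup.sq_mem_of_index_two h2 (⟨m, hmS⟩ : S)
        exact Subgroup.mem_subgroupOf.1 h3
      have hsq' : (y * m * y⁻¹) ^ 2 = m ^ 2 := by
        have h3 := hCcomm _ (hR'C hsq)
        rw [← h3, conj_pow]
      have hm'eq : y * m * y⁻¹ = a * m := by rw [ha, inv_mul_cancel_right]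
      have ha2 : a ^ 2 = 1 := by
        have h5 : (a * m) ^ 2 = a ^ 2 * m ^ 2 := by
          have hc : a * m = m * a := by
            apply hcomm a (hRS haR) m hmS
          rw [pow_two, pow_two, pow_two, mul_assoc, ← mul_assoc m a m, ← hc]
          group
        rw [hm'eq, h5] at hsq'
        exact mul_eq_right.1 hsq'
      have hpow : ∀ j : ℕ, y ^ j * m * (y ^ j)⁻¹ = a ^ j * m := by
        intro j
        induction j with
        | zero => simp
        | succ j ih =>
          have e : y ^ (j + 1) * m * (y ^ (j + 1))⁻¹ = y * (y ^ j * m * (y ^ j)⁻¹) * y⁻¹ := by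
            rw [pow_succ']
            group
          rw [e, ih]
          have e2 : y * (a ^ j * m) * y⁻¹ = (y * a * y⁻¹) ^ j * (y * m * y⁻¹) := by
            rw [conj_pow]
            group
          rw [e2, hay, hm'eq, pow_succ, mul_assoc]
      have h6 := hpow (orderOf y)
      rw [pow_orderOf_eq_one, one_mul, inv_one, mul_one] at h6
      have h7 : a ^ orderOf y = 1 := by
        have := h6.symm
        exact mul_eq_right.1 this
      obtain ⟨t, ht⟩ := hy
      rw [ht, pow_succ, pow_mul, ha2, one_pow, one_mul] at h7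
      rw [hm'eq, h7, one_mul]

end Cfsg.Agent.Lib.Helper86.CH4
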