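import Mathlib
import Cfsg.Agent.Lib.Helper64.CH4Defs
import Cfsg.Agent.Lib.Helper86.CH4LemmaLa
import Cfsg.Agent.Lib.Helper87.CH4InhQ

/-!
# Project CH4 (helper64, S4167), module [LEMMA-L], part b: the normal 2-complement
-/

set_option autoImplicit false

namespace Cfsg.Agent.Lib.Helper86.CH4

open Cfsg.Agent.Lib.Helper64.CH4

/-- `AbSyl` passes to quotients (own copy of [ABS-Q]). -/
theorem abSyl_quotient' {G : Type*} [Group G] [Finite G] (hab : AbSyl G) (N : Subgroup G) [N.Normal] :
    AbSyl (G ⧸ N) := by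
  have hp2 : Fact (Nat.Prime 2) := ⟨Nat.prime_two⟩
  intro P a ha b hb
  obtain ⟨Q, rfl⟩ := Sylow.mapSurjective_surjective (QuotientGroup.mk'_surjective N) 2 P
  have ha1 : a ∈ (Q : Subgroup G).map (QuotientGroup.mk' N) := ha
  have hb1 : b ∈ (Q : Subgroup G).map (QuotientGroup.mk' N) := hb
  obtain ⟨a', ha', rfl⟩ := ha1
  obtain ⟨b', hb', rfl⟩ := hb1
  rw [← map_mul, ← map_mul, hab Q a' ha' b' hb']

/-- a nontrivial solvable group has a nontrivial normal abelian subgroup -/
theorem exists_normal_abelian {K : Type*} [Group K] (hs : Group.IsSolvable K) [Nontrivial K] :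
    ∃ A : Subgroup K, A.Normal ∧ A ≠ ⊥ ∧ ∀ a ∈ A, ∀ b ∈ A, a * b = b * a := by
  classical
  have hex : ∃ n, derivedSeries K n = ⊥ := hs.solvable
  have h0 : Nat.find hex ≠ 0 := by
    intro h0
    have := Nat.find_spec hex
    rw [h0, derivedSeries_zero] at this
    exact top_ne_bot this
  obtain ⟨k, hk⟩ : ∃ k, Nat.find hex = k + 1 := ⟨Nat.find hex - 1, by omega⟩
  refine ⟨derivedSeries K k, derivedSeries_normal K k, ?_, ?_⟩
  · exact Nat.find_min hex (by omega)
  · have h1 := Nat.find_spec hex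
    rw [hk, derivedSeries_succ, Subgroup.commutator_eq_bot_iff_le_centralizer] at h1
    intro a ha b hb
    have := h1 ha
    rw [Subgroup.mem_centralizer_iff] at this
    exact (this b hb).symm

/-- the elements of an abelian normal subgroup killed by `m` -/
def killed {K : Type*} [Group K] (A : Subgroup K) (hA : ∀ a ∈ A, ∀ b ∈ A, a * b = b * a) (m : ℕ) :
    Subgroup K where
  carrier := {a | a ∈ A ∧ a ^ m = 1}
  mul_mem' := by
    rintro a b ⟨ha, ha'⟩ ⟨hb, hb'⟩
    refine ⟨mul_mem ha hb, ?_⟩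
    have : Commute a b := hA a ha b hb
    rw [this.mul_pow, ha', hb', one_mul]
  one_mem' := ⟨one_mem A, one_pow m⟩
  inv_mem' := by
    rintro a ⟨ha, ha'⟩
    exact ⟨inv_mem ha, by rw [inv_pow, ha', inv_one]⟩

theorem killed_normal {K : Type*} [Group K] (A : Subgroup K) [hAn : A.Normal]
    (hA : ∀ a ∈ A, ∀ b ∈ A, a * b = b * a) (m : ℕ) : (killed A hA m).Normal := by
  constructor
  rintro a ⟨ha, ha'⟩ g
  exact ⟨hAn.conj_mem a ha g, by rw [conj_pow, ha', mul_one, mul_inv_cancel]⟩

/-- a finite group whose elements are killed by an odd number has odd order -/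
theorem odd_card_of_forall_pow {M : Type*} [Group M] [Finite M] (m : ℕ) (hm : Odd m)
    (h : ∀ x : M, x ^ m = 1) : Odd (Nat.card M) := by
  rw [← Nat.not_even_iff_odd, even_iff_two_dvd]
  intro h2
  have hp2 : Fact (Nat.Prime 2) := ⟨Nat.prime_two⟩
  obtain ⟨x, hx⟩ := exists_prime_orderOf_dvd_card' 2 h2
  have h3 : orderOf x ∣ m := orderOf_dvd_of_pow_eq_one (h x)
  rw [hx] at h3
  obtain ⟨t, ht⟩ := hm
  omega

/-- an element killed by two coprime numbers is trivial -/
theorem eq_one_of_pow_coprime {M : Type*} [Group M] (x : M) (a b : ℕ) (hab : Nat.Coprime a b)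
    (ha : x ^ a = 1) (hb : x ^ b = 1) : x = 1 := by
  have h1 : orderOf x ∣ Nat.gcd a b :=
    Nat.dvd_gcd (orderOf_dvd_of_pow_eq_one ha) (orderOf_dvd_of_pow_eq_one hb)
  rw [hab.gcd_eq_one, Nat.dvd_one] at h1
  exact orderOf_eq_one_iff.1 h1

theorem card_comap_mk' {K : Type*} [Group K] [Finite K] (M₀ : Subgroup K) [M₀.Normal]
    (Mb : Subgroup (K ⧸ M₀)) :
    Nat.card (Mb.comap (QuotientGroup.mk' M₀)) = Nat.card Mb * Nat.card M₀ := by
  have h1 := Subgroup.card_mul_index (Mb.comap (QuotientGroup.mk' M₀))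
  have h2 := Subgroup.card_mul_index M₀
  have h3 := Subgroup.card_mul_index Mb
  rw [Subgroup.index_comap_of_surjective Mb (QuotientGroup.mk'_surjective M₀)] at h1
  rw [Subgroup.index_eq_card, ← h3] at h2
  have hpos : 0 < Mb.index := Nat.pos_of_ne_zero Subgroup.index_ne_zero_of_finite
  apply Nat.eq_of_mul_eq_mul_right hpos
  rw [h1, ← h2]
  ring

universe u

theorem exists_normal_two_complement_aux (n : ℕ) :
    ∀ (K : Type u) [Group K] [Finite K], Nat.card K = n → Group.IsSolvable K → Hyp4 K → AbSyl K →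
      ∃ M : Subgroup K, M.Normal ∧ Odd (Nat.card M) ∧ ∃ k : ℕ, M.index = 2 ^ k := by
  induction n using Nat.strong_induction_on with
  | _ n ih =>
  intro K _ _ hn hs h hab
  have hp2 : Fact (Nat.Prime 2) := ⟨Nat.prime_two⟩
  by_cases hsub : Subsingleton K
  · refine ⟨⊤, inferInstance, ?_, 0, ?_⟩
    · rw [Subgroup.card_top, Nat.card_of_subsingleton (1 : K)]
      exact odd_one
    · simp
  rw [not_subsingleton_iff_nontrivial] at hsub
  obtain ⟨A, hAn, hAne, hAc⟩ := exists_normal_abelian hs
  obtain ⟨e, m, hm, hcardA⟩ := Nat.exists_eq_two_pow_mul_odd (Nat.card_pos (α := A)).ne'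
  have hM₁n : (killed A hAc m).Normal := killed_normal A hAc m
  -- the quotient step
  have hquot : ∀ (M₀ : Subgroup K) [M₀.Normal], M₀ ≠ ⊥ →
      ∃ Mb : Subgroup (K ⧸ M₀), Mb.Normal ∧ Odd (Nat.card Mb) ∧ ∃ k : ℕ, Mb.index = 2 ^ k := by
    intro M₀ _ hne
    apply ih (Nat.card (K ⧸ M₀)) _ (K ⧸ M₀) rfl inferInstance
      (Cfsg.Agent.Lib.Helper87.CH4.hyp4_quotient h M₀) (abSyl_quotient' hab M₀)
    rw [← hn, ← Subgroup.index_eq_card, ← Subgroup.card_mul_index M₀]
    have h1 : 1 < Nat.card M₀ := (Subgroup.one_lt_card_iff_ne_bot _).2 hne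
    have hpos : 0 < M₀.index := Nat.pos_of_ne_zero Subgroup.index_ne_zero_of_finite
    nlinarith
  by_cases hM₁ : killed A hAc m = ⊥
  · -- `A` is a `2`-group
    have hA2 : IsPGroup 2 A := by
      rintro ⟨a, ha⟩
      refine ⟨e, ?_⟩
      have h1 : a ^ 2 ^ e ∈ killed A hAc m := by
        refine ⟨pow_mem ha _, ?_⟩
        rw [← pow_mul, ← hcardA]
        have := pow_card_eq_one' (G := A) (x := ⟨a, ha⟩)
        exact congrArg Subtype.val this
      rw [hM₁, Subgroup.mem_bot] at h1
      exact Subtype.ext h1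
    obtain ⟨j, hj⟩ := hA2.exists_card_eq
    obtain ⟨Mb, hMbn, hMbodd, k, hk⟩ := hquot A hAne
    set L : Subgroup K := Mb.comap (QuotientGroup.mk' A) with hL
    have hLn : L.Normal := inferInstance
    have hAL : A ≤ L := by
      intro a ha
      show QuotientGroup.mk' A a ∈ Mb
      have : QuotientGroup.mk' A a = 1 := (QuotientGroup.eq_one_iff a).2 ha
      rw [this]
      exact one_mem _
    have hcardL : Nat.card L = Nat.card Mb * Nat.card A := card_comap_mk' A Mb
    have hidxL : L.index = 2 ^ k := by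
      rw [hL, Subgroup.index_comap_of_surjective Mb (QuotientGroup.mk'_surjective A), hk]
    -- Schur–Zassenhaus in `L`
    set N : Subgroup L := A.subgroupOf L with hN
    have hNn : N.Normal := inferInstance
    have hcardN : Nat.card N = Nat.card A :=
      Nat.card_congr (Subgroup.subgroupOfEquivOfLe hAL).toEquiv
    have hApos : 0 < Nat.card A := Nat.card_pos
    have hidxN : N.index = Nat.card Mb := by
      have h1 := Subgroup.card_mul_index N
      rw [hcardN, hcardL, mul_comm] at h1
      exact Nat.eq_of_mul_eq_mul_right hApos h1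
    have hcop : Nat.Coprime (Nat.card N) N.index := by
      rw [hcardN, hidxN, hj]
      exact Nat.Coprime.pow_left _ (Nat.coprime_two_left.2 hMbodd)
    obtain ⟨H', hH'⟩ := Subgroup.exists_right_complement'_of_coprime hcop
    have hcardH' : Nat.card H' = Nat.card Mb := by
      have h1 := hH'.card_mul_card
      rw [hcardN, hcardL, mul_comm] at h1
      exact Nat.eq_of_mul_eq_mul_right hApos h1
    set H : Subgroup K := H'.map L.subtype with hH
    have hcardH : Nat.card H = Nat.card Mb := by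
      rw [hH, Subgroup.card_map_of_injective (Subgroup.subtype_injective L), hcardH']
    have hpowH' : ∀ x : L, x ∈ H' → (x : K) ^ Nat.card Mb = 1 := by
      intro x hx
      have h1 := pow_card_eq_one' (G := H') (x := ⟨x, hx⟩)
      rw [hcardH'] at h1
      have h2 := congrArg (fun z : H' => ((z : L) : K)) h1
      exact h2
    have hchar : ∀ x : K, x ∈ H ↔ x ∈ L ∧ x ^ Nat.card Mb = 1 := by
      intro x
      constructor
      · rintro ⟨x', hx', rfl⟩
        exact ⟨x'.2, hpowH' x' hx'⟩
      · rintro ⟨hxL, hx⟩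
        obtain ⟨⟨⟨a, ha⟩, ⟨x', hx'⟩⟩, hax, -⟩ := hH'.existsUnique (⟨x, hxL⟩ : L)
        have hx_eq : x = (a : K) * (x' : K) := by
          have := congrArg Subtype.val hax
          exact this.symm
        have haA : (a : K) ∈ A := Subgroup.mem_subgroupOf.1 ha
        have hodd : Odd (orderOf (x' : K)) :=
          Odd.of_dvd_nat hMbodd (orderOf_dvd_of_pow_eq_one (hpowH' x' hx'))
        have hc := odd_centralizes_normal_two h hab A hA2 (x' : K) hodd (a : K) haA
        have hcomm : Commute (a : K) (x' : K) := by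
          show (a : K) * (x' : K) = (x' : K) * (a : K)
          calc (a : K) * (x' : K) = ((x' : K) * (a : K) * (x' : K)⁻¹) * (x' : K) := by rw [hc]
            _ = (x' : K) * (a : K) := by group
        rw [hx_eq, hcomm.mul_pow, hpowH' x' hx', mul_one] at hx
        have ha2 : (a : K) ^ 2 ^ j = 1 := by
          have h1 := pow_card_eq_one' (G := A) (x := ⟨(a : K), haA⟩)
          rw [hj] at h1
          exact congrArg Subtype.val h1
        have ha1 : (a : K) = 1 :=
          eq_one_of_pow_coprime _ (Nat.card Mb) (2 ^ j)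
            (Nat.Coprime.pow_right _ (Nat.coprime_two_right.2 hMbodd)) hx ha2
        rw [hx_eq, ha1, one_mul]
        exact ⟨x', hx', rfl⟩
    have hHn : H.Normal := by
      constructor
      intro x hx g
      rw [hchar] at hx ⊢
      exact ⟨hLn.conj_mem x hx.1 g, by rw [conj_pow, hx.2, mul_one, mul_inv_cancel]⟩
    refine ⟨H, hHn, by rw [hcardH]; exact hMbodd, j + k, ?_⟩
    have h1 := Subgroup.card_mul_index H
    have h2 := Subgroup.card_mul_index L
    rw [hcardH] at h1
    rw [hcardL, hidxL, hj] at h2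
    have hpos : 0 < Nat.card Mb := Nat.card_pos
    apply Nat.eq_of_mul_eq_mul_left hpos
    rw [h1, ← h2]
    ring
  · -- the odd case
    have hoddM₁ : Odd (Nat.card (killed A hAc m)) := by
      apply odd_card_of_forall_pow m hm
      rintro ⟨x, -, hx⟩
      exact Subtype.ext hx
    obtain ⟨Mb, hMbn, hMbodd, k, hk⟩ := hquot (killed A hAc m) hM₁
    refine ⟨Mb.comap (QuotientGroup.mk' (killed A hAc m)), inferInstance, ?_, k, ?_⟩
    · rw [card_comap_mk']
      exact hMbodd.mul hoddM₁
    · rw [Subgroup.index_comap_of_surjective Mb (QuotientGroup.mk'_surjective _), hk]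

/-- [LEMMA-L] -/
theorem exists_normal_two_complement {K : Type*} [Group K] [Finite K] (hs : Group.IsSolvable K)
    (h : Hyp4 K) (hab : AbSyl K) :
    ∃ M : Subgroup K, M.Normal ∧ Odd (Nat.card M) ∧ ∃ k : ℕ, M.index = 2 ^ k :=
  exists_normal_two_complement_aux (Nat.card K) K rfl hs h hab

end Cfsg.Agent.Lib.Helper86.CH4
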