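/-
helper86: a finite nonabelian `p`-group `G` whose centre has index at most `p²`: the centre has index exactly `p²` and
all commutators lie in a central subgroup `W` of order `p`.
All declarations live in `Cfsg.Agent.Lib.Helper86`.
-/
import Cfsg.Agent.Lib.Helper86.P4Two

set_option autoImplicit false

namespace Cfsg.Agent.Lib.Helper86

open scoped commutatorElement

theorem commutator_mul_left_of_central {G : Type*} [Group G] (hc : ∀ u v : G, ⁅u, v⁆ ∈ Subgroup.center G)
    (u v w : G) : ⁅u * v, w⁆ = ⁅u, w⁆ * ⁅v, w⁆ := by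
  have h1 := Subgroup.mem_center_iff.mp (hc v w) u
  calc ⁅u * v, w⁆ = u * ⁅v, w⁆ * w * u⁻¹ * w⁻¹ := by simp only [commutatorElement_def]; group
    _ = ⁅v, w⁆ * u * w * u⁻¹ * w⁻¹ := by rw [← h1]
    _ = ⁅v, w⁆ * ⁅u, w⁆ := by simp only [commutatorElement_def]; group
    _ = ⁅u, w⁆ * ⁅v, w⁆ := (Subgroup.mem_center_iff.mp (hc v w) _).symm

theorem center_index_sq_structure {G : Type*} [Group G] [Finite G] {p : ℕ} [hp : Fact p.Prime] (hG : IsPGroup p G)
    (hZ : (Subgroup.center G).index ≤ p ^ 2) (hnab : ∃ x y : G, x * y ≠ y * x) :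
    (Subgroup.center G).index = p ^ 2 ∧ ∃ W : Subgroup G, Nat.card W = p ∧ W ≤ Subgroup.center G ∧
      ∀ x y : G, ⁅x, y⁆ ∈ W := by
  classical
  have hpp := hp.out
  obtain ⟨x₀, y₀, hxy⟩ := hnab
  set Z := Subgroup.center G with hZdef
  -- the index of the centre
  have hidx : Z.index = p ^ 2 := by
    obtain ⟨n, hn⟩ := IsPGroup.iff_card.mp hG
    have hdvd : Z.index ∣ p ^ n := hn ▸ Subgroup.index_dvd_card Z
    obtain ⟨k, -, hk⟩ := (Nat.dvd_prime_pow hpp).mp hdvd
    have hk2 : k ≤ 2 := by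
      rw [hk] at hZ
      exact (Nat.pow_le_pow_iff_right hpp.one_lt).mp hZ
    interval_cases k
    · exfalso
      rw [pow_zero, Subgroup.index_eq_one] at hk
      apply hxy
      have : x₀ ∈ Z := hk ▸ Subgroup.mem_top x₀
      exact (Subgroup.mem_center_iff.mp this y₀).symm
    · exfalso
      rw [pow_one] at hk
      have hcard : Nat.card (G ⧸ Z) = p := by rw [← Subgroup.index_eq_card, hk]
      have hcyc : IsCyclic (G ⧸ Z) := isCyclic_of_prime_card hcard
      exact hxy ((MonoidHom.isMulCommutative_of_isCyclic_of_ker_le_center (QuotientGroup.mk' Z)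
        (by rw [QuotientGroup.ker_mk'])).is_comm.comm x₀ y₀)
    · exact hk
  refine ⟨hidx, ?_⟩
  -- class two
  have hcl2 : ∀ u v : G, ⁅u, v⁆ ∈ Z := by
    have hcard : Nat.card (G ⧸ Z) = p ^ 2 := by rw [← Subgroup.index_eq_card, hidx]
    have hcomm := (IsPGroup.isMulCommutative_of_card_eq_prime_sq hcard).is_comm.comm
    intro u v
    have h1 : (QuotientGroup.mk' Z) ⁅u, v⁆ = 1 := by
      rw [map_commutatorElement]
      exact commutatorElement_eq_one_iff_mul_comm.mpr (hcomm _ _)
    exact (QuotientGroup.eq_one_iff _).mp h1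
  have hR := commutator_mul_left_of_central hcl2
  -- the abelian subgroup `A₀ = Z⟨x₀⟩`
  set A₀ : Subgroup G := Z ⊔ Subgroup.zpowers x₀ with hA₀
  have hx₀Z : x₀ ∉ Z := fun h => hxy (Subgroup.mem_center_iff.mp h y₀).symm
  have hA₀dec : ∀ a ∈ A₀, ∃ z ∈ Z, ∃ v ∈ Subgroup.zpowers x₀, a = z * v := by
    intro a ha
    have h1 : a ∈ ((Z ⊔ Subgroup.zpowers x₀ : Subgroup G) : Set G) := ha
    rw [Subgroup.normal_mul] at h1
    obtain ⟨z, hz, v, hv, rfl⟩ := Set.mem_mul.mp h1
    exact ⟨z, hz, v, hv, rfl⟩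
  have hA₀x : ∀ a ∈ A₀, x₀ * a = a * x₀ := by
    intro a ha
    obtain ⟨z, hz, v, hv, rfl⟩ := hA₀dec a ha
    obtain ⟨k, rfl⟩ := Subgroup.mem_zpowers_iff.mp hv
    have h1 := Subgroup.mem_center_iff.mp hz x₀
    have h2 : x₀ * x₀ ^ k = x₀ ^ k * x₀ := ((Commute.refl x₀).zpow_right k).eq
    rw [← mul_assoc, h1, mul_assoc, h2, mul_assoc]
  have hA₀ab : ∀ a ∈ A₀, ∀ b ∈ A₀, a * b = b * a := by
    intro a ha b hb
    obtain ⟨z, hz, v, hv, rfl⟩ := hA₀dec a ha
    obtain ⟨k, rfl⟩ := Subgroup.mem_zpowers_iff.mp hv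
    have h1 := Subgroup.mem_center_iff.mp hz
    have h2 : x₀ ^ k * b = b * x₀ ^ k := ((show Commute x₀ b from hA₀x b hb).zpow_left k).eq
    rw [mul_assoc, h2, ← mul_assoc, ← h1 b, mul_assoc]
  have hA₀idx : A₀.index = p := by
    have h1 := Subgroup.relIndex_mul_index (le_sup_left : Z ≤ A₀)
    rw [hidx] at h1
    have h2 : Z.relIndex A₀ ≠ 1 := by
      rw [Ne, Subgroup.relIndex_eq_one]
      intro h
      exact hx₀Z (h (Subgroup.mem_sup_right (Subgroup.mem_zpowers x₀)))
    have h3 : A₀.index ≠ 1 := by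
      rw [Ne, Subgroup.index_eq_one]
      intro h
      apply hxy
      exact hA₀ab x₀ (h ▸ Subgroup.mem_top _) y₀ (h ▸ Subgroup.mem_top _)
    exact ((Nat.Prime.mul_eq_prime_sq_iff hpp h2 h3).mp h1).2
  have hy₀A : y₀ ∉ A₀ := fun h => hxy (hA₀x y₀ h)
  have htop : A₀ ⊔ Subgroup.zpowers y₀ = ⊤ :=
    eq_top_of_index_prime A₀ _ le_sup_left hA₀idx y₀ (Subgroup.mem_sup_right (Subgroup.mem_zpowers y₀)) hy₀A
  -- `W`
  set φ := commHom x₀ (hcl2 x₀) with hφ
  have hker : φ.ker = A₀ := by
    have hle : A₀ ≤ φ.ker := by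
      intro a ha
      rw [mem_commHom_ker]
      exact hA₀x a ha
    by_contra hne
    obtain ⟨b, hbK, hbA⟩ : ∃ b ∈ φ.ker, b ∉ A₀ := by
      by_contra hcon
      push Not at hcon
      exact hne (le_antisymm hcon hle)
    have h1 := eq_top_of_index_prime A₀ φ.ker hle hA₀idx b hbK hbA
    have h2 : y₀ ∈ φ.ker := h1 ▸ Subgroup.mem_top y₀
    rw [mem_commHom_ker] at h2
    exact hxy h2
  refine ⟨φ.range, ?_, ?_, ?_⟩
  · rw [← Subgroup.index_ker, hker, hA₀idx]
  · rintro _ ⟨u, rfl⟩
    exact hcl2 x₀ u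
  · -- all commutators lie in `W`
    set W := φ.range with hW
    have hyA : ∀ a ∈ A₀, ⁅y₀, a⁆ ∈ W := by
      have hle : A₀ ≤ W.comap (commHom y₀ (hcl2 y₀)) := by
        rw [hA₀]
        apply sup_le
        · intro z hz
          rw [Subgroup.mem_comap, commHom_apply]
          have : ⁅y₀, z⁆ = 1 := commutatorElement_eq_one_iff_mul_comm.mpr (Subgroup.mem_center_iff.mp hz y₀)
          rw [this]
          exact W.one_mem
        · rw [Subgroup.zpowers_le, Subgroup.mem_comap, commHom_apply, ← commutatorElement_inv]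
          exact W.inv_mem ⟨y₀, rfl⟩
      intro a ha
      exact hle ha
    have hyall : ∀ h : G, ⁅y₀, h⁆ ∈ W := by
      have hle : A₀ ⊔ Subgroup.zpowers y₀ ≤ W.comap (commHom y₀ (hcl2 y₀)) := by
        apply sup_le
        · intro a ha
          exact hyA a ha
        · rw [Subgroup.zpowers_le, Subgroup.mem_comap, commHom_apply, commutatorElement_self]
          exact W.one_mem
      intro h
      exact hle (htop ▸ Subgroup.mem_top h)
    have haall : ∀ a ∈ A₀, ∀ h : G, ⁅a, h⁆ ∈ W := by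
      intro a ha
      have hle : A₀ ⊔ Subgroup.zpowers y₀ ≤ W.comap (commHom a (hcl2 a)) := by
        apply sup_le
        · intro b hb
          rw [Subgroup.mem_comap, commHom_apply,
            commutatorElement_eq_one_iff_mul_comm.mpr (hA₀ab a ha b hb)]
          exact W.one_mem
        · rw [Subgroup.zpowers_le, Subgroup.mem_comap, commHom_apply, ← commutatorElement_inv]
          exact W.inv_mem (hyA a ha)
      intro h
      exact hle (htop ▸ Subgroup.mem_top h)
    let T : Subgroup G :=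
      { carrier := {g | ∀ h : G, ⁅g, h⁆ ∈ W}
        one_mem' := fun h => by
          show ⁅(1 : G), h⁆ ∈ W
          rw [commutatorElement_one_left]
          exact W.one_mem
        mul_mem' := by
          intro a b ha hb h
          show ⁅a * b, h⁆ ∈ W
          rw [hR]
          exact W.mul_mem (ha h) (hb h)
        inv_mem' := by
          intro a ha h
          show ⁅a⁻¹, h⁆ ∈ W
          have h1 : ⁅a⁻¹, h⁆ * ⁅a, h⁆ = 1 := by
            rw [← hR, inv_mul_cancel, commutatorElement_one_left]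
          rw [eq_inv_of_mul_eq_one_left h1]
          exact W.inv_mem (ha h) }
    have hT : A₀ ⊔ Subgroup.zpowers y₀ ≤ T := by
      apply sup_le
      · intro a ha
        exact haall a ha
      · rw [Subgroup.zpowers_le]
        exact hyall
    intro x y
    exact hT (htop ▸ Subgroup.mem_top x) y

end Cfsg.Agent.Lib.Helper86
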