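/-
helper86: small general lemmas on saturated fusion systems:
* `pElement_fix_center`: a `p`-element of `Aut_F(S)` is inner, hence fixes `Z(S)` pointwise;
* `exists_aut_extension`: an automorphism in `Aut_F(E)` of a receptive subgroup whose extender is all of `S` extends to
  an element of `Aut_F(S)`;
* `complement_le_of_inverting`: two elements of `Aut_F(S)` inverting a central subgroup `W` and fixing complements
  `C₁`, `C₂` pointwise force `C₂ ≤ C₁` (for odd `p`).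
All declarations live in `Cfsg.Agent.Lib.Helper86`.
-/
import Cfsg.Agent.Lib.Helper85.FusionRS
import Cfsg.Agent.Lib.Helper88.FusionEssential

set_option autoImplicit false

namespace Cfsg.Agent.Lib.Helper86

open Cfsg Cfsg.FusionSystem

variable {Ω : Type*} [Group Ω] {S : Subgroup Ω}

/-- A `p`-element of `Aut_F(S)` fixes the centre of `S` pointwise. -/
theorem pElement_fix_center [Finite S] {p : ℕ} [Fact p.Prime] (hS : IsPGroup p S)
    (F : FusionSystem S) (hF : F.IsSaturated p) (δ : MulAut S) (hδ : δ ∈ F.autGroup S) (a : ℕ)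
    (hδp : δ ^ (p ^ a) = 1) (z : S) (hz : ∀ s : S, z * s = s * z) : δ z = z := by
  classical
  have hfinA : Finite (MulAut S) := Finite.of_injective (fun α : MulAut S => (α : S → S)) DFunLike.coe_injective
  obtain ⟨-, R, hR⟩ :=
    (Helper87.fullyAutomized_receptive_of_fullyNormalized F hS hF (Helper85.isFullyNormalized_top F)).1
  have hP : IsPGroup p (Subgroup.zpowers (⟨δ, hδ⟩ : F.autGroup S)) := by
    rintro ⟨φ, hφ⟩
    obtain ⟨j, rfl⟩ := Subgroup.mem_zpowers_iff.mp hφ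
    refine ⟨a, Subtype.ext ?_⟩
    show ((⟨δ, hδ⟩ : F.autGroup S) ^ j) ^ (p ^ a) = 1
    rw [← zpow_natCast, ← zpow_mul, mul_comm, zpow_mul, zpow_natCast]
    have : (⟨δ, hδ⟩ : F.autGroup S) ^ (p ^ a) = 1 := Subtype.ext (by simpa using hδp)
    rw [this, one_zpow]
  obtain ⟨c, hc⟩ := Helper87.exists_conj_mem_sylow R hP
  have h1 := hc _ (Subgroup.mem_zpowers _)
  have h2 : c * ⟨δ, hδ⟩ * c⁻¹ ∈ (autInducedBy S S).subgroupOf (F.autGroup S) := by
    rw [← hR]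
    exact h1
  rw [Subgroup.mem_subgroupOf] at h2
  obtain ⟨g, hg, hgc⟩ := Helper87.mem_autInducedBy_iff.1 h2
  -- `c z` is central
  have hcz : ∀ s : S, (c : MulAut S) z * s = s * (c : MulAut S) z := by
    intro s
    have h3 := hz ((c : MulAut S)⁻¹ s)
    have h4 := congrArg (fun y => (c : MulAut S) y) h3
    simpa using h4
  have h5 := hgc ((c : MulAut S) z)
  have h6 : (g : Ω) * (((c : MulAut S) z : S) : Ω) * g⁻¹ = (((c : MulAut S) z : S) : Ω) := by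
    have := congrArg (fun y : S => (y : Ω)) (hcz ⟨g, hg⟩)
    simp only [Subgroup.coe_mul] at this
    rw [← this, mul_inv_cancel_right]
  rw [h6] at h5
  have h7 : ((c * ⟨δ, hδ⟩ * c⁻¹ : F.autGroup S) : MulAut S) ((c : MulAut S) z) = (c : MulAut S) z :=
    Subtype.ext h5
  have h8 : ((c * ⟨δ, hδ⟩ * c⁻¹ : F.autGroup S) : MulAut S) ((c : MulAut S) z) = (c : MulAut S) (δ z) := by
    simp [MulAut.mul_apply]
  rw [h8] at h7
  exact (c : MulAut S).injective h7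

/-- An automorphism in `Aut_F(E)` of a receptive subgroup `E` whose extender is all of `S` extends to `S`. -/
theorem exists_aut_extension [Finite S] (F : FusionSystem S) {E : Subgroup Ω} (hES : E ≤ S)
    (hrec : F.IsReceptive E) (T : MulAut E) (hT : T ∈ F.autGroup E)
    (hext : ∀ g ∈ S, g ∈ Subgroup.normalizer (E : Set Ω) ∧ ∃ h ∈ S, ∀ (x : E) (hx : g * (x : Ω) * g⁻¹ ∈ E),
      ((T ⟨g * x * g⁻¹, hx⟩ : E) : Ω) = h * (T x : E) * h⁻¹) :
    ∃ T' : MulAut S, T' ∈ F.autGroup S ∧ ∀ x : E, ((T' ⟨x, hES x.2⟩ : S) : Ω) = (T x : E) := by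
  set φ₀ : E →* Ω := E.subtype.comp T.toMonoidHom with hφ₀
  have hφ₀F : φ₀ ∈ F.Hom E := (Helper87.mem_autGroup_iff F hES).1 hT
  have hφ₀r : φ₀.range = E := Helper87.range_subtype_comp (T : E ≃* E)
  obtain ⟨ψ, hψ, hψφ⟩ := hrec.2 E φ₀ hφ₀F hφ₀r
  have hNS : extender S E φ₀ = S := by
    apply le_antisymm
    · exact (Helper87.extender_le S E φ₀).trans (Helper87.normalizerIn_le S E)
    · intro g hg
      rw [Helper85.mem_extender_iff]
      obtain ⟨hgN, h, hh, hgh⟩ := hext g hg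
      exact ⟨hg, hgN, h, hh, fun x hx => hgh x hx⟩
  obtain ⟨ψ', hψ', hψ'e⟩ : ∃ ψ' : S →* Ω, ψ' ∈ F.Hom S ∧ ∀ (x : Ω) (hx : x ∈ extender S E φ₀) (hx' : x ∈ S),
      ψ' ⟨x, hx'⟩ = ψ ⟨x, hx⟩ := by
    refine ⟨ψ.comp (Subgroup.inclusion hNS.ge), ?_, fun x hx hx' => rfl⟩
    exact Helper87.hom_of_eq_on F hNS hψ (fun x hx hx' => rfl)
  have hr : ψ'.range = S := by
    have hle : ψ'.range ≤ S := Helper87.hom_range_le F hψ'
    have hfin : Finite ψ'.range := Finite.of_injective (Subgroup.inclusion hle) (Subgroup.inclusion_injective hle)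
    apply Subgroup.eq_of_le_of_card_ge hle
    rw [← Nat.card_congr (MonoidHom.ofInjective (F.injective_of_mem hψ')).toEquiv]
  obtain ⟨T', hT', hT'e⟩ := Helper88.exists_aut_of_range_eq F hψ' hr
  refine ⟨T', hT', fun x => ?_⟩
  have hxN : (x : Ω) ∈ extender S E φ₀ := by rw [hNS]; exact hES x.2
  rw [hT'e, hψ'e (x : Ω) hxN (hES x.2), hψφ (x : Ω) x.2 hxN]
  rfl

/-- Two elements of `Aut_F(S)` inverting `W ≤ Z(S)` and fixing pointwise complements `C₁`, `C₂` to `W`: `C₂ ≤ C₁`. -/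
theorem complement_le_of_inverting [Finite S] {p : ℕ} [Fact p.Prime] (hodd : Odd p) (hS : IsPGroup p S)
    (F : FusionSystem S) (hF : F.IsSaturated p) (W C₁ C₂ : Subgroup Ω)
    (hWZ : ∀ w ∈ W, w ∈ S ∧ ∀ s ∈ S, w * s = s * w) (hC₂Z : ∀ c ∈ C₂, c ∈ S ∧ ∀ s ∈ S, c * s = s * c)
    (hC₁S : C₁ ≤ S) (hWp : ∀ w ∈ W, w ^ p = 1)
    (hdec : ∀ c ∈ C₂, ∃ w ∈ W, ∃ c₁ ∈ C₁, c = w * c₁)
    (γ₁ γ₂ : MulAut S) (hγ₁ : γ₁ ∈ F.autGroup S) (hγ₂ : γ₂ ∈ F.autGroup S)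
    (h1W : ∀ w : S, (w : Ω) ∈ W → γ₁ w = w⁻¹) (h1C : ∀ c : S, (c : Ω) ∈ C₁ → γ₁ c = c)
    (h2W : ∀ w : S, (w : Ω) ∈ W → γ₂ w = w⁻¹) (h2C : ∀ c : S, (c : Ω) ∈ C₂ → γ₂ c = c) : C₂ ≤ C₁ := by
  classical
  have hpp : p.Prime := Fact.out
  have hfinA : Finite (MulAut S) := Finite.of_injective (fun α : MulAut S => (α : S → S)) DFunLike.coe_injective
  intro c₂ hc₂
  obtain ⟨w, hw, c₁, hc₁, hc₂e⟩ := hdec c₂ hc₂
  set w' : S := ⟨w, (hWZ w hw).1⟩ with hw'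
  set c₁' : S := ⟨c₁, hC₁S hc₁⟩ with hc₁'
  set c₂' : S := ⟨c₂, (hC₂Z c₂ hc₂).1⟩ with hc₂'
  have hc₂'e : c₂' = w' * c₁' := Subtype.ext hc₂e
  have hw'c : ∀ s : S, w' * s = s * w' := fun s => Subtype.ext ((hWZ w hw).2 s s.2)
  have hc₂'c : ∀ s : S, c₂' * s = s * c₂' := fun s => Subtype.ext ((hC₂Z c₂ hc₂).2 s s.2)
  set γ := γ₁ * γ₂ with hγ
  set b : S := w'⁻¹ * w'⁻¹ with hb
  have hγc : γ c₂' = c₂' * b := by
    rw [hγ, MulAut.mul_apply, h2C c₂' hc₂, hc₂'e, map_mul, h1W w' hw, h1C c₁' hc₁, hb, ← mul_assoc]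
    have h1 : w'⁻¹ * c₁' = c₁' * w'⁻¹ := ((show Commute w' c₁' from hw'c c₁').inv_left).eq
    rw [h1, hw'c c₁', mul_assoc c₁' w', mul_inv_cancel, mul_one]
  have hγb : γ b = b := by
    have h1 : γ w'⁻¹ = w'⁻¹ := by
      rw [hγ, MulAut.mul_apply, map_inv, h2W w' hw, inv_inv, h1W w' hw]
    rw [hb, map_mul, h1]
  have hγpow : ∀ k : ℕ, (γ ^ k) c₂' = c₂' * b ^ k := fun k => Helper87.pow_apply_mul_pow' γ c₂' b hγc hγb k
  have hn0 : orderOf γ ≠ 0 := (orderOf_pos γ).ne'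
  obtain ⟨a, m, hm, hn⟩ := Nat.exists_eq_pow_mul_and_not_dvd hn0 p hpp.ne_one
  have hδp : (γ ^ m) ^ (p ^ a) = 1 := by
    rw [← pow_mul, mul_comm, ← hn, pow_orderOf_eq_one]
  have hδA : γ ^ m ∈ F.autGroup S := Subgroup.pow_mem _ (Subgroup.mul_mem _ hγ₁ hγ₂) m
  have hfix := pElement_fix_center hS F hF (γ ^ m) hδA a hδp c₂' hc₂'c
  rw [hγpow] at hfix
  have hbm : b ^ m = 1 := mul_eq_left.mp hfix
  have hw2m : w' ^ (2 * m) = 1 := by
    have h1 : b = (w' ^ 2)⁻¹ := by rw [hb, pow_two, mul_inv_rev]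
    rw [h1, inv_pow, inv_eq_one, ← pow_mul] at hbm
    exact hbm
  have hwp : w' ^ p = 1 := Subtype.ext (by simpa using hWp w hw)
  have hcop : Nat.Coprime (2 * m) p := by
    apply Nat.Coprime.symm
    apply Nat.Coprime.mul_right
    · exact Nat.Coprime.symm (Nat.coprime_two_left.mpr hodd)
    · exact (Nat.Prime.coprime_iff_not_dvd hpp).mpr hm
  have hw1 : w' = 1 := by
    have := pow_gcd_eq_one.mpr ⟨hw2m, hwp⟩
    rwa [hcop, pow_one] at this
  have hw1' : w = 1 := congrArg Subtype.val hw1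
  rw [hc₂e, hw1', one_mul]
  exact hc₁

end Cfsg.Agent.Lib.Helper86
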