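/-
helper86: generalisation of `SL2Inv.lean` to arbitrary finite abelian `p`-groups `E` (not necessarily of exponent `p`),
and the analogue for `p = 2` (an `S₃` acting on `V × C`).
All declarations live in `Cfsg.Agent.Lib.Helper86`.
-/
import Cfsg.Agent.Lib.Helper86.SL2Inv

set_option autoImplicit false

namespace Cfsg.Agent.Lib.Helper86

open Cfsg

/-- **Key lemma `K`.** If the Sylow `p`-subgroups of `A` have order `p`, a conjugate of the transvection `t` whose centre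
lies in the axis of `t` generates the same group as `t`. -/
theorem conj_mem_zpowers_of_centre_le_axis' {E : Type*} [CommGroup E] [Finite E] {p : ℕ} [hp : Fact p.Prime]
    (hE : IsPGroup p E)
    (A : Subgroup (MulAut E)) (t : MulAut E) (htA : t ∈ A) (ht1 : t ≠ 1)
    (W : Subgroup E) (hWp : ∀ w ∈ W, w ^ p = 1)
    (htW : ∀ e : E, e⁻¹ * t e ∈ W) (htfix : ∀ w ∈ W, t w = w)
    (hsyl : ∀ P : Subgroup (MulAut E), P ≤ A → IsPGroup p P →
      ∃ σ ∈ A, ∀ φ ∈ P, σ * φ * σ⁻¹ ∈ Subgroup.zpowers t)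
    (σ : MulAut E) (hσ : σ ∈ A) (hfix : ∀ w ∈ W, t (σ w) = σ w) :
    σ * t * σ⁻¹ ∈ Subgroup.zpowers t := by
  classical
  have hpp := hp.out
  have hfin : Finite (MulAut E) := Finite.of_injective (fun α : MulAut E => (α : E → E)) DFunLike.coe_injective
  have htp : t ^ p = 1 := by
    ext e
    rw [transvection_pow_apply t W htW htfix, hWp _ (htW e), mul_one]
    rfl
  have hord : orderOf t = p := orderOf_eq_prime htp ht1
  have hcardZ : Nat.card (Subgroup.zpowers t) = p := by rw [Nat.card_zpowers, hord]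
  set t' := σ * t * σ⁻¹ with ht'
  set W' : Subgroup E := W.map σ.toMonoidHom with hW'
  let c : ℕ → Subgroup E := fun j => match j with
    | 0 => ⊤
    | 1 => W ⊔ W'
    | 2 => W'
    | _ => ⊥
  have hP : IsPGroup p (Subgroup.closure ({t, t'} : Set (MulAut E))) := by
    refine isPGroup_closure_of_chain hE 3 c rfl rfl ?_ _ ?_
    · intro j hj
      interval_cases j
      · exact le_top
      · exact le_sup_right
      · exact bot_le
    · intro β hβ j hj r hr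
      rcases hβ with rfl | hβ
      · interval_cases j
        · exact Subgroup.mem_sup_left (htW r)
        · have : β r = r := by
            obtain ⟨w, hw, w', hw', rfl⟩ := Subgroup.mem_sup.mp hr
            rw [map_mul, htfix w hw]
            obtain ⟨w₀, hw₀, rfl⟩ := hw'
            rw [show σ.toMonoidHom w₀ = σ w₀ from rfl, hfix w₀ hw₀]
          rw [this, inv_mul_cancel]
          exact Subgroup.one_mem _
        · obtain ⟨w₀, hw₀, rfl⟩ := hr
          rw [show σ.toMonoidHom w₀ = σ w₀ from rfl, hfix w₀ hw₀, inv_mul_cancel]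
          exact Subgroup.one_mem _
      · rw [Set.mem_singleton_iff] at hβ
        subst hβ
        interval_cases j
        · apply Subgroup.mem_sup_right
          rw [ht', conj_displacement]
          exact ⟨_, htW _, rfl⟩
        · rw [ht', conj_displacement]
          exact ⟨_, htW _, rfl⟩
        · obtain ⟨w₀, hw₀, rfl⟩ := hr
          have : t' (σ.toMonoidHom w₀) = σ.toMonoidHom w₀ := by
            show (σ * t * σ⁻¹) (σ w₀) = σ w₀
            simp [MulAut.mul_apply, htfix w₀ hw₀]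
          rw [this, inv_mul_cancel]
          exact Subgroup.one_mem _
  have hPA : Subgroup.closure ({t, t'} : Set (MulAut E)) ≤ A := by
    rw [Subgroup.closure_le]
    rintro x (rfl | hx)
    · exact htA
    · rw [Set.mem_singleton_iff] at hx
      rw [hx]
      exact A.mul_mem (A.mul_mem hσ htA) (A.inv_mem hσ)
  obtain ⟨τ, -, hτ⟩ := hsyl _ hPA hP
  have hcard : Nat.card (Subgroup.closure ({t, t'} : Set (MulAut E))) ≤ p := by
    rw [← hcardZ]
    apply Nat.card_le_card_of_injective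
      (fun φ : Subgroup.closure ({t, t'} : Set (MulAut E)) =>
        (⟨τ * (φ : MulAut E) * τ⁻¹, hτ φ φ.2⟩ : Subgroup.zpowers t))
    intro φ ψ h
    have h1 : τ * (φ : MulAut E) * τ⁻¹ = τ * (ψ : MulAut E) * τ⁻¹ := congrArg Subtype.val h
    apply Subtype.ext
    simpa using h1
  have hle : Subgroup.zpowers t ≤ Subgroup.closure ({t, t'} : Set (MulAut E)) := by
    rw [Subgroup.zpowers_le]
    exact Subgroup.subset_closure (Or.inl rfl)
  have heq : Subgroup.zpowers t = Subgroup.closure ({t, t'} : Set (MulAut E)) :=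
    Subgroup.eq_of_le_of_card_ge hle (by rw [hcardZ]; exact hcard)
  rw [heq]
  exact Subgroup.subset_closure (Or.inr rfl)


/-- **Central involution.** -/
theorem exists_central_involution' {E : Type*} [CommGroup E] [Finite E] {p : ℕ} [hp : Fact p.Prime] (hodd : Odd p)
    (hE : IsPGroup p E)
    (A : Subgroup (MulAut E)) (t : MulAut E) (htA : t ∈ A) (ht1 : t ≠ 1)
    (W : Subgroup E) (hW : Nat.card W = p)
    (htW : ∀ e : E, e⁻¹ * t e ∈ W) (htfix : ∀ w ∈ W, t w = w)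
    (hsyl : ∀ P : Subgroup (MulAut E), P ≤ A → IsPGroup p P →
      ∃ σ ∈ A, ∀ φ ∈ P, σ * φ * σ⁻¹ ∈ Subgroup.zpowers t)
    (hnn : ∃ σ ∈ A, σ * t * σ⁻¹ ∉ Subgroup.zpowers t) :
    ∃ (C : Subgroup E) (T : MulAut E), T ∈ A ∧ (∀ σ ∈ A, σ * T = T * σ) ∧ (∀ w ∈ W, T w = w⁻¹) ∧
      (∀ c ∈ C, T c = c) ∧ (∀ c ∈ C, t c = c) ∧ (∀ σ ∈ A, ∀ c ∈ C, σ c ∈ C) ∧
      (∀ e : E, t e = e → ∃ w ∈ W, ∃ c ∈ C, e = w * c) ∧ (∀ x, x ∈ C → x ∈ W → x = 1) := by
  classical
  have hpp := hp.out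
  have hfin : Finite (MulAut E) := Finite.of_injective (fun α : MulAut E => (α : E → E)) DFunLike.coe_injective
  have hWp : ∀ w ∈ W, w ^ p = 1 := by
    intro w hw
    have : (⟨w, hw⟩ : W) ^ Nat.card W = 1 := pow_card_eq_one'
    rw [hW] at this
    exact congrArg Subtype.val this
  have htpow := transvection_pow_apply t W htW htfix
  have htp : t ^ p = 1 := by
    ext e
    rw [htpow, hWp _ (htW e), mul_one]
    rfl
  have hord : orderOf t = p := orderOf_eq_prime htp ht1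
  have hcardZ : Nat.card (Subgroup.zpowers t) = p := by rw [Nat.card_zpowers, hord]
  -- elements of `zpowers t` are natural powers
  have hzp : ∀ φ ∈ Subgroup.zpowers t, ∃ m : ℕ, t ^ m = φ := by
    intro φ hφ
    rw [← mem_powers_iff_mem_zpowers] at hφ
    exact (Submonoid.mem_powers_iff _ _).mp hφ
  -- generation of `W`
  have hgen : ∀ g ∈ W, g ≠ 1 → ∀ z ∈ W, ∃ k : ℕ, g ^ k = z := by
    intro g hg hg1 z hz
    have h1 : (⟨g, hg⟩ : W) ≠ 1 := fun h => hg1 (congrArg Subtype.val h)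
    obtain ⟨k, hk⟩ := mem_powers_of_prime_card (G := W) hW (g := ⟨g, hg⟩) (g' := ⟨z, hz⟩) h1
    exact ⟨k, by simpa using congrArg Subtype.val hk⟩
  -- key lemmas
  have K := conj_mem_zpowers_of_centre_le_axis' hE A t htA ht1 W hWp htW htfix hsyl
  -- the displacement map is onto `W`
  have hdsurj : ∀ w ∈ W, ∃ e : E, e⁻¹ * t e = w := by
    obtain ⟨e₁, he₁⟩ : ∃ e₁ : E, t e₁ ≠ e₁ := by
      by_contra hcon
      push Not at hcon
      exact ht1 (MulEquiv.ext hcon)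
    have hg1 : e₁⁻¹ * t e₁ ≠ 1 := by
      intro h
      apply he₁
      rw [inv_mul_eq_one] at h
      exact h.symm
    intro w hw
    obtain ⟨k, hk⟩ := hgen _ (htW e₁) hg1 w hw
    exact ⟨e₁ ^ k, by rw [displacement_pow, hk]⟩
  have K' : ∀ σ ∈ A, (∀ w ∈ W, t (σ w) = σ w) → ∀ w ∈ W, σ w ∈ W := by
    intro σ hσ hfix w hw
    obtain ⟨m, hm⟩ := hzp _ (K σ hσ hfix)
    obtain ⟨e₀, rfl⟩ := hdsurj w hw
    have h1 : σ (e₀⁻¹ * t e₀) = (σ e₀)⁻¹ * (σ * t * σ⁻¹) (σ e₀) := by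
      simp [MulAut.mul_apply, map_mul, map_inv]
    rw [h1, ← hm, htpow, inv_mul_cancel_left]
    exact W.pow_mem (htW _) _
  -- conjugates have order `p`
  have hconjp : ∀ σ : MulAut E, (σ * t * σ⁻¹) ^ p = 1 := by
    intro σ
    rw [conj_pow, htp, mul_one, mul_inv_cancel]
  have Kd : ∀ σ ∈ A, (∀ w ∈ W, (σ * t * σ⁻¹) w = w) → σ * t * σ⁻¹ ∈ Subgroup.zpowers t := by
    intro σ hσ hfix
    have h1 : σ⁻¹ * t * σ⁻¹⁻¹ ∈ Subgroup.zpowers t := by
      apply K σ⁻¹ (A.inv_mem hσ)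
      intro w hw
      have := hfix w hw
      rw [MulAut.mul_apply, MulAut.mul_apply] at this
      have h2 := congrArg (fun y => σ⁻¹ y) this
      simpa using h2
    obtain ⟨m, hm⟩ := hzp _ h1
    rw [inv_inv] at hm
    have h2 : t = (σ * t * σ⁻¹) ^ m := by
      rw [conj_pow, hm]
      group
    have hne : σ * t * σ⁻¹ ≠ 1 := by
      intro h
      apply ht1
      rw [h2, h, one_pow]
    have hord' : orderOf (σ * t * σ⁻¹) = p := orderOf_eq_prime (hconjp σ) hne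
    have hle : Subgroup.zpowers t ≤ Subgroup.zpowers (σ * t * σ⁻¹) := by
      rw [Subgroup.zpowers_le]
      have hmem : (σ * t * σ⁻¹) ^ m ∈ Subgroup.zpowers (σ * t * σ⁻¹) :=
        Subgroup.pow_mem _ (Subgroup.mem_zpowers _) _
      rwa [← h2] at hmem
    have heq : Subgroup.zpowers t = Subgroup.zpowers (σ * t * σ⁻¹) :=
      Subgroup.eq_of_le_of_card_ge hle (by rw [hcardZ, Nat.card_zpowers, hord'])
    rw [heq]
    exact Subgroup.mem_zpowers _
  -- a second Sylow subgroup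
  obtain ⟨σ₀, hσ₀, hσ₀t⟩ := hnn
  set t' := σ₀ * t * σ₀⁻¹ with ht'
  have ht'A : t' ∈ A := A.mul_mem (A.mul_mem hσ₀ htA) (A.inv_mem hσ₀)
  -- `t'` is a transvection with centre `σ₀ W`
  have ht'W : ∀ e : E, ∃ z ∈ W, e⁻¹ * t' e = σ₀ z := by
    intro e
    exact ⟨_, htW _, conj_displacement σ₀ t e⟩
  have ht'fix : ∀ z ∈ W, t' (σ₀ z) = σ₀ z := by
    intro z hz
    show (σ₀ * t * σ₀⁻¹) (σ₀ z) = σ₀ z
    simp [MulAut.mul_apply, htfix z hz]
  obtain ⟨w, hwW, hw⟩ : ∃ w ∈ W, t' w ≠ w := by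
    by_contra hcon
    push Not at hcon
    exact hσ₀t (Kd σ₀ hσ₀ hcon)
  obtain ⟨w₁, hw₁W, hw₁⟩ : ∃ w₁ ∈ W, t (σ₀ w₁) ≠ σ₀ w₁ := by
    by_contra hcon
    push Not at hcon
    exact hσ₀t (K σ₀ hσ₀ hcon)
  have hw1 : w ≠ 1 := by
    rintro rfl
    exact hw (map_one _)
  obtain ⟨w', hw'⟩ : ∃ w' : E, w' = w⁻¹ * t' w := ⟨_, rfl⟩
  have hw'1 : w' ≠ 1 := by
    intro h
    apply hw
    rw [hw', inv_mul_eq_one] at h
    exact h.symm
  obtain ⟨w₂, hw₂W, hw₂⟩ := ht'W w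
  rw [← hw'] at hw₂
  have hw₂1 : w₂ ≠ 1 := by
    rintro rfl
    rw [map_one] at hw₂
    exact hw'1 hw₂
  -- `σ₀ W` is generated by `w'`
  have hgen' : ∀ z ∈ W, ∃ k : ℕ, σ₀ z = w' ^ k := by
    intro z hz
    obtain ⟨k, hk⟩ := hgen w₂ hw₂W hw₂1 z hz
    exact ⟨k, by rw [← hk, map_pow, ← hw₂]⟩
  have htw' : t w' ≠ w' := by
    intro h
    apply hw₁
    obtain ⟨k, hk⟩ := hgen' w₁ hw₁W
    rw [hk, map_pow, h]
  have ht'w' : t' w' = w' := by
    rw [hw₂]
    exact ht'fix w₂ hw₂W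
  obtain ⟨g, hg⟩ : ∃ g : E, g = w'⁻¹ * t w' := ⟨_, rfl⟩
  have hgW : g ∈ W := hg ▸ htW w'
  have hg1 : g ≠ 1 := by
    intro h
    apply htw'
    rw [hg, inv_mul_eq_one] at h
    exact h.symm
  obtain ⟨i, hi⟩ := hgen g hgW hg1 w⁻¹ (W.inv_mem hwW)
  set X := t ^ i with hX
  have hXA : X ∈ A := A.pow_mem htA i
  have hXfix : ∀ e : E, t e = e → X e = e := by
    intro e he
    rw [hX, htpow, he, inv_mul_cancel, one_pow, mul_one]
  have hXw : X w = w := hXfix w (htfix w hwW)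
  have hXw' : X w' = w' * w⁻¹ := by rw [hX, htpow, ← hg, hi]
  have hYw : t' w = w * w' := by rw [hw', mul_inv_cancel_left]
  set N := X * t' * X with hN
  have hNw : N w = w' := by
    rw [hN, MulAut.mul_apply, MulAut.mul_apply, hXw, hYw, map_mul, hXw, hXw', mul_comm w' w⁻¹, mul_inv_cancel_left]
  have hNw' : N w' = w⁻¹ := by
    rw [hN, MulAut.mul_apply, MulAut.mul_apply, hXw', map_mul, map_inv, ht'w', hYw, mul_inv, mul_comm w⁻¹ w'⁻¹,
      mul_inv_cancel_left, map_inv, hXw]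
  set T := N * N with hT
  have hTA : T ∈ A := by
    have hNA : N ∈ A := A.mul_mem (A.mul_mem hXA ht'A) hXA
    exact A.mul_mem hNA hNA
  have hTw : T w = w⁻¹ := by rw [hT, MulAut.mul_apply, hNw, hNw']
  have hTw' : T w' = w'⁻¹ := by rw [hT, MulAut.mul_apply, hNw', map_inv, hNw]
  -- the common fixed points
  let C₀ : Subgroup E :=
    { carrier := {e | t e = e ∧ t' e = e}
      one_mem' := ⟨map_one _, map_one _⟩
      mul_mem' := by
        rintro a b ⟨ha, ha'⟩ ⟨hb, hb'⟩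
        exact ⟨by rw [map_mul, ha, hb], by rw [map_mul, ha', hb']⟩
      inv_mem' := by
        rintro a ⟨ha, ha'⟩
        exact ⟨by rw [map_inv, ha], by rw [map_inv, ha']⟩ }
  have hTC : ∀ c ∈ C₀, T c = c := by
    rintro c ⟨hc, hc'⟩
    have h1 : N c = c := by
      rw [hN, MulAut.mul_apply, MulAut.mul_apply, hXfix c hc, hc', hXfix c hc]
    rw [hT, MulAut.mul_apply, h1, h1]
  -- `V = W × σ₀ W`
  set W' : Subgroup E := W.map σ₀.toMonoidHom with hW'
  set V : Subgroup E := W ⊔ W' with hV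
  have hWgenw : ∀ z ∈ W, ∃ k : ℕ, w ^ k = z := hgen w hwW hw1
  have hTinvV : ∀ v ∈ V, T v = v⁻¹ := by
    intro v hv
    obtain ⟨z, hz, z', hz', rfl⟩ := Subgroup.mem_sup.mp hv
    obtain ⟨z₀, hz₀, rfl⟩ := hz'
    obtain ⟨k, rfl⟩ := hWgenw z hz
    obtain ⟨k', hk'⟩ := hgen' z₀ hz₀
    rw [show σ₀.toMonoidHom z₀ = σ₀ z₀ from rfl, hk', map_mul, map_pow, map_pow, hTw, hTw', mul_inv, inv_pow,
      inv_pow]
  have hw'V : w' ∈ V := Subgroup.mem_sup_right ⟨w₂, hw₂W, hw₂.symm⟩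
  have hgV : g ∈ V := Subgroup.mem_sup_left hgW
  have hw'p : w' ^ p = 1 := by rw [hw₂, ← map_pow, hWp w₂ hw₂W, map_one]
  have hVp : ∀ v ∈ V, v ^ p = 1 := by
    intro v hv
    obtain ⟨z, hz, z', hz', rfl⟩ := Subgroup.mem_sup.mp hv
    obtain ⟨z₀, hz₀, rfl⟩ := hz'
    rw [mul_pow, hWp z hz, show σ₀.toMonoidHom z₀ = σ₀ z₀ from rfl, ← map_pow, hWp z₀ hz₀, map_one, one_mul]
  have hd' : ∀ e : E, ∃ k : ℕ, e⁻¹ * t' e = w' ^ k := by
    intro e
    obtain ⟨z, hz, hze⟩ := ht'W e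
    obtain ⟨k, hk⟩ := hgen' z hz
    exact ⟨k, by rw [hze, hk]⟩
  have hd : ∀ e : E, ∃ k : ℕ, e⁻¹ * t e = g ^ k := by
    intro e
    obtain ⟨k, hk⟩ := hgen g hgW hg1 _ (htW e)
    exact ⟨k, hk.symm⟩
  have hsq : ∀ v : E, v⁻¹ = v → v = 1 := by
    intro v h1
    have h2 : v ^ 2 = 1 := by
      rw [pow_two]
      nth_rewrite 1 [← h1]
      exact inv_mul_cancel v
    obtain ⟨k, hk⟩ := hE v
    have hcop : Nat.Coprime 2 (p ^ k) := Nat.Coprime.pow_right k (Nat.coprime_two_left.mpr hodd)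
    have := pow_gcd_eq_one.mpr ⟨h2, hk⟩
    rwa [hcop, pow_one] at this
  -- decomposition
  have hdec : ∀ e : E, ∃ v ∈ V, ∃ c ∈ C₀, e = v * c := by
    intro e
    obtain ⟨b, hb⟩ := hd e
    obtain ⟨a, ha⟩ := hd' e
    set v := w ^ a * w' ^ b with hv
    have hvV : v ∈ V := V.mul_mem (V.pow_mem (Subgroup.mem_sup_left hwW) _) (V.pow_mem hw'V _)
    have htv : v⁻¹ * t v = g ^ b := by
      rw [hv, displacement_mul, displacement_pow, displacement_pow, htfix w hwW, inv_mul_cancel, one_pow, one_mul,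
        ← hg]
    have ht'v : v⁻¹ * t' v = w' ^ a := by
      rw [hv, displacement_mul, displacement_pow, displacement_pow, ht'w', inv_mul_cancel, one_pow, mul_one,
        ← hw']
    have h1 : t e = e * g ^ b := by rw [← hb, mul_inv_cancel_left]
    have h2 : t v = v * g ^ b := by rw [← htv, mul_inv_cancel_left]
    have h1' : t' e = e * w' ^ a := by rw [← ha, mul_inv_cancel_left]
    have h2' : t' v = v * w' ^ a := by rw [← ht'v, mul_inv_cancel_left]
    refine ⟨v, hvV, e * v⁻¹, ?_, by rw [mul_comm e, mul_inv_cancel_left]⟩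
    show t (e * v⁻¹) = e * v⁻¹ ∧ t' (e * v⁻¹) = e * v⁻¹
    constructor
    · rw [map_mul, map_inv, h1, h2, mul_inv, mul_mul_mul_comm, mul_inv_cancel, mul_one]
    · rw [map_mul, map_inv, h1', h2', mul_inv, mul_mul_mul_comm, mul_inv_cancel, mul_one]
  have hTE : ∀ e : E, e⁻¹ * T e ∈ V := by
    intro e
    obtain ⟨v, hv, c, hc, rfl⟩ := hdec e
    rw [map_mul, hTinvV v hv, hTC c hc]
    have : (v * c)⁻¹ * (v⁻¹ * c) = v⁻¹ * v⁻¹ := by
      rw [mul_inv, mul_mul_mul_comm, inv_mul_cancel, mul_one]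
    rw [this]
    exact V.mul_mem (V.inv_mem hv) (V.inv_mem hv)
  have hTT : T * T = 1 := by
    ext e
    obtain ⟨v, hv, c, hc, rfl⟩ := hdec e
    rw [MulAut.mul_apply, map_mul, hTinvV v hv, hTC c hc, map_mul, map_inv, hTinvV v hv, inv_inv, hTC c hc]
    rfl
  -- all centres lie in `V`
  have hVW : ∀ ρ ∈ A, ∀ z ∈ W, ρ z ∈ V := by
    intro ρ hρ z hz
    by_contra hzV
    obtain ⟨t'', ht''⟩ : ∃ t'' : MulAut E, t'' = ρ * t * ρ⁻¹ := ⟨_, rfl⟩
    have hb : ¬ ∀ y ∈ W, t'' y = y := by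
      intro hfix
      rw [ht''] at hfix
      obtain ⟨m, hm⟩ := hzp _ (Kd ρ hρ hfix)
      obtain ⟨e₀, rfl⟩ := hdsurj z hz
      apply hzV
      have h1 : ρ (e₀⁻¹ * t e₀) = (ρ e₀)⁻¹ * (ρ * t * ρ⁻¹) (ρ e₀) := by
        simp [MulAut.mul_apply, map_mul, map_inv]
      rw [h1, ← hm, htpow, inv_mul_cancel_left]
      exact Subgroup.mem_sup_left (W.pow_mem (htW _) _)
    push Not at hb
    obtain ⟨y, hyW, hy⟩ := hb
    have hg'' : t'' g ≠ g := by
      intro h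
      apply hy
      obtain ⟨k, rfl⟩ := hgen g hgW hg1 y hyW
      rw [map_pow, h]
    obtain ⟨z₃, hz₃W, hz₃⟩ : ∃ z₃ ∈ W, g⁻¹ * t'' g = ρ z₃ := ⟨_, htW _, ht'' ▸ conj_displacement ρ t g⟩
    obtain ⟨z₄, hz₄W, hz₄⟩ : ∃ z₄ ∈ W, w'⁻¹ * t'' w' = ρ z₄ := ⟨_, htW _, ht'' ▸ conj_displacement ρ t w'⟩
    have hz₃1 : z₃ ≠ 1 := by
      rintro rfl
      rw [map_one, inv_mul_eq_one] at hz₃
      exact hg'' hz₃.symm
    obtain ⟨k, hk⟩ := hgen z₃ hz₃W hz₃1 z₄⁻¹ (W.inv_mem hz₄W)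
    obtain ⟨v₁, hv₁⟩ : ∃ v₁ : E, v₁ = (t ^ k) w' := ⟨_, rfl⟩
    have hv₁' : v₁ = w' * g ^ k := by rw [hv₁, htpow, ← hg]
    have hv₁fix : t'' v₁ = v₁ := by
      have h1 : v₁⁻¹ * t'' v₁ = 1 := by
        rw [hv₁', displacement_mul, displacement_pow, hz₃, hz₄, ← map_pow, hk, map_inv, mul_inv_cancel]
      rw [inv_mul_eq_one] at h1
      exact h1.symm
    obtain ⟨σ, hσ⟩ : ∃ σ : MulAut E, σ = ρ⁻¹ * t ^ k * σ₀ := ⟨_, rfl⟩
    have hσA : σ ∈ A := hσ ▸ A.mul_mem (A.mul_mem (A.inv_mem hρ) (A.pow_mem htA k)) hσ₀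
    have hσy : ∀ y ∈ W, ∃ m : ℕ, σ y = ρ⁻¹ (v₁ ^ m) := by
      intro y hy
      obtain ⟨m, hm⟩ := hgen' y hy
      refine ⟨m, ?_⟩
      rw [hσ, MulAut.mul_apply, MulAut.mul_apply, hm, map_pow, ← hv₁]
    have hσfix : ∀ y ∈ W, t (σ y) = σ y := by
      intro y hy
      obtain ⟨m, hm⟩ := hσy y hy
      rw [hm]
      have h1 : t'' (v₁ ^ m) = v₁ ^ m := by rw [map_pow, hv₁fix]
      rw [ht'', MulAut.mul_apply, MulAut.mul_apply] at h1
      have h2 := congrArg (fun x => ρ⁻¹ x) h1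
      simpa using h2
    have hσW := K' σ hσA hσfix
    have h5 : σ w₂ = ρ⁻¹ v₁ := by
      rw [hσ, MulAut.mul_apply, MulAut.mul_apply, ← hw₂, ← hv₁]
    have h6 : ρ⁻¹ v₁ ∈ W := h5 ▸ hσW w₂ hw₂W
    have hv₁1 : ρ⁻¹ v₁ ≠ 1 := by
      intro h
      rw [hv₁] at h
      have h7 : (t ^ k) w' = 1 := (map_eq_one_iff _ (MulEquiv.injective _)).mp h
      exact hw'1 ((map_eq_one_iff _ (MulEquiv.injective _)).mp h7)
    obtain ⟨j, hj⟩ := hgen _ h6 hv₁1 z hz
    apply hzV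
    rw [← hj, map_pow, MulAut.apply_inv_self]
    exact V.pow_mem (hv₁' ▸ V.mul_mem hw'V (V.pow_mem hgV k)) j
  have hVinv : ∀ ρ ∈ A, ∀ v ∈ V, ρ v ∈ V := by
    intro ρ hρ v hv
    obtain ⟨z, hz, z', hz', rfl⟩ := Subgroup.mem_sup.mp hv
    obtain ⟨z₀, hz₀, rfl⟩ := hz'
    rw [map_mul]
    exact V.mul_mem (hVW ρ hρ z hz) (hVW (ρ * σ₀) (A.mul_mem hρ hσ₀) z₀ hz₀)
  -- `T` is central
  have hcentral : ∀ σ ∈ A, σ * T * σ⁻¹ = T := by
    intro σ hσ
    obtain ⟨T', hT'⟩ : ∃ T' : MulAut E, T' = σ * T * σ⁻¹ := ⟨_, rfl⟩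
    have hT'V : ∀ v ∈ V, T' v = v⁻¹ := by
      intro v hv
      rw [hT', MulAut.mul_apply, MulAut.mul_apply, hTinvV _ (hVinv σ⁻¹ (A.inv_mem hσ) v hv), map_inv,
        MulAut.apply_inv_self]
    have hT'E : ∀ e : E, e⁻¹ * T' e ∈ V := by
      intro e
      rw [hT', conj_displacement]
      exact hVinv σ hσ _ (hTE _)
    obtain ⟨P, hP⟩ : ∃ P : MulAut E, P = T * T' := ⟨_, rfl⟩
    have hPV : ∀ v ∈ V, P v = v := by
      intro v hv
      rw [hP, MulAut.mul_apply, hT'V v hv, map_inv, hTinvV v hv, inv_inv]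
    have hPE : ∀ e : E, e⁻¹ * P e ∈ V := by
      intro e
      have : e⁻¹ * P e = (e⁻¹ * T' e) * ((T' e)⁻¹ * T (T' e)) := by
        rw [hP, MulAut.mul_apply, mul_assoc, mul_inv_cancel_left]
      rw [this]
      exact V.mul_mem (hT'E e) (hTE _)
    have hPpow := transvection_pow_apply P V hPE hPV
    have hPp : P ^ p = 1 := by
      ext e
      rw [hPpow, hVp _ (hPE e), mul_one]
      rfl
    have hPA : P ∈ A := hP ▸ A.mul_mem hTA (hT' ▸ A.mul_mem (A.mul_mem hσ hTA) (A.inv_mem hσ))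
    have hP1 : P = 1 := by
      by_contra hP1
      have hPgrp : IsPGroup p (Subgroup.zpowers P) := by
        rintro ⟨φ, hφ⟩
        obtain ⟨j, rfl⟩ := Subgroup.mem_zpowers_iff.mp hφ
        refine ⟨1, Subtype.ext ?_⟩
        rw [pow_one]
        show (P ^ j) ^ p = 1
        rw [← zpow_natCast, ← zpow_mul, mul_comm, zpow_mul, zpow_natCast, hPp, one_zpow]
      obtain ⟨τ, hτA, hτ⟩ := hsyl (Subgroup.zpowers P) (by rw [Subgroup.zpowers_le]; exact hPA) hPgrp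
      obtain ⟨m, hm⟩ := hzp _ (hτ P (Subgroup.mem_zpowers P))
      have h1 : (t ^ m) w' = w' := by
        rw [hm, MulAut.mul_apply, MulAut.mul_apply, hPV _ (hVinv τ⁻¹ (A.inv_mem hτA) w' hw'V),
          MulAut.apply_inv_self]
      rw [htpow, ← hg] at h1
      have h2 : g ^ m = 1 := mul_eq_left.mp h1
      have h3 : t ^ m ≠ 1 := by
        intro h
        rw [h] at hm
        apply hP1
        have := congrArg (fun x => τ⁻¹ * x * τ) hm.symm
        simpa [mul_assoc] using this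
      have h4 : p ∣ m := by
        have h5 : orderOf g = p := orderOf_eq_prime (hWp g hgW) hg1
        rw [← h5]
        exact orderOf_dvd_of_pow_eq_one h2
      apply h3
      obtain ⟨q, rfl⟩ := h4
      rw [pow_mul, htp, one_pow]
    rw [hP] at hP1
    have h2 : T' = T⁻¹ := eq_inv_of_mul_eq_one_right hP1
    have h3 : T⁻¹ = T := inv_eq_of_mul_eq_one_right hTT
    rw [← hT', h2, h3]
  have hfixT : ∀ e : E, T e = e → e ∈ C₀ := by
    intro e he
    obtain ⟨v, hv, c, hc, rfl⟩ := hdec e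
    rw [map_mul, hTinvV v hv, hTC c hc] at he
    have h1 : v⁻¹ = v := mul_right_cancel he
    rw [hsq v h1, one_mul]
    exact hc
  have hcomm : ∀ σ ∈ A, σ * T = T * σ := fun σ hσ => mul_inv_eq_iff_eq_mul.mp (hcentral σ hσ)
  refine ⟨C₀, T, hTA, hcomm, fun z hz => hTinvV z (Subgroup.mem_sup_left hz), hTC, fun c hc => hc.1, ?_, ?_, ?_⟩
  · intro σ hσ c hc
    apply hfixT
    have h1 := congrArg (fun φ : MulAut E => φ c) (hcomm σ hσ)
    simp only [MulAut.mul_apply] at h1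
    rw [← h1, hTC c hc]
  · intro e he
    obtain ⟨v, hv, c, hc, rfl⟩ := hdec e
    obtain ⟨z, hz, z', hz', rfl⟩ := Subgroup.mem_sup.mp hv
    obtain ⟨z₀, hz₀, rfl⟩ := hz'
    obtain ⟨k, hk⟩ := hgen' z₀ hz₀
    rw [show σ₀.toMonoidHom z₀ = σ₀ z₀ from rfl, hk] at he ⊢
    rw [map_mul, map_mul, htfix z hz, hc.1] at he
    have h1 : t (w' ^ k) = w' ^ k := mul_left_cancel (mul_right_cancel he)
    have h2 : g ^ k = 1 := by
      rw [hg, ← displacement_pow, h1, inv_mul_cancel]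
    have h4 : p ∣ k := by
      have h5 : orderOf g = p := orderOf_eq_prime (hWp g hgW) hg1
      rw [← h5]
      exact orderOf_dvd_of_pow_eq_one h2
    obtain ⟨q, rfl⟩ := h4
    refine ⟨z, hz, c, hc, ?_⟩
    rw [pow_mul, hw'p, one_pow, mul_one]
  · intro x hxC hxW
    apply hsq
    rw [← hTinvV x (Subgroup.mem_sup_left hxW), hTC x hxC]

/-- **The case `p = 2`.** -/
theorem exists_symmetric_three_structure {E : Type*} [CommGroup E] [Finite E] {p : ℕ} [hp : Fact p.Prime] (hp2 : p = 2)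
    (hE : IsPGroup p E)
    (A : Subgroup (MulAut E)) (t : MulAut E) (htA : t ∈ A) (ht1 : t ≠ 1)
    (W : Subgroup E) (hW : Nat.card W = p)
    (htW : ∀ e : E, e⁻¹ * t e ∈ W) (htfix : ∀ w ∈ W, t w = w)
    (hsyl : ∀ P : Subgroup (MulAut E), P ≤ A → IsPGroup p P →
      ∃ σ ∈ A, ∀ φ ∈ P, σ * φ * σ⁻¹ ∈ Subgroup.zpowers t)
    (hnn : ∃ σ ∈ A, σ * t * σ⁻¹ ∉ Subgroup.zpowers t) :
    ∃ (w w' : E) (V C : Subgroup E), w ∈ W ∧ w ≠ 1 ∧ w * w = 1 ∧ w' * w' = 1 ∧ t w' = w' * w ∧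
      (∀ z ∈ W, z = 1 ∨ z = w) ∧ W ≤ V ∧ w' ∈ V ∧
      (∀ v ∈ V, v = 1 ∨ v = w ∨ v = w' ∨ v = w * w') ∧
      (∀ σ ∈ A, ∀ v ∈ V, σ v ∈ V) ∧ (∀ σ ∈ A, ∀ c ∈ C, σ c ∈ C) ∧
      (∀ c ∈ C, t c = c) ∧ (∀ x, x ∈ C → x ∈ V → x = 1) ∧
      (∀ e : E, ∃ v ∈ V, ∃ c ∈ C, e = v * c) ∧
      (∀ e : E, t e = e → ∃ z ∈ W, ∃ c ∈ C, e = z * c) ∧
      (∀ α ∈ A, ∃ l ∈ A, (∀ e : E, e⁻¹ * l e ∈ V) ∧ (l⁻¹ * α) * t = t * (l⁻¹ * α)) := by
  classical
  have hpp := hp.out
  have hfin : Finite (MulAut E) := Finite.of_injective (fun α : MulAut E => (α : E → E)) DFunLike.coe_injective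
  have hWp : ∀ w ∈ W, w ^ p = 1 := by
    intro w hw
    have : (⟨w, hw⟩ : W) ^ Nat.card W = 1 := pow_card_eq_one'
    rw [hW] at this
    exact congrArg Subtype.val this
  have htpow := transvection_pow_apply t W htW htfix
  have htp : t ^ p = 1 := by
    ext e
    rw [htpow, hWp _ (htW e), mul_one]
    rfl
  have hord : orderOf t = p := orderOf_eq_prime htp ht1
  have hcardZ : Nat.card (Subgroup.zpowers t) = p := by rw [Nat.card_zpowers, hord]
  -- elements of `zpowers t` are natural powers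
  have hzp : ∀ φ ∈ Subgroup.zpowers t, ∃ m : ℕ, t ^ m = φ := by
    intro φ hφ
    rw [← mem_powers_iff_mem_zpowers] at hφ
    exact (Submonoid.mem_powers_iff _ _).mp hφ
  -- generation of `W`
  have hgen : ∀ g ∈ W, g ≠ 1 → ∀ z ∈ W, ∃ k : ℕ, g ^ k = z := by
    intro g hg hg1 z hz
    have h1 : (⟨g, hg⟩ : W) ≠ 1 := fun h => hg1 (congrArg Subtype.val h)
    obtain ⟨k, hk⟩ := mem_powers_of_prime_card (G := W) hW (g := ⟨g, hg⟩) (g' := ⟨z, hz⟩) h1
    exact ⟨k, by simpa using congrArg Subtype.val hk⟩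
  -- key lemmas
  have K := conj_mem_zpowers_of_centre_le_axis' hE A t htA ht1 W hWp htW htfix hsyl
  -- the displacement map is onto `W`
  have hdsurj : ∀ w ∈ W, ∃ e : E, e⁻¹ * t e = w := by
    obtain ⟨e₁, he₁⟩ : ∃ e₁ : E, t e₁ ≠ e₁ := by
      by_contra hcon
      push Not at hcon
      exact ht1 (MulEquiv.ext hcon)
    have hg1 : e₁⁻¹ * t e₁ ≠ 1 := by
      intro h
      apply he₁
      rw [inv_mul_eq_one] at h
      exact h.symm
    intro w hw
    obtain ⟨k, hk⟩ := hgen _ (htW e₁) hg1 w hw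
    exact ⟨e₁ ^ k, by rw [displacement_pow, hk]⟩
  have K' : ∀ σ ∈ A, (∀ w ∈ W, t (σ w) = σ w) → ∀ w ∈ W, σ w ∈ W := by
    intro σ hσ hfix w hw
    obtain ⟨m, hm⟩ := hzp _ (K σ hσ hfix)
    obtain ⟨e₀, rfl⟩ := hdsurj w hw
    have h1 : σ (e₀⁻¹ * t e₀) = (σ e₀)⁻¹ * (σ * t * σ⁻¹) (σ e₀) := by
      simp [MulAut.mul_apply, map_mul, map_inv]
    rw [h1, ← hm, htpow, inv_mul_cancel_left]
    exact W.pow_mem (htW _) _
  -- conjugates have order `p`
  have hconjp : ∀ σ : MulAut E, (σ * t * σ⁻¹) ^ p = 1 := by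
    intro σ
    rw [conj_pow, htp, mul_one, mul_inv_cancel]
  have Kd : ∀ σ ∈ A, (∀ w ∈ W, (σ * t * σ⁻¹) w = w) → σ * t * σ⁻¹ ∈ Subgroup.zpowers t := by
    intro σ hσ hfix
    have h1 : σ⁻¹ * t * σ⁻¹⁻¹ ∈ Subgroup.zpowers t := by
      apply K σ⁻¹ (A.inv_mem hσ)
      intro w hw
      have := hfix w hw
      rw [MulAut.mul_apply, MulAut.mul_apply] at this
      have h2 := congrArg (fun y => σ⁻¹ y) this
      simpa using h2
    obtain ⟨m, hm⟩ := hzp _ h1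
    rw [inv_inv] at hm
    have h2 : t = (σ * t * σ⁻¹) ^ m := by
      rw [conj_pow, hm]
      group
    have hne : σ * t * σ⁻¹ ≠ 1 := by
      intro h
      apply ht1
      rw [h2, h, one_pow]
    have hord' : orderOf (σ * t * σ⁻¹) = p := orderOf_eq_prime (hconjp σ) hne
    have hle : Subgroup.zpowers t ≤ Subgroup.zpowers (σ * t * σ⁻¹) := by
      rw [Subgroup.zpowers_le]
      have hmem : (σ * t * σ⁻¹) ^ m ∈ Subgroup.zpowers (σ * t * σ⁻¹) :=
        Subgroup.pow_mem _ (Subgroup.mem_zpowers _) _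
      rwa [← h2] at hmem
    have heq : Subgroup.zpowers t = Subgroup.zpowers (σ * t * σ⁻¹) :=
      Subgroup.eq_of_le_of_card_ge hle (by rw [hcardZ, Nat.card_zpowers, hord'])
    rw [heq]
    exact Subgroup.mem_zpowers _
  -- a second Sylow subgroup
  obtain ⟨σ₀, hσ₀, hσ₀t⟩ := hnn
  set t' := σ₀ * t * σ₀⁻¹ with ht'
  have ht'A : t' ∈ A := A.mul_mem (A.mul_mem hσ₀ htA) (A.inv_mem hσ₀)
  -- `t'` is a transvection with centre `σ₀ W`
  have ht'W : ∀ e : E, ∃ z ∈ W, e⁻¹ * t' e = σ₀ z := by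
    intro e
    exact ⟨_, htW _, conj_displacement σ₀ t e⟩
  have ht'fix : ∀ z ∈ W, t' (σ₀ z) = σ₀ z := by
    intro z hz
    show (σ₀ * t * σ₀⁻¹) (σ₀ z) = σ₀ z
    simp [MulAut.mul_apply, htfix z hz]
  obtain ⟨w, hwW, hw⟩ : ∃ w ∈ W, t' w ≠ w := by
    by_contra hcon
    push Not at hcon
    exact hσ₀t (Kd σ₀ hσ₀ hcon)
  obtain ⟨w₁, hw₁W, hw₁⟩ : ∃ w₁ ∈ W, t (σ₀ w₁) ≠ σ₀ w₁ := by
    by_contra hcon
    push Not at hcon
    exact hσ₀t (K σ₀ hσ₀ hcon)
  have hw1 : w ≠ 1 := by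
    rintro rfl
    exact hw (map_one _)
  obtain ⟨w', hw'⟩ : ∃ w' : E, w' = w⁻¹ * t' w := ⟨_, rfl⟩
  have hw'1 : w' ≠ 1 := by
    intro h
    apply hw
    rw [hw', inv_mul_eq_one] at h
    exact h.symm
  obtain ⟨w₂, hw₂W, hw₂⟩ := ht'W w
  rw [← hw'] at hw₂
  have hw₂1 : w₂ ≠ 1 := by
    rintro rfl
    rw [map_one] at hw₂
    exact hw'1 hw₂
  -- `σ₀ W` is generated by `w'`
  have hgen' : ∀ z ∈ W, ∃ k : ℕ, σ₀ z = w' ^ k := by
    intro z hz
    obtain ⟨k, hk⟩ := hgen w₂ hw₂W hw₂1 z hz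
    exact ⟨k, by rw [← hk, map_pow, ← hw₂]⟩
  have htw' : t w' ≠ w' := by
    intro h
    apply hw₁
    obtain ⟨k, hk⟩ := hgen' w₁ hw₁W
    rw [hk, map_pow, h]
  have ht'w' : t' w' = w' := by
    rw [hw₂]
    exact ht'fix w₂ hw₂W
  obtain ⟨g, hg⟩ : ∃ g : E, g = w'⁻¹ * t w' := ⟨_, rfl⟩
  have hgW : g ∈ W := hg ▸ htW w'
  have hg1 : g ≠ 1 := by
    intro h
    apply htw'
    rw [hg, inv_mul_eq_one] at h
    exact h.symm
  obtain ⟨i, hi⟩ := hgen g hgW hg1 w⁻¹ (W.inv_mem hwW)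
  set X := t ^ i with hX
  have hXA : X ∈ A := A.pow_mem htA i
  have hXfix : ∀ e : E, t e = e → X e = e := by
    intro e he
    rw [hX, htpow, he, inv_mul_cancel, one_pow, mul_one]
  have hXw : X w = w := hXfix w (htfix w hwW)
  have hXw' : X w' = w' * w⁻¹ := by rw [hX, htpow, ← hg, hi]
  have hYw : t' w = w * w' := by rw [hw', mul_inv_cancel_left]
  set N := X * t' * X with hN
  have hNw : N w = w' := by
    rw [hN, MulAut.mul_apply, MulAut.mul_apply, hXw, hYw, map_mul, hXw, hXw', mul_comm w' w⁻¹, mul_inv_cancel_left]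
  have hNw' : N w' = w⁻¹ := by
    rw [hN, MulAut.mul_apply, MulAut.mul_apply, hXw', map_mul, map_inv, ht'w', hYw, mul_inv, mul_comm w⁻¹ w'⁻¹,
      mul_inv_cancel_left, map_inv, hXw]
  set T := N * N with hT
  have hTA : T ∈ A := by
    have hNA : N ∈ A := A.mul_mem (A.mul_mem hXA ht'A) hXA
    exact A.mul_mem hNA hNA
  have hTw : T w = w⁻¹ := by rw [hT, MulAut.mul_apply, hNw, hNw']
  have hTw' : T w' = w'⁻¹ := by rw [hT, MulAut.mul_apply, hNw', map_inv, hNw]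
  -- the common fixed points
  let C₀ : Subgroup E :=
    { carrier := {e | t e = e ∧ t' e = e}
      one_mem' := ⟨map_one _, map_one _⟩
      mul_mem' := by
        rintro a b ⟨ha, ha'⟩ ⟨hb, hb'⟩
        exact ⟨by rw [map_mul, ha, hb], by rw [map_mul, ha', hb']⟩
      inv_mem' := by
        rintro a ⟨ha, ha'⟩
        exact ⟨by rw [map_inv, ha], by rw [map_inv, ha']⟩ }
  have hTC : ∀ c ∈ C₀, T c = c := by
    rintro c ⟨hc, hc'⟩
    have h1 : N c = c := by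
      rw [hN, MulAut.mul_apply, MulAut.mul_apply, hXfix c hc, hc', hXfix c hc]
    rw [hT, MulAut.mul_apply, h1, h1]
  -- `V = W × σ₀ W`
  set W' : Subgroup E := W.map σ₀.toMonoidHom with hW'
  set V : Subgroup E := W ⊔ W' with hV
  have hWgenw : ∀ z ∈ W, ∃ k : ℕ, w ^ k = z := hgen w hwW hw1
  have hTinvV : ∀ v ∈ V, T v = v⁻¹ := by
    intro v hv
    obtain ⟨z, hz, z', hz', rfl⟩ := Subgroup.mem_sup.mp hv
    obtain ⟨z₀, hz₀, rfl⟩ := hz'
    obtain ⟨k, rfl⟩ := hWgenw z hz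
    obtain ⟨k', hk'⟩ := hgen' z₀ hz₀
    rw [show σ₀.toMonoidHom z₀ = σ₀ z₀ from rfl, hk', map_mul, map_pow, map_pow, hTw, hTw', mul_inv, inv_pow,
      inv_pow]
  have hw'V : w' ∈ V := Subgroup.mem_sup_right ⟨w₂, hw₂W, hw₂.symm⟩
  have hgV : g ∈ V := Subgroup.mem_sup_left hgW
  have hw'p : w' ^ p = 1 := by rw [hw₂, ← map_pow, hWp w₂ hw₂W, map_one]
  have hVp : ∀ v ∈ V, v ^ p = 1 := by
    intro v hv
    obtain ⟨z, hz, z', hz', rfl⟩ := Subgroup.mem_sup.mp hv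
    obtain ⟨z₀, hz₀, rfl⟩ := hz'
    rw [mul_pow, hWp z hz, show σ₀.toMonoidHom z₀ = σ₀ z₀ from rfl, ← map_pow, hWp z₀ hz₀, map_one, one_mul]
  have hd' : ∀ e : E, ∃ k : ℕ, e⁻¹ * t' e = w' ^ k := by
    intro e
    obtain ⟨z, hz, hze⟩ := ht'W e
    obtain ⟨k, hk⟩ := hgen' z hz
    exact ⟨k, by rw [hze, hk]⟩
  have hd : ∀ e : E, ∃ k : ℕ, e⁻¹ * t e = g ^ k := by
    intro e
    obtain ⟨k, hk⟩ := hgen g hgW hg1 _ (htW e)
    exact ⟨k, hk.symm⟩
  -- decomposition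
  have hdec : ∀ e : E, ∃ v ∈ V, ∃ c ∈ C₀, e = v * c := by
    intro e
    obtain ⟨b, hb⟩ := hd e
    obtain ⟨a, ha⟩ := hd' e
    set v := w ^ a * w' ^ b with hv
    have hvV : v ∈ V := V.mul_mem (V.pow_mem (Subgroup.mem_sup_left hwW) _) (V.pow_mem hw'V _)
    have htv : v⁻¹ * t v = g ^ b := by
      rw [hv, displacement_mul, displacement_pow, displacement_pow, htfix w hwW, inv_mul_cancel, one_pow, one_mul,
        ← hg]
    have ht'v : v⁻¹ * t' v = w' ^ a := by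
      rw [hv, displacement_mul, displacement_pow, displacement_pow, ht'w', inv_mul_cancel, one_pow, mul_one,
        ← hw']
    have h1 : t e = e * g ^ b := by rw [← hb, mul_inv_cancel_left]
    have h2 : t v = v * g ^ b := by rw [← htv, mul_inv_cancel_left]
    have h1' : t' e = e * w' ^ a := by rw [← ha, mul_inv_cancel_left]
    have h2' : t' v = v * w' ^ a := by rw [← ht'v, mul_inv_cancel_left]
    refine ⟨v, hvV, e * v⁻¹, ?_, by rw [mul_comm e, mul_inv_cancel_left]⟩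
    show t (e * v⁻¹) = e * v⁻¹ ∧ t' (e * v⁻¹) = e * v⁻¹
    constructor
    · rw [map_mul, map_inv, h1, h2, mul_inv, mul_mul_mul_comm, mul_inv_cancel, mul_one]
    · rw [map_mul, map_inv, h1', h2', mul_inv, mul_mul_mul_comm, mul_inv_cancel, mul_one]
  have hTE : ∀ e : E, e⁻¹ * T e ∈ V := by
    intro e
    obtain ⟨v, hv, c, hc, rfl⟩ := hdec e
    rw [map_mul, hTinvV v hv, hTC c hc]
    have : (v * c)⁻¹ * (v⁻¹ * c) = v⁻¹ * v⁻¹ := by
      rw [mul_inv, mul_mul_mul_comm, inv_mul_cancel, mul_one]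
    rw [this]
    exact V.mul_mem (V.inv_mem hv) (V.inv_mem hv)
  have hTT : T * T = 1 := by
    ext e
    obtain ⟨v, hv, c, hc, rfl⟩ := hdec e
    rw [MulAut.mul_apply, map_mul, hTinvV v hv, hTC c hc, map_mul, map_inv, hTinvV v hv, inv_inv, hTC c hc]
    rfl
  -- all centres lie in `V`
  have hVW : ∀ ρ ∈ A, ∀ z ∈ W, ρ z ∈ V := by
    intro ρ hρ z hz
    by_contra hzV
    obtain ⟨t'', ht''⟩ : ∃ t'' : MulAut E, t'' = ρ * t * ρ⁻¹ := ⟨_, rfl⟩
    have hb : ¬ ∀ y ∈ W, t'' y = y := by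
      intro hfix
      rw [ht''] at hfix
      obtain ⟨m, hm⟩ := hzp _ (Kd ρ hρ hfix)
      obtain ⟨e₀, rfl⟩ := hdsurj z hz
      apply hzV
      have h1 : ρ (e₀⁻¹ * t e₀) = (ρ e₀)⁻¹ * (ρ * t * ρ⁻¹) (ρ e₀) := by
        simp [MulAut.mul_apply, map_mul, map_inv]
      rw [h1, ← hm, htpow, inv_mul_cancel_left]
      exact Subgroup.mem_sup_left (W.pow_mem (htW _) _)
    push Not at hb
    obtain ⟨y, hyW, hy⟩ := hb
    have hg'' : t'' g ≠ g := by
      intro h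
      apply hy
      obtain ⟨k, rfl⟩ := hgen g hgW hg1 y hyW
      rw [map_pow, h]
    obtain ⟨z₃, hz₃W, hz₃⟩ : ∃ z₃ ∈ W, g⁻¹ * t'' g = ρ z₃ := ⟨_, htW _, ht'' ▸ conj_displacement ρ t g⟩
    obtain ⟨z₄, hz₄W, hz₄⟩ : ∃ z₄ ∈ W, w'⁻¹ * t'' w' = ρ z₄ := ⟨_, htW _, ht'' ▸ conj_displacement ρ t w'⟩
    have hz₃1 : z₃ ≠ 1 := by
      rintro rfl
      rw [map_one, inv_mul_eq_one] at hz₃
      exact hg'' hz₃.symm
    obtain ⟨k, hk⟩ := hgen z₃ hz₃W hz₃1 z₄⁻¹ (W.inv_mem hz₄W)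
    obtain ⟨v₁, hv₁⟩ : ∃ v₁ : E, v₁ = (t ^ k) w' := ⟨_, rfl⟩
    have hv₁' : v₁ = w' * g ^ k := by rw [hv₁, htpow, ← hg]
    have hv₁fix : t'' v₁ = v₁ := by
      have h1 : v₁⁻¹ * t'' v₁ = 1 := by
        rw [hv₁', displacement_mul, displacement_pow, hz₃, hz₄, ← map_pow, hk, map_inv, mul_inv_cancel]
      rw [inv_mul_eq_one] at h1
      exact h1.symm
    obtain ⟨σ, hσ⟩ : ∃ σ : MulAut E, σ = ρ⁻¹ * t ^ k * σ₀ := ⟨_, rfl⟩
    have hσA : σ ∈ A := hσ ▸ A.mul_mem (A.mul_mem (A.inv_mem hρ) (A.pow_mem htA k)) hσ₀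
    have hσy : ∀ y ∈ W, ∃ m : ℕ, σ y = ρ⁻¹ (v₁ ^ m) := by
      intro y hy
      obtain ⟨m, hm⟩ := hgen' y hy
      refine ⟨m, ?_⟩
      rw [hσ, MulAut.mul_apply, MulAut.mul_apply, hm, map_pow, ← hv₁]
    have hσfix : ∀ y ∈ W, t (σ y) = σ y := by
      intro y hy
      obtain ⟨m, hm⟩ := hσy y hy
      rw [hm]
      have h1 : t'' (v₁ ^ m) = v₁ ^ m := by rw [map_pow, hv₁fix]
      rw [ht'', MulAut.mul_apply, MulAut.mul_apply] at h1
      have h2 := congrArg (fun x => ρ⁻¹ x) h1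
      simpa using h2
    have hσW := K' σ hσA hσfix
    have h5 : σ w₂ = ρ⁻¹ v₁ := by
      rw [hσ, MulAut.mul_apply, MulAut.mul_apply, ← hw₂, ← hv₁]
    have h6 : ρ⁻¹ v₁ ∈ W := h5 ▸ hσW w₂ hw₂W
    have hv₁1 : ρ⁻¹ v₁ ≠ 1 := by
      intro h
      rw [hv₁] at h
      have h7 : (t ^ k) w' = 1 := (map_eq_one_iff _ (MulEquiv.injective _)).mp h
      exact hw'1 ((map_eq_one_iff _ (MulEquiv.injective _)).mp h7)
    obtain ⟨j, hj⟩ := hgen _ h6 hv₁1 z hz
    apply hzV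
    rw [← hj, map_pow, MulAut.apply_inv_self]
    exact V.pow_mem (hv₁' ▸ V.mul_mem hw'V (V.pow_mem hgV k)) j
  have hVinv : ∀ ρ ∈ A, ∀ v ∈ V, ρ v ∈ V := by
    intro ρ hρ v hv
    obtain ⟨z, hz, z', hz', rfl⟩ := Subgroup.mem_sup.mp hv
    obtain ⟨z₀, hz₀, rfl⟩ := hz'
    rw [map_mul]
    exact V.mul_mem (hVW ρ hρ z hz) (hVW (ρ * σ₀) (A.mul_mem hρ hσ₀) z₀ hz₀)
  -- `p = 2` specifics
  have hw2 : w * w = 1 := by
    have := hWp w hwW
    rwa [hp2, pow_two] at this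
  have hw'2 : w' * w' = 1 := by
    have := hw'p
    rwa [hp2, pow_two] at this
  have hWtwo : ∀ z ∈ W, z = 1 ∨ z = w := by
    intro z hz
    obtain ⟨k, hk⟩ := hWgenw z hz
    rcases Nat.even_or_odd' k with ⟨m, hm | hm⟩
    · left
      rw [← hk, hm, pow_mul, pow_two, hw2, one_pow]
    · right
      rw [← hk, hm, pow_succ, pow_mul, pow_two, hw2, one_pow, one_mul]
  have hgw : g = w := (hWtwo g hgW).resolve_left hg1
  have hw₂w : w₂ = w := (hWtwo w₂ hw₂W).resolve_left hw₂1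
  have hσ₀w : σ₀ w = w' := by rw [← hw₂w]; exact hw₂.symm
  have htw'eq : t w' = w' * w := by rw [← hgw, hg, mul_inv_cancel_left]
  have hVfour : ∀ v ∈ V, v = 1 ∨ v = w ∨ v = w' ∨ v = w * w' := by
    intro v hv
    obtain ⟨z, hz, z', hz', rfl⟩ := Subgroup.mem_sup.mp hv
    obtain ⟨z₀, hz₀, rfl⟩ := hz'
    rw [show σ₀.toMonoidHom z₀ = σ₀ z₀ from rfl]
    rcases hWtwo z hz with h1 | h1 <;> rcases hWtwo z₀ hz₀ with h2 | h2
    · left
      rw [h1, h2, map_one, one_mul]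
    · right; right; left
      rw [h1, h2, hσ₀w, one_mul]
    · right; left
      rw [h1, h2, map_one, mul_one]
    · right; right; right
      rw [h1, h2, hσ₀w]
  have ht2 : t * t = 1 := by rw [← pow_two, ← hp2, htp]
  have ht'2 : t' * t' = 1 := by
    have := hconjp σ₀
    rwa [hp2, pow_two] at this
  have htinv : t⁻¹ = t := inv_eq_of_mul_eq_one_right ht2
  have ht'inv : t'⁻¹ = t' := inv_eq_of_mul_eq_one_right ht'2
  have htw : t w = w := htfix w hwW
  -- values of the two "long" words on `w`, `w'`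
  have hA1 : (t * t' * t) w = w' := by
    rw [MulAut.mul_apply, MulAut.mul_apply, htw, hYw, map_mul, htw, htw'eq, mul_comm w' w, ← mul_assoc, hw2,
      one_mul]
  have hA2 : (t * t' * t) w' = w := by
    rw [MulAut.mul_apply, MulAut.mul_apply, htw'eq, map_mul, ht'w', hYw, mul_comm w w', ← mul_assoc, hw'2, one_mul,
      htw]
  have hB1 : (t' * t * t') w = w' := by
    rw [MulAut.mul_apply, MulAut.mul_apply, hYw, map_mul, htw, htw'eq, mul_comm w' w, ← mul_assoc, hw2, one_mul,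
      ht'w']
  have hB2 : (t' * t * t') w' = w := by
    rw [MulAut.mul_apply, MulAut.mul_apply, ht'w', htw'eq, map_mul, ht'w', hYw, mul_comm w w', ← mul_assoc, hw'2,
      one_mul]
  have hbraid : t * t' * t = t' * t * t' := by
    apply MulEquiv.ext
    intro e
    obtain ⟨v, hv, c, hc, rfl⟩ := hdec e
    have hc1 : (t * t' * t) c = c := by
      rw [MulAut.mul_apply, MulAut.mul_apply, hc.1, hc.2, hc.1]
    have hc2 : (t' * t * t') c = c := by
      rw [MulAut.mul_apply, MulAut.mul_apply, hc.2, hc.1, hc.2]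
    have hv1 : (t * t' * t) v = (t' * t * t') v := by
      rcases hVfour v hv with h | h | h | h
      · rw [h, map_one, map_one]
      · rw [h, hA1, hB1]
      · rw [h, hA2, hB2]
      · rw [h, map_mul, map_mul, hA1, hA2, hB1, hB2]
    rw [map_mul, map_mul, hc1, hc2, hv1]
  -- all conjugates of `t`
  have hbase : ∀ β ∈ A, β w = w → β * t * β⁻¹ = t := by
    intro β hβ hβw
    have hβw' : β⁻¹ w = w := by
      have := congrArg (fun y => β⁻¹ y) hβw
      simpa using this.symm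
    have h1 : β * t * β⁻¹ ∈ Subgroup.zpowers t := by
      apply Kd β hβ
      intro z hz
      rcases hWtwo z hz with h | h
      · rw [h, map_one]
      · rw [h, MulAut.mul_apply, MulAut.mul_apply, hβw', htw, hβw]
    obtain ⟨m, hm⟩ := hzp _ h1
    rcases Nat.even_or_odd' m with ⟨k, hk | hk⟩
    · exfalso
      rw [hk, pow_mul, pow_two, ht2, one_pow] at hm
      apply ht1
      have := congrArg (fun x => β⁻¹ * x * β) hm
      simpa [mul_assoc] using this.symm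
    · rw [hk, pow_succ, pow_mul, pow_two, ht2, one_pow, one_mul] at hm
      exact hm.symm
  have hconj3 : ∀ α ∈ A, α * t * α⁻¹ = t ∨ α * t * α⁻¹ = t' ∨ α * t * α⁻¹ = t * t' * t := by
    intro α hα
    rcases hVfour (α w) (hVW α hα w hwW) with h | h | h | h
    · exfalso
      exact hw1 ((map_eq_one_iff _ (MulEquiv.injective _)).mp h)
    · left
      exact hbase α hα h
    · right; left
      have h1 := hbase (σ₀⁻¹ * α) (A.mul_mem (A.inv_mem hσ₀) hα)
        (by rw [MulAut.mul_apply, h, ← hσ₀w, MulAut.inv_apply_self])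
      have h2 := congrArg (fun x => σ₀ * x * σ₀⁻¹) h1
      simp only [mul_inv_rev, inv_inv] at h2
      rw [ht', ← h2]
      group
    · right; right
      have h0 : (t * σ₀) w = α w := by
        rw [MulAut.mul_apply, hσ₀w, htw'eq, h, mul_comm]
      have h1 := hbase ((t * σ₀)⁻¹ * α) (A.mul_mem (A.inv_mem (A.mul_mem htA hσ₀)) hα)
        (by rw [MulAut.mul_apply, ← h0, MulAut.inv_apply_self])
      have h2 := congrArg (fun x => (t * σ₀) * x * (t * σ₀)⁻¹) h1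
      simp only [mul_inv_rev, inv_inv] at h2
      have h3 : α * t * α⁻¹ = t * σ₀ * t * (σ₀⁻¹ * t⁻¹) := by
        rw [← h2]
        group
      rw [h3, htinv, ht']
      group
  -- invariance of `C₀`
  have hfix3 : ∀ c ∈ C₀, ∀ α ∈ A, (α * t * α⁻¹) c = c := by
    intro c hc α hα
    rcases hconj3 α hα with h | h | h
    · rw [h]
      exact hc.1
    · rw [h]
      exact hc.2
    · rw [h, MulAut.mul_apply, MulAut.mul_apply, hc.1, hc.2, hc.1]
  have hC₀inv : ∀ α ∈ A, ∀ c ∈ C₀, α c ∈ C₀ := by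
    intro α hα c hc
    show t (α c) = α c ∧ t' (α c) = α c
    constructor
    · have h1 := hfix3 c hc α⁻¹ (A.inv_mem hα)
      rw [inv_inv, MulAut.mul_apply, MulAut.mul_apply] at h1
      have h2 := congrArg (fun y => α y) h1
      simpa using h2
    · have h1 := hfix3 c hc (α⁻¹ * σ₀) (A.mul_mem (A.inv_mem hα) hσ₀)
      have h3 : α⁻¹ * σ₀ * t * (α⁻¹ * σ₀)⁻¹ = α⁻¹ * t' * α := by
        rw [ht']
        group
      rw [h3, MulAut.mul_apply, MulAut.mul_apply] at h1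
      have h2 := congrArg (fun y => α y) h1
      simpa using h2
  -- displacements
  have hdt : ∀ e : E, e⁻¹ * t e ∈ V := fun e => Subgroup.mem_sup_left (htW e)
  have hdt' : ∀ e : E, e⁻¹ * t' e ∈ V := by
    intro e
    obtain ⟨z, hz, hze⟩ := ht'W e
    rw [hze]
    exact Subgroup.mem_sup_right ⟨z, hz, rfl⟩
  have hdmul : ∀ φ ψ : MulAut E, (∀ e : E, e⁻¹ * φ e ∈ V) → (∀ e : E, e⁻¹ * ψ e ∈ V) →
      ∀ e : E, e⁻¹ * (φ * ψ) e ∈ V := by
    intro φ ψ hφ hψ e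
    have : e⁻¹ * (φ * ψ) e = (e⁻¹ * ψ e) * ((ψ e)⁻¹ * φ (ψ e)) := by
      rw [MulAut.mul_apply, mul_assoc, mul_inv_cancel_left]
    rw [this]
    exact V.mul_mem (hψ e) (hφ _)
  refine ⟨w, w', V, C₀, hwW, hw1, hw2, hw'2, htw'eq, hWtwo, le_sup_left, hw'V, hVfour, hVinv, hC₀inv,
    fun c hc => hc.1, ?_, hdec, ?_, ?_⟩
  · intro x hxC hxV
    rcases hVfour x hxV with h | h | h | h
    · exact h
    · exfalso
      have := hxC.2
      rw [h, hYw] at this
      exact hw'1 (mul_eq_left.mp this)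
    · exfalso
      have := hxC.1
      rw [h] at this
      exact htw' this
    · exfalso
      have := hxC.1
      rw [h, map_mul, htw, htw'eq, mul_comm w' w, ← mul_assoc, hw2, one_mul] at this
      have h5 : w = 1 := by
        have h6 : w * w' = 1 * w' := by rw [one_mul]; exact this.symm
        exact mul_right_cancel h6
      exact hw1 h5
  · intro e he
    obtain ⟨v, hv, c, hc, rfl⟩ := hdec e
    rw [map_mul, hc.1] at he
    have hv' : t v = v := mul_right_cancel he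
    rcases hVfour v hv with h | h | h | h
    · exact ⟨1, W.one_mem, c, hc, by rw [h]⟩
    · exact ⟨w, hwW, c, hc, by rw [h]⟩
    · exfalso
      rw [h] at hv'
      exact htw' hv'
    · exfalso
      rw [h, map_mul, htw, htw'eq, mul_comm w' w, ← mul_assoc, hw2, one_mul] at hv'
      have h5 : w = 1 := by
        have h6 : w * w' = 1 * w' := by rw [one_mul]; exact hv'.symm
        exact mul_right_cancel h6
      exact hw1 h5
  · intro α hα
    rcases hconj3 α hα with h | h | h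
    · refine ⟨1, A.one_mem, fun e => by simp, ?_⟩
      rw [inv_one, one_mul]
      have := mul_inv_eq_iff_eq_mul.mp h
      exact this
    · refine ⟨t * t' * t, A.mul_mem (A.mul_mem htA ht'A) htA, hdmul _ _ (hdmul _ _ hdt hdt') hdt, ?_⟩
      have h1 : (t * t' * t) * t * (t * t' * t)⁻¹ = t' := by
        rw [mul_inv_rev, mul_inv_rev, htinv, ht'inv]
        calc t * t' * t * t * (t * (t' * t)) = t * t' * (t * t) * (t * t' * t) := by group
          _ = t * t' * (t' * t * t') := by rw [ht2, mul_one, hbraid]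
          _ = t * (t' * t') * t * t' := by group
          _ = t * t * t' := by rw [ht'2, mul_one]
          _ = t' := by rw [ht2, one_mul]
      have h2 : ((t * t' * t)⁻¹ * α) * t * ((t * t' * t)⁻¹ * α)⁻¹ = t := by
        have : ((t * t' * t)⁻¹ * α) * t * ((t * t' * t)⁻¹ * α)⁻¹
            = (t * t' * t)⁻¹ * (α * t * α⁻¹) * (t * t' * t) := by group
        rw [this, h]
        calc (t * t' * t)⁻¹ * t' * (t * t' * t)
            = (t * t' * t)⁻¹ * ((t * t' * t) * t * (t * t' * t)⁻¹) * (t * t' * t) := by rw [h1]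
          _ = t := by group
      exact mul_inv_eq_iff_eq_mul.mp h2
    · refine ⟨t', ht'A, hdt', ?_⟩
      have h1 : t' * t * t'⁻¹ = t * t' * t := by rw [ht'inv, hbraid]
      have h2 : (t'⁻¹ * α) * t * (t'⁻¹ * α)⁻¹ = t := by
        have : (t'⁻¹ * α) * t * (t'⁻¹ * α)⁻¹ = t'⁻¹ * (α * t * α⁻¹) * t' := by group
        rw [this, h]
        calc t'⁻¹ * (t * t' * t) * t' = t'⁻¹ * (t' * t * t'⁻¹) * t' := by rw [h1]
          _ = t := by group
      exact mul_inv_eq_iff_eq_mul.mp h2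

end Cfsg.Agent.Lib.Helper86
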