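import Cfsg.Agent.Lib.Helper86.Transvection
import Cfsg.Agent.Lib.Helper86.SL2Inv2
import Cfsg.Agent.Lib.Helper86.FusionExt
import Cfsg.Agent.Lib.Helper86.FocalBound
import Cfsg.Agent.Lib.Helper86.CenterIndexSq
import Cfsg.Agent.Lib.Helper84.Alperin2
import Cfsg.Agent.Lib.Helper85.FusionNormal
import Cfsg.Agent.Lib.Helper87.OliverIndexP
import Cfsg.Agent.Lib.Helper73.QuatIso

/-! Essential subgroups of a `p`-group whose centre has index `p ^ 2` (helper86). -/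

set_option autoImplicit false
open Cfsg

namespace Cfsg.Agent.Lib.Helper86

open scoped commutatorElement

/-- The transvection data attached to an essential subgroup (any prime). -/
theorem essential_transvection {Ω : Type*} [Group Ω] {S : Subgroup Ω} [Finite S] (p : ℕ) [Fact p.Prime]
    (hS : IsPGroup p S) (F : Cfsg.FusionSystem S) (hF : F.IsSaturated p)
    (W : Subgroup Ω) (hWcard : Nat.card W = p) (hWZ : W ≤ S ⊓ Subgroup.centralizer (S : Set Ω))
    (hcomm : ∀ x ∈ S, ∀ y ∈ S, ⁅x, y⁆ ∈ W)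
    (hZidx : (S ⊓ Subgroup.centralizer (S : Set Ω)).relIndex S = p ^ 2)
    (E : Subgroup Ω) (hE : F.IsEssential p E) :
    ∃ (s : Ω) (t : MulAut E), s ∈ S ∧ s ∉ E ∧ E ≤ S ∧ S ⊓ Subgroup.centralizer (S : Set Ω) ≤ E ∧
      ((S ⊓ Subgroup.centralizer (S : Set Ω)).relIndex E = p ∧ E.relIndex S = p) ∧
      (∀ x : E, ((t x : E) : Ω) = s * x * s⁻¹) ∧ (∀ x y : E, x * y = y * x) ∧
      (∀ u ∈ S, ∃ e ∈ E, ∃ k : ℕ, u = e * s ^ k) ∧
      t ∈ F.autGroup E ∧ t ≠ 1 ∧ (∀ e : E, e⁻¹ * t e ∈ W.subgroupOf E) ∧ (∀ w ∈ W.subgroupOf E, t w = w) ∧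
      (∀ e : E, t e = e ↔ (e : Ω) ∈ S ⊓ Subgroup.centralizer (S : Set Ω)) ∧
      (∀ P : Subgroup (MulAut E), P ≤ F.autGroup E → IsPGroup p P →
        ∃ σ ∈ F.autGroup E, ∀ φ ∈ P, σ * φ * σ⁻¹ ∈ Subgroup.zpowers t) ∧
      (∃ σ ∈ F.autGroup E, σ * t * σ⁻¹ ∉ Subgroup.zpowers t) ∧
      (∀ ν ∈ F.autGroup E, ν * t = t * ν → ∃ ν' : MulAut S, ν' ∈ F.autGroup S ∧
        ∀ (x : Ω) (hx : x ∈ E) (hxS : x ∈ S), ((ν' ⟨x, hxS⟩ : S) : Ω) = ((ν ⟨x, hx⟩ : E) : Ω)) := by
  classical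
  have hpp : p.Prime := Fact.out
  have hEne : E ≠ S := Cfsg.Agent.Lib.Helper88.ne_top_of_essential F hF hE
  have hEcen : F.IsCentric E := hE.1
  obtain ⟨⟨hES, hcen⟩, hfn, hnorm, M, hM⟩ := hE
  have hEfin : Finite E := Finite.of_injective (Subgroup.inclusion hES) (Subgroup.inclusion_injective hES)
  have hEp : IsPGroup p E := hS.to_le hES
  set ZS : Subgroup Ω := S ⊓ Subgroup.centralizer (S : Set Ω) with hZS
  have hWS : W ≤ S := hWZ.trans inf_le_left
  have hWc : ∀ w ∈ W, ∀ s ∈ S, w * s = s * w := fun w hw s hs =>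
    (Subgroup.mem_centralizer_iff.mp (hWZ hw).2 s hs).symm
  have hZc : ∀ z ∈ ZS, ∀ s ∈ S, z * s = s * z := fun z hz s hs =>
    (Subgroup.mem_centralizer_iff.mp hz.2 s hs).symm
  have hZSE : ZS ≤ E := Cfsg.Agent.Lib.Helper87.center_le_of_centric F hEcen
  have hWE : W ≤ E := hWZ.trans hZSE
  -- `E ≠ Z(S)`
  have hEZ : ¬ E ≤ ZS := by
    intro hle
    apply hEne
    apply le_antisymm hES
    intro g hg
    apply hcen E (Cfsg.Agent.Lib.Helper87.isConj_refl F hES)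
    refine ⟨hg, ?_⟩
    show g ∈ Subgroup.centralizer (E : Set Ω)
    rw [Subgroup.mem_centralizer_iff]
    intro e he
    exact hZc e (hle he) g hg
  -- the two indices
  have hidx : ZS.relIndex E = p ∧ E.relIndex S = p := by
    have h1 := Subgroup.relIndex_mul_relIndex ZS E S hZSE hES
    rw [hZidx] at h1
    have h2 : ZS.relIndex E ≠ 1 := by
      rw [Ne, Subgroup.relIndex_eq_one]
      exact hEZ
    have h3 : E.relIndex S ≠ 1 := by
      rw [Ne, Subgroup.relIndex_eq_one]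
      intro h
      exact hEne (le_antisymm hES h)
    exact (Nat.Prime.mul_eq_prime_sq_iff hpp h2 h3).mp h1
  obtain ⟨x, hxE, hxZ⟩ : ∃ x ∈ E, x ∉ ZS := by
    by_contra hcon
    push Not at hcon
    exact hEZ hcon
  have hEdec : ∀ e ∈ E, ∃ z ∈ ZS, ∃ u ∈ Subgroup.zpowers x, e = z * u := fun e he =>
    Cfsg.Agent.Lib.Helper87.exists_decomp_of_relIndex_prime hEp hZSE hidx.1 hxE hxZ he
  have hab' : ∀ a ∈ E, ∀ b ∈ E, a * b = b * a := by
    intro a ha b hb
    obtain ⟨z, hz, u, hu, rfl⟩ := hEdec a ha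
    obtain ⟨z', hz', u', hu', rfl⟩ := hEdec b hb
    obtain ⟨k, rfl⟩ := Subgroup.mem_zpowers_iff.mp hu
    obtain ⟨k', rfl⟩ := Subgroup.mem_zpowers_iff.mp hu'
    have hxS : x ∈ S := hES hxE
    have h1 : x ^ k * x ^ k' = x ^ k' * x ^ k := by rw [← zpow_add, ← zpow_add, add_comm]
    have h2 := hZc z hz (x ^ k') (S.zpow_mem hxS k')
    have h3 := hZc z' hz' (x ^ k) (S.zpow_mem hxS k)
    have h4 := hZc z hz z' hz'.1
    calc z * x ^ k * (z' * x ^ k') = z * (x ^ k * z') * x ^ k' := by group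
      _ = z * (z' * x ^ k) * x ^ k' := by rw [h3]
      _ = (z * z') * (x ^ k * x ^ k') := by group
      _ = (z' * z) * (x ^ k' * x ^ k) := by rw [h4, h1]
      _ = z' * (z * x ^ k') * x ^ k := by group
      _ = z' * (x ^ k' * z) * x ^ k := by rw [h2]
      _ = z' * x ^ k' * (z * x ^ k) := by group
  have hab : ∀ x y : E, x * y = y * x := fun a b => Subtype.ext (hab' a a.2 b b.2)
  obtain ⟨s, hsS, hsE⟩ : ∃ s ∈ S, s ∉ E := by
    by_contra hcon
    push Not at hcon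
    exact hEne (le_antisymm hES hcon)
  have hdecS : ∀ u ∈ S, ∃ e ∈ E, ∃ k : ℕ, u = e * s ^ k := by
    intro u hu
    obtain ⟨e, he, v, hv, rfl⟩ := Cfsg.Agent.Lib.Helper87.exists_decomp_of_relIndex_prime hS hES hidx.2 hsS hsE hu
    have hfo : IsOfFinOrder s := by
      obtain ⟨k, hk⟩ := hS ⟨s, hsS⟩
      rw [isOfFinOrder_iff_pow_eq_one]
      refine ⟨p ^ k, pow_pos hpp.pos k, ?_⟩
      have := congrArg (Subtype.val : S → Ω) hk
      simpa using this
    rw [← hfo.mem_powers_iff_mem_zpowers] at hv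
    obtain ⟨k, rfl⟩ := (Submonoid.mem_powers_iff _ _).mp hv
    exact ⟨e, he, k, rfl⟩
  -- `S` normalises `E`
  have hEn : ∀ g ∈ S, ∀ e ∈ E, g * e * g⁻¹ ∈ E := by
    intro g hg e he
    have h1 : g * e * g⁻¹ = ⁅g, e⁆ * e := by rw [commutatorElement_def]; group
    rw [h1]
    exact E.mul_mem (hWE (hcomm g hg e (hES he))) he
  have hEn' : ∀ g ∈ S, ∀ e ∈ E, g⁻¹ * e * g ∈ E := by
    intro g hg e he
    have := hEn g⁻¹ (S.inv_mem hg) e he
    rwa [inv_inv] at this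
  have hnotinn : ∀ x (hx : x ∈ S), x ∉ E → conjAutOfMem E x (hEn x hx) (hEn' x hx) ∉ Cfsg.Inn ↥E := by
    rintro x hx hxE ⟨e₀, he₀⟩
    apply hxE
    refine Cfsg.Agent.Lib.Helper87.mem_of_induces_inner F hEcen hx e₀.2 (fun y hy => ?_)
    have h2 := congrArg (fun φ : MulAut ↥E => ((φ ⟨y, hy⟩ : E) : Ω)) he₀
    simp only [MulAut.conj_apply, conjAutOfMem_apply] at h2
    simpa using h2.symm
  have hmemU : ∀ x (hx : x ∈ S), conjAutOfMem E x (hEn x hx) (hEn' x hx) ∈ autInducedBy S E := by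
    intro x hx
    rw [Cfsg.Agent.Lib.Helper87.mem_autInducedBy_iff]
    exact ⟨x, hx, fun y => rfl⟩
  have hUA : autInducedBy S E ≤ F.autGroup E := Cfsg.Agent.Lib.Helper87.autInducedBy_le_autGroup F hES
  set t := conjAutOfMem E s (hEn s hsS) (hEn' s hsS) with ht
  have htA : t ∈ F.autGroup E := hUA (hmemU s hsS)
  have htinn : t ∉ Cfsg.Inn ↥E := hnotinn s hsS hsE
  have ht1 : t ≠ 1 := fun h => htinn (h ▸ Subgroup.one_mem _)
  set W' : Subgroup E := W.subgroupOf E with hW'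
  have htW : ∀ e : E, e⁻¹ * t e ∈ W' := by
    intro e
    rw [Subgroup.mem_subgroupOf]
    have : ((e⁻¹ * t e : E) : Ω) = ⁅(e : Ω)⁻¹, s⁆ := by
      rw [commutatorElement_def]
      push_cast
      rw [conjAutOfMem_apply]
      group
    rw [this]
    exact hcomm _ (S.inv_mem (hES e.2)) _ hsS
  have htfix : ∀ w ∈ W', t w = w := by
    intro w hw
    apply Subtype.ext
    rw [conjAutOfMem_apply]
    rw [Subgroup.mem_subgroupOf] at hw
    rw [← hWc _ hw s hsS, mul_inv_cancel_right]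
  -- fixed points of `t` are central in `S`
  have hfixZ : ∀ e : E, t e = e → (e : Ω) ∈ ZS := by
    intro e he
    refine ⟨hES e.2, ?_⟩
    show (e : Ω) ∈ Subgroup.centralizer (S : Set Ω)
    rw [Subgroup.mem_centralizer_iff]
    intro x hx
    obtain ⟨e', he', k, rfl⟩ := hdecS x hx
    have h1 : s * (e : Ω) = e * s := by
      have := congrArg (Subtype.val : E → Ω) he
      rw [conjAutOfMem_apply] at this
      calc s * (e : Ω) = s * e * s⁻¹ * s := by group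
        _ = e * s := by rw [this]
    have h2 : e' * (e : Ω) = e * e' := congrArg (Subtype.val : E → Ω) (hab ⟨e', he'⟩ e)
    have h3 : s ^ k * (e : Ω) = e * s ^ k := ((show Commute s (e : Ω) from h1).pow_left k).eq
    rw [mul_assoc, h3, ← mul_assoc, h2, mul_assoc]
  have hZfix : ∀ e : E, (e : Ω) ∈ ZS → t e = e := by
    intro e he
    apply Subtype.ext
    rw [conjAutOfMem_apply]
    have := Subgroup.mem_centralizer_iff.mp he.2 s hsS
    rw [this, mul_inv_cancel_right]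
  -- `Aut_S(E)` is generated by `t`
  have hUle : autInducedBy S E ≤ Subgroup.zpowers t := by
    intro φ hφ
    obtain ⟨g, hg, hgφ⟩ := Cfsg.Agent.Lib.Helper87.mem_autInducedBy_iff.1 hφ
    obtain ⟨e', he', k, rfl⟩ := hdecS g hg
    have : φ = t ^ k := by
      apply MulEquiv.ext
      intro x
      apply Subtype.ext
      have hpow := Cfsg.Agent.Lib.Helper87.conj_pow_apply (α := t) (g := s)
        (fun y => conjAutOfMem_apply E s (hEn s hsS) (hEn' s hsS) y) k x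
      rw [hgφ x, hpow]
      have hy : s ^ k * (x : Ω) * (s ^ k)⁻¹ ∈ E := hpow ▸ ((t ^ k) x).2
      have h1 : e' * (s ^ k * (x : Ω) * (s ^ k)⁻¹) = (s ^ k * (x : Ω) * (s ^ k)⁻¹) * e' :=
        congrArg (Subtype.val : E → Ω) (hab ⟨e', he'⟩ ⟨_, hy⟩)
      calc e' * s ^ k * (x : Ω) * (e' * s ^ k)⁻¹ = e' * (s ^ k * (x : Ω) * (s ^ k)⁻¹) * e'⁻¹ := by group
        _ = (s ^ k * (x : Ω) * (s ^ k)⁻¹) * e' * e'⁻¹ := by rw [h1]
        _ = s ^ k * (x : Ω) * (s ^ k)⁻¹ := by group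
    rw [this]
    exact Subgroup.pow_mem _ (Subgroup.mem_zpowers t) k
  have hfinA : Finite (MulAut E) := Finite.of_injective (fun α : MulAut E => (α : E → E)) DFunLike.coe_injective
  obtain ⟨⟨-, R, hR⟩, hrec⟩ := Cfsg.Agent.Lib.Helper87.fullyAutomized_receptive_of_fullyNormalized F hS hF hfn
  have hsyl : ∀ P : Subgroup (MulAut E), P ≤ F.autGroup E → IsPGroup p P →
      ∃ σ ∈ F.autGroup E, ∀ φ ∈ P, σ * φ * σ⁻¹ ∈ Subgroup.zpowers t := by
    intro P hPA hPp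
    have hP' : IsPGroup p (P.subgroupOf (F.autGroup E)) := hPp.comap_subtype
    obtain ⟨c, hc⟩ := Cfsg.Agent.Lib.Helper87.exists_conj_mem_sylow R hP'
    refine ⟨c, c.2, fun φ hφ => ?_⟩
    have h1 := hc ⟨φ, hPA hφ⟩ (Subgroup.mem_subgroupOf.mpr hφ)
    have h2 : c * ⟨φ, hPA hφ⟩ * c⁻¹ ∈ (autInducedBy S E).subgroupOf (F.autGroup E) := by
      rw [← hR]
      exact h1
    rw [Subgroup.mem_subgroupOf] at h2
    exact hUle h2
  have hnn : ∃ σ ∈ F.autGroup E, σ * t * σ⁻¹ ∉ Subgroup.zpowers t := by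
    by_contra hcon
    push Not at hcon
    apply htinn
    set I := (Cfsg.Inn ↥E).subgroupOf (F.autGroup E) with hI
    set π := QuotientGroup.mk' I with hπ
    set N' : Subgroup (F.autGroup E) := (Subgroup.zpowers t).subgroupOf (F.autGroup E) with hN'
    have hN'n : N'.Normal := ⟨fun n hn g => by
      rw [hN', Subgroup.mem_subgroupOf] at hn ⊢
      obtain ⟨k, hk⟩ := Subgroup.mem_zpowers_iff.mp hn
      have : ((g * n * g⁻¹ : F.autGroup E) : MulAut E) = ((g : MulAut E) * t * (g : MulAut E)⁻¹) ^ k := by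
        rw [conj_zpow, hk]
        rfl
      rw [this]
      exact Subgroup.zpow_mem _ (hcon g g.2) k⟩
    have hZp : IsPGroup p (Subgroup.zpowers t) :=
      (Cfsg.Agent.Lib.Helper87.autInducedBy_isPGroup hS E).to_le
        (by rw [Subgroup.zpowers_le]; exact hmemU s hsS)
    have hN'p : IsPGroup p N' := hZp.comap_subtype
    set N'' := N'.map π with hN''
    have hN''n : N''.Normal := Subgroup.Normal.map hN'n π (QuotientGroup.mk'_surjective I)
    have hN''p : IsPGroup p N'' := hN'p.map π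
    have hbot : N'' = ⊥ := Cfsg.Agent.Lib.Helper84.normal_pgroup_eq_bot hM N'' hN''p
    have h1 : π ⟨t, htA⟩ ∈ N'' :=
      Subgroup.mem_map_of_mem π (Subgroup.mem_subgroupOf.mpr (Subgroup.mem_zpowers t))
    rw [hbot, Subgroup.mem_bot] at h1
    have h2 : (⟨t, htA⟩ : F.autGroup E) ∈ I := (QuotientGroup.eq_one_iff _).mp h1
    exact Subgroup.mem_subgroupOf.mp h2
  refine ⟨s, t, hsS, hsE, hES, hZSE, hidx, fun x => rfl, hab, hdecS, htA, ht1, htW, htfix,
    fun e => ⟨hfixZ e, hZfix e⟩, hsyl, hnn, ?_⟩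
  -- extension of automorphisms commuting with `t`
  intro ν hνA hνt
  have hext : ∀ g ∈ S, g ∈ Subgroup.normalizer (E : Set Ω) ∧ ∃ h ∈ S, ∀ (x : E) (hx : g * (x : Ω) * g⁻¹ ∈ E),
      ((ν ⟨g * x * g⁻¹, hx⟩ : E) : Ω) = h * (ν x : E) * h⁻¹ := by
    intro g hg
    have hgN : g ∈ Subgroup.normalizer (E : Set Ω) := by
      rw [Subgroup.mem_normalizer_iff]
      intro h
      refine ⟨hEn g hg h, fun hh => ?_⟩
      have := hEn' g hg _ hh
      have e : g⁻¹ * (g * h * g⁻¹) * g = h := by group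
      rwa [e] at this
    refine ⟨hgN, ?_⟩
    obtain ⟨e', he', k, rfl⟩ := hdecS g hg
    refine ⟨s ^ k, S.pow_mem hsS k, fun x hx => ?_⟩
    have hpow := Cfsg.Agent.Lib.Helper87.conj_pow_apply (α := t) (g := s)
      (fun y => conjAutOfMem_apply E s (hEn s hsS) (hEn' s hsS) y) k
    have h1 : (⟨e' * s ^ k * (x : Ω) * (e' * s ^ k)⁻¹, hx⟩ : E) = (t ^ k) x := by
      apply Subtype.ext
      rw [hpow x]
      have hy : s ^ k * (x : Ω) * (s ^ k)⁻¹ ∈ E := hpow x ▸ ((t ^ k) x).2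
      have h1 : e' * (s ^ k * (x : Ω) * (s ^ k)⁻¹) = (s ^ k * (x : Ω) * (s ^ k)⁻¹) * e' :=
        congrArg (Subtype.val : E → Ω) (hab ⟨e', he'⟩ ⟨_, hy⟩)
      calc e' * s ^ k * (x : Ω) * (e' * s ^ k)⁻¹ = e' * (s ^ k * (x : Ω) * (s ^ k)⁻¹) * e'⁻¹ := by group
        _ = (s ^ k * (x : Ω) * (s ^ k)⁻¹) * e' * e'⁻¹ := by rw [h1]
        _ = s ^ k * (x : Ω) * (s ^ k)⁻¹ := by group
    rw [h1]
    have h2 : ν ((t ^ k) x) = (t ^ k) (ν x) := by
      have hc : ν * (t ^ k) = (t ^ k) * ν := ((show Commute ν t from hνt).pow_right k).eq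
      have := congrArg (fun φ : MulAut E => φ x) hc
      simpa [MulAut.mul_apply] using this
    rw [h2, hpow (ν x)]
  obtain ⟨ν', hν'A, hν'e⟩ := exists_aut_extension F hES hrec ν hνA hext
  exact ⟨ν', hν'A, fun x hx hxS => hν'e ⟨x, hx⟩⟩


end Cfsg.Agent.Lib.Helper86
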