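import Cfsg.Agent.Lib.Helper86.CenterIndexEss

/-! Odd `p`: a core-free saturated fusion system on a `p`-group whose centre has index `p ^ 2` has centre of order `p`
(helper86). -/

set_option autoImplicit false
open Cfsg

namespace Cfsg.Agent.Lib.Helper86

open scoped commutatorElement

theorem essential_data_odd {Ω : Type*} [Group Ω] {S : Subgroup Ω} [Finite S] (p : ℕ) [Fact p.Prime] (hp : Odd p)
    (hS : IsPGroup p S) (F : Cfsg.FusionSystem S) (hF : F.IsSaturated p)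
    (W : Subgroup Ω) (hWcard : Nat.card W = p) (hWZ : W ≤ S ⊓ Subgroup.centralizer (S : Set Ω))
    (hcomm : ∀ x ∈ S, ∀ y ∈ S, ⁅x, y⁆ ∈ W)
    (hZidx : (S ⊓ Subgroup.centralizer (S : Set Ω)).relIndex S = p ^ 2)
    (E : Subgroup Ω) (hE : F.IsEssential p E) :
    ∃ (C : Subgroup Ω) (T' : MulAut S), C ≤ S ⊓ Subgroup.centralizer (S : Set Ω) ∧ C ≤ E ∧
      (∀ α ∈ F.autGroup E, ∀ x : E, (x : Ω) ∈ C → ((α x : E) : Ω) ∈ C) ∧
      T' ∈ F.autGroup S ∧ (∀ w : S, (w : Ω) ∈ W → T' w = w⁻¹) ∧ (∀ c : S, (c : Ω) ∈ C → T' c = c) ∧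
      (∀ z ∈ S ⊓ Subgroup.centralizer (S : Set Ω), ∃ w ∈ W, ∃ c ∈ C, z = w * c) ∧
      (∀ x, x ∈ C → x ∈ W → x = 1) := by
  classical
  have hpp : p.Prime := Fact.out
  obtain ⟨s, t, hsS, hsE, hES, hZSE, hidxE, hts, hab, hdecS, htA, ht1, htW, htfix, hfix, hsyl, hnn, hextend⟩ :=
    essential_transvection p hS F hF W hWcard hWZ hcomm hZidx E hE
  have hEfin : Finite E := Finite.of_injective (Subgroup.inclusion hES) (Subgroup.inclusion_injective hES)
  have hEp : IsPGroup p E := hS.to_le hES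
  have hWE : W ≤ E := hWZ.trans hZSE
  have hW'card : Nat.card (W.subgroupOf E) = p := by
    rw [Nat.card_congr (Subgroup.subgroupOfEquivOfLe hWE).toEquiv, hWcard]
  let iC : CommGroup E := { (inferInstance : Group E) with mul_comm := hab }
  obtain ⟨C₀, T, hTA, hTcen, hTW, hTC, htC, hCinv, hfixdec, hdisj⟩ :=
    @exists_central_involution' E iC _ p _ hp hEp (F.autGroup E) t htA ht1 (W.subgroupOf E) hW'card htW htfix hsyl hnn
  obtain ⟨T', hT'A, hT'e⟩ := hextend T hTA (hTcen t htA).symm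
  refine ⟨C₀.map E.subtype, T', ?_, ?_, ?_, hT'A, ?_, ?_, ?_, ?_⟩
  · rintro _ ⟨c, hc, rfl⟩
    exact (hfix c).mp (htC c hc)
  · rintro _ ⟨c, hc, rfl⟩
    exact c.2
  · rintro α hα x ⟨c, hc, hcx⟩
    have : c = x := Subtype.ext hcx
    subst this
    exact ⟨α c, hCinv α hα c hc, rfl⟩
  · intro w hw
    apply Subtype.ext
    rw [hT'e (w : Ω) (hWE hw) w.2, hTW ⟨w, hWE hw⟩ (Subgroup.mem_subgroupOf.mpr hw)]
    rfl
  · rintro c ⟨c₀, hc₀, hcc⟩
    apply Subtype.ext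
    have h1 := hT'e (c : Ω) (hcc ▸ c₀.2) c.2
    rw [h1]
    have : (⟨(c : Ω), hcc ▸ c₀.2⟩ : E) = c₀ := Subtype.ext hcc.symm
    rw [this, hTC c₀ hc₀]
    exact hcc
  · intro z hz
    obtain ⟨w, hw, c, hc, hzwc⟩ := hfixdec ⟨z, hZSE hz⟩ ((hfix ⟨z, hZSE hz⟩).mpr hz)
    refine ⟨(w : Ω), Subgroup.mem_subgroupOf.mp hw, (c : Ω), ⟨c, hc, rfl⟩, ?_⟩
    exact congrArg (Subtype.val : E → Ω) hzwc
  · rintro x ⟨c, hc, rfl⟩ hxW
    have := hdisj c hc (Subgroup.mem_subgroupOf.mpr hxW)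
    rw [this]
    rfl

theorem subgroupOf_map_eq_of_forall_mem {Ω : Type*} [Group Ω] {P : Subgroup Ω} [Finite P] (K : Subgroup Ω) (α : MulAut P)
    (h : ∀ x : P, (x : Ω) ∈ K → ((α x : P) : Ω) ∈ K) :
    (K.subgroupOf P).map α.toMonoidHom = K.subgroupOf P := by
  have hle : (K.subgroupOf P).map α.toMonoidHom ≤ K.subgroupOf P := by
    rintro _ ⟨x, hx, rfl⟩
    exact Subgroup.mem_subgroupOf.mpr (h x (Subgroup.mem_subgroupOf.mp hx))
  apply Subgroup.eq_of_le_of_card_ge hle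
  rw [Subgroup.card_map_of_injective (show Function.Injective α.toMonoidHom from α.injective)]

/-- A subgroup of order `p` containing all commutators of a nonabelian group is invariant under automorphisms. -/
theorem comm_subgroup_invariant {Ω : Type*} [Group Ω] {S : Subgroup Ω} (p : ℕ) [Fact p.Prime]
    (W : Subgroup Ω) (hWcard : Nat.card W = p) (hWS : W ≤ S)
    (hcomm : ∀ x ∈ S, ∀ y ∈ S, ⁅x, y⁆ ∈ W) (hnab : ∃ x ∈ S, ∃ y ∈ S, ⁅x, y⁆ ≠ 1)
    (α : MulAut S) (w : S) (hw : (w : Ω) ∈ W) : ((α w : S) : Ω) ∈ W := by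
  obtain ⟨x₀, hx₀, y₀, hy₀, hxy₀⟩ := hnab
  set WS : Subgroup S := W.subgroupOf S with hWS'
  have hWScard : Nat.card WS = p := by
    rw [Nat.card_congr (Subgroup.subgroupOfEquivOfLe hWS).toEquiv, hWcard]
  have hc : ∀ a b : S, ⁅a, b⁆ ∈ WS := by
    intro a b
    rw [Subgroup.mem_subgroupOf]
    have : ((⁅a, b⁆ : S) : Ω) = ⁅(a : Ω), (b : Ω)⁆ := by
      rw [commutatorElement_def, commutatorElement_def]; push_cast; rfl
    rw [this]
    exact hcomm _ a.2 _ b.2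
  have h1 : ⁅(⟨x₀, hx₀⟩ : S), (⟨y₀, hy₀⟩ : S)⁆ ≠ 1 := by
    intro h
    apply hxy₀
    have := congrArg (Subtype.val : S → Ω) h
    rw [commutatorElement_def] at this
    rw [commutatorElement_def]
    simpa using this
  have h1' : (⟨_, hc ⟨x₀, hx₀⟩ ⟨y₀, hy₀⟩⟩ : WS) ≠ 1 := fun h => h1 (congrArg Subtype.val h)
  obtain ⟨k, hk⟩ := mem_powers_of_prime_card (G := WS) hWScard (g := ⟨_, hc ⟨x₀, hx₀⟩ ⟨y₀, hy₀⟩⟩)
    (g' := ⟨w, Subgroup.mem_subgroupOf.mpr hw⟩) h1'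
  have hk' : ⁅(⟨x₀, hx₀⟩ : S), (⟨y₀, hy₀⟩ : S)⁆ ^ k = w := by simpa using congrArg Subtype.val hk
  rw [← hk', map_pow, map_commutatorElement]
  exact Subgroup.mem_subgroupOf.mp (WS.pow_mem (hc _ _) k)

/-- If no subgroup is essential then `S` is normal in the fusion system. -/
theorem exists_essential_of_core_eq_bot {Ω : Type*} [Group Ω] {S : Subgroup Ω} [Finite S] (p : ℕ) [Fact p.Prime]
    (hS : IsPGroup p S) (F : Cfsg.FusionSystem S) (hF : F.IsSaturated p) (hS1 : S ≠ ⊥) (hcore : F.core = ⊥) :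
    ∃ E, F.IsEssential p E := by
  by_contra hex
  have hSnorm : F.IsNormal S := by
    refine Cfsg.Agent.Lib.Helper84.isNormal_of_forall_essential F hS hF S (fun P hP => ?_)
    rcases hP with hPS | hP
    · rw [hPS]
      refine ⟨le_rfl, fun α _ => ?_⟩
      apply subgroupOf_map_eq_of_forall_mem
      intro x _
      exact (α x).2
    · exact absurd ⟨P, hP⟩ hex
  have hSle := Cfsg.Agent.Lib.Helper85.le_core_of_isNormal F hSnorm
  rw [hcore] at hSle
  exact hS1 (le_bot_iff.mp hSle)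

/-- Odd `p`: the centre of `S` is `W`. -/
theorem center_eq_of_odd {Ω : Type*} [Group Ω] {S : Subgroup Ω} [Finite S] (p : ℕ) [Fact p.Prime] (hp : Odd p)
    (hS : IsPGroup p S) (F : Cfsg.FusionSystem S) (hF : F.IsSaturated p) (hS1 : S ≠ ⊥) (hcore : F.core = ⊥)
    (W : Subgroup Ω) (hWcard : Nat.card W = p) (hWZ : W ≤ S ⊓ Subgroup.centralizer (S : Set Ω))
    (hcomm : ∀ x ∈ S, ∀ y ∈ S, ⁅x, y⁆ ∈ W)
    (hZidx : (S ⊓ Subgroup.centralizer (S : Set Ω)).relIndex S = p ^ 2)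
    (hnab : ∃ x ∈ S, ∃ y ∈ S, ⁅x, y⁆ ≠ 1) : S ⊓ Subgroup.centralizer (S : Set Ω) = W := by
  classical
  have hpp : p.Prime := Fact.out
  have hWS : W ≤ S := hWZ.trans inf_le_left
  have hZc : ∀ z ∈ S ⊓ Subgroup.centralizer (S : Set Ω), z ∈ S ∧ ∀ s ∈ S, z * s = s * z := fun z hz =>
    ⟨hz.1, fun s hs => (Subgroup.mem_centralizer_iff.mp hz.2 s hs).symm⟩
  have hWp : ∀ w ∈ W, w ^ p = 1 := by
    intro w hw
    have : (⟨w, hw⟩ : W) ^ Nat.card W = 1 := pow_card_eq_one'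
    rw [hWcard] at this
    exact congrArg Subtype.val this
  have hWinv : ∀ α : MulAut S, ∀ w : S, (w : Ω) ∈ W → ((α w : S) : Ω) ∈ W :=
    fun α w hw => comm_subgroup_invariant p W hWcard hWS hcomm hnab α w hw
  obtain ⟨E₀, hE₀⟩ := exists_essential_of_core_eq_bot p hS F hF hS1 hcore
  obtain ⟨C, T₀, hCZ, hCE, hCinv, hT₀A, hT₀W, hT₀C, hdec, hdisj⟩ :=
    essential_data_odd p hp hS F hF W hWcard hWZ hcomm hZidx E₀ hE₀
  have hCS : C ≤ S := hCZ.trans inf_le_left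
  have hCnorm : F.IsNormal C := by
    refine Cfsg.Agent.Lib.Helper84.isNormal_of_forall_essential F hS hF C (fun P hP => ?_)
    rcases hP with hPS | hP
    · rw [hPS]
      refine ⟨hCS, fun α hα => ?_⟩
      apply subgroupOf_map_eq_of_forall_mem
      intro x hx
      -- the image of `C`
      set C₂ : Subgroup Ω := ((C.subgroupOf S).map α.toMonoidHom).map S.subtype with hC₂
      have hmemC₂ : ∀ c : S, (c : Ω) ∈ C₂ ↔ ∃ c' : S, (c' : Ω) ∈ C ∧ α c' = c := by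
        intro c
        constructor
        · rintro ⟨c₁, ⟨c', hc', rfl⟩, hc₁⟩
          refine ⟨c', Subgroup.mem_subgroupOf.mp hc', ?_⟩
          exact Subtype.ext hc₁
        · rintro ⟨c', hc', rfl⟩
          exact ⟨α c', ⟨c', Subgroup.mem_subgroupOf.mpr hc', rfl⟩, rfl⟩
      have hC₂Z : ∀ c ∈ C₂, c ∈ S ∧ ∀ s ∈ S, c * s = s * c := by
        rintro _ ⟨c₁, ⟨c', hc', rfl⟩, rfl⟩
        refine ⟨(α c').2, fun s hs => ?_⟩
        have h1 := (hZc _ (hCZ (Subgroup.mem_subgroupOf.mp hc'))).2 _ (α⁻¹ ⟨s, hs⟩).2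
        have h2 : c' * α⁻¹ ⟨s, hs⟩ = α⁻¹ ⟨s, hs⟩ * c' := Subtype.ext h1
        have h3 := congrArg (fun y => ((α y : S) : Ω)) h2
        simpa using h3
      have hle : C₂ ≤ C := by
        refine complement_le_of_inverting hp hS F hF W C C₂ (fun w hw => hZc w (hWZ hw)) hC₂Z hCS hWp
          (fun c hc => hdec c ⟨(hC₂Z c hc).1, ?_⟩) T₀ (α * T₀ * α⁻¹) hT₀A
          (Subgroup.mul_mem _ (Subgroup.mul_mem _ hα hT₀A) (Subgroup.inv_mem _ hα)) hT₀W hT₀C ?_ ?_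
        · show c ∈ Subgroup.centralizer (S : Set Ω)
          rw [Subgroup.mem_centralizer_iff]
          intro s hs
          exact ((hC₂Z c hc).2 s hs).symm
        · intro w hw
          rw [MulAut.mul_apply, MulAut.mul_apply, hT₀W _ (hWinv α⁻¹ w hw), map_inv, MulAut.apply_inv_self]
        · intro c hc
          obtain ⟨c', hc', rfl⟩ := (hmemC₂ c).mp hc
          rw [MulAut.mul_apply, MulAut.mul_apply, MulAut.inv_apply_self, hT₀C c' hc']
      exact hle ((hmemC₂ (α x)).mpr ⟨x, hx, rfl⟩)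
    · obtain ⟨C', T₁, hC'Z, hC'E, hC'inv, hT₁A, hT₁W, hT₁C, hdec', hdisj'⟩ :=
        essential_data_odd p hp hS F hF W hWcard hWZ hcomm hZidx P hP
      have hC'S : C' ≤ S := hC'Z.trans inf_le_left
      have h1 : C' ≤ C :=
        complement_le_of_inverting hp hS F hF W C C' (fun w hw => hZc w (hWZ hw)) (fun c hc => hZc c (hC'Z hc))
          hCS hWp (fun c hc => hdec c (hC'Z hc)) T₀ T₁ hT₀A hT₁A hT₀W hT₀C hT₁W hT₁C
      have h2 : C ≤ C' :=
        complement_le_of_inverting hp hS F hF W C' C (fun w hw => hZc w (hWZ hw)) (fun c hc => hZc c (hCZ hc))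
          hC'S hWp (fun c hc => hdec' c (hCZ hc)) T₁ T₀ hT₁A hT₀A hT₁W hT₁C hT₀W hT₀C
      have heq : C = C' := le_antisymm h2 h1
      have hPfin : Finite P := Finite.of_injective (Subgroup.inclusion hP.1.1)
        (Subgroup.inclusion_injective hP.1.1)
      refine ⟨heq ▸ hC'E, fun α hα => ?_⟩
      apply subgroupOf_map_eq_of_forall_mem
      intro x hx
      rw [heq] at hx ⊢
      exact hC'inv α hα x hx
  have hCle : C ≤ F.core := Cfsg.Agent.Lib.Helper85.le_core_of_isNormal F hCnorm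
  rw [hcore] at hCle
  apply le_antisymm _ hWZ
  intro z hz
  obtain ⟨w, hw, c, hc, rfl⟩ := hdec z hz
  have : c = 1 := Subgroup.mem_bot.mp (hCle hc)
  rw [this, mul_one]
  exact hw

end Cfsg.Agent.Lib.Helper86
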