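/-
helper86: more small general lemmas on saturated fusion systems:
* `pElement_inner`: a `p`-element of `Aut_F(S)` is an inner automorphism of `S`;
* `exists_coprime_decomp`: an element of finite order is a product of a `p'`-power and a `p`-power of itself;
* `exists_restrict_aut`: an element of `Aut_F(S)` preserving `E ≤ S` restricts to an element of `Aut_F(E)`.
All declarations live in `Cfsg.Agent.Lib.Helper86`.
-/
import Cfsg.Agent.Lib.Helper86.FusionExt
import Cfsg.Agent.Lib.Helper88.FusionAut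

set_option autoImplicit false
open Cfsg

namespace Cfsg.Agent.Lib.Helper86

variable {Ω : Type*} [Group Ω] {S : Subgroup Ω}

/-- A `p`-element of `Aut_F(S)` is inner. -/
theorem pElement_inner [Finite S] {p : ℕ} [Fact p.Prime] (hS : IsPGroup p S)
    (F : FusionSystem S) (hF : F.IsSaturated p) (δ : MulAut S) (hδ : δ ∈ F.autGroup S) (a : ℕ)
    (hδp : δ ^ (p ^ a) = 1) : ∃ h : S, ∀ u : S, δ u = h * u * h⁻¹ := by
  classical
  have hfinA : Finite (MulAut S) := Finite.of_injective (fun α : MulAut S => (α : S → S)) DFunLike.coe_injective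
  obtain ⟨-, R, hR⟩ :=
    (Helper87.fullyAutomized_receptive_of_fullyNormalized F hS hF (Helper85.isFullyNormalized_top F)).1
  have hP : IsPGroup p (Subgroup.zpowers (⟨δ, hδ⟩ : F.autGroup S)) := by
    rintro ⟨φ, hφ⟩
    obtain ⟨j, rfl⟩ := Subgroup.mem_zpowers_iff.mp hφ
    refine ⟨a, Subtype.ext ?_⟩
    show ((⟨δ, hδ⟩ : F.autGroup S) ^ j) ^ (p ^ a) = 1
    rw [← zpow_natCast, ← zpow_mul, mul_comm, zpow_mul, zpow_natCast]
    have : (⟨δ, hδ⟩ : F.autGroup S) ^ (p ^ a) = 1 := Subtype.ext (by simpa using hδp)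
    rw [this, one_zpow]
  obtain ⟨c, hc⟩ := Helper87.exists_conj_mem_sylow R hP
  have h1 := hc _ (Subgroup.mem_zpowers _)
  have h2 : c * ⟨δ, hδ⟩ * c⁻¹ ∈ (autInducedBy S S).subgroupOf (F.autGroup S) := by
    rw [← hR]
    exact h1
  rw [Subgroup.mem_subgroupOf] at h2
  obtain ⟨g, hg, hgc⟩ := Helper87.mem_autInducedBy_iff.1 h2
  refine ⟨(c : MulAut S)⁻¹ ⟨g, hg⟩, fun u => ?_⟩
  have h3 : ((c * ⟨δ, hδ⟩ * c⁻¹ : F.autGroup S) : MulAut S) ((c : MulAut S) u)
      = ⟨g, hg⟩ * (c : MulAut S) u * (⟨g, hg⟩ : S)⁻¹ := Subtype.ext (hgc _)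
  have h4 : ((c * ⟨δ, hδ⟩ * c⁻¹ : F.autGroup S) : MulAut S) ((c : MulAut S) u) = (c : MulAut S) (δ u) := by
    simp [MulAut.mul_apply]
  rw [h4] at h3
  have h5 := congrArg (fun y => (c : MulAut S)⁻¹ y) h3
  simpa using h5

/-- An element of finite order is the product of a `p'`-element and a `p`-element, both powers of it. -/
theorem exists_coprime_decomp {G : Type*} [Group G] (p : ℕ) [Fact p.Prime] (g : G) (hg : IsOfFinOrder g) :
    ∃ β γ : G, β ∈ Subgroup.zpowers g ∧ γ ∈ Subgroup.zpowers g ∧ g = β * γ ∧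
      (∃ m : ℕ, ¬ p ∣ m ∧ β ^ m = 1) ∧ (∃ a : ℕ, γ ^ (p ^ a) = 1) := by
  have hpp : p.Prime := Fact.out
  have hN : orderOf g ≠ 0 := (orderOf_pos_iff.mpr hg).ne'
  obtain ⟨k, m, hm, hN'⟩ := Nat.exists_eq_pow_mul_and_not_dvd hN p hpp.ne_one
  have hcop : Nat.Coprime (p ^ k) m := Nat.Coprime.pow_left k ((Nat.Prime.coprime_iff_not_dvd hpp).mpr hm)
  have hb := Int.gcd_eq_gcd_ab ((p ^ k : ℕ) : ℤ) (m : ℤ)
  rw [Int.gcd_natCast_natCast, hcop.gcd_eq_one] at hb
  set u := Int.gcdA ((p ^ k : ℕ) : ℤ) (m : ℤ)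
  set v := Int.gcdB ((p ^ k : ℕ) : ℤ) (m : ℤ)
  have hgN : g ^ (p ^ k * m) = 1 := by rw [← hN']; exact pow_orderOf_eq_one g
  refine ⟨(g ^ (p ^ k)) ^ u, (g ^ m) ^ v, Subgroup.zpow_mem _ (Subgroup.pow_mem _ (Subgroup.mem_zpowers g) _) _,
    Subgroup.zpow_mem _ (Subgroup.pow_mem _ (Subgroup.mem_zpowers g) _) _, ?_, ⟨m, hm, ?_⟩, ⟨k, ?_⟩⟩
  · rw [← zpow_natCast g (p ^ k), ← zpow_natCast g m, ← zpow_mul, ← zpow_mul, ← zpow_add]
    have : ((p ^ k : ℕ) : ℤ) * u + (m : ℤ) * v = 1 := by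
      have := hb.symm
      push_cast at this ⊢
      exact this
    rw [this, zpow_one]
  · rw [← zpow_natCast, ← zpow_mul, mul_comm, zpow_mul, zpow_natCast, ← pow_mul, hgN, one_zpow]
  · rw [← zpow_natCast, ← zpow_mul, mul_comm, zpow_mul, zpow_natCast, ← pow_mul, mul_comm m, hgN, one_zpow]

/-- Restriction of an element of `Aut_F(S)` to an invariant subgroup. -/
theorem exists_restrict_aut [Finite S] (F : FusionSystem S) {E : Subgroup Ω} (hES : E ≤ S)
    (δ : MulAut S) (hδ : δ ∈ F.autGroup S) (h : ∀ x : S, (x : Ω) ∈ E → ((δ x : S) : Ω) ∈ E) :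
    ∃ β : MulAut E, β ∈ F.autGroup E ∧ ∀ x : E, ((β x : E) : Ω) = ((δ ⟨x, hES x.2⟩ : S) : Ω) := by
  have hEfin : Finite E := Finite.of_injective (Subgroup.inclusion hES) (Subgroup.inclusion_injective hES)
  have hδF : S.subtype.comp δ.toMonoidHom ∈ F.Hom S := (Helper87.mem_autGroup_iff F le_rfl).1 hδ
  have hφ := Helper87.restrict_mem F hδF hES
  set φ : E →* Ω := (S.subtype.comp δ.toMonoidHom).comp (Subgroup.inclusion hES) with hφdef
  have hφx : ∀ x : E, φ x = ((δ ⟨x, hES x.2⟩ : S) : Ω) := fun x => rfl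
  have hle : φ.range ≤ E := by
    rintro _ ⟨x, rfl⟩
    rw [hφx]
    exact h _ x.2
  have hr : φ.range = E := by
    apply Subgroup.eq_of_le_of_card_ge hle
    have hinj : Function.Injective φ := F.injective_of_mem hφ
    rw [Nat.card_congr (MonoidHom.ofInjective hinj).toEquiv.symm]
  obtain ⟨β, hβ, hβx⟩ := Helper88.exists_aut_of_range_eq F hφ hr
  exact ⟨β, hβ, fun x => (hβx x).trans (hφx x)⟩

end Cfsg.Agent.Lib.Helper86
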