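/-
helper86: automorphisms of odd order of a group whose central quotient has order four act trivially on the central
quotient, provided the group has a non-central involution and no central element squares to the non-trivial commutator.
All declarations live in `Cfsg.Agent.Lib.Helper86`.
-/
import Cfsg.Agent.Lib.Helper86.CenterIndexSq

set_option autoImplicit false

namespace Cfsg.Agent.Lib.Helper86

open scoped commutatorElement

/-- Parity argument: an odd-order bijection whose square fixes a point fixes that point. -/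
theorem fix_of_sq_fix {Q : Type*} (f : Q → Q) (n : ℕ) (hn : Odd n) (q : Q) (hf : (f^[n]) q = q)
    (h2 : f (f q) = q) : f q = q := by
  obtain ⟨k, rfl⟩ := hn
  have h : ∀ j : ℕ, (f^[2 * j]) q = q := by
    intro j
    induction j with
    | zero => rfl
    | succ j ih =>
      rw [show 2 * (j + 1) = 2 * j + 2 from by ring, Function.iterate_add_apply]
      show (f^[2 * j]) (f (f q)) = q
      rw [h2, ih]
  have e : (f^[2 * k + 1]) q = f ((f^[2 * k]) q) := Function.iterate_succ_apply' f (2 * k) q
  rw [e, h k] at hf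
  exact hf

theorem klein_aut_sq {Q : Type*} [Group Q] [IsKleinFour Q] (f : Q ≃* Q) (n : ℕ) (hn : Odd n)
    (hf : ∀ q, (f^[n]) q = q) (q : Q) (hq1 : q ≠ 1) (hq : f q ≠ q) : f (f q) = q * f q := by
  apply IsKleinFour.eq_mul_of_ne_all hq1
  · intro h
    exact hq1 ((map_eq_one_iff f f.injective).mp h)
  · exact fun h => hq h.symm
  · intro h
    have := (map_eq_one_iff f f.injective).mp h
    exact hq1 ((map_eq_one_iff f f.injective).mp this)
  · intro h
    exact hq (fix_of_sq_fix f n hn q (hf q) h)
  · intro h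
    exact hq (f.injective h)

theorem klein_aut_trivial {Q : Type*} [Group Q] [IsKleinFour Q] (f : Q ≃* Q) (n : ℕ) (hn : Odd n)
    (hf : ∀ q, (f^[n]) q = q) (q₀ : Q) (hq1 : q₀ ≠ 1) (hq : f q₀ = q₀) (q : Q) : f q = q := by
  by_contra hne
  have hq1' : q ≠ 1 := by
    intro h
    rw [h, map_one] at hne
    exact hne rfl
  have hqq₀ : q ≠ q₀ := by
    intro h
    rw [h] at hne
    exact hne hq
  have h1 : f q = q₀ * q := by
    apply IsKleinFour.eq_mul_of_ne_all hq1 hq1' (fun h => hqq₀ h.symm)
    · intro h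
      exact hq1' ((map_eq_one_iff f f.injective).mp h)
    · intro h
      rw [← hq] at h
      exact hqq₀ (f.injective h)
    · exact hne
  apply hne
  apply fix_of_sq_fix f n hn q (hf q)
  rw [h1, map_mul, hq, h1, ← mul_assoc, IsKleinFour.mul_self, one_mul]

/-- Automorphisms of odd order act trivially modulo the centre. -/
theorem odd_aut_trivial_mod_center {G : Type*} [Group G] (hidx : (Subgroup.center G).index = 4)
    (z : G) (hz2 : z * z = 1) (hcomm : ∀ a b : G, ⁅a, b⁆ = 1 ∨ ⁅a, b⁆ = z)
    (hsq : ∀ ζ ∈ Subgroup.center G, ζ * ζ ≠ z)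
    (x : G) (hx2 : x * x = 1) (hxZ : x ∉ Subgroup.center G)
    (δ : MulAut G) (n : ℕ) (hn : Odd n) (hδ : δ ^ n = 1) (u : G) : u⁻¹ * δ u ∈ Subgroup.center G := by
  classical
  set Z := Subgroup.center G with hZ
  have hcard : Nat.card (G ⧸ Z) = 4 := hidx
  have hfin : Finite (G ⧸ Z) := Nat.finite_of_card_ne_zero (by rw [hcard]; norm_num)
  have hncyc : ¬ IsCyclic (G ⧸ Z) := by
    intro hc
    apply hxZ
    have hcomm' := (QuotientGroup.mk' Z).isMulCommutative_of_isCyclic_of_ker_le_center
      (by rw [QuotientGroup.ker_mk'])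
    rw [Subgroup.mem_center_iff]
    intro g
    exact hcomm'.is_comm.comm g x
  have hexp2 : ∀ q : G ⧸ Z, q ^ 2 = 1 := by
    intro q
    have hd : orderOf q ∣ 4 := hcard ▸ orderOf_dvd_natCard q
    have hle : orderOf q ≤ 4 := Nat.le_of_dvd (by norm_num) hd
    have h4 : orderOf q ≠ 4 := by
      intro h
      exact hncyc (isCyclic_of_orderOf_eq_card q (h.trans hcard.symm))
    have h3 : orderOf q ≠ 3 := by
      intro h
      rw [h] at hd
      norm_num at hd
    have h0 : orderOf q ≠ 0 := (orderOf_pos q).ne'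
    have : orderOf q ∣ 2 := by
      interval_cases (orderOf q) <;> simp_all
    exact orderOf_dvd_iff_pow_eq_one.mp this
  have hK : IsKleinFour (G ⧸ Z) := by
    refine ⟨hcard, ?_⟩
    have hd : Monoid.exponent (G ⧸ Z) ∣ 2 := Monoid.exponent_dvd_of_forall_pow_eq_one hexp2
    rcases (Nat.dvd_prime Nat.prime_two).mp hd with h | h
    · exfalso
      have := Monoid.exp_eq_one_iff.mp h
      have h1 : Nat.card (G ⧸ Z) ≤ 1 := Finite.card_le_one_iff_subsingleton.mpr this
      omega
    · exact h
  -- the induced automorphism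
  have hδZ : Z.map (δ : G ≃* G).toMonoidHom = Z :=
    (Subgroup.characteristic_iff_map_eq.mp Subgroup.centerCharacteristic) δ
  set f : (G ⧸ Z) ≃* (G ⧸ Z) := QuotientGroup.congr Z Z δ hδZ with hf
  have hfmk : ∀ a : G, f (QuotientGroup.mk a) = QuotientGroup.mk (δ a) := fun a =>
    QuotientGroup.congr_mk Z Z δ hδZ a
  have hiter : ∀ (k : ℕ) (a : G), (f^[k]) (QuotientGroup.mk a) = QuotientGroup.mk ((δ ^ k) a) := by
    intro k
    induction k with
    | zero => intro a; rfl
    | succ k ih =>
      intro a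
      rw [Function.iterate_succ_apply', ih, hfmk, pow_succ', MulAut.mul_apply]
  have hfn : ∀ q, (f^[n]) q = q := by
    intro q
    induction q using QuotientGroup.induction_on with
    | H a => rw [hiter, hδ]; rfl
  have hmk1 : ∀ a : G, (QuotientGroup.mk a : G ⧸ Z) = 1 ↔ a ∈ Z := fun a => QuotientGroup.eq_one_iff a
  have hxinv : x⁻¹ = x := inv_eq_of_mul_eq_one_right hx2
  -- Step 1
  have hstep1 : f (QuotientGroup.mk x) = QuotientGroup.mk x := by
    by_contra hne
    have h1 := klein_aut_sq f n hn hfn (QuotientGroup.mk x) (fun h => hxZ ((hmk1 x).mp h)) hne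
    rw [hfmk, hfmk, ← QuotientGroup.mk_mul] at h1
    set y := δ x with hy
    have hy2 : y * y = 1 := by rw [hy, ← map_mul, hx2, map_one]
    have hyinv : y⁻¹ = y := inv_eq_of_mul_eq_one_right hy2
    have hw2 : δ y * δ y = 1 := by rw [← map_mul, hy2, map_one]
    have h2 : (x * y)⁻¹ * δ y ∈ Z := QuotientGroup.eq.mp h1.symm
    obtain ⟨ζ, hζ⟩ : ∃ ζ, ζ = (x * y)⁻¹ * δ y := ⟨_, rfl⟩
    have hζZ : ζ ∈ Z := hζ ▸ h2
    have hw : δ y = x * y * ζ := by rw [hζ]; group
    have hζc : ∀ g : G, g * ζ = ζ * g := fun g => Subgroup.mem_center_iff.mp hζZ g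
    have hcxy : ⁅x, y⁆ = x * y * (x * y) := by
      rw [commutatorElement_def, hxinv, hyinv]; group
    have h3 : ⁅x, y⁆ * (ζ * ζ) = 1 := by
      rw [hcxy]
      calc x * y * (x * y) * (ζ * ζ) = x * y * ((x * y) * ζ) * ζ := by group
        _ = x * y * (ζ * (x * y)) * ζ := by rw [hζc (x * y)]
        _ = (x * y * ζ) * (x * y * ζ) := by group
        _ = 1 := by rw [← hw, hw2]
    rcases hcomm x y with h4 | h4
    · -- `x` and `y` commute: then `x` is central
      apply hxZ
      have hxy : x * y = y * x := by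
        rw [commutatorElement_def] at h4
        calc x * y = x * y * x⁻¹ * y⁻¹ * y * x := by group
          _ = y * x := by rw [h4, one_mul]
      have hC : ∀ a : G, a * x = x * a → ∀ g : G, (QuotientGroup.mk g : G ⧸ Z) = QuotientGroup.mk a →
          g * x = x * g := by
        intro a ha g hg
        have h5 : a⁻¹ * g ∈ Z := QuotientGroup.eq.mp hg.symm
        have h6 := Subgroup.mem_center_iff.mp h5 x
        calc g * x = a * ((a⁻¹ * g) * x) := by group
          _ = a * (x * (a⁻¹ * g)) := by rw [h6]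
          _ = (a * x) * (a⁻¹ * g) := by group
          _ = x * a * (a⁻¹ * g) := by rw [ha]
          _ = x * g := by group
      rw [Subgroup.mem_center_iff]
      intro g
      by_cases hg1 : (QuotientGroup.mk g : G ⧸ Z) = 1
      · exact Subgroup.mem_center_iff.mp ((hmk1 g).mp hg1) x |>.symm ▸ rfl
      by_cases hgx : (QuotientGroup.mk g : G ⧸ Z) = QuotientGroup.mk x
      · exact hC x rfl g hgx
      by_cases hgy : (QuotientGroup.mk g : G ⧸ Z) = QuotientGroup.mk y
      · exact hC y hxy.symm g hgy
      have h7 : (QuotientGroup.mk g : G ⧸ Z) = QuotientGroup.mk x * QuotientGroup.mk y := by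
        apply IsKleinFour.eq_mul_of_ne_all (fun h => hxZ ((hmk1 x).mp h)) _ _ hg1 hgx hgy
        · intro h
          have h8 : y ∈ Z := (hmk1 y).mp h
          have h9 : (δ⁻¹) y ∈ Z := by
            have : Z.map (δ⁻¹ : G ≃* G).toMonoidHom = Z :=
              (Subgroup.characteristic_iff_map_eq.mp Subgroup.centerCharacteristic) δ⁻¹
            rw [← this]
            exact ⟨y, h8, rfl⟩
          rw [hy, MulAut.inv_apply_self] at h9
          exact hxZ h9
        · intro h
          exact hne ((hfmk x).trans h.symm)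
      rw [← QuotientGroup.mk_mul] at h7
      refine hC (x * y) ?_ g h7
      rw [mul_assoc, ← hxy, ← mul_assoc]
    · rw [h4] at h3
      have h5 : ζ * ζ = z := by
        calc ζ * ζ = z * z * (ζ * ζ) := by rw [hz2, one_mul]
          _ = z * (z * (ζ * ζ)) := by group
          _ = z := by rw [h3, mul_one]
      exact hsq ζ hζZ h5
  -- Step 2
  have h2 := klein_aut_trivial f n hn hfn (QuotientGroup.mk x) (fun h => hxZ ((hmk1 x).mp h)) hstep1
    (QuotientGroup.mk u)
  rw [hfmk] at h2
  exact QuotientGroup.eq.mp h2.symm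

end Cfsg.Agent.Lib.Helper86
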