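import Cfsg.Agent.Lib.Helper86.CenterIndexOdd
import Cfsg.Agent.Lib.Helper86.FusionExt2
import Cfsg.Agent.Lib.Helper86.KleinAut

/-! `p = 2`: a core-free saturated fusion system with full hyperfocal subgroup on a `2`-group whose centre has
index `4` has centre of order `2` (helper86). -/

set_option autoImplicit false
open Cfsg

namespace Cfsg.Agent.Lib.Helper86

open scoped commutatorElement

theorem mulAut_pow_apply_eq_iterate {E : Type*} [Mul E] (β : MulAut E) (k : ℕ) (e : E) : (β ^ k) e = (β^[k]) e := by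
  induction k with
  | zero => rfl
  | succ k ih => rw [pow_succ', MulAut.mul_apply, ih, Function.iterate_succ_apply']

theorem essential_data_two {Ω : Type*} [Group Ω] {S : Subgroup Ω} [Finite S] (p : ℕ) [Fact p.Prime] (hp2 : p = 2)
    (hS : IsPGroup p S) (F : Cfsg.FusionSystem S) (hF : F.IsSaturated p)
    (W : Subgroup Ω) (hWcard : Nat.card W = p) (hWZ : W ≤ S ⊓ Subgroup.centralizer (S : Set Ω))
    (hcomm : ∀ x ∈ S, ∀ y ∈ S, ⁅x, y⁆ ∈ W)
    (hZidx : (S ⊓ Subgroup.centralizer (S : Set Ω)).relIndex S = p ^ 2)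
    (z : Ω) (hz1 : z ≠ 1) (hW2 : ∀ w ∈ W, w = 1 ∨ w = z)
    (E : Subgroup Ω) (hE : F.IsEssential p E) :
    ∃ (x s : Ω) (V C : Subgroup Ω),
      E ≤ S ∧ S ⊓ Subgroup.centralizer (S : Set Ω) ≤ E ∧ x ∈ E ∧ x * x = 1 ∧
      x ∉ S ⊓ Subgroup.centralizer (S : Set Ω) ∧ s ∈ S ∧ s ∉ E ∧ s * x * s⁻¹ = x * z ∧
      (∀ y ∈ S, y ∉ E → ∀ u ∈ S, u ∈ E ∨ ∃ e ∈ E, u = e * y) ∧
      (∀ e ∈ E, ∃ ζ ∈ S ⊓ Subgroup.centralizer (S : Set Ω), e = ζ ∨ e = x * ζ) ∧
      W ≤ V ∧ x ∈ V ∧ V ≤ E ∧ (∀ v ∈ V, v = 1 ∨ v = z ∨ v = x ∨ v = z * x) ∧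
      C ≤ S ⊓ Subgroup.centralizer (S : Set Ω) ∧ (∀ c, c ∈ C → c ∈ V → c = 1) ∧
      (∀ ζ ∈ S ⊓ Subgroup.centralizer (S : Set Ω), ∃ w ∈ W, ∃ c ∈ C, ζ = w * c) ∧
      (∀ α ∈ F.autGroup E, ∀ e : E, (e : Ω) ∈ C → ((α e : E) : Ω) ∈ C) ∧
      (∀ α ∈ F.autGroup E, ∃ l ∈ F.autGroup E, (∀ e : E, (e : Ω)⁻¹ * ((l e : E) : Ω) ∈ V) ∧
        (∀ e : E, (e : Ω) ∈ C → l e = e) ∧
        ∃ ν' : MulAut S, ν' ∈ F.autGroup S ∧ ∀ (e : Ω) (he : e ∈ E) (heS : e ∈ S),
          ((ν' ⟨e, heS⟩ : S) : Ω) = (((l⁻¹ * α) ⟨e, he⟩ : E) : Ω)) ∧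
      (∀ β ∈ F.autGroup E, ∀ n : ℕ, Odd n → β ^ n = 1 →
        (∀ (e : E) (he' : s * (e : Ω) * s⁻¹ ∈ E), ((β ⟨s * e * s⁻¹, he'⟩ : E) : Ω) = s * ((β e : E) : Ω) * s⁻¹) →
        ∀ e : E, (e : Ω) ∈ V → β e = e) := by
  classical
  have hpp : p.Prime := Fact.out
  obtain ⟨s, t, hsS, hsE, hES, hZSE, hidxE, hts, hab, hdecS, htA, ht1, htW, htfix, hfix, hsyl, hnn, hextend⟩ :=
    essential_transvection p hS F hF W hWcard hWZ hcomm hZidx E hE
  have hEfin : Finite E := Finite.of_injective (Subgroup.inclusion hES) (Subgroup.inclusion_injective hES)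
  have hEp : IsPGroup p E := hS.to_le hES
  have hWE : W ≤ E := hWZ.trans hZSE
  have hW'card : Nat.card (W.subgroupOf E) = p := by
    rw [Nat.card_congr (Subgroup.subgroupOfEquivOfLe hWE).toEquiv, hWcard]
  let iC : CommGroup E := { (inferInstance : Group E) with mul_comm := hab }
  obtain ⟨w, w', V₀, C₀, hwW, hw1, hww, hw'w', htw', hW'2, hWV, hw'V, hV4, hVinv, hCinv, htC, hdisj, hEdec,
      hfixdec, hfrat⟩ :=
    @exists_symmetric_three_structure E iC _ p _ hp2 hEp (F.autGroup E) t htA ht1 (W.subgroupOf E) hW'card htW htfix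
      hsyl hnn
  have hwz : (w : Ω) = z := by
    rcases hW2 (w : Ω) (Subgroup.mem_subgroupOf.mp hwW) with h | h
    · exact absurd (Subtype.ext h) hw1
    · exact h
  have hzz : z * z = 1 := by
    have := congrArg (Subtype.val : E → Ω) hww
    rw [← hwz]
    exact this
  have hcen : ∀ g ∈ S, (∀ e ∈ E, g * e = e * g) → g ∈ E := by
    intro g hg hge
    apply hE.1.2 E (Cfsg.Agent.Lib.Helper87.isConj_refl F hES)
    refine ⟨hg, ?_⟩
    show g ∈ Subgroup.centralizer (E : Set Ω)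
    rw [Subgroup.mem_centralizer_iff]
    intro e he
    exact (hge e he).symm
  -- `t` is an involution
  have htt : ∀ e : E, t (t e) = e := by
    intro e
    obtain ⟨d, hd⟩ : ∃ d, d = e⁻¹ * t e := ⟨_, rfl⟩
    have hdW : d ∈ W.subgroupOf E := hd ▸ htW e
    have hte : t e = e * d := by rw [hd]; group
    have hdd : d * d = 1 := by
      rcases hW'2 d hdW with h | h
      · rw [h, mul_one]
      · rw [h, hww]
    rw [hte, map_mul, htfix d hdW, hte, mul_assoc, hdd, mul_one]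
  have hs2 : s * s ∈ E := by
    apply hcen _ (S.mul_mem hsS hsS)
    intro e he
    have h1 := congrArg (Subtype.val : E → Ω) (htt ⟨e, he⟩)
    rw [hts, hts] at h1
    calc s * s * e = (s * (s * e * s⁻¹) * s⁻¹) * (s * s) := by group
      _ = e * (s * s) := by rw [h1]
  have hspow : ∀ k : ℕ, s ^ k ∈ E ∨ ∃ e ∈ E, s ^ k = e * s := by
    intro k
    induction k with
    | zero => left; rw [pow_zero]; exact E.one_mem
    | succ k ih =>
      rcases ih with h | ⟨e, he, h⟩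
      · right; exact ⟨s ^ k, h, pow_succ s k⟩
      · left
        rw [pow_succ, h, mul_assoc]
        exact E.mul_mem he hs2
  have hcoset : ∀ u ∈ S, u ∈ E ∨ ∃ e ∈ E, u = e * s := by
    intro u hu
    obtain ⟨e, he, k, rfl⟩ := hdecS u hu
    rcases hspow k with h | ⟨e', he', h⟩
    · left; exact E.mul_mem he h
    · right; exact ⟨e * e', E.mul_mem he he', by rw [h, mul_assoc]⟩
  have hxZ : (w' : Ω) ∉ S ⊓ Subgroup.centralizer (S : Set Ω) := by
    intro h
    have h1 := (hfix w').mpr h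
    rw [htw'] at h1
    apply hw1
    calc w = w'⁻¹ * (w' * w) := by group
      _ = 1 := by rw [h1, inv_mul_cancel]
  have hC₀Z : ∀ c ∈ C₀, (c : Ω) ∈ S ⊓ Subgroup.centralizer (S : Set Ω) := fun c hc => (hfix c).mp (htC c hc)
  have hzZ : z ∈ S ⊓ Subgroup.centralizer (S : Set Ω) := by
    rw [← hwz]
    exact hWZ (Subgroup.mem_subgroupOf.mp hwW)
  refine ⟨(w' : Ω), s, V₀.map E.subtype, C₀.map E.subtype, hES, hZSE, w'.2, ?_, hxZ, hsS, hsE, ?_, ?_, ?_, ?_, ?_, ?_,
    ?_, ?_, ?_, ?_, ?_, ?_, ?_⟩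
  · exact congrArg (Subtype.val : E → Ω) hw'w'
  · rw [← hts, htw', ← hwz]; rfl
  · -- cosets of `E`
    intro y hy hyE u hu
    rcases hcoset u hu with h | ⟨e, he, h⟩
    · exact Or.inl h
    · right
      rcases hcoset y hy with h' | ⟨e', he', h'⟩
      · exact absurd h' hyE
      · refine ⟨e * e'⁻¹, E.mul_mem he (E.inv_mem he'), ?_⟩
        rw [h, h']; group
  · -- elements of `E`
    intro e he
    obtain ⟨v, hv, c, hc, hvc⟩ := hEdec ⟨e, he⟩
    have hvc' : e = (v : Ω) * (c : Ω) := congrArg (Subtype.val : E → Ω) hvc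
    rcases hV4 v hv with h | h | h | h
    · refine ⟨c, hC₀Z c hc, Or.inl ?_⟩
      rw [hvc', h]; simp
    · refine ⟨z * c, Subgroup.mul_mem _ hzZ (hC₀Z c hc), Or.inl ?_⟩
      rw [hvc', h, hwz]
    · refine ⟨c, hC₀Z c hc, Or.inr ?_⟩
      rw [hvc', h]
    · refine ⟨z * c, Subgroup.mul_mem _ hzZ (hC₀Z c hc), Or.inr ?_⟩
      rw [hvc', h, ← hwz]
      have := congrArg (Subtype.val : E → Ω) (hab w w')
      simp only [Subgroup.coe_mul] at this ⊢
      rw [this]; group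
  · intro y hy
    exact ⟨⟨y, hWE hy⟩, hWV (Subgroup.mem_subgroupOf.mpr hy), rfl⟩
  · exact ⟨w', hw'V, rfl⟩
  · rintro _ ⟨v, -, rfl⟩
    exact v.2
  · rintro _ ⟨v, hv, rfl⟩
    rcases hV4 v hv with h | h | h | h
    · left; rw [h]; rfl
    · right; left; rw [h]; exact hwz
    · right; right; left; rw [h]; rfl
    · right; right; right; rw [h, ← hwz]; rfl
  · rintro _ ⟨c, hc, rfl⟩
    exact hC₀Z c hc
  · rintro _ ⟨c, hc, rfl⟩ ⟨v, hv, hvc⟩
    have : v = c := Subtype.ext hvc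
    rw [hdisj c hc (this ▸ hv)]
    rfl
  · intro ζ hζ
    obtain ⟨w₁, hw₁, c, hc, hζe⟩ := hfixdec ⟨ζ, hZSE hζ⟩ ((hfix ⟨ζ, hZSE hζ⟩).mpr hζ)
    exact ⟨(w₁ : Ω), Subgroup.mem_subgroupOf.mp hw₁, (c : Ω), ⟨c, hc, rfl⟩, congrArg (Subtype.val : E → Ω) hζe⟩
  · rintro α hα e ⟨c, hc, hce⟩
    have : c = e := Subtype.ext hce
    subst this
    exact ⟨α c, hCinv α hα c hc, rfl⟩
  · intro α hα
    obtain ⟨l, hlA, hlV, hlt⟩ := hfrat α hα
    obtain ⟨ν', hν'A, hν'e⟩ := hextend (l⁻¹ * α) (Subgroup.mul_mem _ (Subgroup.inv_mem _ hlA) hα) hlt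
    refine ⟨l, hlA, fun e => ⟨e⁻¹ * l e, hlV e, rfl⟩, ?_, ν', hν'A, fun e he heS => hν'e e he heS⟩
    rintro e ⟨c, hc, hce⟩
    have : c = e := Subtype.ext hce
    subst this
    have h1 := hdisj (c⁻¹ * l c) (C₀.mul_mem (C₀.inv_mem hc) (hCinv l hlA c hc)) (hlV c)
    calc l c = c * (c⁻¹ * l c) := by group
      _ = c := by rw [h1, mul_one]
  · -- odd-order automorphisms commuting with `t` fix `V` pointwise
    intro β hβA n hn hβn hβs
    have hβt : ∀ e : E, β (t e) = t (β e) := by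
      intro e
      apply Subtype.ext
      rw [hts (β e)]
      have he' : s * (e : Ω) * s⁻¹ ∈ E := hts e ▸ (t e).2
      rw [← hβs e he']
      congr 2
      exact Subtype.ext (hts e)
    have hiter : ∀ e : E, (β^[n]) e = e := by
      intro e
      rw [← mulAut_pow_apply_eq_iterate, hβn]
      rfl
    have hfixV : ∀ v ∈ V₀, t v = v → v = 1 ∨ v = w := by
      intro v hv htv
      rcases hV4 v hv with h | h | h | h
      · exact Or.inl h
      · exact Or.inr h
      · exfalso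
        rw [h, htw'] at htv
        apply hw1
        calc w = w'⁻¹ * (w' * w) := by group
          _ = 1 := by rw [htv, inv_mul_cancel]
      · exfalso
        rw [h, map_mul, htw', htfix w hwW] at htv
        apply hw1
        have : w * (w' * w) = w * w' * w := by group
        rw [this] at htv
        exact mul_left_cancel (a := w * w') (by rw [htv, mul_one])
    have hβw : β w = w := by
      rcases hfixV (β w) (hVinv β hβA w (hWV hwW)) (by rw [← hβt, htfix w hwW]) with h | h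
      · exact absurd ((map_eq_one_iff β β.injective).mp h) hw1
      · exact h
    have hw'w : w' ≠ w := by
      intro h
      have h1 := htw'
      rw [h, htfix w hwW] at h1
      apply hw1
      exact mul_left_cancel (a := w) (by rw [← h1, mul_one])
    have hw'1 : w' ≠ 1 := by
      intro h
      have h1 := htw'
      rw [h, map_one, one_mul] at h1
      exact hw1 h1.symm
    have hβw' : β w' = w' := by
      rcases hV4 (β w') (hVinv β hβA w' hw'V) with h | h | h | h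
      · exact absurd ((map_eq_one_iff β β.injective).mp h) hw'1
      · rw [← hβw] at h
        exact absurd (β.injective h) hw'w
      · exact h
      · apply fix_of_sq_fix β n hn w' (hiter w')
        rw [h, map_mul, hβw, h, ← mul_assoc, hww, one_mul]
    rintro e ⟨v, hv, hve⟩
    have : v = e := Subtype.ext hve
    subst this
    rcases hV4 v hv with h | h | h | h
    · rw [h, map_one]
    · rw [h, hβw]
    · rw [h, hβw']
    · rw [h, map_mul, hβw, hβw']

theorem mem_center_iff_mem_inf_centralizer {Ω : Type*} [Group Ω] {S : Subgroup Ω} (u : S) :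
    u ∈ Subgroup.center S ↔ (u : Ω) ∈ S ⊓ Subgroup.centralizer (S : Set Ω) := by
  rw [Subgroup.mem_center_iff]
  constructor
  · intro h
    refine ⟨u.2, ?_⟩
    show (u : Ω) ∈ Subgroup.centralizer (S : Set Ω)
    rw [Subgroup.mem_centralizer_iff]
    intro g hg
    exact congrArg (Subtype.val : S → Ω) (h ⟨g, hg⟩)
  · intro h g
    apply Subtype.ext
    exact Subgroup.mem_centralizer_iff.mp h.2 g g.2

theorem inf_centralizer_subgroupOf_eq_center {Ω : Type*} [Group Ω] (S : Subgroup Ω) :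
    (S ⊓ Subgroup.centralizer (S : Set Ω)).subgroupOf S = Subgroup.center S := by
  ext u
  rw [Subgroup.mem_subgroupOf, mem_center_iff_mem_inf_centralizer]

/-- `odd_aut_trivial_mod_center` for a subgroup of an ambient group. -/
theorem odd_aut_trivial_mod_center' {Ω : Type*} [Group Ω] {S : Subgroup Ω}
    (hidx : (S ⊓ Subgroup.centralizer (S : Set Ω)).relIndex S = 4)
    (z : Ω) (hzS : z ∈ S) (hz2 : z * z = 1) (hcomm : ∀ a ∈ S, ∀ b ∈ S, ⁅a, b⁆ = 1 ∨ ⁅a, b⁆ = z)
    (hsq : ∀ ζ ∈ S ⊓ Subgroup.centralizer (S : Set Ω), ζ * ζ ≠ z)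
    (x : Ω) (hxS : x ∈ S) (hx2 : x * x = 1) (hxZ : x ∉ S ⊓ Subgroup.centralizer (S : Set Ω))
    (δ : MulAut S) (n : ℕ) (hn : Odd n) (hδ : δ ^ n = 1) (u : S) :
    (u : Ω)⁻¹ * ((δ u : S) : Ω) ∈ S ⊓ Subgroup.centralizer (S : Set Ω) := by
  have hidx' : (Subgroup.center S).index = 4 := by
    rw [← inf_centralizer_subgroupOf_eq_center]
    exact hidx
  have h := odd_aut_trivial_mod_center hidx' (⟨z, hzS⟩ : S) (Subtype.ext hz2)
    (fun a b => by
      have hc : ((⁅a, b⁆ : S) : Ω) = ⁅(a : Ω), (b : Ω)⁆ := by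
        rw [commutatorElement_def, commutatorElement_def]; push_cast; rfl
      rcases hcomm a a.2 b b.2 with h | h
      · left; exact Subtype.ext (hc.trans h)
      · right; exact Subtype.ext (hc.trans h))
    (fun ζ hζ h => hsq ζ ((mem_center_iff_mem_inf_centralizer ζ).mp hζ) (congrArg (Subtype.val : S → Ω) h))
    (⟨x, hxS⟩ : S) (Subtype.ext hx2) (fun h => hxZ ((mem_center_iff_mem_inf_centralizer _).mp h)) δ n hn hδ u
  exact (mem_center_iff_mem_inf_centralizer _).mp h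

end Cfsg.Agent.Lib.Helper86
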