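import Cfsg.Agent.Lib.Helper86.CenterIndexTwo

/-! `p = 2`: the centre of `S` is `W` (helper86). -/

set_option autoImplicit false
open Cfsg

namespace Cfsg.Agent.Lib.Helper86

open scoped commutatorElement

theorem exists_generator_of_card_two {Ω : Type*} [Group Ω] (W : Subgroup Ω) (hW : Nat.card W = 2) :
    ∃ z ∈ W, z ≠ 1 ∧ z * z = 1 ∧ ∀ w ∈ W, w = 1 ∨ w = z := by
  have hfin : Finite W := Nat.finite_of_card_ne_zero (by rw [hW]; norm_num)
  have hnt : Nontrivial W := Finite.one_lt_card_iff_nontrivial.mp (by rw [hW]; norm_num)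
  obtain ⟨⟨z, hzW⟩, hz⟩ := exists_ne (1 : W)
  have hz1 : z ≠ 1 := fun h => hz (Subtype.ext h)
  have hzz : z * z = 1 := by
    have : (⟨z, hzW⟩ : W) ^ Nat.card W = 1 := pow_card_eq_one'
    rw [hW, pow_two] at this
    exact congrArg Subtype.val this
  refine ⟨z, hzW, hz1, hzz, fun w hw => ?_⟩
  have : Fact (Nat.Prime 2) := ⟨Nat.prime_two⟩
  obtain ⟨k, hk⟩ := mem_powers_of_prime_card (G := W) hW (g := ⟨z, hzW⟩) (g' := ⟨w, hw⟩) hz
  have hk' : z ^ k = w := by simpa using congrArg Subtype.val hk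
  rcases Nat.even_or_odd' k with ⟨m, rfl | rfl⟩
  · left
    rw [← hk', pow_mul, pow_two, hzz, one_pow]
  · right
    rw [← hk', pow_succ, pow_mul, pow_two, hzz, one_pow, one_mul]

set_option maxHeartbeats 1600000 in
theorem center_eq_of_two {Ω : Type*} [Group Ω] {S : Subgroup Ω} [Finite S] (p : ℕ) [Fact p.Prime] (hp2 : p = 2)
    (hS : IsPGroup p S) (F : Cfsg.FusionSystem S) (hF : F.IsSaturated p) (hS1 : S ≠ ⊥) (hcore : F.core = ⊥)
    (hhyp : F.hyperfocalSubgroup p = S)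
    (W : Subgroup Ω) (hWcard : Nat.card W = p) (hWZ : W ≤ S ⊓ Subgroup.centralizer (S : Set Ω))
    (hcomm : ∀ x ∈ S, ∀ y ∈ S, ⁅x, y⁆ ∈ W)
    (hZidx : (S ⊓ Subgroup.centralizer (S : Set Ω)).relIndex S = p ^ 2) :
    S ⊓ Subgroup.centralizer (S : Set Ω) = W := by
  classical
  have hpp : p.Prime := Fact.out
  have hWS : W ≤ S := hWZ.trans inf_le_left
  have hZc : ∀ ζ ∈ S ⊓ Subgroup.centralizer (S : Set Ω), ∀ s ∈ S, ζ * s = s * ζ := fun ζ hζ s hs =>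
    (Subgroup.mem_centralizer_iff.mp hζ.2 s hs).symm
  obtain ⟨z, hzW, hz1, hzz, hW2⟩ := exists_generator_of_card_two W (hp2 ▸ hWcard)
  have hzS : z ∈ S := hWS hzW
  have hzZ : z ∈ S ⊓ Subgroup.centralizer (S : Set Ω) := hWZ hzW
  have hcomm2 : ∀ a ∈ S, ∀ b ∈ S, ⁅a, b⁆ = 1 ∨ ⁅a, b⁆ = z := fun a ha b hb => hW2 _ (hcomm a ha b hb)
  have hidx4 : (S ⊓ Subgroup.centralizer (S : Set Ω)).relIndex S = 4 := by rw [hZidx, hp2]; norm_num
  -- essential data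
  have hdata := fun E (hE : F.IsEssential p E) =>
    essential_data_two p hp2 hS F hF W hWcard hWZ hcomm hZidx z hz1 hW2 E hE
  choose X Sg V C hES hZSE hXE hXX hXZ hSgS hSgE hSgX hcos hEl hWV hXV hVE hV4 hCZ hdisj hZdec hCinv hfrat hodd
    using hdata
  obtain ⟨E₀, h₀⟩ := exists_essential_of_core_eq_bot p hS F hF hS1 hcore
  -- no central element squares to `z`
  have hsq : ∀ ζ ∈ S ⊓ Subgroup.centralizer (S : Set Ω), ζ * ζ ≠ z := by
    intro ζ hζ h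
    obtain ⟨w, hw, c, hc, rfl⟩ := hZdec E₀ h₀ ζ hζ
    have hcZ := hCZ E₀ h₀ hc
    have hwc : w * c * (w * c) = (w * w) * (c * c) := by
      have := hZc c hcZ w (hWS hw)
      calc w * c * (w * c) = w * (c * w) * c := by group
        _ = w * (w * c) * c := by rw [this]
        _ = (w * w) * (c * c) := by group
    have hww : w * w = 1 := by
      rcases hW2 w hw with h | h
      · rw [h, mul_one]
      · rw [h, hzz]
    rw [hwc, hww, one_mul] at h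
    have hV : c * c ∈ V E₀ h₀ := by rw [h]; exact hWV E₀ h₀ hzW
    have := hdisj E₀ h₀ (c * c) ((C E₀ h₀).mul_mem hc hc) hV
    rw [h] at this
    exact hz1 this
  -- Step A
  have hA : ∀ (δ : MulAut S) (n : ℕ), Odd n → δ ^ n = 1 → ∀ u : S,
      (u : Ω)⁻¹ * ((δ u : S) : Ω) ∈ S ⊓ Subgroup.centralizer (S : Set Ω) :=
    fun δ n hn hδ u => odd_aut_trivial_mod_center' hidx4 z hzS hzz hcomm2 hsq (X E₀ h₀) (hES E₀ h₀ (hXE E₀ h₀))
      (hXX E₀ h₀) (hXZ E₀ h₀) δ n hn hδ u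
  -- Step B
  have hB : ∀ δ ∈ F.autGroup S, ∀ n : ℕ, Odd n → δ ^ n = 1 → ∀ E (hE : F.IsEssential p E),
      (∀ u : S, (u : Ω) ∈ V E hE → δ u = u) ∧ (∀ u : S, (u : Ω) ∈ C E hE → ((δ u : S) : Ω) ∈ C E hE) := by
    intro δ hδA n hn hδn E hE
    have hpres : ∀ u : S, (u : Ω) ∈ E → ((δ u : S) : Ω) ∈ E := by
      intro u hu
      have h1 := hZSE E hE (hA δ n hn hδn u)
      have : ((δ u : S) : Ω) = (u : Ω) * ((u : Ω)⁻¹ * ((δ u : S) : Ω)) := by group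
      rw [this]
      exact E.mul_mem hu h1
    obtain ⟨β, hβA, hβ⟩ := exists_restrict_aut F (hES E hE) δ hδA hpres
    have hβk : ∀ (k : ℕ) (e : E), (((β ^ k) e : E) : Ω) = (((δ ^ k) ⟨e, hES E hE e.2⟩ : S) : Ω) := by
      intro k
      induction k with
      | zero => intro e; rfl
      | succ k ih =>
        intro e
        have h1 : (⟨(((β ^ k) e : E) : Ω), hES E hE ((β ^ k) e).2⟩ : S) = (δ ^ k) ⟨e, hES E hE e.2⟩ :=
          Subtype.ext (ih e)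
        rw [pow_succ', pow_succ', MulAut.mul_apply, MulAut.mul_apply, hβ, h1]
    have hβn : β ^ n = 1 := by
      apply MulEquiv.ext
      intro e
      apply Subtype.ext
      rw [hβk, hδn]
      rfl
    have hβs : ∀ (e : E) (he' : Sg E hE * (e : Ω) * (Sg E hE)⁻¹ ∈ E),
        ((β ⟨Sg E hE * e * (Sg E hE)⁻¹, he'⟩ : E) : Ω) = Sg E hE * ((β e : E) : Ω) * (Sg E hE)⁻¹ := by
      intro e he'
      have hsS : Sg E hE ∈ S := hSgS E hE
      rw [hβ, hβ]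
      have h1 : (⟨Sg E hE * (e : Ω) * (Sg E hE)⁻¹, hES E hE he'⟩ : S)
          = ⟨Sg E hE, hsS⟩ * ⟨e, hES E hE e.2⟩ * (⟨Sg E hE, hsS⟩ : S)⁻¹ := rfl
      rw [h1, map_mul, map_mul, map_inv]
      obtain ⟨ζ, hζ⟩ : ∃ ζ, ζ = (Sg E hE)⁻¹ * ((δ ⟨Sg E hE, hsS⟩ : S) : Ω) := ⟨_, rfl⟩
      have hζZ : ζ ∈ S ⊓ Subgroup.centralizer (S : Set Ω) := hζ ▸ hA δ n hn hδn ⟨Sg E hE, hsS⟩
      have hδs : ((δ ⟨Sg E hE, hsS⟩ : S) : Ω) = Sg E hE * ζ := by rw [hζ]; group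
      have hc := hZc ζ hζZ _ (δ ⟨e, hES E hE e.2⟩).2
      push_cast
      rw [hδs]
      calc Sg E hE * ζ * ((δ ⟨e, hES E hE e.2⟩ : S) : Ω) * (Sg E hE * ζ)⁻¹
          = Sg E hE * (ζ * ((δ ⟨e, hES E hE e.2⟩ : S) : Ω)) * ζ⁻¹ * (Sg E hE)⁻¹ := by group
        _ = Sg E hE * (((δ ⟨e, hES E hE e.2⟩ : S) : Ω) * ζ) * ζ⁻¹ * (Sg E hE)⁻¹ := by rw [hc]
        _ = Sg E hE * ((δ ⟨e, hES E hE e.2⟩ : S) : Ω) * (Sg E hE)⁻¹ := by group
    have hβV := hodd E hE β hβA n hn hβn hβs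
    refine ⟨fun u hu => ?_, fun u hu => ?_⟩
    · have h1 := hβV ⟨u, hVE E hE hu⟩ hu
      apply Subtype.ext
      have h2 := congrArg (Subtype.val : E → Ω) h1
      rw [hβ] at h2
      exact h2
    · have h1 := hCinv E hE β hβA ⟨u, hZSE E hE (hCZ E hE hu)⟩ hu
      rw [hβ] at h1
      exact h1
  -- Step D
  have hfinA : Finite (MulAut S) := Finite.of_injective (fun α : MulAut S => (α : S → S)) DFunLike.coe_injective
  have hD : ∀ α ∈ F.autGroup S, ∃ β γ : MulAut S, β ∈ F.autGroup S ∧ α = β * γ ∧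
      (∃ n : ℕ, Odd n ∧ β ^ n = 1) ∧ ∃ h : S, ∀ u : S, γ u = h * u * h⁻¹ := by
    intro α hα
    obtain ⟨β, γ, hβz, hγz, hαβγ, ⟨m, hm, hβm⟩, ⟨a, hγa⟩⟩ := exists_coprime_decomp p α (isOfFinOrder_of_finite α)
    have hzle : Subgroup.zpowers α ≤ F.autGroup S := by rw [Subgroup.zpowers_le]; exact hα
    refine ⟨β, γ, hzle hβz, hαβγ, ⟨m, ?_, hβm⟩, pElement_inner hS F hF γ (hzle hγz) a hγa⟩
    rw [hp2] at hm
    exact Nat.odd_iff.mpr (by omega)
  -- Step K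
  obtain ⟨K, hK⟩ : ∃ K : Subgroup Ω, K = ⨅ E, ⨅ hE : F.IsEssential p E, C E hE := ⟨_, rfl⟩
  have hmemK : ∀ x, x ∈ K ↔ ∀ E (hE : F.IsEssential p E), x ∈ C E hE := by
    intro x
    rw [hK]
    simp only [Subgroup.mem_iInf]
  have hKZ : K ≤ S ⊓ Subgroup.centralizer (S : Set Ω) := fun x hx => hCZ E₀ h₀ ((hmemK x).mp hx E₀ h₀)
  have hKS_inv : ∀ α ∈ F.autGroup S, ∀ u : S, (u : Ω) ∈ K → ((α u : S) : Ω) ∈ K := by
    intro α hα u hu
    obtain ⟨β, γ, hβA, rfl, ⟨n, hn, hβn⟩, h, hγ⟩ := hD α hα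
    have hγu : γ u = u := by
      rw [hγ]
      apply Subtype.ext
      have := hZc u (hKZ hu) h h.2
      push_cast
      rw [← this]
      group
    rw [MulAut.mul_apply, hγu, hmemK]
    intro E hE
    exact (hB β hβA n hn hβn E hE).2 u ((hmemK u).mp hu E hE)
  have hKnorm : F.IsNormal K := by
    refine Cfsg.Agent.Lib.Helper84.isNormal_of_forall_essential F hS hF K (fun P hP => ?_)
    rcases hP with hPS | hP
    · rw [hPS]
      refine ⟨hKZ.trans inf_le_left, fun α hα => ?_⟩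
      apply subgroupOf_map_eq_of_forall_mem
      exact hKS_inv α hα
    · have hPfin : Finite P := Finite.of_injective (Subgroup.inclusion (hES P hP))
        (Subgroup.inclusion_injective (hES P hP))
      refine ⟨hKZ.trans (hZSE P hP), fun α hα => ?_⟩
      apply subgroupOf_map_eq_of_forall_mem
      intro e he
      obtain ⟨l, hlA, hlV, hlC, ν', hν'A, hν'e⟩ := hfrat P hP α hα
      have h1 : α e = l ((l⁻¹ * α) e) := by rw [MulAut.mul_apply, MulAut.apply_inv_self]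
      have h2' := hν'e (e : Ω) e.2 (hES P hP e.2)
      have h2 : (((l⁻¹ * α) e : P) : Ω) ∈ K := by
        have := hKS_inv ν' hν'A ⟨e, hES P hP e.2⟩ he
        rw [h2'] at this
        exact this
      rw [h1, hlC _ ((hmemK _).mp h2 P hP)]
      exact h2
  have hKbot : ∀ k ∈ K, k = 1 := by
    intro k hk
    have := Cfsg.Agent.Lib.Helper85.le_core_of_isNormal F hKnorm hk
    rw [hcore] at this
    exact Subgroup.mem_bot.mp this
  apply le_antisymm _ hWZ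
  intro ζ hζ
  by_cases hcase : ∀ E (hE : F.IsEssential p E), E = E₀
  · -- only one essential subgroup
    obtain ⟨w, hw, c, hc, rfl⟩ := hZdec E₀ h₀ ζ hζ
    have hcK : c ∈ K := by
      rw [hmemK]
      intro E hE
      have := hcase E hE
      subst this
      exact hc
    rw [hKbot c hcK, mul_one]
    exact hw
  · push Not at hcase
    obtain ⟨E₁, h₁, hne⟩ := hcase
    have hx₀S : X E₀ h₀ ∈ S := hES E₀ h₀ (hXE E₀ h₀)
    have hx₁S : X E₁ h₁ ∈ S := hES E₁ h₁ (hXE E₁ h₁)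
    have hsame : ∀ E (hE : F.IsEssential p E) E' (hE' : F.IsEssential p E'),
        (∃ ζ ∈ S ⊓ Subgroup.centralizer (S : Set Ω), X E hE = X E' hE' * ζ) → E = E' := by
      rintro E hE E' hE' ⟨ζ, hζ, hX⟩
      apply le_antisymm
      · intro e he
        obtain ⟨ζ', hζ', h | h⟩ := hEl E hE e he
        · rw [h]; exact hZSE E' hE' hζ'
        · rw [h, hX]
          exact E'.mul_mem (E'.mul_mem (hXE E' hE') (hZSE E' hE' hζ)) (hZSE E' hE' hζ')
      · intro e he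
        obtain ⟨ζ', hζ', h | h⟩ := hEl E' hE' e he
        · rw [h]; exact hZSE E hE hζ'
        · have hX' : X E' hE' = X E hE * ζ⁻¹ := by rw [hX]; group
          rw [h, hX']
          exact E.mul_mem (E.mul_mem (hXE E hE) (E.inv_mem (hZSE E hE hζ))) (hZSE E hE hζ')
    have hx₁E₀ : X E₁ h₁ ∉ E₀ := by
      intro h
      obtain ⟨ζ', hζ', h' | h'⟩ := hEl E₀ h₀ _ h
      · exact hXZ E₁ h₁ (h' ▸ hζ')
      · exact hne (hsame E₁ h₁ E₀ h₀ ⟨ζ', hζ', h'⟩)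
    -- normal form
    have hnf : ∀ u ∈ S, ∃ ζ' ∈ S ⊓ Subgroup.centralizer (S : Set Ω),
        u = ζ' ∨ u = X E₀ h₀ * ζ' ∨ u = X E₁ h₁ * ζ' ∨ u = X E₀ h₀ * X E₁ h₁ * ζ' := by
      intro u hu
      rcases hcos E₀ h₀ (X E₁ h₁) hx₁S hx₁E₀ u hu with h | ⟨e, he, h⟩
      · obtain ⟨ζ', hζ', h' | h'⟩ := hEl E₀ h₀ u h
        · exact ⟨ζ', hζ', Or.inl h'⟩
        · exact ⟨ζ', hζ', Or.inr (Or.inl h')⟩
      · obtain ⟨ζ', hζ', h' | h'⟩ := hEl E₀ h₀ e he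
        · refine ⟨ζ', hζ', Or.inr (Or.inr (Or.inl ?_))⟩
          rw [h, h', hZc ζ' hζ' _ hx₁S]
        · refine ⟨ζ', hζ', Or.inr (Or.inr (Or.inr ?_))⟩
          rw [h, h', mul_assoc, hZc ζ' hζ' _ hx₁S, mul_assoc]
    -- odd-order elements of `Aut_F(S)` are trivial
    have hβtriv : ∀ β ∈ F.autGroup S, ∀ n : ℕ, Odd n → β ^ n = 1 → ∀ u : S, β u = u := by
      intro β hβA n hn hβn
      have hζfix : ∀ ζ' : S, (ζ' : Ω) ∈ S ⊓ Subgroup.centralizer (S : Set Ω) → β ζ' = ζ' := by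
        intro ζ' hζ'
        have h1 : (ζ' : Ω)⁻¹ * ((β ζ' : S) : Ω) ∈ K := by
          rw [hmemK]
          intro E hE
          obtain ⟨w, hw, c, hc, hζwc⟩ := hZdec E hE ζ' hζ'
          have hwS := hWS hw
          have hcS := (hCZ E hE hc).1
          have h2 : ζ' = ⟨w, hwS⟩ * ⟨c, hcS⟩ := Subtype.ext hζwc
          have h3 : β ⟨w, hwS⟩ = ⟨w, hwS⟩ := (hB β hβA n hn hβn E hE).1 ⟨w, hwS⟩ (hWV E hE hw)
          have h4 := (hB β hβA n hn hβn E hE).2 ⟨c, hcS⟩ hc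
          rw [h2, map_mul, h3]
          have : ((⟨w, hwS⟩ * ⟨c, hcS⟩ : S) : Ω)⁻¹ * ((⟨w, hwS⟩ * β ⟨c, hcS⟩ : S) : Ω)
              = c⁻¹ * ((β ⟨c, hcS⟩ : S) : Ω) := by
            push_cast; group
          rw [this]
          exact (C E hE).mul_mem ((C E hE).inv_mem hc) h4
        have h5 := hKbot _ h1
        apply Subtype.ext
        calc ((β ζ' : S) : Ω) = ζ' * ((ζ' : Ω)⁻¹ * ((β ζ' : S) : Ω)) := by group
          _ = ζ' := by rw [h5, mul_one]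
      have hx₀fix : β ⟨X E₀ h₀, hx₀S⟩ = ⟨X E₀ h₀, hx₀S⟩ := (hB β hβA n hn hβn E₀ h₀).1 _ (hXV E₀ h₀)
      have hx₁fix : β ⟨X E₁ h₁, hx₁S⟩ = ⟨X E₁ h₁, hx₁S⟩ := (hB β hβA n hn hβn E₁ h₁).1 _ (hXV E₁ h₁)
      intro u
      obtain ⟨ζ', hζ', h | h | h | h⟩ := hnf u u.2
      · exact hζfix u (h ▸ hζ')
      · have : u = ⟨X E₀ h₀, hx₀S⟩ * ⟨ζ', hζ'.1⟩ := Subtype.ext h
        rw [this, map_mul, hx₀fix, hζfix ⟨ζ', hζ'.1⟩ hζ']
      · have : u = ⟨X E₁ h₁, hx₁S⟩ * ⟨ζ', hζ'.1⟩ := Subtype.ext h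
        rw [this, map_mul, hx₁fix, hζfix ⟨ζ', hζ'.1⟩ hζ']
      · have : u = ⟨X E₀ h₀, hx₀S⟩ * ⟨X E₁ h₁, hx₁S⟩ * ⟨ζ', hζ'.1⟩ := Subtype.ext h
        rw [this, map_mul, map_mul, hx₀fix, hx₁fix, hζfix ⟨ζ', hζ'.1⟩ hζ']
    have hSfoc : ∀ α ∈ F.autGroup S, ∀ x : S, (x : Ω)⁻¹ * ((α x : S) : Ω) ∈ W := by
      intro α hα x
      obtain ⟨β, γ, hβA, rfl, ⟨n, hn, hβn⟩, h, hγ⟩ := hD α hα
      rw [MulAut.mul_apply, hβtriv β hβA n hn hβn, hγ]
      have : (x : Ω)⁻¹ * ((h * x * h⁻¹ : S) : Ω) = ⁅(x : Ω)⁻¹, (h : Ω)⁆ := by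
        rw [commutatorElement_def]; push_cast; group
      rw [this]
      exact hcomm _ (S.inv_mem x.2) _ h.2
    -- the two involutions do not commute
    have hx01 : ⁅X E₀ h₀, X E₁ h₁⁆ = z := by
      rcases hcomm2 _ hx₀S _ hx₁S with h | h
      · exfalso
        apply hXZ E₁ h₁
        have hc01 : X E₁ h₁ * X E₀ h₀ = X E₀ h₀ * X E₁ h₁ := by
          rw [commutatorElement_def] at h
          calc X E₁ h₁ * X E₀ h₀
              = (X E₀ h₀ * X E₁ h₁ * (X E₀ h₀)⁻¹ * (X E₁ h₁)⁻¹)⁻¹ * (X E₀ h₀ * X E₁ h₁) := by group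
            _ = X E₀ h₀ * X E₁ h₁ := by rw [h, inv_one, one_mul]
        refine ⟨hx₁S, ?_⟩
        show X E₁ h₁ ∈ Subgroup.centralizer (S : Set Ω)
        rw [Subgroup.mem_centralizer_iff]
        intro u hu
        obtain ⟨ζ', hζ', h' | h' | h' | h'⟩ := hnf u hu
        · rw [h']; exact hZc ζ' hζ' _ hx₁S
        · rw [h']
          calc X E₀ h₀ * ζ' * X E₁ h₁ = X E₀ h₀ * (ζ' * X E₁ h₁) := by group
            _ = X E₀ h₀ * (X E₁ h₁ * ζ') := by rw [hZc ζ' hζ' _ hx₁S]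
            _ = (X E₀ h₀ * X E₁ h₁) * ζ' := by group
            _ = (X E₁ h₁ * X E₀ h₀) * ζ' := by rw [hc01]
            _ = X E₁ h₁ * (X E₀ h₀ * ζ') := by group
        · rw [h', mul_assoc, hZc ζ' hζ' _ hx₁S]
        · rw [h']
          calc X E₀ h₀ * X E₁ h₁ * ζ' * X E₁ h₁ = X E₀ h₀ * X E₁ h₁ * (ζ' * X E₁ h₁) := by group
            _ = X E₀ h₀ * X E₁ h₁ * (X E₁ h₁ * ζ') := by rw [hZc ζ' hζ' _ hx₁S]
            _ = (X E₀ h₀ * X E₁ h₁) * X E₁ h₁ * ζ' := by group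
            _ = (X E₁ h₁ * X E₀ h₀) * X E₁ h₁ * ζ' := by rw [hc01]
            _ = X E₁ h₁ * (X E₀ h₀ * X E₁ h₁ * ζ') := by group
      · exact h
    -- the essential subgroups are `E₀` and `E₁`
    have hE01 : ∀ E (hE : F.IsEssential p E), E = E₀ ∨ E = E₁ := by
      intro E hE
      obtain ⟨ζ', hζ', h | h | h | h⟩ := hnf (X E hE) (hES E hE (hXE E hE))
      · exact absurd (h ▸ hζ') (hXZ E hE)
      · exact Or.inl (hsame E hE E₀ h₀ ⟨ζ', hζ', h⟩)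
      · exact Or.inr (hsame E hE E₁ h₁ ⟨ζ', hζ', h⟩)
      · exfalso
        have h1 := hXX E hE
        rw [h] at h1
        have hx₀inv : (X E₀ h₀)⁻¹ = X E₀ h₀ := inv_eq_of_mul_eq_one_right (hXX E₀ h₀)
        have hx₁inv : (X E₁ h₁)⁻¹ = X E₁ h₁ := inv_eq_of_mul_eq_one_right (hXX E₁ h₁)
        have h2 : X E₀ h₀ * X E₁ h₁ * ζ' * (X E₀ h₀ * X E₁ h₁ * ζ') = ⁅X E₀ h₀, X E₁ h₁⁆ * (ζ' * ζ') := by
          rw [commutatorElement_def, hx₀inv, hx₁inv]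
          calc X E₀ h₀ * X E₁ h₁ * ζ' * (X E₀ h₀ * X E₁ h₁ * ζ')
              = X E₀ h₀ * X E₁ h₁ * (ζ' * (X E₀ h₀ * X E₁ h₁)) * ζ' := by group
            _ = X E₀ h₀ * X E₁ h₁ * ((X E₀ h₀ * X E₁ h₁) * ζ') * ζ' := by
              rw [hZc ζ' hζ' _ (S.mul_mem hx₀S hx₁S)]
            _ = X E₀ h₀ * X E₁ h₁ * X E₀ h₀ * X E₁ h₁ * (ζ' * ζ') := by group
        rw [h2, hx01] at h1
        apply hsq ζ' hζ'
        calc ζ' * ζ' = z * z * (ζ' * ζ') := by rw [hzz, one_mul]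
          _ = z * (z * (ζ' * ζ')) := by group
          _ = z := by rw [h1, mul_one]
    have hVeq : ∀ E (hE : F.IsEssential p E) E' (hE' : F.IsEssential p E'), E = E' → V E hE = V E' hE' := by
      intro E hE E' hE' h
      subst h
      rfl
    -- the focal subgroup
    obtain ⟨H, hH⟩ : ∃ H : Subgroup Ω, H = V E₀ h₀ ⊔ V E₁ h₁ := ⟨_, rfl⟩
    have hV₀H : V E₀ h₀ ≤ H := hH ▸ le_sup_left
    have hV₁H : V E₁ h₁ ≤ H := hH ▸ le_sup_right
    have hWH : W ≤ H := (hWV E₀ h₀).trans hV₀H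
    have hfoc : F.focalSubgroup ≤ H := by
      apply focalSubgroup_le_of_essential F hS hF H
      · intro g hg x hx
        apply hWH
        have : x⁻¹ * (g * x * g⁻¹) = ⁅x⁻¹, g⁆ := by rw [commutatorElement_def]; group
        rw [this]
        exact hcomm _ (S.inv_mem hx) _ hg
      · intro P hP
        rcases hP with hPS | hP
        · rw [hPS]
          intro α hα x
          exact hWH (hSfoc α hα x)
        · intro α hα x
          obtain ⟨l, hlA, hlV, hlC, ν', hν'A, hν'e⟩ := hfrat P hP α hα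
          have h1 : α x = l ((l⁻¹ * α) x) := by rw [MulAut.mul_apply, MulAut.apply_inv_self]
          have h2 := hν'e (x : Ω) x.2 (hES P hP x.2)
          have h3 := hSfoc ν' hν'A ⟨x, hES P hP x.2⟩
          rw [h2] at h3
          have h4 := hlV ((l⁻¹ * α) x)
          have hVH : V P hP ≤ H := by
            rcases hE01 P hP with h | h
            · rw [hVeq P hP E₀ h₀ h]; exact hV₀H
            · rw [hVeq P hP E₁ h₁ h]; exact hV₁H
          have h5 : (x : Ω)⁻¹ * ((l ((l⁻¹ * α) x) : P) : Ω) = ((x : Ω)⁻¹ * (((l⁻¹ * α) x : P) : Ω)) *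
              ((((l⁻¹ * α) x : P) : Ω)⁻¹ * ((l ((l⁻¹ * α) x) : P) : Ω)) := by group
          rw [h1, h5]
          exact H.mul_mem (hWH h3) (hVH h4)
    have hSH : S ≤ H := by
      intro u hu
      have : u ∈ F.hyperfocalSubgroup p := by rw [hhyp]; exact hu
      exact hfoc (hyperfocalSubgroup_le_focalSubgroup F p this)
    have hζH : ζ ∈ H := hSH hζ.1
    have hV₀n : ((V E₀ h₀).subgroupOf S).Normal := by
      refine ⟨fun n hn g => ?_⟩
      rw [Subgroup.mem_subgroupOf] at hn ⊢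
      have : ((g * n * g⁻¹ : S) : Ω) = ⁅(g : Ω), (n : Ω)⁆ * n := by
        rw [commutatorElement_def]; push_cast; group
      rw [this]
      exact (V E₀ h₀).mul_mem (hWV E₀ h₀ (hcomm _ g.2 _ n.2)) hn
    have hV₀S : V E₀ h₀ ≤ S := (hVE E₀ h₀).trans (hES E₀ h₀)
    have hV₁S : V E₁ h₁ ≤ S := (hVE E₁ h₁).trans (hES E₁ h₁)
    have h1 : (⟨ζ, hζ.1⟩ : S) ∈ (V E₀ h₀).subgroupOf S ⊔ (V E₁ h₁).subgroupOf S := by
      rw [← Subgroup.subgroupOf_sup hV₀S hV₁S, Subgroup.mem_subgroupOf, ← hH]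
      exact hζH
    obtain ⟨a, ha, b, hb, hab⟩ := Subgroup.mem_sup_of_normal_left.mp h1
    rw [Subgroup.mem_subgroupOf] at ha hb
    have hab' : (a : Ω) * (b : Ω) = ζ := congrArg (Subtype.val : S → Ω) hab
    have hbE₀ : (b : Ω) ∈ E₀ := by
      have : (b : Ω) = (a : Ω)⁻¹ * ζ := by rw [← hab']; group
      rw [this]
      exact E₀.mul_mem (E₀.inv_mem (hVE E₀ h₀ ha)) (hZSE E₀ h₀ hζ)
    have hbW : (b : Ω) ∈ W := by
      rcases hV4 E₁ h₁ _ hb with h | h | h | h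
      · rw [h]; exact W.one_mem
      · rw [h]; exact hzW
      · exfalso; exact hx₁E₀ (h ▸ hbE₀)
      · exfalso
        apply hx₁E₀
        have : X E₁ h₁ = z⁻¹ * (b : Ω) := by rw [h]; group
        rw [this]
        exact E₀.mul_mem (E₀.inv_mem (hZSE E₀ h₀ hzZ)) hbE₀
    have haZ : (a : Ω) ∈ S ⊓ Subgroup.centralizer (S : Set Ω) := by
      have : (a : Ω) = ζ * (b : Ω)⁻¹ := by rw [← hab']; group
      rw [this]
      exact Subgroup.mul_mem _ hζ (Subgroup.inv_mem _ (hWZ hbW))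
    have haW : (a : Ω) ∈ W := by
      rcases hV4 E₀ h₀ _ ha with h | h | h | h
      · rw [h]; exact W.one_mem
      · rw [h]; exact hzW
      · exfalso; exact hXZ E₀ h₀ (h ▸ haZ)
      · exfalso
        apply hXZ E₀ h₀
        have : X E₀ h₀ = z⁻¹ * (a : Ω) := by rw [h]; group
        rw [this]
        exact Subgroup.mul_mem _ (Subgroup.inv_mem _ hzZ) haZ
    rw [← hab']
    exact W.mul_mem haW hbW

end Cfsg.Agent.Lib.Helper86
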