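/-
helper86: coprime action of a single automorphism of prime power order on a finite group: fixed points in invariant cosets,
`[P, α, α] = [P, α]` in elementwise form, and generation of the elements of order prime to `p` by those of prime power order.
All declarations live in `Cfsg.Agent.Lib.Helper86`.
-/
import Mathlib

set_option autoImplicit false

namespace Cfsg.Agent.Lib.Helper86

/-- An automorphism `α` of `q`-power order that maps the coset `x W` to itself (`|W|` prime to `q`) fixes a point of it. -/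
theorem exists_fixed_in_coset_aut {P : Type*} [Group P] [Finite P] {q : ℕ} [hq : Fact q.Prime] (α : MulAut P) (k : ℕ)
    (hα : α ^ (q ^ k) = 1) (W : Subgroup P) (hW : ¬ q ∣ Nat.card W) (hαW : ∀ w ∈ W, α w ∈ W) (x : P)
    (hx : x⁻¹ * α x ∈ W) : ∃ w ∈ W, α (x * w) = x * w := by
  classical
  set Z := Subgroup.zpowers α with hZ
  have hZq : IsPGroup q Z := by
    rintro ⟨β, hβ⟩
    obtain ⟨n, rfl⟩ := Subgroup.mem_zpowers_iff.mp hβ
    refine ⟨k, Subtype.ext ?_⟩
    show (α ^ n) ^ (q ^ k) = 1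
    rw [← zpow_natCast, ← zpow_mul, mul_comm, zpow_mul, zpow_natCast, hα, one_zpow]
  set X : Set P := (fun w => x * w) '' (W : Set P) with hX
  have hfo : IsOfFinOrder α := isOfFinOrder_iff_pow_eq_one.mpr ⟨q ^ k, pow_pos hq.out.pos k, hα⟩
  have hαX : ∀ y ∈ X, α y ∈ X := by
    rintro _ ⟨w, hw, rfl⟩
    refine ⟨x⁻¹ * α x * α w, W.mul_mem hx (hαW w hw), ?_⟩
    show x * (x⁻¹ * α x * α w) = α (x * w)
    rw [map_mul]; group
  have hpow : ∀ n : ℕ, ∀ y ∈ X, (α ^ n) y ∈ X := by
    intro n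
    induction n with
    | zero => intro y hy; simpa using hy
    | succ n ih =>
      intro y hy
      rw [pow_succ', MulAut.mul_apply]
      exact hαX _ (ih y hy)
  have hinv : ∀ β ∈ Z, ∀ y ∈ X, β y ∈ X := by
    intro β hβ y hy
    rw [hZ, ← hfo.mem_powers_iff_mem_zpowers] at hβ
    obtain ⟨n, rfl⟩ := hβ
    exact hpow n y hy
  let act : MulAction Z X :=
    { smul := fun β y => ⟨(β : MulAut P) y, hinv β β.2 y y.2⟩
      one_smul := fun y => Subtype.ext rfl
      mul_smul := fun a b y => Subtype.ext rfl }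
  have hcard : ¬ q ∣ Nat.card X := by
    rw [hX, Nat.card_image_of_injective (mul_right_injective x)]
    exact hW
  obtain ⟨⟨y, hyX⟩, hy⟩ := hZq.nonempty_fixed_point_of_prime_not_dvd_card X hcard
  obtain ⟨w, hw, rfl⟩ := hyX
  refine ⟨w, hw, ?_⟩
  have := hy ⟨α, Subgroup.mem_zpowers α⟩
  exact congrArg Subtype.val this

/-- `[P, α] ≤ [[P, α], α]` elementwise, for `α` of `q`-power order acting on a `p`-group, `q ≠ p`. -/
theorem inv_mul_apply_mem_closure {P : Type*} [Group P] [Finite P] {p q : ℕ} [hp : Fact p.Prime] [hq : Fact q.Prime]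
    (hpq : q ≠ p) (hP : IsPGroup p P) (α : MulAut P) (k : ℕ) (hα : α ^ (q ^ k) = 1) (x : P) :
    x⁻¹ * α x ∈ Subgroup.closure {y : P | ∃ w ∈ Subgroup.closure {z : P | ∃ v : P, z = v⁻¹ * α v}, y = w⁻¹ * α w} := by
  set W := Subgroup.closure {z : P | ∃ v : P, z = v⁻¹ * α v} with hW
  have hαW : ∀ w ∈ W, α w ∈ W := by
    intro w hw
    have h1 : W.map α.toMonoidHom ≤ W := by
      rw [hW, MonoidHom.map_closure, Subgroup.closure_le]
      rintro _ ⟨_, ⟨v, rfl⟩, rfl⟩
      apply Subgroup.subset_closure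
      refine ⟨α v, ?_⟩
      simp
    exact h1 (Subgroup.mem_map_of_mem _ hw)
  have hWq : ¬ q ∣ Nat.card W := by
    intro h
    obtain ⟨j, hj⟩ := IsPGroup.iff_card.mp (hP.to_subgroup W)
    rw [hj] at h
    have := hq.out.dvd_of_dvd_pow h
    exact hpq ((Nat.prime_dvd_prime_iff_eq hq.out hp.out).mp this)
  have hx : x⁻¹ * α x ∈ W := Subgroup.subset_closure ⟨x, rfl⟩
  obtain ⟨w, hw, hfix⟩ := exists_fixed_in_coset_aut α k hα W hWq hαW x hx
  apply Subgroup.subset_closure
  refine ⟨w⁻¹, W.inv_mem hw, ?_⟩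
  rw [map_mul] at hfix
  -- α x * α w = x * w
  have h2 : α x = x * w * (α w)⁻¹ := by rw [← hfix]; group
  rw [h2, map_inv]; group

/-- An element of order prime to `p` is a product of powers of itself of prime power order. -/
theorem mem_of_forall_primePow_mem {A : Type*} [Group A] (p : ℕ) (Γ : Subgroup A)
    (hΓ : ∀ h : A, (∃ q k : ℕ, q.Prime ∧ q ≠ p ∧ h ^ (q ^ k) = 1) → h ∈ Γ) :
    ∀ (m : ℕ) (g : A), orderOf g = m → 0 < m → Nat.Coprime m p → g ∈ Γ := by
  intro m
  induction m using Nat.strong_induction_on with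
  | _ m ih =>
    intro g hg hm hcop
    by_cases hm1 : m = 1
    · rw [hm1, orderOf_eq_one_iff] at hg
      rw [hg]; exact Γ.one_mem
    set q := m.minFac with hqdef
    have hqp : q.Prime := Nat.minFac_prime hm1
    have hqm : q ∣ m := Nat.minFac_dvd m
    have hqne : q ≠ p := by
      rintro rfl
      have : q ∣ Nat.gcd m q := Nat.dvd_gcd hqm dvd_rfl
      rw [hcop] at this
      exact hqp.one_lt.ne' (Nat.dvd_one.mp this)
    obtain ⟨k, m', hm', hmm'⟩ := Nat.exists_eq_pow_mul_and_not_dvd hm.ne' q hqp.ne_one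
    have hk : k ≠ 0 := by
      rintro rfl
      rw [pow_zero, one_mul] at hmm'
      exact hm' (hmm' ▸ hqm)
    have hm'pos : 0 < m' := by
      rcases Nat.eq_zero_or_pos m' with h | h
      · rw [h, mul_zero] at hmm'; omega
      · exact h
    have hgm : g ^ m = 1 := by rw [← hg]; exact pow_orderOf_eq_one g
    -- the `q`-part
    have h1 : g ^ m' ∈ Γ := by
      apply hΓ
      refine ⟨q, k, hqp, hqne, ?_⟩
      rw [← pow_mul, mul_comm, ← hmm', hgm]
    -- the `q'`-part
    have h2 : g ^ (q ^ k) ∈ Γ := by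
      have h3 : (g ^ (q ^ k)) ^ m' = 1 := by rw [← pow_mul, ← hmm', hgm]
      have h4 : orderOf (g ^ (q ^ k)) ∣ m' := orderOf_dvd_of_pow_eq_one h3
      have h5 : orderOf (g ^ (q ^ k)) ≤ m' := Nat.le_of_dvd hm'pos h4
      have h6 : m' < m := by
        rw [hmm']
        have : 1 < q ^ k := Nat.one_lt_pow hk hqp.one_lt
        nlinarith
      refine ih _ (lt_of_le_of_lt h5 h6) _ rfl (Nat.pos_of_dvd_of_pos h4 hm'pos) ?_
      exact Nat.Coprime.coprime_dvd_left (h4.trans (Dvd.intro_left _ hmm'.symm)) hcop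
    -- Bezout
    have hcop' : Nat.Coprime (q ^ k) m' := Nat.Coprime.pow_left k ((Nat.Prime.coprime_iff_not_dvd hqp).mpr hm')
    have hbez := Nat.gcd_eq_gcd_ab (q ^ k) m'
    rw [hcop'] at hbez
    have h7 : g = (g ^ (q ^ k)) ^ (Nat.gcdA (q ^ k) m') * (g ^ m') ^ (Nat.gcdB (q ^ k) m') := by
      rw [← zpow_natCast g (q ^ k), ← zpow_natCast g m', ← zpow_mul, ← zpow_mul, ← zpow_add]
      have : ((q ^ k : ℕ) : ℤ) * Nat.gcdA (q ^ k) m' + (m' : ℤ) * Nat.gcdB (q ^ k) m' = 1 := by
        rw [← hbez]; simp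
      rw [this, zpow_one]
    rw [h7]
    exact Γ.mul_mem (Γ.zpow_mem h2 _) (Γ.zpow_mem h1 _)

end Cfsg.Agent.Lib.Helper86
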