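/-
helper86: project F4OUT (helper91, S2128), module [S-COUNTGEN]: the order of `Out Γ` from a bound on the
normalised automorphisms acting on `X_a` by scalars (refactoring of helper69's `card_out_rank2`).
-/
import Cfsg.Agent.Lib.Helper91.TwOut.Defs
import Cfsg.Agent.Lib.Helper69.TwOut.TwOutCount

set_option autoImplicit false
set_option linter.unusedSectionVars false

namespace Cfsg.Agent.Lib.Helper86.F4Out

open Cfsg Cfsg.Agent.Lib.Helper91.TwOut Cfsg.Agent.Lib.Helper69.TwOut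

variable {Γ : Type*} [Group Γ] {ι : Type*} {p : ℕ}

section Count

variable {K : Type*} [Field K] [Fintype K]

/-- [S-COUNTGEN] -/
theorem card_out_of_ker_le [Finite Γ] [Fact p.Prime] (S : SplitBN Γ ι p)
    (Φa : Matrix.SpecialLinearGroup (Fin 2) K →* Γ) (hinja : Function.Injective fun t : K => Φa (sx t))
    (hnf : ∀ θ ∈ Nrm S.U S.V, ∃ (c : Kˣ) (τ : K ≃+* K), ∀ t, θ (Φa (sx t)) = Φa (sx ((c : K) * τ t)))
    (hcore : S.P.B.normalCore = ⊥) (M : ℕ) (hH : Nat.card ↥(S.P.B ⊓ S.P.N) = M)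
    (htorus : ∀ h ∈ S.P.B ⊓ S.P.N, ∃ c : K, ∀ t, h * Φa (sx t) * h⁻¹ = Φa (sx (c * t)))
    (hfield : ∀ τ : K ≃+* K, ∃ θ : Γ ≃* Γ, S.U.map θ.toMonoidHom = S.U ∧ S.V.map θ.toMonoidHom = S.V ∧
      ∀ t, θ (Φa (sx t)) = Φa (sx (τ t)))
    (hker : ∀ T : Subgroup (MulAut Γ), T ≤ Nrm S.U S.V →
      (∀ θ ∈ T, ∃ c : Kˣ, ∀ t, θ (Φa (sx t)) = Φa (sx ((c : K) * t))) → Nat.card ↥T ≤ M) :
    Nat.card (Out Γ) = Nat.card (K ≃+* K) := by
  have : Finite (MulAut Γ) := finite_mulAut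
  set A : Subgroup (MulAut Γ) := Nrm S.U S.V with hA
  obtain ⟨Ψ, hΨ⟩ := Cfsg.Agent.Lib.Helper85.TwOut.exists_psi Φa hinja A hnf
  -- `Ψ θ` is the field automorphism of any normal form of `θ`
  have hΨuniq : ∀ (θ : ↥A) (c : Kˣ) (τ : K ≃+* K),
      (∀ t, (θ : MulAut Γ) (Φa (sx t)) = Φa (sx ((c : K) * τ t))) → Ψ θ = τ := by
    intro θ c τ h
    obtain ⟨c', hc'⟩ := hΨ θ
    have h2 : ∀ t : K, (c' : K) * (Ψ θ) t = (c : K) * τ t := by
      intro t
      apply hinja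
      show Φa (sx ((c' : K) * (Ψ θ) t)) = Φa (sx ((c : K) * τ t))
      rw [← hc' t, h t]
    exact (Cfsg.Agent.Lib.Helper85.TwOut.nf_unique c' c (Ψ θ) τ h2).2
  -- `Ψ` is onto
  have hsurj : Function.Surjective Ψ := by
    intro τ
    obtain ⟨θ, hθU, hθV, hθ⟩ := hfield τ
    refine ⟨⟨θ, hθU, hθV⟩, ?_⟩
    apply hΨuniq _ 1 τ
    intro t
    rw [Units.val_one, one_mul]
    exact hθ t
  -- the bound on the kernel
  have hkerle : Nat.card ↥Ψ.ker ≤ M := by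
    have h1 : Nat.card ↥(Ψ.ker.map A.subtype) = Nat.card ↥Ψ.ker :=
      Subgroup.card_map_of_injective (Subgroup.subtype_injective A)
    rw [← h1]
    apply hker
    · rintro θ ⟨θ', -, rfl⟩
      exact θ'.2
    · rintro θ ⟨θ', hθ', rfl⟩
      obtain ⟨c, hc⟩ := hΨ θ'
      refine ⟨c, fun t => ?_⟩
      have h2 := hc t
      have h3 : Ψ θ' = 1 := MonoidHom.mem_ker.1 hθ'
      rw [h3] at h2
      exact h2
  -- the inner automorphisms in `A` lie in the kernel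
  have hinn : ∀ x : ↥(A ⊓ Inn Γ), (⟨(x : MulAut Γ), x.2.1⟩ : ↥A) ∈ Ψ.ker := by
    intro x
    have hx : (x : MulAut Γ) ∈ (S.P.B ⊓ S.P.N).map (MulAut.conj : Γ →* MulAut Γ) := by
      rw [← Cfsg.Agent.Lib.Helper49.TwOut.Nrm_inf_Inn S]
      exact x.2
    obtain ⟨h, hh, hhx⟩ := hx
    obtain ⟨c, hc⟩ := htorus h hh
    rw [MonoidHom.mem_ker]
    have hc0 : c ≠ 0 := by
      intro h0
      have h1 := hc 1
      have h2 := hc 0
      rw [h0, zero_mul] at h1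
      rw [h0, zero_mul] at h2
      have h3 : h * Φa (sx 1) * h⁻¹ = h * Φa (sx 0) * h⁻¹ := h1.trans h2.symm
      have h4 : Φa (sx (1 : K)) = Φa (sx 0) := by
        have := congrArg (fun y => h⁻¹ * y * h) h3
        simpa [mul_assoc] using this
      exact one_ne_zero (hinja h4)
    have e := hΨuniq ⟨(x : MulAut Γ), x.2.1⟩ (Units.mk0 c hc0) (RingEquiv.refl K) (by
      intro t
      show (x : MulAut Γ) (Φa (sx t)) = _
      rw [← hhx]
      simp only [MulAut.conj_apply, Units.val_mk0, RingEquiv.refl_apply]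
      exact hc t)
    rw [e]
    rfl
  have hle : Nat.card ↥(A ⊓ Inn Γ) ≤ Nat.card ↥Ψ.ker := by
    apply Nat.card_le_card_of_injective (fun x : ↥(A ⊓ Inn Γ) => (⟨⟨(x : MulAut Γ), x.2.1⟩, hinn x⟩ : ↥Ψ.ker))
    intro x y hxy
    apply Subtype.ext
    have := congrArg (fun z : ↥Ψ.ker => ((z : ↥A) : MulAut Γ)) hxy
    exact this
  have hcardInn : Nat.card ↥(A ⊓ Inn Γ) = M := by
    rw [hA, Cfsg.Agent.Lib.Helper49.TwOut.card_Nrm_inf_Inn S hcore, hH]
  have hkereq : Nat.card ↥Ψ.ker = Nat.card ↥(A ⊓ Inn Γ) := le_antisymm (hcardInn ▸ hkerle) hle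
  -- `|A| = |ker Ψ| |Aut K|`
  have hcardA : Nat.card ↥A = Nat.card ↥Ψ.ker * Nat.card (RingAut K) := by
    rw [← Nat.card_congr (QuotientGroup.quotientKerEquivOfSurjective Ψ hsurj).toEquiv, mul_comm]
    exact Subgroup.card_eq_card_quotient_mul_card_subgroup Ψ.ker
  have hquot := Cfsg.Agent.Lib.Helper93.Aut.card_quot_mul_card_inf (Inn Γ) A (fun θ => part_one S θ)
  rw [hcardA, ← hkereq, mul_comm] at hquot
  have hpos : 0 < Nat.card ↥Ψ.ker := Nat.card_pos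
  exact Nat.eq_of_mul_eq_mul_left hpos hquot

end Count

end Cfsg.Agent.Lib.Helper86.F4Out
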