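/-
helper86: project F4OUT (helper91, S2128), module [S-MAPN]: an automorphism fixing `U` and `V` fixes `H = B ⊓ N`,
and `N` (given that `N_Γ(H) ≤ N`, module [S-NH]).
-/
import Cfsg.Agent.Lib.Helper91.TwOut.Defs
import Cfsg.Agent.Lib.Helper69.TwOut.TwOutCount
import Cfsg.Agent.Lib.Helper19.F4OutNH

set_option autoImplicit false
set_option linter.unusedSectionVars false
set_option linter.unusedVariables false

namespace Cfsg.Agent.Lib.Helper86.F4Out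

open Cfsg Cfsg.Agent.Lib.Helper91.TwOut Cfsg.Agent.Lib.Helper69.TwOut

variable {Γ : Type*} [Group Γ] {ι : Type*} {p : ℕ}

/-- a normalised automorphism maps `H` into `H` -/
theorem map_H_mem (S : SplitBN Γ ι p) (hcore : S.P.B.normalCore = ⊥) (θ : Γ ≃* Γ)
    (hθ : (θ : MulAut Γ) ∈ Nrm S.U S.V) (h : Γ) (hh : h ∈ S.P.B ⊓ S.P.N) :
    θ h ∈ S.P.B ⊓ S.P.N := by
  have e : (MulAut.conj (θ h) : MulAut Γ) = (θ : MulAut Γ) * MulAut.conj h * (θ : MulAut Γ)⁻¹ := by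
    ext x
    show θ h * x * (θ h)⁻¹ = θ (h * θ.symm x * h⁻¹)
    rw [map_mul, map_mul, map_inv, MulEquiv.apply_symm_apply]
  have h1 : (MulAut.conj (θ h) : MulAut Γ) ∈ Nrm S.U S.V ⊓ Inn Γ := by
    refine ⟨?_, θ h, rfl⟩
    rw [e]
    exact Subgroup.mul_mem _ (Subgroup.mul_mem _ hθ (Cfsg.Agent.Lib.Helper49.TwOut.conj_mem_Nrm S h hh))
      (Subgroup.inv_mem _ hθ)
  rw [Cfsg.Agent.Lib.Helper49.TwOut.Nrm_inf_Inn S] at h1
  obtain ⟨h', hh', e'⟩ := h1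
  -- `z = h'⁻¹ θ h` is central
  have hz : ∀ g : Γ, g * (h'⁻¹ * θ h) = (h'⁻¹ * θ h) * g := by
    intro g
    have h2 := congrArg (fun φ : MulAut Γ => φ g) e'
    simp only [MulAut.conj_apply] at h2
    -- h2 : h' * g * h'⁻¹ = θ h * g * (θ h)⁻¹
    calc g * (h'⁻¹ * θ h) = h'⁻¹ * (h' * g * h'⁻¹) * θ h := by group
      _ = h'⁻¹ * (θ h * g * (θ h)⁻¹) * θ h := by rw [h2]
      _ = (h'⁻¹ * θ h) * g := by group
  have hzB : h'⁻¹ * θ h ∈ S.P.B := by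
    rw [mem_B_iff S]
    have : (MulAut.conj (h'⁻¹ * θ h) : MulAut Γ) = 1 := by
      ext x
      show (h'⁻¹ * θ h) * x * (h'⁻¹ * θ h)⁻¹ = x
      rw [← hz x, mul_inv_cancel_right]
    rw [this]
    have : (1 : MulAut Γ).toMonoidHom = MonoidHom.id Γ := rfl
    rw [this, Subgroup.map_id]
  have hz1 : h'⁻¹ * θ h = 1 := by
    have := Cfsg.Agent.Lib.Helper49.TwOut.mem_normalCore_of_central S.P.B _ hzB hz
    rw [hcore] at this
    exact Subgroup.mem_bot.1 this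
  have : θ h = h' := by
    rw [← mul_one h', ← hz1, mul_inv_cancel_left]
  rw [this]
  exact hh'

/-- [S-MAPN] a normalised automorphism fixes `H`. -/
theorem map_H_iff [Finite Γ] [Fact p.Prime] (S : SplitBN Γ ι p) (hcore : S.P.B.normalCore = ⊥) (θ : Γ ≃* Γ)
    (hU : S.U.map θ.toMonoidHom = S.U) (hV : S.V.map θ.toMonoidHom = S.V) (h : Γ) :
    θ h ∈ S.P.B ⊓ S.P.N ↔ h ∈ S.P.B ⊓ S.P.N := by
  have hθ : (θ : MulAut Γ) ∈ Nrm S.U S.V := ⟨hU, hV⟩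
  constructor
  · intro hh
    have hθ' : ((θ : MulAut Γ)⁻¹ : MulAut Γ) ∈ Nrm S.U S.V := Subgroup.inv_mem _ hθ
    have h1 := map_H_mem S hcore ((θ : MulAut Γ)⁻¹ : MulAut Γ) hθ' (θ h) hh
    have e : ((θ : MulAut Γ)⁻¹ : MulAut Γ) (θ h) = h := θ.symm_apply_apply h
    rwa [e] at h1
  · exact map_H_mem S hcore θ hθ h

/-- [S-MAPN], `N`-part, with [S-NH] as a hypothesis. -/
theorem map_N_mem_of [Finite Γ] [Fact p.Prime] (S : SplitBN Γ ι p) (hcore : S.P.B.normalCore = ⊥)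
    (hNH : ∀ g : Γ, (∀ h, h ∈ S.P.B ⊓ S.P.N ↔ g * h * g⁻¹ ∈ S.P.B ⊓ S.P.N) → g ∈ S.P.N)
    (θ : Γ ≃* Γ)
    (hU : S.U.map θ.toMonoidHom = S.U) (hV : S.V.map θ.toMonoidHom = S.V) (n : Γ) (hn : n ∈ S.P.N) :
    θ n ∈ S.P.N := by
  -- `n` normalises `H`
  have hnorm : ∀ m ∈ S.P.N, ∀ t ∈ S.P.B ⊓ S.P.N, m * t * m⁻¹ ∈ S.P.B ⊓ S.P.N := by
    intro m hm t ht
    exact ⟨S.P.conj_mem m hm t ht, Subgroup.mul_mem _ (Subgroup.mul_mem _ hm ht.2) (Subgroup.inv_mem _ hm)⟩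
  have hiff : ∀ t, t ∈ S.P.B ⊓ S.P.N ↔ n * t * n⁻¹ ∈ S.P.B ⊓ S.P.N := by
    intro t
    constructor
    · exact hnorm n hn t
    · intro ht
      have := hnorm n⁻¹ (Subgroup.inv_mem _ hn) _ ht
      have e : n⁻¹ * (n * t * n⁻¹) * n⁻¹⁻¹ = t := by group
      rwa [e] at this
  apply hNH
  intro h
  have e : θ n * h * (θ n)⁻¹ = θ (n * θ.symm h * n⁻¹) := by
    rw [map_mul, map_mul, map_inv, MulEquiv.apply_symm_apply]
  rw [e, map_H_iff S hcore θ hU hV, ← hiff, ← map_H_iff S hcore θ hU hV (θ.symm h),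
    MulEquiv.apply_symm_apply]

/-- [S-MAPN] a normalised automorphism fixes `N`. -/
theorem map_N_mem [Finite Γ] [Fact p.Prime] (S : SplitBN Γ ι p) (hcore : S.P.B.normalCore = ⊥)
    (hCU : ∀ u ∈ S.U, (∀ h ∈ S.P.B ⊓ S.P.N, h * u * h⁻¹ = u) → u = 1) (θ : Γ ≃* Γ)
    (hU : S.U.map θ.toMonoidHom = S.U) (hV : S.V.map θ.toMonoidHom = S.V) (n : Γ) (hn : n ∈ S.P.N) :
    θ n ∈ S.P.N :=
  map_N_mem_of S hcore (Cfsg.Agent.Lib.Helper19.F4Out.mem_N_of_normalizes_H S hCU) θ hU hV n hn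

end Cfsg.Agent.Lib.Helper86.F4Out
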