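/-
helper86: tools for solvable fusion systems: images/preimages of strongly closed subgroups in factor systems,
commutators of suprema modulo a normal subgroup.
All declarations live in `Cfsg.Agent.Lib.Helper86`.
-/
import Cfsg.Agent.S5128
import Cfsg.Agent.Lib.Helper87.FusionLift

set_option autoImplicit false

namespace Cfsg.Agent.Lib.Helper86

open Cfsg Cfsg.FusionSystem Cfsg.Agent.Lib.Helper87 Cfsg.Agent.Lib.Helper85
open scoped commutatorElement

section factor

variable {Ω : Type*} [Group Ω] {S : Subgroup Ω} {Ω' : Type*} [Group Ω'] {S' : Subgroup Ω'}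

/-- The full preimage of a subgroup strongly closed in the factor system is strongly closed. -/
theorem stronglyClosed_preimageAlong (p : ℕ) [Fact p.Prime] [Finite S] (hS : IsPGroup p S)
    (F : FusionSystem S) (hF : F.IsSaturated p) {R : Subgroup Ω} (hR : F.StronglyClosed R)
    (θ : S →* Ω') (E : FusionSystem S') (hE : F.IsFactorSystem R θ E)
    {Z : Subgroup Ω'} (hZ : E.StronglyClosed Z) : F.StronglyClosed (preimageAlong θ Z) := by
  refine ⟨preimageAlong_le θ Z, ?_⟩
  intro P hP φ hφ x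
  obtain ⟨φ', hφ', hPS, hφS, hP', hcomm⟩ :=
    exists_induced_of_isFactorSystem F hS hF hR θ E hE hφ
  have hle : imageAlong θ P ≤ Z := by
    rintro _ ⟨y, hy, rfl⟩
    have : (y : Ω) ∈ preimageAlong θ Z := hP (Subgroup.mem_subgroupOf.1 hy)
    exact ((mem_preimageAlong_iff θ Z _).mp this).2
  have h1 := hZ.2 _ hle φ' hφ' ⟨θ ⟨x, hPS x.2⟩, hP' x⟩
  rw [hcomm x] at h1
  exact (mem_preimageAlong_iff θ Z _).mpr ⟨hφS x, h1⟩

/-- The image of a strongly closed subgroup is strongly closed in the factor system. -/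
theorem stronglyClosed_imageAlong (p : ℕ) [Fact p.Prime] [Finite S] (hS : IsPGroup p S)
    (F : FusionSystem S) (hF : F.IsSaturated p) {R : Subgroup Ω} (hR : F.StronglyClosed R)
    (θ : S →* Ω') (E : FusionSystem S') (hE : F.IsFactorSystem R θ E)
    {Q : Subgroup Ω} (hQ : F.StronglyClosed Q) : E.StronglyClosed (imageAlong θ Q) := by
  obtain ⟨hRS, hker, hrange, hHom⟩ := hE
  have hQR' : F.StronglyClosed (Q ⊔ R) := Cfsg.Agent.S5128.result p hS F hF Q R hQ hR
  have hpre : preimageAlong θ (imageAlong θ Q) = Q ⊔ R := preimageAlong_imageAlong θ hker hRS hQ.1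
  refine ⟨?_, ?_⟩
  · rw [← hrange]
    rintro _ ⟨y, -, rfl⟩
    exact ⟨y, rfl⟩
  · intro P' hP' φ' hφ' y
    obtain ⟨hP'S, φ, hφ, hQS, hφS, hθP, hcomm⟩ := (hHom P' φ').1 hφ'
    have hyr : (y : Ω') ∈ θ.range := by rw [hrange]; exact hP'S y.2
    obtain ⟨s, hs⟩ := hyr
    have hsP : (s : Ω) ∈ preimageAlong θ P' := (mem_preimageAlong_iff θ P' _).mpr ⟨s.2, by rw [hs]; exact y.2⟩
    have hle : preimageAlong θ P' ≤ Q ⊔ R := by
      rw [← hpre]; exact preimageAlong_mono θ hP'
    have h1 : φ ⟨s, hsP⟩ ∈ Q ⊔ R := hQR'.2 _ hle φ hφ ⟨s, hsP⟩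
    rw [← hpre] at h1
    have h2 := ((mem_preimageAlong_iff θ _ _).mp h1).2
    have h3 := hcomm ⟨s, hsP⟩
    have h4 : (⟨θ ⟨(⟨(s : Ω), hsP⟩ : ↥(preimageAlong θ P')), hQS hsP⟩, hθP ⟨s, hsP⟩⟩ : P') = y :=
      Subtype.ext hs
    rw [h4] at h3
    rw [h3]
    exact h2

end factor

section comm

variable {G : Type*} [Group G]

/-- Commutators of suprema modulo a normal subgroup. -/
theorem commutator_iSup_le (N : Subgroup G) [N.Normal] {ι : Sort*} (H : ι → Subgroup G)
    (h : ∀ i j, ⁅H i, H j⁆ ≤ N) : ⁅⨆ i, H i, ⨆ i, H i⁆ ≤ N := by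
  have key : ∀ A B : Subgroup G, ⁅A, B⁆ ≤ N ↔
      A.map (QuotientGroup.mk' N) ≤ Subgroup.centralizer (B.map (QuotientGroup.mk' N) : Set (G ⧸ N)) := by
    intro A B
    rw [← Subgroup.commutator_eq_bot_iff_le_centralizer, ← Subgroup.map_commutator,
      Subgroup.map_eq_bot_iff, QuotientGroup.ker_mk']
  rw [key, Subgroup.map_iSup, iSup_le_iff]
  intro i
  rw [Subgroup.le_centralizer_iff, iSup_le_iff]
  intro j
  exact (key _ _).1 (h j i)

end comm

end Cfsg.Agent.Lib.Helper86
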