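import Mathlib

/-!
# HIG-[COMMPAIR] (project HIG = S3050, owner helper48): the commutator pairing (helper86)

If `Z = Z(Q) ∩ Q` and `Q/Z` is abelian then `(ā, b̄) ↦ [a, b]` is a well defined bilinear alternating
pairing `Q/Z × Q/Z → Z`.
-/

set_option autoImplicit false

namespace Cfsg.Agent.Lib.Helper86.Hig

section aux

variable {G : Type*} [Group G]

theorem cpair_left {Q Z : Subgroup G} (hc : ∀ z ∈ Z, ∀ q ∈ Q, q * z = z * q) {a b z : G}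
    (hb : b ∈ Q) (hz : z ∈ Z) :
    (a * z) * b * (a * z)⁻¹ * b⁻¹ = a * b * a⁻¹ * b⁻¹ := by
  have h := hc z hz b hb
  calc (a * z) * b * (a * z)⁻¹ * b⁻¹ = a * (z * b) * z⁻¹ * a⁻¹ * b⁻¹ := by group
    _ = a * (b * z) * z⁻¹ * a⁻¹ * b⁻¹ := by rw [h]
    _ = a * b * a⁻¹ * b⁻¹ := by group

theorem cpair_right {Q Z : Subgroup G} (hc : ∀ z ∈ Z, ∀ q ∈ Q, q * z = z * q) {a b y : G}
    (ha : a ∈ Q) (hy : y ∈ Z) :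
    a * (b * y) * a⁻¹ * (b * y)⁻¹ = a * b * a⁻¹ * b⁻¹ := by
  have h := hc y hy a⁻¹ (Q.inv_mem ha)
  have h2 : y * a⁻¹ * y⁻¹ = a⁻¹ := by rw [← h, mul_inv_cancel_right]
  calc a * (b * y) * a⁻¹ * (b * y)⁻¹ = a * b * (y * a⁻¹ * y⁻¹) * b⁻¹ := by group
    _ = a * b * a⁻¹ * b⁻¹ := by rw [h2]

theorem cpair_congr {Q Z : Subgroup G} (hc : ∀ z ∈ Z, ∀ q ∈ Q, q * z = z * q) (hZQ : Z ≤ Q)
    {a a' b b' : G} (ha : a ∈ Q) (hb : b ∈ Q) (haa : a⁻¹ * a' ∈ Z) (hbb : b⁻¹ * b' ∈ Z) :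
    a' * b' * a'⁻¹ * b'⁻¹ = a * b * a⁻¹ * b⁻¹ := by
  have e1 : a' = a * (a⁻¹ * a') := by group
  have e2 : b' = b * (b⁻¹ * b') := by group
  have hb' : b' ∈ Q := by
    rw [e2]
    exact Q.mul_mem hb (hZQ hbb)
  rw [e1, cpair_left hc hb' haa, e2, cpair_right hc ha hbb]

theorem cpair_mul_left {Q Z : Subgroup G} (hc : ∀ z ∈ Z, ∀ q ∈ Q, q * z = z * q)
    (hab : ∀ a ∈ Q, ∀ b ∈ Q, a * b * a⁻¹ * b⁻¹ ∈ Z) {a b c : G} (ha : a ∈ Q) (hb : b ∈ Q)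
    (hcQ : c ∈ Q) :
    (a * b) * c * (a * b)⁻¹ * c⁻¹ = (a * c * a⁻¹ * c⁻¹) * (b * c * b⁻¹ * c⁻¹) := by
  have hw := hab b hb c hcQ
  have h1 := hc _ hw a ha
  have hac : a * c * a⁻¹ * c⁻¹ ∈ Q :=
    Q.mul_mem (Q.mul_mem (Q.mul_mem ha hcQ) (Q.inv_mem ha)) (Q.inv_mem hcQ)
  have h2 := hc _ hw _ hac
  calc (a * b) * c * (a * b)⁻¹ * c⁻¹
      = (a * (b * c * b⁻¹ * c⁻¹)) * (c * a⁻¹ * c⁻¹) := by group
    _ = ((b * c * b⁻¹ * c⁻¹) * a) * (c * a⁻¹ * c⁻¹) := by rw [h1]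
    _ = (b * c * b⁻¹ * c⁻¹) * (a * c * a⁻¹ * c⁻¹) := by group
    _ = (a * c * a⁻¹ * c⁻¹) * (b * c * b⁻¹ * c⁻¹) := h2.symm

theorem cpair_mul_right {Q Z : Subgroup G} (hc : ∀ z ∈ Z, ∀ q ∈ Q, q * z = z * q)
    (hab : ∀ a ∈ Q, ∀ b ∈ Q, a * b * a⁻¹ * b⁻¹ ∈ Z) {a b c : G} (ha : a ∈ Q) (hb : b ∈ Q)
    (hcQ : c ∈ Q) :
    a * (b * c) * a⁻¹ * (b * c)⁻¹ = (a * b * a⁻¹ * b⁻¹) * (a * c * a⁻¹ * c⁻¹) := by
  have hw := hab a ha c hcQ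
  have h1 := hc _ hw b⁻¹ (Q.inv_mem hb)
  calc a * (b * c) * a⁻¹ * (b * c)⁻¹
      = a * b * a⁻¹ * ((a * c * a⁻¹ * c⁻¹) * b⁻¹) := by group
    _ = a * b * a⁻¹ * (b⁻¹ * (a * c * a⁻¹ * c⁻¹)) := by rw [h1]
    _ = (a * b * a⁻¹ * b⁻¹) * (a * c * a⁻¹ * c⁻¹) := by group

end aux

section concrete

variable {G : Type*} [Group G] [Finite G]

/-- If `Q/Z(Q)` is abelian there is a commutator pairing. -/
theorem exists_comm_pairing (Q : Subgroup G) [Q.Normal] (Z : Subgroup G) [Z.Normal]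
    (hZ : Z = Q ⊓ Subgroup.centralizer (Q : Set G))
    (hab : ∀ a ∈ Q, ∀ b ∈ Q, a * b * a⁻¹ * b⁻¹ ∈ Z) :
    ∃ γ : ↥(Q.map (QuotientGroup.mk' Z)) → ↥(Q.map (QuotientGroup.mk' Z)) → ↥Z,
      (∀ a b c, γ (a * b) c = γ a c * γ b c) ∧ (∀ a b c, γ a (b * c) = γ a b * γ a c) ∧
      (∀ a, γ a a = 1) ∧
      (∀ (a b : G) (ha : a ∈ Q) (hb : b ∈ Q),
        ((γ ⟨(a : G ⧸ Z), Subgroup.mem_map_of_mem _ ha⟩ ⟨(b : G ⧸ Z), Subgroup.mem_map_of_mem _ hb⟩ : Z) : G)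
          = a * b * a⁻¹ * b⁻¹) := by
  have hZQ : Z ≤ Q := by
    rw [hZ]
    exact inf_le_left
  have hc : ∀ z ∈ Z, ∀ q ∈ Q, q * z = z * q := by
    intro z hz q hq
    rw [hZ] at hz
    exact (Subgroup.mem_centralizer_iff.mp hz.2) q hq
  choose r hrQ hr using fun x : ↥(Q.map (QuotientGroup.mk' Z)) => Subgroup.mem_map.mp x.2
  have hr' : ∀ x, ((r x : G) : G ⧸ Z) = (x : G ⧸ Z) := hr
  refine ⟨fun x y => ⟨r x * r y * (r x)⁻¹ * (r y)⁻¹, hab _ (hrQ x) _ (hrQ y)⟩, ?_, ?_, ?_, ?_⟩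
  · intro x y c
    apply Subtype.ext
    show r (x * y) * r c * (r (x * y))⁻¹ * (r c)⁻¹
      = (r x * r c * (r x)⁻¹ * (r c)⁻¹) * (r y * r c * (r y)⁻¹ * (r c)⁻¹)
    rw [← cpair_mul_left hc hab (hrQ x) (hrQ y) (hrQ c)]
    refine cpair_congr hc hZQ (Q.mul_mem (hrQ x) (hrQ y)) (hrQ c) ?_ ?_
    · rw [← QuotientGroup.eq]
      rw [QuotientGroup.mk_mul, hr', hr', hr']
      rfl
    · simp
  · intro x y c
    apply Subtype.ext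
    show r x * r (y * c) * (r x)⁻¹ * (r (y * c))⁻¹
      = (r x * r y * (r x)⁻¹ * (r y)⁻¹) * (r x * r c * (r x)⁻¹ * (r c)⁻¹)
    rw [← cpair_mul_right hc hab (hrQ x) (hrQ y) (hrQ c)]
    refine cpair_congr hc hZQ (hrQ x) (Q.mul_mem (hrQ y) (hrQ c)) ?_ ?_
    · simp
    · rw [← QuotientGroup.eq]
      rw [QuotientGroup.mk_mul, hr', hr', hr']
      rfl
  · intro x
    apply Subtype.ext
    show r x * r x * (r x)⁻¹ * (r x)⁻¹ = 1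
    group
  · intro a b ha hb
    show r _ * r _ * (r _)⁻¹ * (r _)⁻¹ = a * b * a⁻¹ * b⁻¹
    refine cpair_congr hc hZQ ha hb ?_ ?_
    · rw [← QuotientGroup.eq, hr']
    · rw [← QuotientGroup.eq, hr']

end concrete

end Cfsg.Agent.Lib.Helper86.Hig
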