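import Mathlib
import Cfsg.Prelude.Def_Classical
import Cfsg.Agent.Lib.Helper72.Lie2OPa

/-!
# LIE2 / [M-OM-a]: the linear algebra of the unipotent radical elements of `O⁻_{2k+2}(F)`
-/

set_option autoImplicit false
set_option linter.unusedSectionVars false

namespace Cfsg.Agent.Lib.Helper86.Lie2OM

open Matrix Cfsg.Agent.Lib.Helper72.Lie2OP

variable {F : Type*} [Field F] {k : ℕ}

/-- the index type of the minus-type space -/
abbrev II (k : ℕ) : Type := (Fin k ⊕ Fin k) ⊕ Fin 2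

/-- the `x`-component -/
def vx (v : II k → F) : Fin k → F := fun i => v (.inl (.inl i))
/-- the `y`-component -/
def vy (v : II k → F) : Fin k → F := fun i => v (.inl (.inr i))
/-- the `z`-component -/
def vz (v : II k → F) : Fin 2 → F := fun i => v (.inr i)

/-- assemble a vector from its three components -/
def mk3 (x y : Fin k → F) (z : Fin 2 → F) : II k → F := Sum.elim (Sum.elim x y) z

@[simp] theorem vx_mk3 (x y : Fin k → F) (z : Fin 2 → F) : vx (mk3 x y z) = x := rfl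
@[simp] theorem vy_mk3 (x y : Fin k → F) (z : Fin 2 → F) : vy (mk3 x y z) = y := rfl
@[simp] theorem vz_mk3 (x y : Fin k → F) (z : Fin 2 → F) : vz (mk3 x y z) = z := rfl

theorem mk3_eta (v : II k → F) : mk3 (vx v) (vy v) (vz v) = v := by
  funext i
  rcases i with (i | i) | i <;> rfl

theorem mk3_add (x y x' y' : Fin k → F) (z z' : Fin 2 → F) :
    mk3 (x + x') (y + y') (z + z') = mk3 x y z + mk3 x' y' z' := by
  funext i
  rcases i with (i | i) | i <;> rfl

theorem mk3_smul (c : F) (x y : Fin k → F) (z : Fin 2 → F) :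
    mk3 (c • x) (c • y) (c • z) = c • mk3 x y z := by
  funext i
  rcases i with (i | i) | i <;> rfl

theorem mk3_inj {x y x' y' : Fin k → F} {z z' : Fin 2 → F} (h : mk3 x y z = mk3 x' y' z') :
    x = x' ∧ y = y' ∧ z = z' :=
  ⟨congrArg vx h, congrArg vy h, congrArg vz h⟩

theorem vx_add (v w : II k → F) : vx (v + w) = vx v + vx w := rfl
theorem vy_add (v w : II k → F) : vy (v + w) = vy v + vy w := rfl
theorem vz_add (v w : II k → F) : vz (v + w) = vz v + vz w := rfl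
theorem vx_smul (c : F) (v : II k → F) : vx (c • v) = c • vx v := rfl
theorem vy_smul (c : F) (v : II k → F) : vy (c • v) = c • vy v := rfl
theorem vz_smul (c : F) (v : II k → F) : vz (c • v) = c • vz v := rfl

/-- the minus-type quadratic form in components -/
theorem quadFormMinus_eq (a b : F) (v : II k → F) :
    Cfsg.quadFormMinus k F a b v =
      vx v ⬝ᵥ vy v + (vz v 0 ^ 2 + a * vz v 0 * vz v 1 + b * vz v 1 ^ 2) := rfl

/-- the function `(x, y, z) ↦ (x + T y + a (z₀ d₁ + z₁ d₀), y, z + (d₀·y, d₁·y))` -/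
def nFun (a : F) (d0 d1 : Fin k → F) (T : Matrix (Fin k) (Fin k) F) (v : II k → F) : II k → F :=
  mk3 (vx v + T *ᵥ vy v + a • (vz v 0 • d1 + vz v 1 • d0)) (vy v)
    (vz v + ![d0 ⬝ᵥ vy v, d1 ⬝ᵥ vy v])

/-- `nFun` as a linear map -/
def nL (a : F) (d0 d1 : Fin k → F) (T : Matrix (Fin k) (Fin k) F) :
    (II k → F) →ₗ[F] (II k → F) where
  toFun := nFun a d0 d1 T
  map_add' v w := by
    unfold nFun
    rw [← mk3_add, vx_add, vy_add, vz_add]
    congr 1
    · rw [Matrix.mulVec_add]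
      simp only [Pi.add_apply]
      module
    · funext j
      revert j
      rw [Fin.forall_fin_two]
      constructor <;>
      · simp only [Pi.add_apply, Matrix.cons_val_zero, Matrix.cons_val_one, dotProduct_add]
        ring
  map_smul' c v := by
    unfold nFun
    rw [RingHom.id_apply, ← mk3_smul, vx_smul, vy_smul, vz_smul]
    congr 1
    · rw [Matrix.mulVec_smul]
      simp only [Pi.smul_apply, smul_eq_mul]
      module
    · funext j
      revert j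
      rw [Fin.forall_fin_two]
      constructor <;>
      · simp only [Pi.add_apply, Pi.smul_apply, Matrix.cons_val_zero, Matrix.cons_val_one,
          dotProduct_smul, smul_eq_mul]
        ring

/-- the matrix of `nL` -/
def nM (a : F) (d0 d1 : Fin k → F) (T : Matrix (Fin k) (Fin k) F) : Matrix (II k) (II k) F :=
  LinearMap.toMatrix' (nL a d0 d1 T)

theorem nM_mulVec (a : F) (d0 d1 : Fin k → F) (T : Matrix (Fin k) (Fin k) F) (v : II k → F) :
    nM a d0 d1 T *ᵥ v = nFun a d0 d1 T v :=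
  LinearMap.toMatrix'_mulVec _ _

theorem nM_mul (a : F) (d0 d1 e0 e1 : Fin k → F) (T T' : Matrix (Fin k) (Fin k) F) :
    nM a d0 d1 T * nM a e0 e1 T' =
      nM a (d0 + e0) (d1 + e1) (T + T' + a • (vecMulVec d1 e0 + vecMulVec d0 e1)) := by
  rw [Matrix.ext_iff_mulVec]
  intro v
  rw [← Matrix.mulVec_mulVec, nM_mulVec, nM_mulVec, nM_mulVec]
  unfold nFun
  simp only [vx_mk3, vy_mk3, vz_mk3]
  congr 1
  · rw [Matrix.add_mulVec, Matrix.add_mulVec, Matrix.smul_mulVec, Matrix.add_mulVec,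
      Matrix.vecMulVec_mulVec, Matrix.vecMulVec_mulVec]
    simp only [op_smul_eq_smul, Pi.add_apply, Matrix.cons_val_zero, Matrix.cons_val_one]
    module
  · funext j
    revert j
    rw [Fin.forall_fin_two]
    constructor <;>
    · simp only [Pi.add_apply, Matrix.cons_val_zero, Matrix.cons_val_one, add_dotProduct]
      ring

theorem nM_zero (a : F) : nM a (0 : Fin k → F) 0 0 = 1 := by
  rw [Matrix.ext_iff_mulVec]
  intro v
  rw [nM_mulVec, Matrix.one_mulVec]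
  unfold nFun
  conv_rhs => rw [← mk3_eta v]
  congr 1
  · simp
  · funext j
    revert j
    rw [Fin.forall_fin_two]
    constructor <;>
    · simp only [Pi.add_apply, Matrix.cons_val_zero, Matrix.cons_val_one, zero_dotProduct, add_zero]

/-- `nM` as a unit -/
def nU (a : F) (d0 d1 : Fin k → F) (T : Matrix (Fin k) (Fin k) F) : GL (II k) F :=
  ⟨nM a d0 d1 T, nM a (-d0) (-d1) (-T + a • (vecMulVec d1 d0 + vecMulVec d0 d1)), by
    rw [nM_mul, add_neg_cancel, add_neg_cancel, Matrix.vecMulVec_neg, Matrix.vecMulVec_neg,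
      ← nM_zero a]
    congr 1
    rw [← neg_add, smul_neg]
    abel, by
    rw [nM_mul, neg_add_cancel, neg_add_cancel, Matrix.neg_vecMulVec, Matrix.neg_vecMulVec,
      ← nM_zero a]
    congr 1
    rw [← neg_add, smul_neg]
    abel⟩

theorem nU_coe (a : F) (d0 d1 : Fin k → F) (T : Matrix (Fin k) (Fin k) F) :
    ((nU a d0 d1 T : GL (II k) F) : Matrix (II k) (II k) F) = nM a d0 d1 T := rfl

theorem nU_mul (a : F) (d0 d1 e0 e1 : Fin k → F) (T T' : Matrix (Fin k) (Fin k) F) :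
    nU a d0 d1 T * nU a e0 e1 T' =
      nU a (d0 + e0) (d1 + e1) (T + T' + a • (vecMulVec d1 e0 + vecMulVec d0 e1)) := by
  apply Units.ext
  rw [Units.val_mul, nU_coe, nU_coe, nU_coe, nM_mul]

theorem nU_zero (a : F) : nU a (0 : Fin k → F) 0 0 = 1 := by
  apply Units.ext
  rw [nU_coe, nM_zero]
  rfl

theorem nU_inj {a : F} {d0 d1 e0 e1 : Fin k → F} {T T' : Matrix (Fin k) (Fin k) F}
    (h : nU a d0 d1 T = nU a e0 e1 T') : d0 = e0 ∧ d1 = e1 ∧ T = T' := by
  have h1 : nM a d0 d1 T = nM a e0 e1 T' := congrArg Units.val h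
  have h2 : ∀ y : Fin k → F, T *ᵥ y = T' *ᵥ y ∧ d0 ⬝ᵥ y = e0 ⬝ᵥ y ∧ d1 ⬝ᵥ y = e1 ⬝ᵥ y := by
    intro y
    have h3 := congrArg (fun M => M *ᵥ (mk3 0 y 0 : II k → F)) h1
    simp only [nM_mulVec] at h3
    unfold nFun at h3
    simp only [vx_mk3, vy_mk3, vz_mk3] at h3
    obtain ⟨h4, -, h5⟩ := mk3_inj h3
    refine ⟨?_, ?_, ?_⟩
    · simpa using h4
    · have := congrFun h5 0
      simpa using this
    · have := congrFun h5 1
      simpa using this
  refine ⟨?_, ?_, ?_⟩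
  · funext i
    have := (h2 (Pi.single i 1)).2.1
    simpa using this
  · funext i
    have := (h2 (Pi.single i 1)).2.2
    simpa using this
  · rw [Matrix.ext_iff_mulVec]
    exact fun y => (h2 y).1

/-! ### the block embedding -/

/-- the block embedding `M ↦ diag(M, 1)` -/
def iotaHom : Matrix (Fin k ⊕ Fin k) (Fin k ⊕ Fin k) F →* Matrix (II k) (II k) F where
  toFun M := Matrix.fromBlocks M 0 0 1
  map_one' := Matrix.fromBlocks_one
  map_mul' M N := by
    rw [Matrix.fromBlocks_multiply]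
    simp

theorem iotaHom_mulVec (M : Matrix (Fin k ⊕ Fin k) (Fin k ⊕ Fin k) F) (v : II k → F) :
    iotaHom M *ᵥ v = Sum.elim (M *ᵥ (v ∘ Sum.inl)) (vz v) := by
  show Matrix.fromBlocks M 0 0 1 *ᵥ v = _
  rw [Matrix.fromBlocks_mulVec]
  simp only [Matrix.zero_mulVec, add_zero, zero_add, Matrix.one_mulVec]
  rfl

theorem iotaHom_rMat_mulVec (T : Matrix (Fin k) (Fin k) F) (v : II k → F) :
    iotaHom (rMat T) *ᵥ v = mk3 (vx v + T *ᵥ vy v) (vy v) (vz v) := by
  rw [iotaHom_mulVec, rMat_mulVec]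
  rfl

theorem iotaHom_dMat_mulVec (g : Matrix.SpecialLinearGroup (Fin k) F) (v : II k → F) :
    iotaHom (dMat g) *ᵥ v = mk3 ((g : Matrix (Fin k) (Fin k) F) *ᵥ vx v)
      (((g⁻¹ : Matrix.SpecialLinearGroup (Fin k) F) : Matrix (Fin k) (Fin k) F)ᵀ *ᵥ vy v)
      (vz v) := by
  rw [iotaHom_mulVec, dMat_mulVec]
  rfl

theorem iotaHom_injective :
    Function.Injective (iotaHom : Matrix (Fin k ⊕ Fin k) (Fin k ⊕ Fin k) F →* _) := by
  intro M N h
  exact (Matrix.fromBlocks_inj.1 h).1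

/-- the block embedding on units -/
def iotaGL : GL (Fin k ⊕ Fin k) F →* GL (II k) F := Units.map iotaHom

theorem iotaGL_coe (g : GL (Fin k ⊕ Fin k) F) :
    ((iotaGL g : GL (II k) F) : Matrix (II k) (II k) F) =
      iotaHom (g : Matrix (Fin k ⊕ Fin k) (Fin k ⊕ Fin k) F) := rfl

theorem iotaGL_injective : Function.Injective (iotaGL : GL (Fin k ⊕ Fin k) F →* _) := by
  intro g h hgh
  apply Units.ext
  apply iotaHom_injective
  exact congrArg Units.val hgh

theorem iotaGL_rUnit (a : F) (T : Matrix (Fin k) (Fin k) F) :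
    iotaGL (rUnit T) = nU a 0 0 T := by
  apply Units.ext
  rw [iotaGL_coe, rUnit_coe, nU_coe, Matrix.ext_iff_mulVec]
  intro v
  rw [iotaHom_rMat_mulVec, nM_mulVec]
  unfold nFun
  congr 1
  · simp
  · funext j
    revert j
    rw [Fin.forall_fin_two]
    constructor <;>
    · simp only [Pi.add_apply, Matrix.cons_val_zero, Matrix.cons_val_one, zero_dotProduct, add_zero]

theorem gT_mulVec_inv (g : Matrix.SpecialLinearGroup (Fin k) F) (y : Fin k → F) :
    (g : Matrix (Fin k) (Fin k) F)ᵀ *ᵥ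
      (((g⁻¹ : Matrix.SpecialLinearGroup (Fin k) F) : Matrix (Fin k) (Fin k) F)ᵀ *ᵥ y) = y := by
  rw [Matrix.mulVec_mulVec, ← Matrix.transpose_mul, ← Matrix.SpecialLinearGroup.coe_mul,
    inv_mul_cancel, Matrix.SpecialLinearGroup.coe_one, Matrix.transpose_one, Matrix.one_mulVec]

theorem mulVec_dotProduct_eq (g : Matrix (Fin k) (Fin k) F) (d w : Fin k → F) :
    (g *ᵥ d) ⬝ᵥ w = d ⬝ᵥ (gᵀ *ᵥ w) := by
  rw [← Matrix.vecMul_transpose, ← Matrix.dotProduct_mulVec]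

/-- the Levi conjugation law -/
theorem iotaGL_dGL_mul_nU (a : F) (g : Matrix.SpecialLinearGroup (Fin k) F) (d0 d1 : Fin k → F)
    (T : Matrix (Fin k) (Fin k) F) :
    iotaGL (dGL g) * nU a d0 d1 T =
      nU a ((g : Matrix (Fin k) (Fin k) F) *ᵥ d0) ((g : Matrix (Fin k) (Fin k) F) *ᵥ d1)
        ((g : Matrix (Fin k) (Fin k) F) * T * (g : Matrix (Fin k) (Fin k) F)ᵀ) * iotaGL (dGL g) := by
  apply Units.ext
  rw [Units.val_mul, Units.val_mul, iotaGL_coe, nU_coe, nU_coe, Matrix.ext_iff_mulVec]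
  intro v
  show (iotaHom (dMat g) * _) *ᵥ v = (_ * iotaHom (dMat g)) *ᵥ v
  rw [← Matrix.mulVec_mulVec, ← Matrix.mulVec_mulVec, nM_mulVec, nM_mulVec, iotaHom_dMat_mulVec,
    iotaHom_dMat_mulVec]
  unfold nFun
  simp only [vx_mk3, vy_mk3, vz_mk3]
  congr 1
  · rw [← Matrix.mulVec_mulVec, ← Matrix.mulVec_mulVec, gT_mulVec_inv, Matrix.mulVec_add,
      Matrix.mulVec_add, Matrix.mulVec_smul, Matrix.mulVec_add, Matrix.mulVec_smul,
      Matrix.mulVec_smul]
  · rw [mulVec_dotProduct_eq, mulVec_dotProduct_eq, gT_mulVec_inv]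

theorem iotaGL_dGL_conj_nU (a : F) (g : Matrix.SpecialLinearGroup (Fin k) F) (d0 d1 : Fin k → F)
    (T : Matrix (Fin k) (Fin k) F) :
    iotaGL (dGL g) * nU a d0 d1 T * (iotaGL (dGL g))⁻¹ =
      nU a ((g : Matrix (Fin k) (Fin k) F) *ᵥ d0) ((g : Matrix (Fin k) (Fin k) F) *ᵥ d1)
        ((g : Matrix (Fin k) (Fin k) F) * T * (g : Matrix (Fin k) (Fin k) F)ᵀ) := by
  rw [iotaGL_dGL_mul_nU, mul_inv_cancel_right]

/-! ### isometries -/

/-- the matrix `S_d = d₀d₀ᵀ + a d₀d₁ᵀ + b d₁d₁ᵀ` -/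
def Smat (a b : F) (d0 d1 : Fin k → F) : Matrix (Fin k) (Fin k) F :=
  vecMulVec d0 d0 + a • vecMulVec d0 d1 + b • vecMulVec d1 d1

theorem Smat_mulVec_dotProduct (a b : F) (d0 d1 y : Fin k → F) :
    (Smat a b d0 d1 *ᵥ y) ⬝ᵥ y =
      (d0 ⬝ᵥ y) ^ 2 + a * (d0 ⬝ᵥ y) * (d1 ⬝ᵥ y) + b * (d1 ⬝ᵥ y) ^ 2 := by
  unfold Smat
  rw [Matrix.add_mulVec, Matrix.add_mulVec, Matrix.smul_mulVec, Matrix.smul_mulVec,
    Matrix.vecMulVec_mulVec, Matrix.vecMulVec_mulVec, Matrix.vecMulVec_mulVec]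
  simp only [op_smul_eq_smul, add_dotProduct, smul_dotProduct, smul_eq_mul]
  ring

theorem iotaGL_mem_isometryGroup (a b : F) (g : GL (Fin k ⊕ Fin k) F)
    (hg : g ∈ Cfsg.isometryGroup F (Cfsg.quadFormPlus k F)) :
    iotaGL g ∈ Cfsg.isometryGroup F (Cfsg.quadFormMinus k F a b) := by
  intro u _
  show Cfsg.quadFormMinus k F a b (iotaHom (g : Matrix (Fin k ⊕ Fin k) (Fin k ⊕ Fin k) F) *ᵥ u) =
    Cfsg.quadFormMinus k F a b u
  have h1 : Cfsg.quadFormPlus k F ((g : Matrix (Fin k ⊕ Fin k) (Fin k ⊕ Fin k) F) *ᵥ (u ∘ Sum.inl)) =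
      Cfsg.quadFormPlus k F (u ∘ Sum.inl) := hg (u ∘ Sum.inl) 0
  rw [iotaHom_mulVec]
  exact congrArg (· + (vz u 0 ^ 2 + a * vz u 0 * vz u 1 + b * vz u 1 ^ 2)) h1

theorem nU_mem_isometryGroup [CharP F 2] (a b : F) (d0 d1 : Fin k → F)
    (B : Matrix (Fin k) (Fin k) F) :
    nU a d0 d1 (Smat a b d0 d1 + (B + Bᵀ)) ∈ Cfsg.isometryGroup F (Cfsg.quadFormMinus k F a b) := by
  intro u _
  show Cfsg.quadFormMinus k F a b (nM a d0 d1 _ *ᵥ u) = Cfsg.quadFormMinus k F a b u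
  rw [nM_mulVec, quadFormMinus_eq, quadFormMinus_eq]
  unfold nFun
  simp only [vx_mk3, vy_mk3, vz_mk3]
  rw [add_dotProduct, add_dotProduct, Matrix.add_mulVec, add_dotProduct, Matrix.add_mulVec,
    add_dotProduct, Smat_mulVec_dotProduct]
  have h1 : (Bᵀ *ᵥ vy u) ⬝ᵥ vy u = (B *ᵥ vy u) ⬝ᵥ vy u := by
    rw [Matrix.mulVec_transpose, ← Matrix.dotProduct_mulVec, dotProduct_comm]
  rw [h1]
  simp only [smul_dotProduct, add_dotProduct, smul_eq_mul, Pi.add_apply, Matrix.cons_val_zero,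
    Matrix.cons_val_one]
  have h2 : (2 : F) = 0 := by exact_mod_cast CharP.cast_eq_zero F 2
  linear_combination ((B *ᵥ vy u) ⬝ᵥ vy u + (d0 ⬝ᵥ vy u) ^ 2 + a * (d0 ⬝ᵥ vy u) * (d1 ⬝ᵥ vy u)
    + b * (d1 ⬝ᵥ vy u) ^ 2 + a * vz u 0 * (d1 ⬝ᵥ vy u) + a * vz u 1 * (d0 ⬝ᵥ vy u)
    + vz u 0 * (d0 ⬝ᵥ vy u) + b * vz u 1 * (d1 ⬝ᵥ vy u)) * h2

end Cfsg.Agent.Lib.Helper86.Lie2OM
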