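import Mathlib
import Cfsg.Agent.Lib.Helper86.Lie2OMa
import Cfsg.Agent.Lib.Helper72.Lie2OPb

/-!
# LIE2 / [M-OM-b]: the subgroup `U⁻ = N ⋊ L` of `O⁻_{2k+2}(F)` (char 2): 2-group, order,
inside `Ω`, generated by involutions
-/

set_option autoImplicit false
set_option linter.unusedSectionVars false

namespace Cfsg.Agent.Lib.Helper86.Lie2OM

open Matrix Cfsg.Agent.Lib.Helper72.Lie2OP Cfsg.Agent.Lib.Helper45.PSLAut
  Cfsg.Agent.Lib.Helper86.PSLFus Cfsg.Agent.Lib.Helper72
open scoped commutatorElement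

variable {F : Type*} [Field F] {k : ℕ}

/-- the isometry group of the minus-type form, as a type -/
abbrev OM (k : ℕ) (F : Type*) [Field F] (a b : F) : Type _ :=
  ↥(Cfsg.isometryGroup F (Cfsg.quadFormMinus k F a b))

/-- the block embedding `O⁺_{2k} → O⁻_{2k+2}` -/
def iotaO (a b : F) : OG k F →* OM k F a b :=
  (iotaGL.comp (Subgroup.subtype _)).codRestrict _
    (fun g => iotaGL_mem_isometryGroup a b g.1 g.2)

theorem iotaO_coe (a b : F) (g : OG k F) :
    ((iotaO a b g : OM k F a b) : GL (II k) F) = iotaGL (g : GL (Fin k ⊕ Fin k) F) := rfl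

theorem iotaO_injective (a b : F) : Function.Injective (iotaO a b : OG k F →* OM k F a b) := by
  intro g h hgh
  apply Subtype.ext
  apply iotaGL_injective
  exact congrArg (fun x : OM k F a b => (x : GL (II k) F)) hgh

theorem map_mem_commutator {G H : Type*} [Group G] [Group H] (f : G →* H) {x : G}
    (hx : x ∈ commutator G) : f x ∈ commutator H := by
  rw [commutator_def] at hx ⊢
  have h2 : f x ∈ Subgroup.map f ⁅(⊤ : Subgroup G), (⊤ : Subgroup G)⁆ :=
    Subgroup.mem_map_of_mem _ hx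
  rw [Subgroup.map_commutator] at h2
  exact Subgroup.commutator_mono le_top le_top h2

section char2
variable [CharP F 2]

theorem vadd_self (d : Fin k → F) : d + d = 0 := by
  funext i
  exact CharTwo.add_self_eq_zero _

theorem madd_self (B : Matrix (Fin k) (Fin k) F) : B + B = 0 := by
  ext i j
  exact CharTwo.add_self_eq_zero _

/-- the elements of the unipotent radical -/
def nO (a b : F) (d0 d1 : Fin k → F) (B : Matrix (Fin k) (Fin k) F) : OM k F a b :=
  ⟨nU a d0 d1 (Smat a b d0 d1 + (B + Bᵀ)), nU_mem_isometryGroup a b d0 d1 B⟩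

theorem nO_coe (a b : F) (d0 d1 : Fin k → F) (B : Matrix (Fin k) (Fin k) F) :
    ((nO a b d0 d1 B : OM k F a b) : GL (II k) F) = nU a d0 d1 (Smat a b d0 d1 + (B + Bᵀ)) := rfl

/-- the cocycle -/
def Xmat (a b : F) (d0 d1 e0 e1 : Fin k → F) : Matrix (Fin k) (Fin k) F :=
  vecMulVec d0 e0 + a • vecMulVec d1 e0 + b • vecMulVec d1 e1

theorem Smat_zero (a b : F) : Smat a b (0 : Fin k → F) 0 = 0 := by
  unfold Smat
  simp

theorem Xmat_zero_right (a b : F) (d0 d1 : Fin k → F) : Xmat a b d0 d1 0 0 = 0 := by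
  unfold Xmat
  simp

theorem Xmat_zero_left (a b : F) (e0 e1 : Fin k → F) : Xmat a b 0 0 e0 e1 = 0 := by
  unfold Xmat
  simp

theorem Smat_add (a b : F) (d0 d1 e0 e1 : Fin k → F) :
    Smat a b d0 d1 + Smat a b e0 e1 + a • (vecMulVec d1 e0 + vecMulVec d0 e1) =
      Smat a b (d0 + e0) (d1 + e1) + (Xmat a b d0 d1 e0 e1 + (Xmat a b d0 d1 e0 e1)ᵀ) := by
  have h2 : (2 : F) = 0 := by exact_mod_cast CharP.cast_eq_zero F 2
  ext i j
  simp only [Smat, Xmat, Matrix.add_apply, Matrix.smul_apply, Matrix.vecMulVec_apply,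
    Matrix.transpose_apply, Pi.add_apply, smul_eq_mul]
  linear_combination (-(d0 i * e0 j + e0 i * d0 j) - a * e0 i * d1 j
    - b * (d1 i * e1 j + e1 i * d1 j)) * h2

theorem nO_mul (a b : F) (d0 d1 e0 e1 : Fin k → F) (B B' : Matrix (Fin k) (Fin k) F) :
    nO a b d0 d1 B * nO a b e0 e1 B' =
      nO a b (d0 + e0) (d1 + e1) (B + B' + Xmat a b d0 d1 e0 e1) := by
  apply Subtype.ext
  show nU a d0 d1 _ * nU a e0 e1 _ = nU a (d0 + e0) (d1 + e1) _
  rw [nU_mul]
  congr 1
  rw [Matrix.transpose_add, Matrix.transpose_add, ← add_assoc (Smat a b (d0 + e0) (d1 + e1))]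
  have := Smat_add a b d0 d1 e0 e1
  rw [← add_assoc] at this
  calc Smat a b d0 d1 + (B + Bᵀ) + (Smat a b e0 e1 + (B' + B'ᵀ)) +
        a • (vecMulVec d1 e0 + vecMulVec d0 e1)
      = (Smat a b d0 d1 + Smat a b e0 e1 + a • (vecMulVec d1 e0 + vecMulVec d0 e1)) +
        (B + Bᵀ + (B' + B'ᵀ)) := by abel
    _ = _ := by rw [this]; abel

theorem nO_zero (a b : F) : nO a b (0 : Fin k → F) 0 0 = 1 := by
  apply Subtype.ext
  show nU a 0 0 _ = 1
  rw [Smat_zero, Matrix.transpose_zero, add_zero, add_zero, nU_zero]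

theorem iotaO_rO (a b : F) (B : Matrix (Fin k) (Fin k) F) :
    iotaO a b (rO (Multiplicative.ofAdd B)) = nO a b 0 0 B := by
  apply Subtype.ext
  show iotaGL (rUnit (B + Bᵀ)) = nU a 0 0 _
  rw [iotaGL_rUnit a, Smat_zero, zero_add]

theorem nO_mul_zero (a b : F) (d0 d1 : Fin k → F) (B C : Matrix (Fin k) (Fin k) F) :
    nO a b d0 d1 B * nO a b 0 0 C = nO a b d0 d1 (B + C) := by
  rw [nO_mul, Xmat_zero_right, add_zero, add_zero, add_zero]

theorem nO_inv (a b : F) (d0 d1 : Fin k → F) (B : Matrix (Fin k) (Fin k) F) :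
    (nO a b d0 d1 B)⁻¹ = nO a b d0 d1 (B + Xmat a b d0 d1 d0 d1) := by
  rw [inv_eq_iff_mul_eq_one, nO_mul, vadd_self, vadd_self]
  have : B + (B + Xmat a b d0 d1 d0 d1) + Xmat a b d0 d1 d0 d1 = 0 := by
    calc B + (B + Xmat a b d0 d1 d0 d1) + Xmat a b d0 d1 d0 d1
        = (B + B) + (Xmat a b d0 d1 d0 d1 + Xmat a b d0 d1 d0 d1) := by abel
      _ = 0 := by rw [madd_self, madd_self, add_zero]
  rw [this, nO_zero]

theorem nO_sq (a b : F) (d0 d1 : Fin k → F) (B : Matrix (Fin k) (Fin k) F) :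
    nO a b d0 d1 B ^ 2 = nO a b 0 0 (Xmat a b d0 d1 d0 d1) := by
  rw [pow_two, nO_mul, vadd_self, vadd_self, madd_self, zero_add]

theorem nO_zero_sq (a b : F) (B : Matrix (Fin k) (Fin k) F) :
    nO a b (0 : Fin k → F) 0 B ^ 2 = 1 := by
  rw [nO_sq, Xmat_zero_left, nO_zero]

theorem nO_pow_four (a b : F) (d0 d1 : Fin k → F) (B : Matrix (Fin k) (Fin k) F) :
    nO a b d0 d1 B ^ 4 = 1 := by
  rw [show 4 = 2 * 2 by norm_num, pow_mul, nO_sq, nO_zero_sq]

theorem Smat_conj (a b : F) (g : Matrix (Fin k) (Fin k) F) (d0 d1 : Fin k → F) :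
    g * Smat a b d0 d1 * gᵀ = Smat a b (g *ᵥ d0) (g *ᵥ d1) := by
  unfold Smat
  rw [Matrix.mul_add, Matrix.mul_add, Matrix.add_mul, Matrix.add_mul, Matrix.mul_smul,
    Matrix.mul_smul, Matrix.smul_mul, Matrix.smul_mul, Matrix.mul_vecMulVec,
    Matrix.mul_vecMulVec, Matrix.mul_vecMulVec, Matrix.vecMulVec_mul, Matrix.vecMulVec_mul,
    Matrix.vecMulVec_mul, Matrix.vecMul_transpose, Matrix.vecMul_transpose]

theorem iotaO_dO_conj_nO (a b : F) (g : Matrix.SpecialLinearGroup (Fin k) F) (d0 d1 : Fin k → F)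
    (B : Matrix (Fin k) (Fin k) F) :
    iotaO a b (dO g) * nO a b d0 d1 B * (iotaO a b (dO g))⁻¹ =
      nO a b ((g : Matrix (Fin k) (Fin k) F) *ᵥ d0) ((g : Matrix (Fin k) (Fin k) F) *ᵥ d1)
        ((g : Matrix (Fin k) (Fin k) F) * B * (g : Matrix (Fin k) (Fin k) F)ᵀ) := by
  apply Subtype.ext
  show iotaGL (dGL g) * nU a d0 d1 _ * (iotaGL (dGL g))⁻¹ = nU a _ _ _
  rw [iotaGL_dGL_conj_nU]
  congr 1
  rw [Matrix.mul_add, Matrix.add_mul, Smat_conj, Matrix.mul_add, Matrix.add_mul,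
    Matrix.transpose_mul, Matrix.transpose_mul, Matrix.transpose_transpose, Matrix.mul_assoc,
    Matrix.mul_assoc]

end char2

/-! ### the subgroups `N`, `L`, `U⁻` -/

section fin
variable [Finite F] [CharP F 2]

/-- the unipotent radical `N` -/
def NN (k : ℕ) (F : Type*) [Field F] [CharP F 2] (a b : F) : Subgroup (OM k F a b) where
  carrier := {x | ∃ (d0 d1 : Fin k → F) (B : Matrix (Fin k) (Fin k) F), x = nO a b d0 d1 B}
  mul_mem' := by
    rintro _ _ ⟨d0, d1, B, rfl⟩ ⟨e0, e1, B', rfl⟩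
    exact ⟨_, _, _, nO_mul a b d0 d1 e0 e1 B B'⟩
  one_mem' := ⟨0, 0, 0, (nO_zero a b).symm⟩
  inv_mem' := by
    rintro _ ⟨d0, d1, B, rfl⟩
    exact ⟨_, _, _, nO_inv a b d0 d1 B⟩

theorem nO_mem_NN (a b : F) (d0 d1 : Fin k → F) (B : Matrix (Fin k) (Fin k) F) :
    nO a b d0 d1 B ∈ NN k F a b := ⟨d0, d1, B, rfl⟩

/-- the image of the unitriangular Levi part -/
def LM (k : ℕ) (F : Type*) [Field F] [Finite F] (a b : F) : Subgroup (OM k F a b) :=
  (LL k F).map (iotaO a b)

/-- `U⁻ = N L` -/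
def UM (k : ℕ) (F : Type*) [Field F] [Finite F] [CharP F 2] (a b : F) : Subgroup (OM k F a b) :=
  NN k F a b ⊔ LM k F a b

theorem iotaO_dO_mem_normalizer_NN (a b : F) (g : Matrix.SpecialLinearGroup (Fin k) F) :
    iotaO a b (dO g) ∈ Subgroup.normalizer (NN k F a b : Set (OM k F a b)) := by
  rw [Subgroup.mem_normalizer_iff]
  intro h
  constructor
  · rintro ⟨d0, d1, B, rfl⟩
    exact ⟨_, _, _, iotaO_dO_conj_nO a b g d0 d1 B⟩
  · rintro ⟨d0, d1, B, hB⟩
    have h1 : h = iotaO a b (dO g⁻¹) * nO a b d0 d1 B * (iotaO a b (dO g⁻¹))⁻¹ := by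
      rw [← hB, map_inv, map_inv, inv_inv]
      group
    rw [h1]
    exact ⟨_, _, _, iotaO_dO_conj_nO a b g⁻¹ d0 d1 B⟩

theorem LM_le_normalizer_NN (a b : F) :
    LM k F a b ≤ Subgroup.normalizer (NN k F a b : Set (OM k F a b)) := by
  rintro x ⟨y, ⟨g, _, rfl⟩, rfl⟩
  exact iotaO_dO_mem_normalizer_NN a b g

theorem isPGroup_NN (a b : F) : IsPGroup 2 (NN k F a b) := by
  rintro ⟨x, d0, d1, B, rfl⟩
  refine ⟨2, ?_⟩
  apply Subtype.ext
  exact nO_pow_four a b d0 d1 B

theorem isPGroup_UM (a b : F) : IsPGroup 2 (UM k F a b) := by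
  have : Fact (Nat.Prime 2) := ⟨Nat.prime_two⟩
  have : Fintype F := Fintype.ofFinite F
  obtain ⟨n, _, hn⟩ := FiniteField.card F 2
  have hL : IsPGroup 2 (LM k F a b) :=
    ((isPGroup_UU (n := k) hn).map dO).map (iotaO a b)
  exact IsPGroup.to_sup_of_normal_left' (isPGroup_NN a b) hL (LM_le_normalizer_NN a b)

theorem disjoint_NN_LM (a b : F) : Disjoint (NN k F a b) (LM k F a b) := by
  rw [Subgroup.disjoint_def]
  rintro x ⟨d0, d1, B, rfl⟩ ⟨y, ⟨g, _, rfl⟩, hg⟩
  have h1 : iotaGL (dGL g) = nU a d0 d1 (Smat a b d0 d1 + (B + Bᵀ)) :=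
    congrArg (fun x : OM k F a b => (x : GL (II k) F)) hg
  have h2 : iotaHom (dMat g) = nM a d0 d1 (Smat a b d0 d1 + (B + Bᵀ)) :=
    congrArg Units.val h1
  have h4 : g = 1 := by
    apply Subtype.ext
    rw [Matrix.SpecialLinearGroup.coe_one, Matrix.ext_iff_mulVec]
    intro x
    have h3 := congrArg (fun M => M *ᵥ (mk3 x 0 0 : II k → F)) h2
    simp only [nM_mulVec, iotaHom_dMat_mulVec] at h3
    unfold nFun at h3
    simp only [vx_mk3, vy_mk3, vz_mk3] at h3
    have h5 := (mk3_inj h3).1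
    rw [h5, Matrix.one_mulVec]
    simp
  rw [← hg, h4, map_one, map_one]

theorem UU_eq_of_add_transpose_eq {s t : UU k F}
    (h : ((s : Matrix.SpecialLinearGroup (Fin k) F) : Matrix (Fin k) (Fin k) F) +
        ((s : Matrix.SpecialLinearGroup (Fin k) F) : Matrix (Fin k) (Fin k) F)ᵀ =
      ((t : Matrix.SpecialLinearGroup (Fin k) F) : Matrix (Fin k) (Fin k) F) +
        ((t : Matrix.SpecialLinearGroup (Fin k) F) : Matrix (Fin k) (Fin k) F)ᵀ) : s = t := by
  apply Subtype.ext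
  apply Subtype.ext
  ext i j
  rcases lt_or_ge i j with hij | hij
  · have h3 := congrFun (congrFun h i) j
    simp only [Matrix.add_apply, Matrix.transpose_apply] at h3
    rw [(mem_UU.1 s.2) j i hij.le, (mem_UU.1 t.2) j i hij.le] at h3
    exact add_right_cancel h3
  · rw [(mem_UU.1 s.2) i j hij, (mem_UU.1 t.2) i j hij]

theorem card_NN_ge (a b : F) :
    Nat.card F ^ k * Nat.card F ^ k * Nat.card (UU k F) ≤ Nat.card (NN k F a b) := by
  have : Finite (OM k F a b) := by unfold OM; infer_instance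
  have h0 : Nat.card (((Fin k → F) × (Fin k → F)) × UU k F) =
      Nat.card F ^ k * Nat.card F ^ k * Nat.card (UU k F) := by
    rw [Nat.card_prod, Nat.card_prod, Nat.card_fun, Nat.card_eq_fintype_card (α := Fin k),
      Fintype.card_fin]
  rw [← h0]
  let f : ((Fin k → F) × (Fin k → F)) × UU k F → NN k F a b := fun x =>
    ⟨nO a b x.1.1 x.1.2
      ((x.2 : Matrix.SpecialLinearGroup (Fin k) F) : Matrix (Fin k) (Fin k) F), nO_mem_NN _ _ _ _ _⟩
  apply Nat.card_le_card_of_injective f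
  rintro ⟨⟨d0, d1⟩, s⟩ ⟨⟨e0, e1⟩, t⟩ hst
  have h1 : nU a d0 d1 (Smat a b d0 d1 +
        (((s : Matrix.SpecialLinearGroup (Fin k) F) : Matrix (Fin k) (Fin k) F) +
        ((s : Matrix.SpecialLinearGroup (Fin k) F) : Matrix (Fin k) (Fin k) F)ᵀ)) =
      nU a e0 e1 (Smat a b e0 e1 +
        (((t : Matrix.SpecialLinearGroup (Fin k) F) : Matrix (Fin k) (Fin k) F) +
        ((t : Matrix.SpecialLinearGroup (Fin k) F) : Matrix (Fin k) (Fin k) F)ᵀ)) :=
    congrArg (fun x : NN k F a b => ((x : OM k F a b) : GL (II k) F)) hst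
  obtain ⟨h2, h3, h4⟩ := nU_inj h1
  subst h2 h3
  have h5 := add_left_cancel h4
  rw [UU_eq_of_add_transpose_eq h5]

theorem card_LM (a b : F) : Nat.card (LM k F a b) = Nat.card (UU k F) := by
  unfold LM
  rw [Subgroup.card_map_of_injective (iotaO_injective a b), card_LL]

theorem card_UM_ge (a b : F) :
    Nat.card F ^ k * Nat.card F ^ k * (Nat.card (UU k F) * Nat.card (UU k F)) ≤
      Nat.card (UM k F a b) := by
  have : Finite (OM k F a b) := by unfold OM; infer_instance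
  have h1 : Nat.card (NN k F a b) * Nat.card (LM k F a b) ≤ Nat.card (UM k F a b) := by
    rw [← Nat.card_prod]
    let f : NN k F a b × LM k F a b → UM k F a b := fun x =>
      ⟨(x.1 : OM k F a b) * (x.2 : OM k F a b),
        mul_mem (le_sup_left (a := NN k F a b) (b := LM k F a b) x.1.2)
        (le_sup_right (a := NN k F a b) (b := LM k F a b) x.2.2)⟩
    apply Nat.card_le_card_of_injective f
    intro x y hxy
    apply Subgroup.mul_injective_of_disjoint (disjoint_NN_LM (k := k) (F := F) a b)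
    exact congrArg Subtype.val hxy
  calc Nat.card F ^ k * Nat.card F ^ k * (Nat.card (UU k F) * Nat.card (UU k F))
      = (Nat.card F ^ k * Nat.card F ^ k * Nat.card (UU k F)) * Nat.card (UU k F) := by ring
    _ ≤ Nat.card (NN k F a b) * Nat.card (LM k F a b) := by
        rw [card_LM]
        exact Nat.mul_le_mul_right _ (card_NN_ge a b)
    _ ≤ _ := h1

/-! ### the additive bookkeeping -/

/-- the `d` for which some `nO d B` lies in a given subgroup -/
def DD (a b : F) (K : Subgroup (OM k F a b)) : AddSubmonoid ((Fin k → F) × (Fin k → F)) where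
  carrier := {p | ∃ B : Matrix (Fin k) (Fin k) F, nO a b p.1 p.2 B ∈ K}
  zero_mem' := ⟨0, by rw [Prod.fst_zero, Prod.snd_zero, nO_zero]; exact one_mem K⟩
  add_mem' := by
    rintro p q ⟨B, hB⟩ ⟨B', hB'⟩
    exact ⟨_, by rw [Prod.fst_add, Prod.snd_add, ← nO_mul]; exact mul_mem hB hB'⟩

theorem mem_DD_of_single (a b : F) (K : Subgroup (OM k F a b))
    (h : ∀ (i : Fin k) (w0 w1 : F),
      ((Pi.single i w0, Pi.single i w1) : (Fin k → F) × (Fin k → F)) ∈ DD a b K)
    (p : (Fin k → F) × (Fin k → F)) : p ∈ DD a b K := by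
  have h1 : p = ∑ i : Fin k, ((Pi.single i (p.1 i), Pi.single i (p.2 i)) :
      (Fin k → F) × (Fin k → F)) := by
    apply Prod.ext
    · rw [Prod.fst_sum]
      funext j
      rw [Finset.sum_apply]
      simp [Pi.single_apply]
    · rw [Prod.snd_sum]
      funext j
      rw [Finset.sum_apply]
      simp [Pi.single_apply]
  rw [h1]
  exact sum_mem (fun i _ => h i _ _)

theorem nO_mem_of_DD (a b : F) (K : Subgroup (OM k F a b))
    (hR : ∀ B : Matrix (Fin k) (Fin k) F, nO a b 0 0 B ∈ K)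
    (h : ∀ p : (Fin k → F) × (Fin k → F), p ∈ DD a b K) (d0 d1 : Fin k → F)
    (B : Matrix (Fin k) (Fin k) F) : nO a b d0 d1 B ∈ K := by
  obtain ⟨B', hB'⟩ := h (d0, d1)
  have h1 := nO_mul_zero a b d0 d1 B' (B' + B)
  rw [← add_assoc, madd_self, zero_add] at h1
  rw [← h1]
  exact mul_mem hB' (hR _)

/-! ### `U⁻ ≤ Ω` -/

theorem single_mem_DD_commutator (hk : 2 ≤ k) (a b : F) (i : Fin k) (w0 w1 : F) :
    ((Pi.single i w0, Pi.single i w1) : (Fin k → F) × (Fin k → F)) ∈
      DD a b (commutator (OM k F a b)) := by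
  obtain ⟨j, hj⟩ : ∃ j : Fin k, j ≠ i := by
    by_cases hi : (i : ℕ) = 0
    · exact ⟨⟨1, by omega⟩, fun h => by rw [← h] at hi; simp at hi⟩
    · exact ⟨⟨0, by omega⟩, fun h => by rw [← h] at hi; simp at hi⟩
  have h0 : (Pi.single j (1 : F) : Fin k → F) ⬝ᵥ Pi.single i 1 = 0 := by
    rw [single_dotProduct, Pi.single_apply, if_neg hj, mul_zero]
  have hc : ⁅iotaO a b (dO (tv (Pi.single i (1 : F)) (Pi.single j 1))),
      nO a b (Pi.single j w0) (Pi.single j w1) 0⁆ ∈ commutator (OM k F a b) :=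
    Subgroup.commutator_mem_commutator (Subgroup.mem_top _) (Subgroup.mem_top _)
  rw [commutatorElement_def, iotaO_dO_conj_nO, nO_inv, nO_mul, tv_coe h0, tvMat_mulVec,
    tvMat_mulVec] at hc
  have e0 : ∀ w : F, (Pi.single j w + ((Pi.single j (1 : F) : Fin k → F) ⬝ᵥ Pi.single j w) •
      (Pi.single i (1 : F) : Fin k → F) + Pi.single j w : Fin k → F) = Pi.single i w := by
    intro w
    rw [single_dotProduct, Pi.single_apply, if_pos rfl, one_mul, add_right_comm, vadd_self,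
      zero_add]
    funext x
    simp [Pi.single_apply]
  rw [e0, e0] at hc
  exact ⟨_, hc⟩

theorem nO_zero_mem_commutator (hk : 3 ≤ k) (a b : F) (B : Matrix (Fin k) (Fin k) F) :
    nO a b 0 0 B ∈ commutator (OM k F a b) := by
  rw [← iotaO_rO]
  exact map_mem_commutator _ (rO_mem_commutator hk _)

theorem UM_le_commutator (hk : 3 ≤ k) (a b : F) : UM k F a b ≤ commutator (OM k F a b) := by
  unfold UM
  rw [sup_le_iff]
  constructor
  · rintro x ⟨d0, d1, B, rfl⟩
    apply nO_mem_of_DD a b _ (nO_zero_mem_commutator hk a b)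
    exact mem_DD_of_single a b _ (single_mem_DD_commutator (by omega) a b)
  · rintro x ⟨y, ⟨g, _, rfl⟩, rfl⟩
    exact map_mem_commutator _ (dO_mem_commutator hk g)

/-! ### generation by involutions -/

theorem nO_zero_of_symm (a b : F) {X : Matrix (Fin k) (Fin k) F} (hX : Xᵀ = X) :
    nO a b 0 0 X = 1 := by
  rw [← nO_zero a b]
  apply Subtype.ext
  show nU a 0 0 _ = nU a 0 0 _
  rw [hX, madd_self, Matrix.transpose_zero]
  simp only [add_zero]

theorem nO_single_sq (a b : F) (i : Fin k) (w0 w1 : F) (B : Matrix (Fin k) (Fin k) F) :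
    nO a b (Pi.single i w0) (Pi.single i w1) B ^ 2 = 1 := by
  rw [nO_sq]
  apply nO_zero_of_symm
  have h1 : vecMulVec (Pi.single i w1 : Fin k → F) (Pi.single i w0) =
      vecMulVec (Pi.single i w0 : Fin k → F) (Pi.single i w1) := by
    ext p q
    simp only [Matrix.vecMulVec_apply, Pi.single_apply]
    split_ifs <;> ring
  unfold Xmat
  rw [Matrix.transpose_add, Matrix.transpose_add, Matrix.transpose_smul, Matrix.transpose_smul,
    Matrix.transpose_vecMulVec, Matrix.transpose_vecMulVec, Matrix.transpose_vecMulVec, h1]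

theorem sqComm_UM (a b : F) : Lie2.SqComm (UM k F a b) := by
  let S : Set (OM k F a b) :=
    ({x | ∃ B : Matrix (Fin k) (Fin k) F, x = nO a b 0 0 B} ∪
      {x | ∃ (i : Fin k) (w0 w1 : F), x = nO a b (Pi.single i w0) (Pi.single i w1) 0}) ∪
    {x | ∃ (j : Fin k) (w : Fin k → F), (∀ i : Fin k, j ≤ i → w i = 0) ∧
      x = iotaO a b (dO (tv w (eb j)))}
  apply Lie2.sqComm_of_closure_sq_eq_one (UM k F a b) S
  · apply le_antisymm
    · rw [Subgroup.closure_le]
      rintro x ((⟨B, rfl⟩ | ⟨i, w0, w1, rfl⟩) | ⟨j, w, hw, rfl⟩)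
      · exact le_sup_left (a := NN k F a b) (b := LM k F a b) (nO_mem_NN _ _ _ _ _)
      · exact le_sup_left (a := NN k F a b) (b := LM k F a b) (nO_mem_NN _ _ _ _ _)
      · exact le_sup_right (a := NN k F a b) (b := LM k F a b)
          ⟨_, ⟨_, tv_col_mem_UU j w hw, rfl⟩, rfl⟩
    · unfold UM
      rw [sup_le_iff]
      constructor
      · rintro x ⟨d0, d1, B, rfl⟩
        apply nO_mem_of_DD a b
        · intro B
          exact Subgroup.subset_closure (Or.inl (Or.inl ⟨B, rfl⟩))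
        · apply mem_DD_of_single
          intro i w0 w1
          exact ⟨0, Subgroup.subset_closure (Or.inl (Or.inr ⟨i, w0, w1, rfl⟩))⟩
      · unfold LM LL
        rw [Subgroup.map_le_iff_le_comap, Subgroup.map_le_iff_le_comap]
        apply UU_le_of_tv_mem
        intro j w hw
        rw [Subgroup.mem_comap, Subgroup.mem_comap]
        exact Subgroup.subset_closure (Or.inr ⟨j, w, hw, rfl⟩)
  · rintro x ((⟨B, rfl⟩ | ⟨i, w0, w1, rfl⟩) | ⟨j, w, hw, rfl⟩)
    · exact nO_zero_sq a b B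
    · exact nO_single_sq a b i w0 w1 0
    · have h0 : (eb j : Fin k → F) ⬝ᵥ w = 0 := by
        rw [eb, single_dotProduct, hw j le_rfl, mul_zero]
      rw [← map_pow, ← map_pow, tv_pow h0, two_nsmul]
      have : (eb j + eb j : Fin k → F) = 0 := vadd_self _
      rw [this, tv_zero_right, map_one, map_one]

end fin

end Cfsg.Agent.Lib.Helper86.Lie2OM
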