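import Mathlib
import Cfsg.Agent.Lib.Helper86.Lie2OMb
import Cfsg.Agent.Lib.Helper87.Lie2SylAbs
import Cfsg.Agent.Lib.Helper72.Lie2OPc
import Cfsg.Agent.Lib.Helper44.POmegaOrder
import Cfsg.Agent.Lib.Helper37.OrthEvenCount
import Cfsg.Agent.S0288

/-!
# LIE2 / [M-OM]: `U⁻` is a Sylow 2-subgroup of `Ω⁻_{2m}(F)` (char 2); module statement
`sqComm_POmegaMinus`
-/

set_option autoImplicit false
set_option linter.unusedSectionVars false

namespace Cfsg.Agent.Lib.Helper86.Lie2OM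

open Matrix Cfsg.Agent.Lib.Helper45.PSLAut Cfsg.Agent.Lib.Helper72 Cfsg.Agent.Lib.Helper72.Lie2OP

section main
variable {F : Type} [Field F] [Fintype F] [CharP F 2]

/-- [M-OM] -/
theorem sqComm_POmegaMinus (m : ℕ) (hm : 4 ≤ m) (a b : F)
    (hab : ∀ z₁ z₂ : F, z₁ ^ 2 + a * z₁ * z₂ + b * z₂ ^ 2 = 0 → z₁ = 0 ∧ z₂ = 0)
    (P : Sylow 2 (Cfsg.POmega F (Cfsg.quadFormMinus (m - 1) F a b))) :
    Lie2.SqComm (P : Subgroup (Cfsg.POmega F (Cfsg.quadFormMinus (m - 1) F a b))) := by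
  have hfinO : Finite (OM (m - 1) F a b) := by unfold OM; infer_instance
  have h20 : (2 : F) = 0 := by exact_mod_cast CharP.cast_eq_zero F 2
  obtain ⟨f, _, hf⟩ := FiniteField.card F 2
  have hidx : (commutator (OM (m - 1) F a b)).index = 2 := by
    have h := Cfsg.Agent.Lib.Helper44.index_Omega_of_two_eq_zero
      (Cfsg.Agent.Lib.Helper37.OrthEven.minusQ (m - 1) F a b)
      (Cfsg.Agent.Lib.Helper37.OrthEven.minusQ_nondeg (m - 1) F a b hab)
      (by rw [Fintype.card_sum, Fintype.card_sum, Fintype.card_fin, Fintype.card_fin]; omega) h20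
    rw [Cfsg.Agent.Lib.Helper37.OrthEven.minusQ_coe] at h
    exact h
  have hO := Cfsg.Agent.S0288.result (F := F) hf m (by omega) a b hab
  have hodd1 : Odd (((2 : ℕ) ^ (f : ℕ)) ^ m + 1) := by
    apply Even.add_one
    rw [← pow_mul]
    exact (Nat.even_pow.2 ⟨even_two, by have := f.pos; positivity⟩)
  have hodd2 : Odd (∏ i ∈ Finset.range (m - 1), (((2 : ℕ) ^ (f : ℕ)) ^ (2 * (i + 1)) - 1)) := by
    apply Finset.prod_induction _ Odd (fun a b ha hb => ha.mul hb) odd_one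
    intro i _
    apply Nat.Even.sub_odd
    · exact Nat.one_le_pow _ _ (by positivity)
    · rw [← pow_mul]
      exact (Nat.even_pow.2 ⟨even_two, by have := f.pos; positivity⟩)
    · exact odd_one
  have hcard : Nat.card (OM (m - 1) F a b) = 2 * (((2 : ℕ) ^ (f : ℕ)) ^ (m * (m - 1)) *
      ((((2 : ℕ) ^ (f : ℕ)) ^ m + 1) *
        ∏ i ∈ Finset.range (m - 1), (((2 : ℕ) ^ (f : ℕ)) ^ (2 * (i + 1)) - 1))) := by
    rw [hO]
    ring
  have hge : ((2 : ℕ) ^ (f : ℕ)) ^ (m * (m - 1)) ≤ Nat.card (UM (m - 1) F a b) := by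
    have h1 := card_UM_ge (k := m - 1) (F := F) a b
    rw [card_UU (n := m - 1) (F := F), prod_sq_eq, Nat.card_eq_fintype_card, hf, ← pow_add,
      ← pow_add] at h1
    have h2 : m - 1 + (m - 1) + (m - 1) * (m - 1 - 1) = m * (m - 1) := by
      obtain ⟨n, rfl⟩ : ∃ n, m = n + 2 := ⟨m - 2, by omega⟩
      simp only [Nat.add_sub_cancel, show n + 2 - 1 = n + 1 by omega]
      ring
    rw [h2] at h1
    exact h1
  exact Cfsg.Agent.Lib.Helper87.Lie2SylAbs.sqComm_sylow_quot_of_big_subgroup hidx f (m * (m - 1)) _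
    (hodd1.mul hodd2) hcard (UM (m - 1) F a b) (UM_le_commutator (by omega) a b)
    (isPGroup_UM a b) hge (sqComm_UM a b) P

end main

end Cfsg.Agent.Lib.Helper86.Lie2OM
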