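import Cfsg.Agent.Lib.Helper86.PSUFusN
import Cfsg.Agent.Lib.Helper72.Lie2Gen

/-!
# Project LIE2 (owner helper72), module S4625-[M-PSU] (helper86)

Squares of a Sylow 2-subgroup of `PSU_n(q)`, `q` even, lie in its commutator subgroup.
The unipotent subgroup `UJ` is generated by the Siegel elements `s = sS b_i u c` (`i` in the first
half of the frame, `u ∈ V_{rev i}`), and `s² = sS b_i 0 (h(u,u)) = [s⁻¹, g⁻¹]` for
`g = sS b_i (l • u) c'`, `l + σ l = 1`.
-/

set_option autoImplicit false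
set_option linter.unusedSectionVars false

namespace Cfsg.Agent.Lib.Helper86.Lie2

open Matrix Cfsg.Agent.S0837 Cfsg.Agent.S0781 Cfsg.Agent.S2644 Cfsg.Agent.Lib.Helper37
  Cfsg.Agent.Lib.Helper45.PSUAut Cfsg.Agent.Lib.Helper45.PSLAut
  Cfsg.Agent.Lib.Helper86.FusSimple Cfsg.Agent.Lib.Helper98 Cfsg.Agent.Lib.Helper86.PSUFus
  Cfsg.Agent.Lib.Helper72.Lie2
open scoped commutatorElement

variable {F : Type*} [Field F] [Fintype F] {q n : ℕ} {σ : F →+* F}
  {P : Matrix (Fin n) (Fin n) F}

/-- peeling off one layer of `UJ` (variant of `exists_layer` exporting the position of `w`) -/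
theorem exists_layer' (hW : WF σ P) (hS : Frob σ q) {g : ↥(Cfsg.SU n F q)} (hg : g ∈ UJ hW)
    {kk : Fin n} (hk : FixK P kk.val g) (hlt : kk.val < (Fin.rev kk).val) :
    ∃ (w : Fin n → F) (c : F), InV σ P (Fin.rev kk).val w ∧ SV σ (bb P kk) w c ∧
      sS hS (bb P kk) w c ∈ UJ hW ∧
      FixK P (kk.val + 1) ((sS hS (bb P kk) w c)⁻¹ * g) := by
  have hne := ne_rev_of_lt hlt
  have hp := hW.hp_bb hne
  have hrk := Fin.val_rev kk
  set e := bb P kk with he
  set f := bb P (Fin.rev kk) with hf'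
  -- (i)
  have hge : g.1.1 *ᵥ e = e := by
    rw [← sub_eq_zero]
    apply hW.eq_zero_of_inV_zero
    intro i _
    by_cases hi : kk.val ≤ i.val
    · exact inV_of_mem_UJ hW hg kk i hi
    · push Not at hi
      have h1 := (hk i hi).2
      rw [co_sub]
      have h2 : co σ P i (g.1.1 *ᵥ e) = hf σ (g.1.1 *ᵥ e) (g.1.1 *ᵥ bb P (Fin.rev i)) := by
        rw [h1]
        rfl
      rw [h2, su_pres hS]
      exact sub_self _
  -- (ii)
  set y := g.1.1 *ᵥ f with hy
  have hye : hf σ y e = 1 := by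
    conv_lhs => rw [← hge]
    rw [hy, su_pres hS, hp.vu]
  have hyy : hf σ y y = 0 := by rw [hy, su_pres hS, hp.vv]
  set w := pr σ e f y with hw
  set c := hf σ y f with hc
  have hwW : InW σ e f w := InW.of_pr hS hp y
  have hv : SV σ e w c := by
    refine ⟨hp.uu, hwW.1, ?_⟩
    have h1 := hf_decomp hS hp y y
    rw [hyy, hye, map_one, mul_one, one_mul] at h1
    linear_combination -h1
  have hwdef : w = y - c • e - (1 : F) • f := by
    rw [hw, pr, hye]
  have hsf : (sS hS e w c).1.1 *ᵥ f = y := by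
    rw [sS_f hS hp hwW hv, hwdef]
    module
  -- (iii)
  have hyU : ∀ i : Fin n, (Fin.rev kk).val ≤ i.val →
      co σ P i y = if i = Fin.rev kk then 1 else 0 := by
    intro i hi
    exact (mem_UJ hW).1 hg i (Fin.rev kk) (Fin.le_def.mpr hi)
  have hwV : InV σ P (Fin.rev kk).val w := by
    intro i hi
    rw [hwdef, co_sub, co_sub, co_smul, co_smul, hyU i hi, he, hf', hW.co_bb, hW.co_bb]
    have h1 : i ≠ kk := by
      intro h
      rw [h] at hi
      omega
    rw [if_neg h1, mul_zero, sub_zero, one_mul, sub_self]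
  have hsU : sS hS e w c ∈ UJ hW := sS_mem_UJ hW hS hlt hwV hv
  refine ⟨w, c, hwV, hv, hsU, ?_⟩
  -- (iv)
  have hinv : ∀ x : Fin n → F, (sS hS e w c).1.1 *ᵥ x = x → ((sS hS e w c)⁻¹).1.1 *ᵥ x = x := by
    intro x hx
    conv_lhs => rw [← hx]
    exact su_inv_mulVec_mulVec _ _
  have hwx : ∀ x : Fin n → F, hf σ x e = 0 → hf σ x f = 0 → hf σ x y = 0 → hf σ x w = 0 := by
    intro x h1 h2 h3
    rw [hwdef, hf_sub_right, hf_sub_right, hf_smul_right, hf_smul_right, h1, h2, h3]
    ring
  intro i hi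
  by_cases hik : i = kk
  · rw [hik]
    constructor
    · rw [su_mul_mulVec, hge]
      exact hinv _ (sS_mulVec_self hS hv)
    · rw [su_mul_mulVec, ← hy, ← hsf, su_inv_mulVec_mulVec]
  · have hi' : i.val < kk.val := by
      have : i.val ≠ kk.val := fun h => hik (Fin.ext h)
      omega
    have hri := Fin.val_rev i
    obtain ⟨hg1, hg2⟩ := hk i hi'
    constructor
    · rw [su_mul_mulVec, hg1]
      apply hinv
      have h1 : hf σ (bb P i) e = 0 := by
        rw [he, hW.gram_bb, if_neg]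
        intro h
        have := congrArg Fin.val h
        omega
      have h2 : hf σ (bb P i) f = 0 := by
        rw [hf', hW.gram_bb, if_neg]
        intro h
        exact hne (by
          have := Fin.rev_inj.mp h
          exact absurd this.symm hik)
      have h3 : hf σ (bb P i) y = 0 := by
        conv_lhs => rw [← hg1]
        rw [hy, su_pres hS]
        exact h2
      exact sS_fix hS h1 (hwx _ h1 h2 h3)
    · rw [su_mul_mulVec, hg2]
      apply hinv
      have h1 : hf σ (bb P (Fin.rev i)) e = 0 := by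
        rw [he, hW.gram_bb, Fin.rev_rev, if_neg (Ne.symm hik)]
      have h2 : hf σ (bb P (Fin.rev i)) f = 0 := by
        rw [hf', hW.gram_bb, Fin.rev_rev, if_neg]
        intro h
        have := congrArg Fin.val h
        omega
      have h3 : hf σ (bb P (Fin.rev i)) y = 0 := by
        conv_lhs => rw [← hg2]
        rw [hy, su_pres hS]
        exact h2
      exact sS_fix hS h1 (hwx _ h1 h2 h3)


/-- the generating set of `UJ`: Siegel elements centred at a frame vector of the first half -/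
def sGen (hS : Frob σ q) (P : Matrix (Fin n) (Fin n) F) : Set ↥(Cfsg.SU n F q) :=
  {g | ∃ (i : Fin n) (u : Fin n → F) (c : F), i.val < (Fin.rev i).val ∧
    InV σ P (Fin.rev i).val u ∧ SV σ (bb P i) u c ∧ g = sS hS (bb P i) u c}

theorem UJ_le_closure_sGen (hW : WF σ P) (hS : Frob σ q) :
    UJ hW ≤ Subgroup.closure (sGen hS P) := by
  have key : ∀ (d k : ℕ), d + k = n / 2 → ∀ g : ↥(Cfsg.SU n F q), g ∈ UJ hW → FixK P k g →
      g ∈ Subgroup.closure (sGen hS P) := by
    intro d
    induction d with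
    | zero =>
      intro k hk g hg hfix
      rw [eq_one_of_fixK hW hS hg hfix (by omega)]
      exact one_mem _
    | succ d ih =>
      intro k hk g hg hfix
      set kk : Fin n := ⟨k, by omega⟩ with hkk
      have hkv : kk.val = k := rfl
      have hlt : kk.val < (Fin.rev kk).val := by
        rw [Fin.val_rev, hkv]
        omega
      obtain ⟨w, c, hwV, hv, hsU, hfix'⟩ := exists_layer' hW hS hg (kk := kk) hfix hlt
      have h1 : sS hS (bb P kk) w c ∈ Subgroup.closure (sGen hS P) :=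
        Subgroup.subset_closure ⟨kk, w, c, hlt, hwV, hv, rfl⟩
      have h2 := ih (k + 1) (by omega) _ (mul_mem (inv_mem hsU) hg) hfix'
      have : g = sS hS (bb P kk) w c * ((sS hS (bb P kk) w c)⁻¹ * g) := by
        rw [mul_inv_cancel_left]
      rw [this]
      exact mul_mem h1 h2
  intro g hg
  exact key (n / 2) 0 (by omega) g hg (fun i hi => absurd hi (Nat.not_lt_zero _))

theorem closure_sGen (hW : WF σ P) (hS : Frob σ q) :
    Subgroup.closure (sGen hS P) = UJ hW := by
  apply le_antisymm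
  · rw [Subgroup.closure_le]
    rintro _ ⟨i, u, c, hi, hu, hv, rfl⟩
    exact sS_mem_UJ hW hS hi hu hv
  · exact UJ_le_closure_sGen hW hS

/-- the square of a generator is a commutator -/
theorem sGen_sq_mem [CharP F 2] (hW : WF σ P) (hS : Frob σ q) {s : ↥(Cfsg.SU n F q)}
    (hs : s ∈ sGen hS P) : s ^ 2 ∈ ⁅UJ (q := q) hW, UJ (q := q) hW⁆ := by
  obtain ⟨i, u, c, hi, hu, hv, rfl⟩ := hs
  set e := bb P i with he
  set t := hf σ u u with ht
  have hfix : σ t = t := hf_self_fixed σ hS.invol u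
  -- `l` of trace one
  obtain ⟨l, hl⟩ := trace_surj σ hS.ne hS.invol 1 (map_one σ)
  have hfix2 : σ (l * σ l * t) = l * σ l * t := by
    rw [map_mul, map_mul, hS.invol, hfix]
    ring
  obtain ⟨c', hc'⟩ := trace_surj σ hS.ne hS.invol (l * σ l * t) hfix2
  have hneg : ∀ x : F, -x = x := fun x => CharTwo.neg_eq x
  have hv' : SV σ e (l • u) c' := by
    refine ⟨hv.iso, ?_, ?_⟩
    · rw [hf_smul_left, hv.perp, mul_zero]
    · rw [hf_smul_left, hf_smul_right, ← ht, hc']
      have : l * σ l * t + l * (σ l * t) = (l * σ l * t) + (l * σ l * t) := by ring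
      rw [this, CharTwo.add_self_eq_zero]
  have hgU : sS hS e (l • u) c' ∈ UJ hW := sS_mem_UJ hW hS hi (hu.smul l) hv'
  have hsU : sS hS e u c ∈ UJ hW := sS_mem_UJ hW hS hi hu hv
  have hv0 : SV σ e 0 t := SV.of_tr0 hv.iso (by rw [hfix, CharTwo.add_self_eq_zero])
  -- the three products
  have huu : u + u = 0 := by
    ext k
    exact CharTwo.add_self_eq_zero (u k)
  have h1 : sS hS e u c * sS hS e u c = sS hS e 0 t := by
    rw [sS_mul hS hv hv, ← ht, huu, CharTwo.add_self_eq_zero, zero_sub, hneg]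
  have h2 : sS hS e u c * sS hS e (l • u) c' = sS hS e (u + l • u) (c + c' - l * t) := by
    rw [sS_mul hS hv hv', hf_smul_left]
  have h3 : sS hS e (l • u) c' * sS hS e u c = sS hS e (l • u + u) (c' + c - σ l * t) := by
    rw [sS_mul hS hv' hv, hf_smul_right]
  have hv3 : SV σ e (l • u + u) (c' + c - σ l * t) := by
    have := hv'.mul hS hv
    rwa [hf_smul_right] at this
  have h4 : sS hS e (l • u + u) (c' + c - σ l * t) * sS hS e 0 t =
      sS hS e (u + l • u) (c + c' - l * t) := by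
    rw [sS_mul hS hv3 hv0, hf_zero_left, sub_zero, add_zero, add_comm (l • u) u]
    congr 1
    have hl' : σ l = 1 + l := by
      have : σ l = 1 - l := by rw [← hl]; ring
      rw [this, sub_eq_add_neg, hneg]
    rw [hl']
    have e1 : c' + c - (1 + l) * t + t = c + c' - l * t + (-t + t) := by ring
    rw [e1, neg_add_cancel, add_zero]
  -- `s² = [s⁻¹, g⁻¹]`
  have h5 : sS hS e u c ^ 2 =
      ⁅(sS hS e u c)⁻¹, (sS hS e (l • u) c')⁻¹⁆ := by
    rw [commutatorElement_def, inv_inv, inv_inv, pow_two, h1]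
    have : (sS hS e u c)⁻¹ * (sS hS e (l • u) c')⁻¹ * sS hS e u c * sS hS e (l • u) c' =
        (sS hS e (l • u) c' * sS hS e u c)⁻¹ * (sS hS e u c * sS hS e (l • u) c') := by
      rw [_root_.mul_inv_rev]
      simp only [_root_.mul_assoc]
    rw [this, h2, h3, ← h4, inv_mul_cancel_left]
  rw [h5]
  exact Subgroup.commutator_mem_commutator (inv_mem hsU) (inv_mem hgU)

theorem sqComm_UJ [CharP F 2] (hW : WF σ P) (hS : Frob σ q) : SqComm (UJ (q := q) hW) :=
  sqComm_of_closure (UJ hW) (sGen hS P) (closure_sGen hW hS) (fun _ hs => sGen_sq_mem hW hS hs)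

/-- **S4625-[M-PSU]** -/
theorem sqComm_PSU {F : Type} [Field F] [Fintype F] [CharP F 2] (n q : ℕ)
    (hF : Fintype.card F = q ^ 2) (hn : 3 ≤ n) (P : Sylow 2 (Cfsg.PSU n F q)) :
    SqComm (P : Subgroup (Cfsg.PSU n F q)) := by
  have : Fact (Nat.Prime 2) := ⟨Nat.prime_two⟩
  obtain ⟨σ, hS⟩ := exists_frob hF
  obtain ⟨P₀, hW⟩ := exists_WF (n := n) hS
  obtain ⟨S₀, hS₀⟩ := exists_sylow_eq_UBar hW hS hF (by omega) 2
  have h1 : SqComm (UBar (q := q) hW) := sqComm_map (prjU n F q) (UJ hW) (sqComm_UJ hW hS)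
  have h2 : SqComm (S₀ : Subgroup (Cfsg.PSU n F q)) := by
    rw [hS₀]; exact h1
  exact sqComm_all_sylow_of_one S₀ h2 P

end Cfsg.Agent.Lib.Helper86.Lie2
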