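import Cfsg.Agent.Lib.Helper86.PSpFusF
import Cfsg.Agent.Lib.Helper77.Lie2PSL
import Cfsg.Agent.Lib.Helper72.Lie2Gen

/-!
# Project LIE2 (owner helper72), module S4625-[M-PSP] (helper86)

Squares of a Sylow 2-subgroup of `PSp_2m(F)`, `char F = 2`, lie in its commutator subgroup:
`UUsp = LL ⊔ QQ`, the Siegel radical `QQ` has exponent 2 and the unitriangular Levi part `LL` is
generated by the images of the upper transvections, which are involutions.
-/

set_option autoImplicit false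
set_option linter.unusedSectionVars false

namespace Cfsg.Agent.Lib.Helper86.Lie2

open Matrix Cfsg.Agent.Lib.Helper13 Cfsg.Agent.Lib.Helper45.PSLAut Cfsg.Agent.Lib.Helper45.PSpAut
  Cfsg.Agent.Lib.Helper72.Lie2 Cfsg.Agent.Lib.Helper86.PSpFus

/-- elements of the Siegel radical are involutions in characteristic 2 -/
theorem QQ_sq {F : Type} [Field F] [Fintype F] [CharP F 2] {m : ℕ}
    {s : Matrix.symplecticGroup (Fin m) F} (hs : s ∈ QQ m F) : s ^ 2 = 1 := by
  apply sp_ext
  intro x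
  rw [QQ_pow_mulVec hs]
  have : ((2 : ℕ) : F) = 0 := CharP.cast_eq_zero F 2
  rw [this, zero_smul, add_zero]
  exact (sp_one_mulVec x).symm

/-- the explicit Sylow 2-subgroup `UUsp` of `Sp_2m(F)` has `SqComm` -/
theorem sqComm_UUsp {F : Type} [Field F] [Fintype F] [CharP F 2] (m : ℕ) :
    SqComm (UUsp m F) := by
  apply sqComm_of_closure_sq_eq_one (UUsp m F)
    ({s | ∃ (k : Fin m) (w : Fin m → F), (∀ i : Fin m, k ≤ i → w i = 0) ∧
        s = leviSL (tv w (eb k))} ∪ (QQ m F : Set (Matrix.symplecticGroup (Fin m) F)))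
  · apply le_antisymm
    · rw [Subgroup.closure_le]
      rintro s (⟨k, w, hw, rfl⟩ | hs)
      · exact (le_sup_left : LL m F ≤ UUsp m F)
          (Subgroup.mem_map_of_mem _ (Cfsg.Agent.Lib.Helper86.PSLFus.tv_col_mem_UU k w hw))
      · exact (le_sup_right : QQ m F ≤ UUsp m F) hs
    · apply sup_le
      · unfold LL
        rw [Subgroup.map_le_iff_le_comap]
        apply Cfsg.Agent.Lib.Helper86.PSLFus.UU_le_of_tv_mem
        intro k w hw
        rw [Subgroup.mem_comap]
        exact Subgroup.subset_closure (Or.inl ⟨k, w, hw, rfl⟩)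
      · intro s hs
        exact Subgroup.subset_closure (Or.inr hs)
  · rintro s (⟨k, w, hw, rfl⟩ | hs)
    · have h0 : (eb k : Fin m → F) ⬝ᵥ w = 0 := by
        rw [eb_dot, hw k le_rfl]
      rw [← map_pow, Cfsg.Agent.Lib.Helper86.PSLFus.tv_pow h0 2]
      have : ((2 : ℕ) • (eb k : Fin m → F)) = 0 := by
        funext i
        rw [Pi.smul_apply, nsmul_eq_mul, CharP.cast_eq_zero, zero_mul, Pi.zero_apply]
      rw [this, tv_zero_right, map_one]
    · exact QQ_sq hs

/-- **S4625-[M-PSP]** -/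
theorem sqComm_PSp {F : Type} [Field F] [Fintype F] [CharP F 2] (m : ℕ) (hm : 2 ≤ m)
    (P : Sylow 2 (Cfsg.PSp m F)) : SqComm (P : Subgroup (Cfsg.PSp m F)) := by
  have : Fact (Nat.Prime 2) := ⟨Nat.prime_two⟩
  obtain ⟨S₀, hS₀⟩ := exists_sylow_eq_UBarSp (m := m) (F := F) 2 (by omega)
  have h1 : SqComm (UBarSp m F) := sqComm_map prjSp (UUsp m F) (sqComm_UUsp m)
  have h2 : SqComm (S₀ : Subgroup (Cfsg.PSp m F)) := by
    rw [hS₀]; exact h1
  exact sqComm_all_sylow_of_one S₀ h2 P

end Cfsg.Agent.Lib.Helper86.Lie2
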