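import Mathlib
import Cfsg.Prelude.Def_GeometricClasses
import Cfsg.Agent.Lib.Helper94.OrthBridge
import Cfsg.Agent.Lib.Helper86.BhrspAC3TwoAbs
import Cfsg.Agent.Lib.Helper86.BhrspAC3Two

/-!
# Project ASCHOE (helper55), module [T-FIELD2EVEN] (helper86 hedge): a self-adjoint field of degree 2 in
characteristic 2 on a quadratic space of dimension `2k`, `k` odd, is impossible.

Route: every `x ∈ K` is a square `y²` (`K` a finite field of characteristic 2), so
`B (x v) v = B (y v) (y v) = 0`; then the 4-dimensional induction `AC3Two.four_dvd_finrank` gives `4 ∣ 2k`.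
-/

set_option autoImplicit false

namespace Cfsg.Agent.Lib.Helper86.OeTField2Even

open Cfsg Cfsg.Geo Cfsg.Agent.Lib.Helper94
open scoped MatrixGroups Matrix Kronecker

variable {F : Type*} [Field F] [Fintype F] {ι : Type} [Fintype ι] [DecidableEq ι]

/-- in characteristic 2 every element of a finite field subalgebra is a square -/
theorem exists_sq (h2 : (2 : F) = 0) {r : ℕ} (hr : 0 < r) (K : Subalgebra F (Matrix ι ι F))
    (hK : IsFieldSubalgebra r K) : ∀ x ∈ K, ∃ y ∈ K, y * y = x := by
  have hfd : FiniteDimensional F K := Module.finite_of_finrank_pos (by rw [hK.finrank_eq]; exact hr)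
  have hfin : Finite K := Module.finite_of_finite F
  have hdouble : ∀ M : Matrix ι ι F, M + M = 0 := by
    intro M
    rw [← two_smul F M, h2, zero_smul]
  have hinj : Function.Injective (fun y : K => y * y) := by
    intro y z hyz
    have hyz' : (y : Matrix ι ι F) * y = z * z := congrArg Subtype.val hyz
    have hcomm : (z : Matrix ι ι F) * y = y * z := hK.comm _ z.2 _ y.2
    have hw : ((y : Matrix ι ι F) - z) * (y - z) = 0 := by
      have e : ((y : Matrix ι ι F) - z) * (y - z) =
          ((y : Matrix ι ι F) * y - z * z) - (y * z + z * y) + (z * z + z * z) := by noncomm_ring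
      rw [e, hcomm, hdouble, hdouble, hyz', sub_self, sub_zero, add_zero]
    by_contra hne
    have hw0 : (y : Matrix ι ι F) - z ≠ 0 := by
      intro h0
      exact hne (Subtype.ext (sub_eq_zero.mp h0))
    obtain ⟨u, _, hu⟩ := hK.inv _ (K.sub_mem y.2 z.2) hw0
    apply hw0
    calc (y : Matrix ι ι F) - z = (y - z) * ((y - z) * u) := by rw [hu, mul_one]
      _ = 0 := by rw [← mul_assoc, hw, zero_mul]
  have hsurj := Finite.surjective_of_injective hinj
  intro x hx
  obtain ⟨y, hy⟩ := hsurj ⟨x, hx⟩
  exact ⟨y.1, y.2, congrArg Subtype.val hy⟩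

/-- **[T-FIELD2EVEN]** (general index type) -/
theorem false_of_selfAdjoint_field_two_char_two' {Q : (ι → F) → F}
    (hQ : IsNondegenerateQuadraticForm Q) (h2 : (2 : F) = 0) (k : ℕ)
    (hk : Fintype.card ι = 2 * k) (hodd : Odd k)
    (K : Subalgebra F (Matrix ι ι F)) (hK : IsFieldSubalgebra 2 K)
    (hsa : IsSelfAdjointFor (QuadraticMap.polar Q) K) : False := by
  have hd : SympData (polarBilin hQ) := by
    refine ⟨fun x => ?_, nondeg_polarBilin hQ⟩
    rw [polarBilin_apply]
    show Q (x + x) - Q x - Q x = 0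
    rw [← two_smul F x, hQ.smul]
    linear_combination (Q x) * h2
  have hsq := exists_sq h2 (by norm_num) K hK
  have halt : ∀ x ∈ K, ∀ v, QuadraticMap.polar Q (x *ᵥ v) v = 0 := by
    intro x hx v
    obtain ⟨y, hy, rfl⟩ := hsq x hx
    rw [← Matrix.mulVec_mulVec, hsa y hy, ← polarBilin_apply hQ]
    exact hd.alt _
  obtain ⟨A, hAK, s, n', hrel, hroot⟩ := Cfsg.Agent.Lib.Helper94.BHRSP.AC3Two86.exists_quadratic K hK
  have h4 := Cfsg.Agent.Lib.Helper86.AC3Two.four_dvd_finrank hd (Matrix.toLin' A) s n'
    (by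
      intro u v
      rw [polarBilin_apply, polarBilin_apply, Matrix.toLin'_apply, Matrix.toLin'_apply]
      exact hsa A hAK u v)
    (by
      intro v
      rw [polarBilin_apply, Matrix.toLin'_apply]
      exact halt A hAK v)
    (by
      intro x
      rw [Matrix.toLin'_apply, Matrix.toLin'_apply, Matrix.mulVec_mulVec, hrel, Matrix.sub_mulVec,
        Matrix.smul_mulVec, Matrix.smul_mulVec, Matrix.one_mulVec])
    hroot _ ⊤ rfl
    (by
      intro x _ hx
      exact hd.nondeg x fun y => hx y trivial)
    (fun _ _ => trivial)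
  rw [finrank_top, Module.finrank_fintype_fun_eq_card, hk] at h4
  obtain ⟨j, hj⟩ := h4
  obtain ⟨i, hi⟩ := hodd
  omega

end Cfsg.Agent.Lib.Helper86.OeTField2Even
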