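import Mathlib
import Cfsg.Prelude.Def_GeometricClasses
import Cfsg.Agent.Lib.Helper86.OeTField2EvenCore

/-!
# Project ASCHOE (helper55), module [T-FIELD2EVEN]: exact sheet statement (helper86),
a thin wrapper around `Cfsg.Agent.Lib.Helper86.OeTField2Even.false_of_selfAdjoint_field_two_char_two'`.
-/

set_option autoImplicit false

namespace Cfsg.Agent.Lib.Helper55.Oe

open Cfsg Cfsg.Geo
open scoped MatrixGroups Matrix Kronecker

variable {n : ℕ} {F : Type*} [Field F] [Fintype F]

/-- ASCHOE-[T-FIELD2EVEN] -/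
theorem false_of_selfAdjoint_field_two_char_two {Q : (Fin n → F) → F} (hQ : IsNondegenerateQuadraticForm Q)
    (h2 : (2 : F) = 0) (k : ℕ) (hk : n = 2 * k) (hodd : Odd k)
    (K : Subalgebra F (Matrix (Fin n) (Fin n) F)) (hK : IsFieldSubalgebra 2 K)
    (hsa : IsSelfAdjointFor (QuadraticMap.polar Q) K) : False :=
  Cfsg.Agent.Lib.Helper86.OeTField2Even.false_of_selfAdjoint_field_two_char_two' hQ h2 k
    (by rw [Fintype.card_fin]; exact hk) hodd K hK hsa

end Cfsg.Agent.Lib.Helper55.Oe
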