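/-
helper86: groups of order `p ^ 4` with a group `A` of automorphisms such that `A / Inn` has a strongly `p`-embedded subgroup:
no chain of `Aut`-invariant subgroups of indices `p`, `p ^ 2`, `p ^ 3`.
All declarations live in `Cfsg.Agent.Lib.Helper86`.
-/
import Cfsg.Agent.Lib.Helper86.EssChain

set_option autoImplicit false

namespace Cfsg.Agent.Lib.Helper86

open Cfsg

variable {G : Type*} [Group G]

/-- Invariance under all automorphisms. -/
def AutInv (C : Subgroup G) : Prop := ∀ α : MulAut G, ∀ x ∈ C, α x ∈ C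

theorem AutInv.normal {C : Subgroup G} (h : AutInv C) : C.Normal :=
  ⟨fun n hn g => by simpa using h (MulAut.conj g) n hn⟩

theorem autInv_of_characteristic (C : Subgroup G) [hC : C.Characteristic] : AutInv C := by
  intro α x hx
  have := Subgroup.characteristic_iff_le_comap.1 hC α hx
  exact this

theorem autInv_bot : AutInv (⊥ : Subgroup G) := autInv_of_characteristic ⊥

theorem autInv_top : AutInv (⊤ : Subgroup G) := autInv_of_characteristic ⊤

theorem AutInv.inf {C D : Subgroup G} (hC : AutInv C) (hD : AutInv D) : AutInv (C ⊓ D) :=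
  fun α x hx => ⟨hC α x hx.1, hD α x hx.2⟩

theorem AutInv.mem_iff {C : Subgroup G} (hC : AutInv C) (α : MulAut G) (x : G) : α x ∈ C ↔ x ∈ C := by
  refine ⟨fun h => ?_, hC α x⟩
  have := hC α⁻¹ _ h
  simpa using this

theorem AutInv.centralizer {C : Subgroup G} (hC : AutInv C) : AutInv (Subgroup.centralizer (C : Set G)) := by
  intro α x hx
  rw [Subgroup.mem_centralizer_iff] at hx ⊢
  intro y hy
  have hy' : α⁻¹ y ∈ C := hC α⁻¹ y hy
  have h := hx _ hy'
  have h2 := congrArg α h
  simpa using h2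

/-- **No `Aut`-invariant chain** in a group of order `p ^ 4`. -/
theorem false_of_autInv_chain [Finite G] {p : ℕ} [hp : Fact p.Prime] (hcard : Nat.card G = p ^ 4)
    (A : Subgroup (MulAut G)) [hn : ((Cfsg.Inn G).subgroupOf A).Normal]
    (E : Subgroup (A ⧸ (Cfsg.Inn G).subgroupOf A)) (hE : IsStronglyPEmbedded p E)
    (C₁ C₂ C₃ : Subgroup G) (h1 : AutInv C₁) (h2 : AutInv C₂) (h3 : AutInv C₃)
    (h12 : C₂ ≤ C₁) (h23 : C₃ ≤ C₂) (i1 : C₁.index = p) (i2 : C₂.index = p ^ 2) (i3 : C₃.index = p ^ 3) :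
    False := by
  have hG : IsPGroup p G := IsPGroup.of_card hcard
  have hp0 : 0 < p := hp.out.pos
  let c : ℕ → Subgroup G := fun j =>
    match j with
    | 0 => ⊤
    | 1 => C₁
    | 2 => C₂
    | 3 => C₃
    | _ => ⊥
  have hinvc : ∀ j, AutInv (c j) := by
    intro j
    match j with
    | 0 => exact autInv_top
    | 1 => exact h1
    | 2 => exact h2
    | 3 => exact h3
    | (k + 4) => exact autInv_bot
  refine false_of_chain hG A E hE 4 c rfl rfl (fun j _ => (hinvc j).normal) ?_
    (fun j _ α _ x hx => hinvc j α x hx)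
  intro j hj
  have hj' : j = 0 ∨ j = 1 ∨ j = 2 ∨ j = 3 := by omega
  rcases hj' with rfl | rfl | rfl | rfl
  · show C₁.relIndex ⊤ = p
    rw [Subgroup.relIndex_top_right, i1]
  · show C₂.relIndex C₁ = p
    have := Subgroup.relIndex_mul_index h12
    rw [i1, i2, pow_two] at this
    exact Nat.eq_of_mul_eq_mul_right hp0 this
  · show C₃.relIndex C₂ = p
    have := Subgroup.relIndex_mul_index h23
    rw [i2, i3] at this
    have h' : C₃.relIndex C₂ * p ^ 2 = p * p ^ 2 := by rw [this]; ring
    exact Nat.eq_of_mul_eq_mul_right (pow_pos hp0 2) h'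
  · show (⊥ : Subgroup G).relIndex C₃ = p
    rw [Subgroup.relIndex_bot_left]
    have := Subgroup.card_mul_index C₃
    rw [i3, hcard] at this
    have h' : Nat.card C₃ * p ^ 3 = p * p ^ 3 := by rw [this]; ring
    exact Nat.eq_of_mul_eq_mul_right (pow_pos hp0 3) h'

/-- index from cardinality in a group of order `p ^ 4` -/
theorem index_of_card_p4 [Finite G] {p : ℕ} [hp : Fact p.Prime] (hcard : Nat.card G = p ^ 4)
    (C : Subgroup G) {k : ℕ} (hk : k ≤ 4) (hC : Nat.card C = p ^ k) : C.index = p ^ (4 - k) := by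
  have := Subgroup.card_mul_index C
  rw [hC, hcard] at this
  apply Nat.eq_of_mul_eq_mul_left (pow_pos hp.out.pos k)
  rw [this, ← pow_add]
  congr 1
  omega

/-- cardinality from index in a group of order `p ^ 4` -/
theorem card_of_index_p4 [Finite G] {p : ℕ} [hp : Fact p.Prime] (hcard : Nat.card G = p ^ 4)
    (C : Subgroup G) {k : ℕ} (hk : k ≤ 4) (hC : C.index = p ^ k) : Nat.card C = p ^ (4 - k) := by
  have := Subgroup.card_mul_index C
  rw [hC, hcard] at this
  apply Nat.eq_of_mul_eq_mul_right (pow_pos hp.out.pos k)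
  rw [this, ← pow_add]
  congr 1
  omega

end Cfsg.Agent.Lib.Helper86
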