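/-
helper86: groups of order `p ^ 4` with Frattini subgroup of order `p` (continuation of `P4Two`):
the abelian case `C_{p²} × C_p × C_p`, and the nonabelian case: centre of order `p ^ 2`, direct factor of order `p`,
exponent `p` for odd `p`, quaternion factor for `p = 2`.
All declarations live in `Cfsg.Agent.Lib.Helper86`.
-/
import Cfsg.Agent.Lib.Helper86.P4Two
import Cfsg.Agent.Lib.Helper86.Homocyclic
import Cfsg.Agent.Lib.Helper1.PGroupMax
import Cfsg.Agent.Lib.Helper24.PGroupBasic
import Cfsg.Agent.S5186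

set_option autoImplicit false

namespace Cfsg.Agent.Lib.Helper86

open Cfsg
open scoped commutatorElement

section gens

variable {G : Type*} [Group G]

theorem card_lt_of_lt [Finite G] {H K : Subgroup G} (h : H < K) : Nat.card H < Nat.card K := by
  by_contra hcon
  have := Subgroup.eq_of_le_of_card_ge h.le (not_lt.mp hcon)
  exact h.ne this

/-- a subgroup of order `p ^ 3` is generated by any nontrivial element and two more elements -/
theorem exists_two_gens [Finite G] {p : ℕ} [hp : Fact p.Prime] (Ω : Subgroup G) (hΩ : Nat.card Ω = p ^ 3)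
    (u : G) (hu : u ∈ Ω) (hu1 : u ≠ 1) :
    ∃ b ∈ Ω, ∃ c ∈ Ω, Ω ≤ Subgroup.closure ({u, b, c} : Set G) := by
  have hp1 := hp.out.one_lt
  have hpowlt : ∀ {a b : ℕ}, p ^ a < p ^ b → a < b := fun h => (Nat.pow_lt_pow_iff_right hp1).mp h
  have hcardle : ∀ H : Subgroup G, H ≤ Ω → ∃ k ≤ 3, Nat.card H = p ^ k := fun H hH =>
    (Nat.dvd_prime_pow hp.out).mp (hΩ ▸ Subgroup.card_dvd_of_le hH)
  by_cases h1 : Ω ≤ Subgroup.closure ({u} : Set G)
  · refine ⟨1, Ω.one_mem, 1, Ω.one_mem, h1.trans (Subgroup.closure_mono ?_)⟩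
    intro x hx; rw [Set.mem_singleton_iff] at hx; rw [hx]; simp
  · obtain ⟨b, hbΩ, hb⟩ := SetLike.not_le_iff_exists.mp h1
    have hH1 : Subgroup.closure ({u} : Set G) ≤ Ω := by
      rw [Subgroup.closure_le]; intro x hx; rw [Set.mem_singleton_iff] at hx; rw [hx]; exact hu
    have hH2 : Subgroup.closure ({u, b} : Set G) ≤ Ω := by
      rw [Subgroup.closure_le]; rintro x (rfl | rfl)
      · exact hu
      · exact hbΩ
    obtain ⟨k1, -, hk1⟩ := hcardle _ hH1
    obtain ⟨k2, -, hk2⟩ := hcardle _ hH2
    have hk1pos : 0 < k1 := by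
      by_contra h0
      have h0' : k1 = 0 := by omega
      rw [h0', pow_zero] at hk1
      have := Subgroup.card_eq_one.mp hk1
      have hmem : u ∈ Subgroup.closure ({u} : Set G) := Subgroup.subset_closure rfl
      rw [this, Subgroup.mem_bot] at hmem
      exact hu1 hmem
    have hlt12 : Subgroup.closure ({u} : Set G) < Subgroup.closure ({u, b} : Set G) := by
      refine lt_of_le_of_ne (Subgroup.closure_mono (by intro x hx; rw [Set.mem_singleton_iff] at hx; rw [hx]; simp)) ?_
      intro heq
      apply hb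
      rw [heq]
      exact Subgroup.subset_closure (by simp)
    have hk12 : k1 < k2 := by
      have := card_lt_of_lt hlt12
      rw [hk1, hk2] at this
      exact hpowlt this
    by_cases h2 : Ω ≤ Subgroup.closure ({u, b} : Set G)
    · refine ⟨b, hbΩ, 1, Ω.one_mem, h2.trans (Subgroup.closure_mono ?_)⟩
      rintro x (rfl | rfl) <;> simp
    · obtain ⟨c, hcΩ, hc⟩ := SetLike.not_le_iff_exists.mp h2
      have hH3 : Subgroup.closure ({u, b, c} : Set G) ≤ Ω := by
        rw [Subgroup.closure_le]; rintro x (rfl | rfl | rfl)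
        · exact hu
        · exact hbΩ
        · exact hcΩ
      obtain ⟨k3, hk3le, hk3⟩ := hcardle _ hH3
      have hlt23 : Subgroup.closure ({u, b} : Set G) < Subgroup.closure ({u, b, c} : Set G) := by
        refine lt_of_le_of_ne (Subgroup.closure_mono (by rintro x (rfl | rfl) <;> simp)) ?_
        intro heq
        apply hc
        rw [heq]
        exact Subgroup.subset_closure (by simp)
      have hk23 : k2 < k3 := by
        have := card_lt_of_lt hlt23
        rw [hk2, hk3] at this
        exact hpowlt this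
      have hk3' : k3 = 3 := by omega
      refine ⟨b, hbΩ, c, hcΩ, ?_⟩
      rw [Subgroup.eq_of_le_of_card_ge hH3 (by rw [hk3, hk3', hΩ])]

theorem pow_val_add' {n : ℕ} [NeZero n] (u : G) (hu : u ^ n = 1) (i j : ZMod n) :
    u ^ (i + j).val = u ^ i.val * u ^ j.val := by
  rw [ZMod.val_add, ← pow_add, ← pow_eq_pow_mod _ hu]

/-- the homomorphism `ℤ/n → G`, `k ↦ z ^ k` -/
noncomputable def zmodHom (n : ℕ) [NeZero n] (z : G) (hz : z ^ n = 1) : Multiplicative (ZMod n) →* G where
  toFun k := z ^ k.toAdd.val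
  map_one' := by simp
  map_mul' a b := by
    show z ^ (a.toAdd + b.toAdd).val = _
    rw [pow_val_add' z hz]

theorem zmodHom_natCast (n : ℕ) [NeZero n] (z : G) (hz : z ^ n = 1) (i : ℕ) :
    zmodHom n z hz (Multiplicative.ofAdd (i : ZMod n)) = z ^ i := by
  show z ^ ((i : ZMod n)).val = _
  rw [ZMod.val_natCast, ← pow_eq_pow_mod _ hz]

end gens

section comm

variable {G : Type*} [CommGroup G]

/-- the homomorphism `ℤ/m × ℤ/n × ℤ/n → G`, `(i, j, k) ↦ a ^ i * b ^ j * c ^ k` -/
noncomputable def tripleHom (m n : ℕ) [NeZero m] [NeZero n] (a b c : G) (ha : a ^ m = 1) (hb : b ^ n = 1)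
    (hc : c ^ n = 1) : Multiplicative (ZMod m × ZMod n × ZMod n) →* G where
  toFun z := a ^ z.toAdd.1.val * (b ^ z.toAdd.2.1.val * c ^ z.toAdd.2.2.val)
  map_one' := by simp
  map_mul' x y := by
    show a ^ (x.toAdd.1 + y.toAdd.1).val * (b ^ (x.toAdd.2.1 + y.toAdd.2.1).val * c ^ (x.toAdd.2.2 + y.toAdd.2.2).val) = _
    rw [pow_val_add a ha, pow_val_add b hb, pow_val_add c hc]
    ac_rfl

theorem tripleHom_natCast (m n : ℕ) [NeZero m] [NeZero n] (a b c : G) (ha : a ^ m = 1) (hb : b ^ n = 1)
    (hc : c ^ n = 1) (i j k : ℕ) :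
    tripleHom m n a b c ha hb hc (Multiplicative.ofAdd ((i : ZMod m), (j : ZMod n), (k : ZMod n))) =
      a ^ i * (b ^ j * c ^ k) := by
  show a ^ ((i : ZMod m)).val * (b ^ ((j : ZMod n)).val * c ^ ((k : ZMod n)).val) = _
  rw [ZMod.val_natCast, ZMod.val_natCast, ZMod.val_natCast, ← pow_eq_pow_mod _ ha, ← pow_eq_pow_mod _ hb,
    ← pow_eq_pow_mod _ hc]

theorem closure_le_range_tripleHom (m n : ℕ) [NeZero m] [NeZero n] (a b c : G) (ha : a ^ m = 1) (hb : b ^ n = 1)
    (hc : c ^ n = 1) : Subgroup.closure ({a, b, c} : Set G) ≤ (tripleHom m n a b c ha hb hc).range := by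
  rw [Subgroup.closure_le]
  rintro x (rfl | rfl | rfl)
  · refine ⟨Multiplicative.ofAdd (((1 : ℕ) : ZMod m), ((0 : ℕ) : ZMod n), ((0 : ℕ) : ZMod n)), ?_⟩
    rw [tripleHom_natCast]; simp
  · refine ⟨Multiplicative.ofAdd (((0 : ℕ) : ZMod m), ((1 : ℕ) : ZMod n), ((0 : ℕ) : ZMod n)), ?_⟩
    rw [tripleHom_natCast]; simp
  · refine ⟨Multiplicative.ofAdd (((0 : ℕ) : ZMod m), ((0 : ℕ) : ZMod n), ((1 : ℕ) : ZMod n)), ?_⟩
    rw [tripleHom_natCast]; simp

/-- An abelian group of order `p ^ 4` with Frattini subgroup of order `p` is `C_{p²} × C_p × C_p`. -/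
theorem abelian_p4_frattini_p [Finite G] {p : ℕ} [hp : Fact p.Prime] (hcard : Nat.card G = p ^ 4)
    (hΦ : Nat.card (frattini G) = p) :
    Nonempty (G ≃* Multiplicative (ZMod (p ^ 2) × ZMod p × ZMod p)) := by
  have hG : IsPGroup p G := IsPGroup.of_card hcard
  have hp1 := hp.out.one_lt
  have hnp : NeZero p := ⟨hp.out.ne_zero⟩
  have hnp2 : NeZero (p ^ 2) := ⟨pow_ne_zero 2 hp.out.ne_zero⟩
  set pw : G →* G := powMonoidHom p with hpw
  have hR : frattini G = pw.range := frattini_eq_range_pow hG
  have hRcard : Nat.card pw.range = p := hR ▸ hΦ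
  have hKidx : pw.ker.index = p := by rw [Subgroup.index_ker, hRcard]
  have hKcard : Nat.card pw.ker = p ^ 3 :=
    card_of_index_p4 hcard _ (k := 1) (by norm_num) (by rw [hKidx, pow_one])
  obtain ⟨a, ha⟩ : ∃ a : G, a ^ p ≠ 1 := by
    by_contra hcon
    push Not at hcon
    have : pw.range = ⊥ := by
      rw [eq_bot_iff]
      rintro _ ⟨x, rfl⟩
      rw [Subgroup.mem_bot]
      exact hcon x
    rw [this, Subgroup.card_bot] at hRcard
    omega
  have hap2 : a ^ (p ^ 2) = 1 := by
    rw [pow_two, pow_mul]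
    have hmem : a ^ p ∈ pw.range := ⟨a, rfl⟩
    have h1 : (⟨a ^ p, hmem⟩ : pw.range) ^ Nat.card pw.range = 1 := pow_card_eq_one'
    rw [hRcard] at h1
    exact congrArg Subtype.val h1
  have hapΩ : a ^ p ∈ pw.ker := by
    rw [MonoidHom.mem_ker]
    show (a ^ p) ^ p = 1
    rw [← pow_mul, ← pow_two]; exact hap2
  have haΩ : a ∉ pw.ker := fun h => ha (MonoidHom.mem_ker.mp h)
  obtain ⟨b, hbΩ, c, hcΩ, hgen⟩ := exists_two_gens pw.ker hKcard (a ^ p) hapΩ ha
  have hbp : b ^ p = 1 := MonoidHom.mem_ker.mp hbΩ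
  have hcp : c ^ p = 1 := MonoidHom.mem_ker.mp hcΩ
  set ψ := tripleHom (p ^ 2) p a b c hap2 hbp hcp with hψ
  have hrange : ψ.range = ⊤ := by
    have h1 := closure_le_range_tripleHom (p ^ 2) p a b c hap2 hbp hcp
    have haR : a ∈ ψ.range := h1 (Subgroup.subset_closure (by simp))
    apply eq_top_of_index_prime pw.ker ψ.range ?_ hKidx a haR haΩ
    refine hgen.trans ?_
    rw [Subgroup.closure_le]
    rintro x (rfl | rfl | rfl)
    · exact ψ.range.pow_mem haR p
    · exact h1 (Subgroup.subset_closure (by simp))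
    · exact h1 (Subgroup.subset_closure (by simp))
  have hsurj : Function.Surjective ψ := MonoidHom.range_eq_top.mp hrange
  have hbij : Function.Bijective ψ := by
    rw [Nat.bijective_iff_surjective_and_card]
    refine ⟨hsurj, ?_⟩
    rw [hcard]
    show Nat.card (ZMod (p ^ 2) × ZMod p × ZMod p) = p ^ 4
    rw [Nat.card_prod, Nat.card_prod, Nat.card_zmod, Nat.card_zmod]; ring
  exact ⟨(MulEquiv.ofBijective ψ hbij).symm⟩

end comm

section nonab

variable {G : Type*} [Group G] [Finite G] {p : ℕ} [hp : Fact p.Prime]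

theorem card_lt_of_lt' {H K : Subgroup G} (h : H < K) : Nat.card H < Nat.card K := by
  by_contra hcon
  have := Subgroup.eq_of_le_of_card_ge h.le (not_lt.mp hcon)
  exact h.ne this

/-- `G' = Φ(G) ≤ Z(G)` when `Φ(G)` has order `p` and `G` is a nonabelian `p`-group. -/
theorem commutator_eq_frattini_of_card_p (hG : IsPGroup p G) (hΦ : Nat.card (frattini G) = p)
    (hnab : ∃ a b : G, a * b ≠ b * a) :
    commutator G = frattini G ∧ commutator G ≤ Subgroup.center G := by
  have hp1 : 1 < p := hp.out.one_lt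
  have hnil : Group.IsNilpotent G := hG.isNilpotent
  obtain ⟨hcomm, hpow⟩ := Cfsg.Agent.S0012.result p hG
  have hc_ne : commutator G ≠ ⊥ := by
    intro h
    obtain ⟨a, b, hab⟩ := hnab
    apply hab
    have : ⁅a, b⁆ ∈ commutator G := Subgroup.commutator_mem_commutator (Subgroup.mem_top a) (Subgroup.mem_top b)
    rw [h, Subgroup.mem_bot] at this
    exact commutatorElement_eq_one_iff_mul_comm.mp this
  have hc_eq : commutator G = frattini G := by
    apply Subgroup.eq_of_le_of_card_ge hcomm
    rw [hΦ]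
    have h1 : Nat.card (commutator G) ∣ p := hΦ ▸ Subgroup.card_dvd_of_le hcomm
    rcases (Nat.dvd_prime hp.out).mp h1 with h | h
    · exact absurd (Subgroup.card_eq_one.mp h) hc_ne
    · exact h.ge
  refine ⟨hc_eq, ?_⟩
  have hne := Cfsg.Agent.S0065.result (commutator G) hc_ne
  have hle : commutator G ⊓ Subgroup.center G ≤ commutator G := inf_le_left
  have hDcard : Nat.card (commutator G) = p := hc_eq ▸ hΦ
  have h1 : Nat.card (commutator G ⊓ Subgroup.center G : Subgroup G) ∣ p := hDcard ▸ Subgroup.card_dvd_of_le hle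
  rcases (Nat.dvd_prime hp.out).mp h1 with h | h
  · exact absurd (Subgroup.card_eq_one.mp h) hne
  · have := Subgroup.eq_of_le_of_card_ge hle (by rw [h, hDcard])
    rw [← this]
    exact inf_le_right

omit [Finite G] in
theorem centralizer_singleton_index (hD : Nat.card (commutator G) = p)
    (hDZ : commutator G ≤ Subgroup.center G) (x : G) (hx : x ∉ Subgroup.center G) :
    (Subgroup.centralizer ({x} : Set G)).index = p := by
  have hxc : ∀ y : G, ⁅x, y⁆ ∈ Subgroup.center G := fun y =>
    hDZ (Subgroup.commutator_mem_commutator (Subgroup.mem_top x) (Subgroup.mem_top y))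
  set φ := commHom x hxc with hφ
  have hker : Subgroup.centralizer ({x} : Set G) = φ.ker := by
    ext y
    rw [Subgroup.mem_centralizer_singleton_iff, mem_commHom_ker]
    exact eq_comm
  rw [hker, Subgroup.index_ker]
  have hr : φ.range ≤ commutator G := by
    rintro _ ⟨y, rfl⟩
    exact Subgroup.commutator_mem_commutator (Subgroup.mem_top x) (Subgroup.mem_top y)
  have h1 : Nat.card φ.range ∣ p := hD ▸ Subgroup.card_dvd_of_le hr
  rcases (Nat.dvd_prime hp.out).mp h1 with h | h
  · exfalso
    apply hx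
    have hbot := Subgroup.card_eq_one.mp h
    rw [Subgroup.mem_center_iff]
    intro y
    have : φ y ∈ φ.range := ⟨y, rfl⟩
    rw [hbot, Subgroup.mem_bot, commHom_apply, commutatorElement_eq_one_iff_mul_comm] at this
    exact this.symm
  · exact h

/-- the key structural fact: two non-commuting elements have centralizers meeting in the centre, of order `p ^ 2` -/
theorem centralizer_inf_centralizer (hcard : Nat.card G = p ^ 4) (hD : Nat.card (commutator G) = p)
    (hDZ : commutator G ≤ Subgroup.center G) (x y : G) (hxy : x * y ≠ y * x) :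
    Subgroup.centralizer ({x} : Set G) ⊓ Subgroup.centralizer ({y} : Set G) = Subgroup.center G ∧
      Nat.card (Subgroup.center G) = p ^ 2 := by
  have hp1 : 1 < p := hp.out.one_lt
  have hp0 : 0 < p := hp.out.pos
  have hpowlt : ∀ {a b : ℕ}, p ^ a < p ^ b → a < b := fun h => (Nat.pow_lt_pow_iff_right hp1).mp h
  have hx : x ∉ Subgroup.center G := fun h => hxy (Subgroup.mem_center_iff.mp h y).symm
  have hy : y ∉ Subgroup.center G := fun h => hxy (Subgroup.mem_center_iff.mp h x)
  set Cx := Subgroup.centralizer ({x} : Set G) with hCx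
  set Cy := Subgroup.centralizer ({y} : Set G) with hCy
  set W := Cx ⊓ Cy with hW
  have hCxi : Cx.index = p := centralizer_singleton_index hD hDZ x hx
  have hCyi : Cy.index = p := centralizer_singleton_index hD hDZ y hy
  have hCxcard : Nat.card Cx = p ^ 3 :=
    card_of_index_p4 hcard _ (k := 1) (by norm_num) (by rw [hCxi, pow_one])
  have hZW : Subgroup.center G ≤ W := le_inf (Subgroup.center_le_centralizer _) (Subgroup.center_le_centralizer _)
  have hxCx : x ∈ Cx := by rw [hCx, Subgroup.mem_centralizer_singleton_iff]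
  have hxCy : x ∉ Cy := by
    rw [hCy, Subgroup.mem_centralizer_singleton_iff]; exact hxy
  have hyCx : y ∉ Cx := by
    rw [hCx, Subgroup.mem_centralizer_singleton_iff]; exact fun h => hxy h.symm
  have hyCy : y ∈ Cy := by rw [hCy, Subgroup.mem_centralizer_singleton_iff]
  obtain ⟨k, hk4, hk⟩ := card_eq_pow_of_le hcard W
  have hWidx : W.index = p ^ (4 - k) := index_of_card_p4 hcard W hk4 hk
  have hk2 : 2 ≤ k := by
    have h1 : W.index ≤ Cx.index * Cy.index := Subgroup.index_inf_le
    rw [hWidx, hCxi, hCyi, ← pow_two] at h1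
    have := (Nat.pow_le_pow_iff_right hp1).mp h1
    omega
  have hWlt : W < Cx := lt_of_le_of_ne inf_le_left (fun h => hxCy ((h ▸ hxCx : x ∈ W).2))
  have hk3 : k < 3 := by
    have := card_lt_of_lt' hWlt
    rw [hk, hCxcard] at this
    exact hpowlt this
  have hk2' : k = 2 := by omega
  subst hk2'
  have hWcomm : IsMulCommutative W := IsPGroup.isMulCommutative_of_card_eq_prime_sq hk
  have hsup : W ⊔ Subgroup.zpowers x = Cx := by
    have hle : W ⊔ Subgroup.zpowers x ≤ Cx := sup_le inf_le_left (by rw [Subgroup.zpowers_le]; exact hxCx)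
    apply Subgroup.eq_of_le_of_card_ge hle
    obtain ⟨j, hj4, hj⟩ := card_eq_pow_of_le hcard (W ⊔ Subgroup.zpowers x)
    have hlt : W < W ⊔ Subgroup.zpowers x := by
      refine lt_of_le_of_ne le_sup_left ?_
      intro h
      apply hxCy
      have : x ∈ W := by rw [h]; exact le_sup_right (a := W) (Subgroup.mem_zpowers x)
      exact this.2
    have := card_lt_of_lt' hlt
    rw [hk, hj] at this
    have hj3 : 2 < j := hpowlt this
    rw [hCxcard, hj]
    exact Nat.pow_le_pow_right hp0 hj3
  have hcl : Subgroup.closure (({x, y} : Set G) ∪ (W : Set G)) = ⊤ := by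
    apply eq_top_of_index_prime Cx _ ?_ hCxi y ?_ hyCx
    · rw [← hsup]
      apply sup_le
      · exact fun w hw => Subgroup.subset_closure (Or.inr hw)
      · rw [Subgroup.zpowers_le]
        exact Subgroup.subset_closure (Or.inl (by simp))
    · exact Subgroup.subset_closure (Or.inl (by simp))
  have hWZ : W ≤ Subgroup.center G := by
    intro w hw
    rw [Subgroup.mem_center_iff]
    intro g
    have hle : Subgroup.closure (({x, y} : Set G) ∪ (W : Set G)) ≤ Subgroup.centralizer ({w} : Set G) := by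
      rw [Subgroup.closure_le]
      have hw1 : w ∈ Cx := (Subgroup.mem_inf.mp hw).1
      have hw2 : w ∈ Cy := (Subgroup.mem_inf.mp hw).2
      rw [hCx, Subgroup.mem_centralizer_singleton_iff] at hw1
      rw [hCy, Subgroup.mem_centralizer_singleton_iff] at hw2
      rintro t ((ht | ht) | ht)
      · rw [SetLike.mem_coe, Subgroup.mem_centralizer_singleton_iff, ht]
        exact hw1.symm
      · rw [Set.mem_singleton_iff] at ht
        rw [SetLike.mem_coe, Subgroup.mem_centralizer_singleton_iff, ht]
        exact hw2.symm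
      · rw [SetLike.mem_coe, Subgroup.mem_centralizer_singleton_iff]
        have := hWcomm.is_comm.comm ⟨t, ht⟩ ⟨w, hw⟩
        exact congrArg Subtype.val this
    have hg : g ∈ Subgroup.centralizer ({w} : Set G) := hle (hcl ▸ Subgroup.mem_top g)
    rw [Subgroup.mem_centralizer_singleton_iff] at hg
    exact hg
  have hWeq : W = Subgroup.center G := le_antisymm hWZ hZW
  exact ⟨hWeq, hWeq ▸ hk⟩

end nonab

section nonab

variable {G : Type*} [Group G] [Finite G] {p : ℕ} [hp : Fact p.Prime]

/-- a central element of order `p` outside the Frattini subgroup generates a direct factor -/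
theorem exists_direct_factor (hcard : Nat.card G = p ^ 4) (z : G) (hzZ : z ∈ Subgroup.center G)
    (hzp : z ^ p = 1) (hzΦ : z ∉ frattini G) :
    ∃ M : Subgroup G, Nat.card M = p ^ 3 ∧ Nonempty (G ≃* M × Multiplicative (ZMod p)) := by
  have hG : IsPGroup p G := IsPGroup.of_card hcard
  have hnp : NeZero p := ⟨hp.out.ne_zero⟩
  obtain ⟨M, hM, hzM⟩ : ∃ M : Subgroup G, IsCoatom M ∧ z ∉ M := by
    by_contra hcon
    push Not at hcon
    apply hzΦ
    rw [frattini, Order.radical]
    simp only [Subgroup.mem_iInf]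
    exact fun M hM => hcon M hM
  have hMidx : M.index = p := Cfsg.Agent.Lib.Helper1.coatom_index_of_isPGroup hG hM
  have hMcard : Nat.card M = p ^ 3 :=
    card_of_index_p4 hcard _ (k := 1) (by norm_num) (by rw [hMidx, pow_one])
  refine ⟨M, hMcard, ?_⟩
  set f : M × Multiplicative (ZMod p) →* G :=
    MonoidHom.noncommCoprod M.subtype (zmodHom p z hzp)
      (fun m k => by
        show Commute (m : G) (z ^ k.toAdd.val)
        have h1 : Commute (m : G) z := Subgroup.mem_center_iff.mp hzZ (m : G)
        exact h1.pow_right _) with hf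
  have hrange : f.range = ⊤ := by
    apply eq_top_of_index_prime M f.range ?_ hMidx z ?_ hzM
    · intro m hm
      refine ⟨(⟨m, hm⟩, 1), ?_⟩
      rw [hf, MonoidHom.noncommCoprod_apply]
      simp
    · refine ⟨(1, Multiplicative.ofAdd ((1 : ℕ) : ZMod p)), ?_⟩
      rw [hf, MonoidHom.noncommCoprod_apply, zmodHom_natCast]
      simp
  have hsurj : Function.Surjective f := MonoidHom.range_eq_top.mp hrange
  have hbij : Function.Bijective f := by
    rw [Nat.bijective_iff_surjective_and_card]
    refine ⟨hsurj, ?_⟩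
    rw [hcard, Nat.card_prod, hMcard]
    show p ^ 3 * Nat.card (ZMod p) = p ^ 4
    rw [Nat.card_zmod]; ring
  exact ⟨(MulEquiv.ofBijective f hbij).symm⟩

end nonab

section nonab

variable {G : Type*} [Group G] [Finite G] {p : ℕ} [hp : Fact p.Prime]

omit [Finite G] in
/-- `x ↦ x ^ p` is multiplicative in a group of class two with derived group of odd prime order -/
theorem mul_pow_of_class_two (hodd : p ≠ 2) (hD : Nat.card (commutator G) = p)
    (hDZ : commutator G ≤ Subgroup.center G) (x y : G) : (x * y) ^ p = x ^ p * y ^ p := by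
  set z := ⁅y, x⁆ with hz
  have hzD : z ∈ commutator G := Subgroup.commutator_mem_commutator (Subgroup.mem_top y) (Subgroup.mem_top x)
  have hzZ : z ∈ Subgroup.center G := hDZ hzD
  have hzp : z ^ p = 1 := by
    have h1 : (⟨z, hzD⟩ : commutator G) ^ Nat.card (commutator G) = 1 := pow_card_eq_one'
    rw [hD] at h1
    exact congrArg Subtype.val h1
  have h1 : y * x = z * x * y := by rw [hz, commutatorElement_def]; group
  have h2 := Cfsg.Agent.Lib.Helper24.mul_pow_of_central_comm x y z h1
    (Subgroup.mem_center_iff.mp hzZ x).symm (Subgroup.mem_center_iff.mp hzZ y).symm p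
  rw [h2]
  have hdvd : p ∣ p.choose 2 :=
    hp.out.dvd_choose_self (by norm_num) (lt_of_le_of_ne hp.out.two_le (Ne.symm hodd))
  obtain ⟨m, hm⟩ := hdvd
  rw [hm, pow_mul, hzp, one_pow, mul_one]

/-- for odd `p`, the exponent is `p` -/
theorem false_of_pow_ne_one_odd (hcard : Nat.card G = p ^ 4)
    (A : Subgroup (MulAut G)) [hn : ((Cfsg.Inn G).subgroupOf A).Normal]
    (E : Subgroup (A ⧸ (Cfsg.Inn G).subgroupOf A)) (hE : IsStronglyPEmbedded p E)
    (hodd : p ≠ 2) (hΦ : Nat.card (frattini G) = p) (hDΦ : commutator G = frattini G)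
    (hDZ : commutator G ≤ Subgroup.center G) (hZcard : Nat.card (Subgroup.center G) = p ^ 2)
    (hZexp : ∀ z ∈ Subgroup.center G, z ^ p = 1) (x : G) (hx : x ^ p ≠ 1) : False := by
  have hG : IsPGroup p G := IsPGroup.of_card hcard
  have hD : Nat.card (commutator G) = p := hDΦ ▸ hΦ
  obtain ⟨-, hpow⟩ := Cfsg.Agent.S0012.result p hG
  set f : G →* G := MonoidHom.mk' (fun x => x ^ p) (mul_pow_of_class_two hodd hD hDZ) with hf
  have hfa : ∀ y : G, f y = y ^ p := fun y => rfl
  have hr : f.range ≤ frattini G := by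
    rintro _ ⟨y, rfl⟩
    exact hpow y
  have hrcard : Nat.card f.range = p := by
    have h1 : Nat.card f.range ∣ p := hΦ ▸ Subgroup.card_dvd_of_le hr
    rcases (Nat.dvd_prime hp.out).mp h1 with h | h
    · exfalso
      have hbot := Subgroup.card_eq_one.mp h
      have : f x ∈ f.range := ⟨x, rfl⟩
      rw [hbot, Subgroup.mem_bot, hfa] at this
      exact hx this
    · exact h
  have hkidx : f.ker.index = p := by rw [Subgroup.index_ker, hrcard]
  have hZk : Subgroup.center G ≤ f.ker := by
    intro z hz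
    rw [MonoidHom.mem_ker, hfa]
    exact hZexp z hz
  have hkinv : AutInv f.ker := by
    intro α y hy
    rw [MonoidHom.mem_ker, hfa] at hy ⊢
    rw [← map_pow, hy, map_one]
  exact false_of_autInv_chain hcard A E hE f.ker (Subgroup.center G) (commutator G) hkinv
    (autInv_of_characteristic _) (autInv_of_characteristic _) hZk hDZ hkidx
    (index_of_card_p4 hcard _ (k := 2) (by norm_num) hZcard)
    (index_of_card_p4 hcard _ (k := 1) (by norm_num) (by rw [hD, pow_one]))

/-- the Frattini subgroup of a nonabelian group of order `p ^ 3` has order `p` -/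
theorem frattini_card_of_nonabelian_p3 (hcard : Nat.card G = p ^ 3) (hnab : ∃ a b : G, a * b ≠ b * a) :
    Nat.card (frattini G) = p := by
  have hG : IsPGroup p G := IsPGroup.of_card hcard
  have hp1 := hp.out.one_lt
  obtain ⟨a, b, hab⟩ := hnab
  have hnt : Nontrivial G := ⟨⟨a * b, b * a, hab⟩⟩
  obtain ⟨hcomm, -⟩ := Cfsg.Agent.S0012.result p hG
  obtain ⟨k, hk3, hk⟩ := (Nat.dvd_prime_pow hp.out).mp (hcard ▸ Subgroup.card_subgroup_dvd_card (frattini G))
  have hidx : (frattini G).index = p ^ (3 - k) := by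
    have := Subgroup.card_mul_index (frattini G)
    rw [hk, hcard] at this
    apply Nat.eq_of_mul_eq_mul_left (pow_pos hp.out.pos k)
    rw [this, ← pow_add]; congr 1; omega
  interval_cases k
  · exfalso
    have hbot : frattini G = ⊥ := Subgroup.card_eq_one.mp (by rw [hk, pow_zero])
    have h1 : ⁅a, b⁆ ∈ commutator G :=
      Subgroup.commutator_mem_commutator (Subgroup.mem_top a) (Subgroup.mem_top b)
    have h2 := hcomm h1
    rw [hbot, Subgroup.mem_bot] at h2
    exact hab (commutatorElement_eq_one_iff_mul_comm.mp h2)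
  · rw [hk, pow_one]
  · exfalso
    have h1 : (frattini G).index = p := by rw [hidx]; simp
    have hc : IsCyclic G := isCyclic_of_frattini_index_prime h1
    have hcomm' : IsMulCommutative G := IsCyclic.isMulCommutative
    exact hab (hcomm'.is_comm.comm a b)
  · exfalso
    apply frattini_ne_top (G := G)
    apply Subgroup.eq_top_of_card_eq
    rw [hk, hcard]

end nonab

/-- a nonabelian group of order `p ^ 3` is extraspecial -/
theorem extraspecial_of_nonabelian_p3 {E₀ : Type} [Group E₀] [Finite E₀] {p : ℕ} [hp : Fact p.Prime]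
    (hcard : Nat.card E₀ = p ^ 3) (hnab : ∃ a b : E₀, a * b ≠ b * a) : Cfsg.IsExtraspecial p E₀ := by
  have hG : IsPGroup p E₀ := IsPGroup.of_card hcard
  have hk := frattini_card_of_nonabelian_p3 hcard hnab
  obtain ⟨hΦZ, hcZ⟩ := Cfsg.Agent.S5186.special_of_nonabelian hcard hk hnab
  exact ⟨⟨hG, hΦZ, hcZ⟩, hΦZ ▸ hk⟩

section two

variable {G : Type*} [Group G] [Finite G]

/-- the case `p = 2`, `Z(G)` a four-group, `|Φ(G)| = 2`: the direct factor is quaternion -/
theorem quaternion_factor (hcard : Nat.card G = 2 ^ 4)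
    (A : Subgroup (MulAut G)) [hn : ((Cfsg.Inn G).subgroupOf A).Normal]
    (E : Subgroup (A ⧸ (Cfsg.Inn G).subgroupOf A)) (hE : IsStronglyPEmbedded 2 E)
    (hΦ : Nat.card (frattini G) = 2) (hDΦ : commutator G = frattini G)
    (hDZ : commutator G ≤ Subgroup.center G) (hZcard : Nat.card (Subgroup.center G) = 2 ^ 2)
    (hZexp : ∀ z ∈ Subgroup.center G, z ^ 2 = 1)
    (M : Subgroup G) (hMcard : Nat.card M = 2 ^ 3) (hMnab : ∃ a b : M, a * b ≠ b * a) :
    Nonempty (M ≃* QuaternionGroup 2) := by
  classical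
  have hp : Fact (Nat.Prime 2) := ⟨Nat.prime_two⟩
  have hG : IsPGroup 2 G := IsPGroup.of_card hcard
  have hD : Nat.card (commutator G) = 2 := hDΦ ▸ hΦ
  obtain ⟨-, hpow⟩ := Cfsg.Agent.S0012.result 2 hG
  -- the generator of the derived group
  obtain ⟨c, hcD, hc1, hcall⟩ : ∃ c ∈ commutator G, c ≠ 1 ∧ ∀ w ∈ commutator G, w = 1 ∨ w = c := by
    obtain ⟨⟨z, hz⟩, hz1, hzu⟩ := (Nat.card_eq_two_iff' (1 : commutator G)).mp hD
    refine ⟨z, hz, fun h => hz1 (Subtype.ext h), fun w hw => ?_⟩
    by_cases hw1 : w = 1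
    · left; exact hw1
    · right
      have := hzu ⟨w, hw⟩ (fun h => hw1 (congrArg Subtype.val h))
      exact congrArg Subtype.val this
  have hcZ : c ∈ Subgroup.center G := hDZ hcD
  have hc2 : c ^ 2 = 1 := hZexp c hcZ
  have hccomm : ∀ g : G, Commute c g := fun g => (Subgroup.mem_center_iff.mp hcZ g).symm
  have hsq : ∀ g : G, g ^ 2 = 1 ∨ g ^ 2 = c := fun g => hcall _ (hDΦ ▸ hpow g)
  have hcm : ∀ g h : G, g * h ≠ h * g → ⁅g, h⁆ = c := by
    intro g h hgh
    rcases hcall ⁅g, h⁆ (Subgroup.commutator_mem_commutator (Subgroup.mem_top g) (Subgroup.mem_top h)) with h1 | h1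
    · exact absurd (commutatorElement_eq_one_iff_mul_comm.mp h1) hgh
    · exact h1
  have hnotZ : ∀ x : G, x ^ 2 = c → x ∉ Subgroup.center G := by
    intro x hx hxZ
    exact hc1 (hx ▸ hZexp x hxZ)
  -- (Lem3)
  have hLem3 : ∀ x g : G, x ^ 2 = c → g * x = x * g → g ∉ Subgroup.center G → g ^ 2 = c := by
    intro x g hx hgx hgZ
    have hxZ := hnotZ x hx
    obtain ⟨y, hy⟩ : ∃ y : G, x * y ≠ y * x := by
      by_contra hcon
      push Not at hcon
      exact hxZ (Subgroup.mem_center_iff.mpr fun y => (hcon y).symm)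
    obtain ⟨hinf, -⟩ := centralizer_inf_centralizer hcard hD hDZ x y hy
    have hyZ : y ∉ Subgroup.center G := fun h => hy (Subgroup.mem_center_iff.mp h x)
    have hCyi : (Subgroup.centralizer ({y} : Set G)).index = 2 := centralizer_singleton_index hD hDZ y hyZ
    have hgCx : g ∈ Subgroup.centralizer ({x} : Set G) := Subgroup.mem_centralizer_singleton_iff.mpr hgx
    have hxCx : x ∈ Subgroup.centralizer ({x} : Set G) := Subgroup.mem_centralizer_singleton_iff.mpr rfl
    have hgCy : g ∉ Subgroup.centralizer ({y} : Set G) := by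
      intro h
      apply hgZ
      rw [← hinf]
      exact ⟨hgCx, h⟩
    have hxCy : x⁻¹ ∉ Subgroup.centralizer ({y} : Set G) := by
      rw [inv_mem_iff, Subgroup.mem_centralizer_singleton_iff]
      exact hy
    have h1 : x⁻¹ * g ∈ Subgroup.centralizer ({y} : Set G) := by
      rw [Subgroup.mul_mem_iff_of_index_two hCyi]
      exact ⟨fun h => absurd h hxCy, fun h => absurd h hgCy⟩
    have h2 : x⁻¹ * g ∈ Subgroup.center G := by
      rw [← hinf]
      exact ⟨Subgroup.mul_mem _ (Subgroup.inv_mem _ hxCx) hgCx, h1⟩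
    have h3 : g = x * (x⁻¹ * g) := by group
    have h4 : Commute x (x⁻¹ * g) := (Subgroup.mem_center_iff.mp h2 x)
    rw [h3, h4.mul_pow, hx, hZexp _ h2, mul_one]
  -- (K')
  have hK : ∀ x y : G, x ^ 2 = c → y ^ 2 = c → x * y ≠ y * x → ∀ g : G, g ∉ Subgroup.center G → g ^ 2 = c := by
    intro x y hx hy hxy g hgZ
    by_cases hgx : g * x = x * g
    · exact hLem3 x g hx hgx hgZ
    by_cases hgy : g * y = y * g
    · exact hLem3 y g hy hgy hgZ
    have hgc : ∀ w : G, ⁅g, w⁆ ∈ Subgroup.center G := fun w =>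
      hDZ (Subgroup.commutator_mem_commutator (Subgroup.mem_top g) (Subgroup.mem_top w))
    have h1 : ⁅g, x * y⁆ = 1 := by
      have := (commHom g hgc).map_mul x y
      rw [commHom_apply, commHom_apply, commHom_apply, hcm g x hgx, hcm g y hgy, ← pow_two, hc2] at this
      exact this
    have h2 : g * (x * y) = (x * y) * g := commutatorElement_eq_one_iff_mul_comm.mp h1
    have h3 : (x * y) ^ 2 = c := by
      have hyx : y * x = c * x * y := by
        rw [← hcm y x (fun h => hxy h.symm), commutatorElement_def]; group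
      have := Cfsg.Agent.Lib.Helper24.mul_pow_of_central_comm x y c hyx (hccomm x) (hccomm y) 2
      rw [this, hx, hy, Nat.choose_self, pow_one, ← pow_two, hc2, one_mul]
    exact hLem3 (x * y) g h3 h2 hgZ
  -- the dichotomy
  obtain ⟨a, b, hab⟩ := hMnab
  have hab' : (a : G) * b ≠ b * a := fun h => hab (Subtype.ext h)
  have haZ : (a : G) ∉ Subgroup.center G := fun h => hab' (Subgroup.mem_center_iff.mp h b).symm
  have hbZ : (b : G) ∉ Subgroup.center G := fun h => hab' (Subgroup.mem_center_iff.mp h a)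
  by_cases hall : ∀ g : G, g ∉ Subgroup.center G → g ^ 2 = c
  · -- quaternion
    have ha2 : (a : G) ^ 2 = c := hall a haZ
    have hb2 : (b : G) ^ 2 = c := hall b hbZ
    have ha4 : (a : G) ^ 4 = 1 := by
      have : (a : G) ^ 4 = ((a : G) ^ 2) ^ 2 := by rw [← pow_mul]
      rw [this, ha2, hc2]
    have horda : orderOf (a : G) = 4 := by
      have h1 : ¬ (a : G) ^ 2 ^ 1 = 1 := by rw [pow_one, ha2]; exact hc1
      have h2 : (a : G) ^ 2 ^ (1 + 1) = 1 := ha4
      exact orderOf_eq_prime_pow h1 h2
    have hba : (b : G) * a * (b : G)⁻¹ = (a : G)⁻¹ := by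
      have h1 : ⁅(b : G), (a : G)⁆ = c := hcm b a (fun h => hab' h.symm)
      have h2 : (b : G) * a * (b : G)⁻¹ = ⁅(b : G), (a : G)⁆ * a := by
        rw [commutatorElement_def]; group
      rw [h2, h1, eq_inv_iff_mul_eq_one, mul_assoc, ← pow_two, ha2, ← pow_two, hc2]
    refine Cfsg.Agent.S5186.quaternion_of_relations (by rw [hMcard]; norm_num) a b ?_ ?_ ?_ ?_
    · rw [← horda]; exact (Subgroup.orderOf_coe a).symm
    · apply Subtype.ext
      push_cast
      rw [hb2, ha2]
    · apply Subtype.ext
      push_cast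
      exact hba
    · intro hmem
      obtain ⟨k, hk⟩ := Subgroup.mem_zpowers_iff.mp hmem
      apply hab
      rw [← hk]
      exact ((Commute.refl a).zpow_right k).eq
  · -- the characteristic chain
    exfalso
    push Not at hall
    obtain ⟨t, htZ, ht⟩ := hall
    -- an element of order four
    obtain ⟨x₀, hx₀⟩ : ∃ x₀ : G, x₀ ^ 2 = c := by
      rcases hsq a with h | h
      · rcases hsq b with h' | h'
        · rcases hsq (a * b) with h'' | h''
          · exfalso
            apply hab'
            have h1 : (a : G)⁻¹ = a := by rw [inv_eq_iff_mul_eq_one, ← pow_two, h]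
            have h2 : (b : G)⁻¹ = b := by rw [inv_eq_iff_mul_eq_one, ← pow_two, h']
            have h3 : ((a : G) * b)⁻¹ = a * b := by rw [inv_eq_iff_mul_eq_one, ← pow_two, h'']
            rw [mul_inv_rev, h1, h2] at h3
            exact h3.symm
          · exact ⟨_, h''⟩
        · exact ⟨_, h'⟩
      · exact ⟨_, h⟩
    have hx₀Z := hnotZ x₀ hx₀
    have hcomm₀ : ∀ y : G, y ^ 2 = c → y * x₀ = x₀ * y := by
      intro y hy
      by_contra hne
      exact ht (hK x₀ y hx₀ hy (fun h => hne h.symm) t htZ)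
    set B := Subgroup.closure {y : G | y ^ 2 ≠ 1} with hB
    have hBinv : AutInv B := by
      intro α x hx
      have hle : B ≤ B.comap α.toMonoidHom := by
        rw [hB, Subgroup.closure_le]
        intro y hy
        rw [SetLike.mem_coe, Subgroup.mem_comap]
        apply Subgroup.subset_closure
        show (α y) ^ 2 ≠ 1
        rw [← map_pow]
        intro h
        apply hy
        exact α.injective (h.trans (map_one α).symm)
      exact hle hx
    have hBC : B ≤ Subgroup.centralizer ({x₀} : Set G) := by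
      rw [hB, Subgroup.closure_le]
      intro y hy
      rw [SetLike.mem_coe, Subgroup.mem_centralizer_singleton_iff]
      rcases hsq y with h | h
      · exact absurd h hy
      · exact hcomm₀ y h
    have hx₀B : x₀ ∈ B := Subgroup.subset_closure (by show x₀ ^ 2 ≠ 1; rw [hx₀]; exact hc1)
    have hZB : Subgroup.center G ≤ B := by
      intro z hz
      have h1 : z * x₀ ∈ B := by
        apply Subgroup.subset_closure
        show (z * x₀) ^ 2 ≠ 1
        have hc : Commute z x₀ := (Subgroup.mem_center_iff.mp hz x₀).symm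
        rw [hc.mul_pow, hZexp z hz, one_mul, hx₀]
        exact hc1
      have : z = z * x₀ * x₀⁻¹ := by group
      rw [this]
      exact B.mul_mem h1 (B.inv_mem hx₀B)
    have hZlt : Subgroup.center G < B := lt_of_le_of_ne hZB (fun h => hx₀Z (h ▸ hx₀B))
    have hCidx : (Subgroup.centralizer ({x₀} : Set G)).index = 2 := centralizer_singleton_index hD hDZ x₀ hx₀Z
    have hCcard : Nat.card (Subgroup.centralizer ({x₀} : Set G)) = 2 ^ 3 :=
      card_of_index_p4 hcard _ (k := 1) (by norm_num) (by rw [hCidx, pow_one])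
    obtain ⟨k, hk4, hk⟩ := card_eq_pow_of_le hcard B
    have hk2 : 2 < k := by
      have := card_lt_of_lt' hZlt
      rw [hZcard, hk] at this
      exact (Nat.pow_lt_pow_iff_right (by norm_num)).mp this
    have hk3 : k ≤ 3 := by
      have := Subgroup.card_le_of_le hBC
      rw [hk, hCcard] at this
      exact (Nat.pow_le_pow_iff_right (by norm_num)).mp this
    have hk3' : k = 3 := by omega
    subst hk3'
    exact false_of_autInv_chain hcard A E hE B (Subgroup.center G) (commutator G) hBinv
      (autInv_of_characteristic _) (autInv_of_characteristic _) hZB hDZ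
      (by have := index_of_card_p4 hcard B (k := 3) (by norm_num) hk; simpa using this)
      (index_of_card_p4 hcard _ (k := 2) (by norm_num) hZcard)
      (index_of_card_p4 hcard _ (k := 1) (by norm_num) (by rw [hD, pow_one]))

end two

end Cfsg.Agent.Lib.Helper86
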