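import Cfsg.Agent.Lib.Helper86.PSLUnitriB

/-!
# `PSL_n(F)`: centralizers of the transvection subgroups, conjugacy of transvections (helper86)
-/

set_option autoImplicit false
set_option linter.unusedSectionVars false

namespace Cfsg.Agent.Lib.Helper86.PSLFus

open Matrix Cfsg.Agent.Lib.Helper45.PSLAut Cfsg.Agent.Lib.Helper86.FusSimple

variable {F : Type*} [Field F] [Finite F] {n : ℕ}

local notation "PSLn" => ProjectiveSpecialLinearGroup (Fin n) F
local notation "SLn" => SpecialLinearGroup (Fin n) F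

theorem par_of_forall_dot {v w : Fin n → F}
    (h : ∀ φ : Fin n → F, φ ⬝ᵥ v = 0 → φ ⬝ᵥ w = 0) : Par v w := by
  intro i j
  have h1 : (v j • (eb i : Fin n → F) - v i • eb j) ⬝ᵥ v = 0 := by
    rw [sub_dotProduct, smul_dotProduct, smul_dotProduct, eb_dot, eb_dot, smul_eq_mul, smul_eq_mul]
    ring
  have := h _ h1
  rw [sub_dotProduct, smul_dotProduct, smul_dotProduct, eb_dot, eb_dot, smul_eq_mul, smul_eq_mul] at this
  linear_combination -this

theorem vecMul_eq_dot (φ : Fin n → F) (M : Matrix (Fin n) (Fin n) F) (k : Fin n) :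
    (φ ᵥ* M) k = φ ⬝ᵥ (fun i => M i k) := rfl

/-- The centralizer in `PSL_n`, `n ≥ 3`, of the group of transvections with centre `v` is that
group. -/
theorem mem_Acen_of_commute (h3 : 3 ≤ Fintype.card (Fin n)) {v : Fin n → F} (hv : v ≠ 0) (x : PSLn)
    (hx : ∀ r ∈ Acen v, x * r = r * x) : x ∈ Acen v := by
  obtain ⟨s, rfl⟩ := prj_surjective x
  set A : Matrix (Fin n) (Fin n) F := (s : Matrix (Fin n) (Fin n) F) with hA
  set B : Matrix (Fin n) (Fin n) F := ((s⁻¹ : SLn) : Matrix (Fin n) (Fin n) F) with hB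
  have hBA : B * A = 1 := sl_inv_mul_coe s
  have hAB : A * B = 1 := sl_mul_inv_coe s
  have key : ∀ φ : Fin n → F, φ ⬝ᵥ v = 0 → vecMulVec (A *ᵥ v) (φ ᵥ* B) = vecMulVec v φ := by
    intro φ h
    have h1 := hx (tb v φ) ⟨φ, h, rfl⟩
    have h2 : prj s * tb v φ * (prj s)⁻¹ = tb v φ := by rw [h1, mul_inv_cancel_right]
    rw [conj_tb s h] at h2
    exact (tv_eq_tv_iff (conj_dot s h) h).1 (tv_eq_of_tb_eq h3 (conj_dot s h) h h2)
  obtain ⟨i₁, hi₁⟩ := Function.ne_iff.mp hv
  simp only [Pi.zero_apply] at hi₁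
  -- `A v = c v`
  obtain ⟨φ₀, hφ₀, h₀⟩ := exists_form_zero h3 v
  have hpar : Par v (A *ᵥ v) := par_of_vecMulVec_eq (key φ₀ h₀).symm hφ₀
  obtain ⟨c, hc⟩ := hpar.exists_smul hv
  have hc0 : c ≠ 0 := by
    rintro rfl
    rw [zero_smul] at hc
    apply hv
    have : B *ᵥ (A *ᵥ v) = v := by rw [mulVec_mulVec, hBA, one_mulVec]
    rw [← this, hc, mulVec_zero]
  -- `φ A = c φ` for `φ ⊥ v`
  have hφA : ∀ φ : Fin n → F, φ ⬝ᵥ v = 0 → φ ᵥ* A = c • φ := by
    intro φ h
    have h1 := key φ h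
    rw [hc] at h1
    have h2 : c • (φ ᵥ* B) = φ := by
      funext j
      have := congrFun (congrFun h1 i₁) j
      rw [vecMulVec_apply, vecMulVec_apply, Pi.smul_apply, smul_eq_mul] at this
      rw [Pi.smul_apply, smul_eq_mul]
      have h3 : v i₁ * (c * (φ ᵥ* B) j) = v i₁ * φ j := by linear_combination this
      exact mul_left_cancel₀ hi₁ h3
    have h3 : (c • (φ ᵥ* B)) ᵥ* A = c • φ := by
      rw [smul_vecMul, vecMul_vecMul, hBA, vecMul_one]
    rw [h2] at h3
    exact h3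
  -- the matrix `M = A - c`
  set M : Matrix (Fin n) (Fin n) F := A - c • (1 : Matrix (Fin n) (Fin n) F) with hM
  have hMφ : ∀ φ : Fin n → F, φ ⬝ᵥ v = 0 → φ ᵥ* M = 0 := by
    intro φ h
    rw [hM, vecMul_sub, hφA φ h, vecMul_smul, vecMul_one, sub_self]
  have hcol : ∀ k : Fin n, ∃ a : F, (fun i => M i k) = a • v := by
    intro k
    apply Par.exists_smul _ hv
    apply par_of_forall_dot
    intro φ h
    rw [← vecMul_eq_dot, hMφ φ h, Pi.zero_apply]
  choose ψ hψ using hcol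
  have hMik : ∀ i k : Fin n, M i k = ψ k * v i := by
    intro i k
    have := congrFun (hψ k) i
    rwa [Pi.smul_apply, smul_eq_mul] at this
  have hMv : M *ᵥ v = 0 := by
    rw [hM, sub_mulVec, hc, smul_mulVec, one_mulVec, sub_self]
  have hψv : ψ ⬝ᵥ v = 0 := by
    have := congrFun hMv i₁
    rw [mulVec, dotProduct, Pi.zero_apply] at this
    have h2 : ∑ k, M i₁ k * v k = v i₁ * (ψ ⬝ᵥ v) := by
      rw [dotProduct, Finset.mul_sum]
      apply Finset.sum_congr rfl
      intro k _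
      rw [hMik]
      ring
    rw [h2] at this
    rcases mul_eq_zero.mp this with h | h
    · exact absurd h hi₁
    · exact h
  have ht : (c⁻¹ • ψ) ⬝ᵥ v = 0 := by rw [smul_dotProduct, hψv, smul_zero]
  have hAeq : A = c • tvMat v (c⁻¹ • ψ) := by
    ext i k
    have h1 : A i k = M i k + c * (1 : Matrix (Fin n) (Fin n) F) i k := by
      rw [hM, Matrix.sub_apply, Matrix.smul_apply, smul_eq_mul]
      ring
    rw [h1, hMik, Matrix.smul_apply, tvMat_apply, Pi.smul_apply, smul_eq_mul, smul_eq_mul]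
    field_simp
    ring
  -- `prj s = tb v (c⁻¹ ψ)`
  refine ⟨c⁻¹ • ψ, ht, ?_⟩
  rw [prj_apply, tb]
  apply Eq.symm
  rw [QuotientGroup.eq, Matrix.SpecialLinearGroup.mem_center_iff]
  have hcoe : (((tv v (c⁻¹ • ψ))⁻¹ * s : SLn) : Matrix (Fin n) (Fin n) F) =
      c • (1 : Matrix (Fin n) (Fin n) F) := by
    rw [Matrix.SpecialLinearGroup.coe_mul, ← hA, hAeq, Matrix.mul_smul, ← tv_coe ht,
      ← Matrix.SpecialLinearGroup.coe_mul, inv_mul_cancel, Matrix.SpecialLinearGroup.coe_one]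
  refine ⟨c, ?_, ?_⟩
  · have hdet := ((tv v (c⁻¹ • ψ))⁻¹ * s : SLn).2
    rw [hcoe, det_smul, det_one, mul_one] at hdet
    exact hdet
  · rw [hcoe]
    ext i j
    simp [Matrix.scalar, Matrix.diagonal_apply, Matrix.one_apply]

/-- The centralizer in `PSL_n`, `n ≥ 3`, of the group of transvections with axis `φ` is that
group. -/
theorem mem_Aax_of_commute (h3 : 3 ≤ Fintype.card (Fin n)) {φ : Fin n → F} (hφ : φ ≠ 0) (x : PSLn)
    (hx : ∀ r ∈ Aax φ, x * r = r * x) : x ∈ Aax φ := by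
  have h1 : iotaBar x ∈ Acen φ := by
    apply mem_Acen_of_commute h3 hφ
    intro r hr
    have hr' : iotaBar r ∈ Aax φ := by
      rw [← map_iotaBar_Acen]
      exact ⟨r, hr, rfl⟩
    have := hx _ hr'
    have h2 := congrArg (iotaBar : MulAut PSLn) this
    rwa [map_mul, map_mul, iotaBar_iotaBar] at h2
  rw [← map_iotaBar_Acen]
  exact ⟨iotaBar x, h1, iotaBar_iotaBar x⟩

end Cfsg.Agent.Lib.Helper86.PSLFus
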