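import Cfsg.Agent.Lib.Helper86.PSLUnitriC

/-!
# `PSL_n(F)`: conjugacy of transvections inside `PSL`, the data for the simplicity criterion (helper86)
-/

set_option autoImplicit false
set_option linter.unusedSectionVars false

namespace Cfsg.Agent.Lib.Helper86.PSLFus

open Matrix Cfsg.Agent.Lib.Helper45.PSLAut Cfsg.Agent.Lib.Helper86.FusSimple

variable {F : Type*} [Field F] [Finite F] {n : ℕ}

local notation "PSLn" => ProjectiveSpecialLinearGroup (Fin n) F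
local notation "SLn" => SpecialLinearGroup (Fin n) F

/-- `SL_n`, `n ≥ 3`, is transitive on incident point-hyperplane pairs. -/
theorem exists_SL_flag (h3 : 3 ≤ Fintype.card (Fin n)) {i₀ j₀ : Fin n} (hij : i₀ ≠ j₀)
    {v φ : Fin n → F} (hv : v ≠ 0) (hφ : φ ≠ 0) (h : φ ⬝ᵥ v = 0) :
    ∃ s : SLn, (s : Matrix (Fin n) (Fin n) F) *ᵥ eb i₀ = v ∧
      (eb j₀ : Fin n → F) ᵥ* ((s⁻¹ : SLn) : Matrix (Fin n) (Fin n) F) = φ := by
  obtain ⟨g, hg1, hg2⟩ := exists_GL_flag hij hv hφ h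
  obtain ⟨k₀, hk1, hk2⟩ := Cfsg.Agent.Lib.Helper5.exists_ne_ne_of_three_le_card h3 i₀ j₀
  set δ : F := (g : Matrix (Fin n) (Fin n) F).det with hδ
  have hδ0 : δ ≠ 0 := Matrix.GeneralLinearGroup.det_ne_zero g
  set E : Matrix (Fin n) (Fin n) F := diagonal (fun k => if k = k₀ then δ⁻¹ else 1) with hE
  have hEdet : E.det = δ⁻¹ := by
    rw [hE, det_diagonal, Finset.prod_ite_eq' Finset.univ k₀ (fun _ => δ⁻¹)]
    simp
  have hdet : ((g : Matrix (Fin n) (Fin n) F) * E).det = 1 := by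
    rw [det_mul, hEdet, ← hδ, mul_inv_cancel₀ hδ0]
  set s : SLn := ⟨(g : Matrix (Fin n) (Fin n) F) * E, hdet⟩ with hs
  have hEe : E *ᵥ eb i₀ = eb i₀ := by
    funext k
    rw [hE, mulVec_diagonal, eb_apply]
    by_cases hk : k = i₀
    · rw [if_pos hk, mul_one, if_neg (by rw [hk]; exact hk1.symm)]
    · rw [if_neg hk, mul_zero]
  have heE : (eb j₀ : Fin n → F) ᵥ* E = eb j₀ := by
    funext k
    rw [hE, vecMul_diagonal, eb_apply]
    by_cases hk : k = j₀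
    · rw [if_pos hk, one_mul, if_neg (by rw [hk]; exact hk2.symm)]
    · rw [if_neg hk, zero_mul]
  refine ⟨s, ?_, ?_⟩
  · show ((g : Matrix (Fin n) (Fin n) F) * E) *ᵥ eb i₀ = v
    rw [← mulVec_mulVec, hEe, hg1]
  · have h1 : φ ᵥ* (s : Matrix (Fin n) (Fin n) F) = eb j₀ := by
      show φ ᵥ* ((g : Matrix (Fin n) (Fin n) F) * E) = eb j₀
      rw [← vecMul_vecMul, ← hg2, gl_vecMul_inv_cancel', heE]
    rw [← h1, vecMul_vecMul, sl_mul_inv_coe, vecMul_one]

/-- All transvections are conjugate in `PSL_n`, `n ≥ 3`. -/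
theorem isTb_conj (h3 : 3 ≤ Fintype.card (Fin n)) {i₀ j₀ : Fin n} (hij : i₀ ≠ j₀) {x : PSLn}
    (hx : IsTb x) : ∃ g : PSLn, g * tb (eb i₀) (eb j₀) * g⁻¹ = x := by
  obtain ⟨v, φ, hv, hφ, h, rfl⟩ := hx
  obtain ⟨s, hs1, hs2⟩ := exists_SL_flag h3 hij hv hφ h
  refine ⟨prj s, ?_⟩
  rw [conj_tb s (eb_dot_eb_of_ne hij.symm), hs1, hs2]

theorem isTb_conj' (h3 : 3 ≤ Fintype.card (Fin n)) {x y : PSLn}
    (hx : IsTb x) (hy : IsTb y) : ∃ g : PSLn, g * x * g⁻¹ = y := by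
  obtain ⟨i₀, j₀, hij⟩ : ∃ i₀ j₀ : Fin n, i₀ ≠ j₀ := by
    have : Nontrivial (Fin n) := by
      rw [← Fintype.one_lt_card_iff_nontrivial]
      omega
    exact exists_pair_ne _
  obtain ⟨g₁, hg₁⟩ := isTb_conj h3 hij hx
  obtain ⟨g₂, hg₂⟩ := isTb_conj h3 hij hy
  refine ⟨g₂ * g₁⁻¹, ?_⟩
  rw [← hg₁, ← hg₂]
  group

/-! ### Diagonal matrices normalize `U` -/

theorem coe_inv_of_diagonal (s : SLn) (D : Fin n → F)
    (hs : (s : Matrix (Fin n) (Fin n) F) = diagonal D) :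
    ((s⁻¹ : SLn) : Matrix (Fin n) (Fin n) F) = diagonal (fun i => (D i)⁻¹) := by
  have hdet : det (diagonal D) = 1 := by rw [← hs]; exact s.2
  have hne : ∀ i, D i ≠ 0 := Matrix.SpecialLinearGroup.diagonal_neZero D hdet
  have h1 : (s : Matrix (Fin n) (Fin n) F) * diagonal (fun i => (D i)⁻¹) = 1 := by
    rw [hs, diagonal_mul_diagonal]
    have : (fun i => D i * (D i)⁻¹) = fun _ => (1 : F) := by
      funext i
      exact mul_inv_cancel₀ (hne i)
    rw [this, diagonal_one]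
  calc ((s⁻¹ : SLn) : Matrix (Fin n) (Fin n) F)
      = ((s⁻¹ : SLn) : Matrix (Fin n) (Fin n) F) * ((s : Matrix (Fin n) (Fin n) F) *
          diagonal (fun i => (D i)⁻¹)) := by rw [h1, mul_one]
    _ = diagonal (fun i => (D i)⁻¹) := by rw [← Matrix.mul_assoc, sl_inv_mul_coe, one_mul]

theorem conj_mem_UU_of_diagonal (s : SLn) (D : Fin n → F)
    (hs : (s : Matrix (Fin n) (Fin n) F) = diagonal D) :
    ∀ u ∈ UU n F, s * u * s⁻¹ ∈ UU n F := by
  intro u hu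
  have hdet : det (diagonal D) = 1 := by rw [← hs]; exact s.2
  have hne : ∀ i, D i ≠ 0 := Matrix.SpecialLinearGroup.diagonal_neZero D hdet
  rw [mem_UU] at hu ⊢
  intro i j hji
  rw [Matrix.SpecialLinearGroup.coe_mul, Matrix.SpecialLinearGroup.coe_mul, hs,
    coe_inv_of_diagonal s D hs, mul_diagonal, diagonal_mul, hu i j hji]
  rcases eq_or_lt_of_le hji with hij | hij
  · rw [hij, one_apply_eq, mul_one, mul_inv_cancel₀ (hne i)]
  · rw [one_apply_ne (ne_of_gt hij), mul_zero, zero_mul]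

theorem mem_normalizer_UU_of_diagonal (s : SLn) (D : Fin n → F)
    (hs : (s : Matrix (Fin n) (Fin n) F) = diagonal D) :
    s ∈ Subgroup.normalizer ((UU n F : Subgroup SLn) : Set SLn) := by
  apply mem_normalizer_of_conj _ _ (conj_mem_UU_of_diagonal s D hs)
  intro u hu
  have := conj_mem_UU_of_diagonal s⁻¹ _ (coe_inv_of_diagonal s D hs) u hu
  rwa [inv_inv] at this

end Cfsg.Agent.Lib.Helper86.PSLFus
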