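import Cfsg.Agent.Lib.Helper86.PSLUnitriD

/-!
# The `p`-fusion system of `PSL_n(F)`, `char F = p`, `n ≥ 3`: data for simplicity (helper86)
-/

set_option autoImplicit false
set_option linter.unusedSectionVars false

namespace Cfsg.Agent.Lib.Helper86.PSLFus

open Matrix Cfsg.Agent.Lib.Helper45.PSLAut Cfsg.Agent.Lib.Helper86.FusSimple Cfsg.Agent.Lib.Helper98

variable {F : Type*} [Field F] [Fintype F] {p : ℕ} [Fact p.Prime] [CharP F p] {m : ℕ}

local notation "PSLm" => ProjectiveSpecialLinearGroup (Fin (m + 1)) F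
local notation "SLm" => SpecialLinearGroup (Fin (m + 1)) F

theorem Acen_le_UBar : Acen (eb 0 : Fin (m + 1) → F) ≤ UBar m F := by
  rintro _ ⟨φ, h, rfl⟩
  rw [dot_eb] at h
  refine Subgroup.mem_map_of_mem _ (tv_mem_UU ?_)
  intro i j hji
  by_cases hi : i = 0
  · subst hi
    have : j = 0 := Fin.le_zero_iff.mp hji
    rw [this, h, mul_zero]
  · rw [eb_apply, if_neg hi, zero_mul]

theorem Aax_le_UBar : Aax (eb (Fin.last m) : Fin (m + 1) → F) ≤ UBar m F := by
  rintro _ ⟨v, h, rfl⟩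
  rw [eb_dot] at h
  refine Subgroup.mem_map_of_mem _ (tv_mem_UU ?_)
  intro i j hji
  by_cases hj : j = Fin.last m
  · subst hj
    have : i = Fin.last m := Fin.last_le_iff.mp hji
    rw [this, h, zero_mul]
  · rw [eb_apply, if_neg hj, mul_zero]

theorem mulVec_eb_zero_of_mem_UU {u : SLm} (hu : u ∈ UU (m + 1) F) :
    (u : Matrix (Fin (m + 1)) (Fin (m + 1)) F) *ᵥ eb 0 = eb 0 := by
  funext i
  rw [mulVec_eb, (mem_UU.1 hu) i 0 (Fin.zero_le i), eb_apply, one_apply]

theorem vecMul_eb_last_of_mem_UU {u : SLm} (hu : u ∈ UU (m + 1) F) :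
    (eb (Fin.last m) : Fin (m + 1) → F) ᵥ* (u : Matrix (Fin (m + 1)) (Fin (m + 1)) F) =
      eb (Fin.last m) := by
  funext j
  rw [vecMul_eb, (mem_UU.1 hu) (Fin.last m) j (Fin.le_last j), eb_apply, one_apply]
  by_cases h : j = Fin.last m
  · rw [if_pos h, if_pos h.symm]
  · rw [if_neg h, if_neg (Ne.symm h)]

theorem UBar_le_normalizer_Acen :
    UBar m F ≤ Subgroup.normalizer ((Acen (eb 0 : Fin (m + 1) → F) : Subgroup PSLm) : Set PSLm) := by
  rintro _ ⟨u, hu, rfl⟩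
  exact prj_mem_normalizer_Acen u (mulVec_eb_zero_of_mem_UU hu)

theorem UBar_le_normalizer_Aax :
    UBar m F ≤ Subgroup.normalizer ((Aax (eb (Fin.last m) : Fin (m + 1) → F) : Subgroup PSLm) : Set PSLm) := by
  rintro _ ⟨u, hu, rfl⟩
  exact prj_mem_normalizer_Aax u (vecMul_eb_last_of_mem_UU hu)

theorem goodR_Acen (hm : 2 ≤ m) : GoodR (UBar m F) (Acen (eb 0 : Fin (m + 1) → F)) :=
  ⟨Acen_le_UBar, UBar_le_normalizer_Acen,
    fun x hx => mem_Acen_of_commute (card3 hm) (eb_ne_zero 0) x hx⟩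

theorem goodR_Aax (hm : 2 ≤ m) : GoodR (UBar m F) (Aax (eb (Fin.last m) : Fin (m + 1) → F)) :=
  ⟨Aax_le_UBar, UBar_le_normalizer_Aax,
    fun x hx => mem_Aax_of_commute (card3 hm) (eb_ne_zero _) x hx⟩

theorem isPGroup_UBar : IsPGroup p (UBar m F) := by
  obtain ⟨f, -, hf⟩ := FiniteField.card F p
  exact (isPGroup_UU (n := m + 1) hf).map _

theorem UBar_le_closure_genSet (hm : 2 ≤ m) :
    UBar m F ≤ Subgroup.closure (genSet p (UBar m F)) := by
  intro u hu
  apply Subgroup.subset_closure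
  refine ⟨Subgroup.le_normalizer hu, _, goodR_Acen hm, Subgroup.subset_closure
    ⟨UBar_le_normalizer_Acen hu, ?_⟩⟩
  obtain ⟨k, hk⟩ := (IsPGroup.iff_orderOf.mp (isPGroup_UBar (p := p) (m := m) (F := F))) ⟨u, hu⟩
  rw [Subgroup.orderOf_mk] at hk
  exact ⟨k, hk⟩

theorem prj_diag2n_mem_normalizer_UBar {i j : Fin (m + 1)} (hij : i ≠ j) (a : F) (ha : a ≠ 0) :
    (prj (Matrix.SpecialLinearGroup.diag2n hij a ha) : PSLm) ∈
      Subgroup.normalizer ((UBar m F : Subgroup PSLm) : Set PSLm) := by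
  apply Subgroup.le_normalizer_map
  exact ⟨_, mem_normalizer_UU_of_diagonal _ _ (Matrix.SpecialLinearGroup.diag2n_coe hij a ha), rfl⟩

theorem prj_diag_mem (hm : 2 ≤ m) (D : Fin (m + 1) → F) (hD : det (diagonal D) = 1) :
    (prj (diagSL D hD) : PSLm) ∈ Subgroup.closure (genSet p (UBar m F)) := by
  have hv1 : ((1 : Fin (m + 1)) : ℕ) = 1 := by
    rw [Fin.val_one', Nat.mod_eq_of_lt (by omega)]
  have h01 : (0 : Fin (m + 1)) ≠ 1 := by
    intro h
    have := congrArg Fin.val h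
    rw [hv1, Fin.val_zero] at this
    omega
  have h0l : (0 : Fin (m + 1)) ≠ Fin.last m := h0last (by omega)
  have h1l : (1 : Fin (m + 1)) ≠ Fin.last m := by
    intro h
    have := congrArg Fin.val h
    rw [hv1, Fin.val_last] at this
    omega
  have hdiag : diagSL D hD = Finset.noncommProd {i : Fin (m + 1) | i ≠ 1} (fun i ↦ if hi : i ≠ 1 then
      Matrix.SpecialLinearGroup.diag2n hi (D i) (Matrix.SpecialLinearGroup.diagonal_neZero D hD i) else 1)
      (Matrix.SpecialLinearGroup.diag_commute 1 D hD) :=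
    Matrix.SpecialLinearGroup.diag_eq_diag2n_prod 1 D hD
  rw [hdiag]
  refine Finset.noncommProd_induction _ _ _
    (fun b : SLm => (prj b : PSLm) ∈ Subgroup.closure (genSet p (UBar m F))) ?_ ?_ ?_
  · intro a b ha hb
    show prj (a * b) ∈ _
    rw [map_mul]
    exact mul_mem ha hb
  · show prj (1 : SLm) ∈ _
    rw [map_one]
    exact one_mem _
  · intro i hi
    have hi1 : i ≠ 1 := (Finset.mem_filter.1 hi).2
    show prj (if hi : i ≠ 1 then Matrix.SpecialLinearGroup.diag2n hi (D i) _ else 1) ∈ _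
    rw [dif_pos hi1]
    apply Subgroup.subset_closure
    refine ⟨prj_diag2n_mem_normalizer_UBar hi1 _ _, ?_⟩
    by_cases hi0 : i = 0
    · subst hi0
      exact ⟨_, goodR_Aax hm, prj_diag2n_mem_pGen_Aax p hi1 h0l h1l _ _⟩
    · exact ⟨_, goodR_Acen hm, prj_diag2n_mem_pGen_Acen p hi1 hi0 h01.symm _ _⟩

theorem normalizer_UBar_le (hm : 2 ≤ m) :
    Subgroup.normalizer ((UBar m F : Subgroup PSLm) : Set PSLm) ≤
      Subgroup.closure (genSet p (UBar m F)) := by
  intro g hg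
  obtain ⟨s, rfl⟩ := prj_surjective g
  have h : ∀ k l : Fin (m + 1), k < l → s * tv (eb k) (eb l) * s⁻¹ ∈ UU (m + 1) F := by
    intro k l hkl
    have h0 : (eb l : Fin (m + 1) → F) ⬝ᵥ (eb k) = 0 := eb_dot_eb_of_ne (ne_of_gt hkl)
    have hmem : prj s * tb (eb k) (eb l) * (prj s)⁻¹ ∈ UBar m F :=
      (Subgroup.mem_normalizer_iff.1 hg _).1 (Subgroup.mem_map_of_mem _ (tv_eb_mem_UU' hkl))
    obtain ⟨u', hu', hu'eq⟩ := hmem
    rw [conj_tb s h0] at hu'eq
    have := eq_tv_of_mk_eq (conj_dot s h0) (eb_ne_zero (0 : Fin (m + 1)))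
      (mulVec_eb_zero_of_mem_UU hu') hu'eq
    rw [conj_tv s h0, ← this]
    exact hu'
  obtain ⟨D, hD, u, hu, rfl⟩ := exists_diag_mul_of_upper s (upper_of_conj_mem s h)
  rw [map_mul]
  exact mul_mem (prj_diag_mem hm D hD) (UBar_le_closure_genSet hm (Subgroup.mem_map_of_mem _ hu))

theorem closed_UBar (p : ℕ) [Fact p.Prime] [CharP F p] (hm : 2 ≤ m) (T : Subgroup PSLm) (hTS : T ≤ UBar m F)
    (hT : FusionCyclicQuot.FusClosed T (UBar m F)) : T = ⊥ ∨ T = UBar m F := by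
  have h3 := card3 hm
  have hm1 : 1 ≤ m := by omega
  by_cases hTbot : T = ⊥
  · exact Or.inl hTbot
  right
  apply le_antisymm hTS
  have hP : IsPGroup p (UBar m F) := isPGroup_UBar
  have hnorm : (T.subgroupOf (UBar m F)).Normal := by
    constructor
    intro x hx g
    rw [Subgroup.mem_subgroupOf] at hx ⊢
    exact hT _ hx (g : PSLm) ((UBar m F).mul_mem ((UBar m F).mul_mem g.2 x.2) ((UBar m F).inv_mem g.2))
  have hne : T.subgroupOf (UBar m F) ≠ ⊥ := by
    intro h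
    rw [Subgroup.subgroupOf_eq_bot, disjoint_iff, inf_eq_left.2 hTS] at h
    exact hTbot h
  obtain ⟨z, hzT, hzo, hzc⟩ := FusionCentralConj.exists_central_of_normal p hP
    (T.subgroupOf (UBar m F)) hne
  rw [Subgroup.mem_subgroupOf] at hzT
  obtain ⟨a, ha⟩ := exists_of_mem_center_UBar hm1 z.2 (fun u hu => by
    have := hzc ⟨u, hu⟩
    exact (congrArg Subtype.val this).symm)
  have ha0 : a ≠ 0 := by
    rintro rfl
    rw [zero_smul, tb_zero_left] at ha
    have h1 : z = 1 := Subtype.ext ha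
    rw [h1, orderOf_one] at hzo
    exact (Fact.out : p.Prime).one_lt.ne hzo
  have hzTb : IsTb (z : PSLm) :=
    ⟨a • eb 0, eb (Fin.last m), smul_ne_zero ha0 (eb_ne_zero _), eb_ne_zero _,
      by rw [dotProduct_smul, eb_dot_eb_of_ne (h0last hm1).symm, smul_zero], ha⟩
  have claim : ∀ x ∈ UBar m F, IsTb x → x ∈ T := by
    intro x hxU hx
    obtain ⟨g, hg⟩ := isTb_conj' h3 hzTb hx
    rw [← hg]
    exact hT _ hzT g (by rw [hg]; exact hxU)
  show (UU (m + 1) F).map _ ≤ T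
  rw [Subgroup.map_le_iff_le_comap]
  apply UU_le_of_tv_mem
  intro k w hw
  show prj (tv w (eb k)) ∈ T
  by_cases hw0 : w = 0
  · rw [hw0, tv_zero_left, map_one]
    exact T.one_mem
  · apply claim _ (Subgroup.mem_map_of_mem _ (tv_col_mem_UU k w hw))
    exact ⟨w, eb k, hw0, eb_ne_zero k, by rw [eb_dot]; exact hw k le_rfl, rfl⟩

theorem UBar_ne_bot (hm : 2 ≤ m) : UBar m F ≠ ⊥ := by
  intro h
  have hm1 : 1 ≤ m := by omega
  have h1 := xlast_mem_UBar (F := F) hm1 1
  rw [h, Subgroup.mem_bot, one_smul,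
    tb_eq_one_iff (card3 hm) (eb_dot_eb_of_ne (h0last hm1).symm)] at h1
  rcases h1 with h1 | h1 <;> exact eb_ne_zero _ h1

/-- The data for the simplicity of the `p`-fusion system of `PSL_{m+1}(F)` on the image of the
unitriangular group. -/
theorem simpleData_UBar (hm : 2 ≤ m) : SimpleData p (UBar m F) :=
  ⟨UBar_ne_bot hm, closed_UBar p hm, normalizer_UBar_le hm⟩

end Cfsg.Agent.Lib.Helper86.PSLFus
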