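import Cfsg.Agent.Lib.Helper86.PSUFusD

/-!
# `PSU_n(q)`: the point radical `Q_{b_0}` is a good radical subgroup (helper86)
-/

set_option autoImplicit false
set_option linter.unusedSectionVars false

namespace Cfsg.Agent.Lib.Helper86.PSUFus

open Matrix Cfsg.Agent.S0837 Cfsg.Agent.S0781 Cfsg.Agent.S2644 Cfsg.Agent.Lib.Helper37
  Cfsg.Agent.Lib.Helper45.PSUAut Cfsg.Agent.Lib.Helper45.PSLAut
  Cfsg.Agent.Lib.Helper86.FusSimple

variable {F : Type*} [Field F] [Fintype F] {q n : ℕ} {σ : F →+* F}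
  {P : Matrix (Fin n) (Fin n) F}

/-! ### generalities on `pGen` and normalizers -/

theorem mem_normalizer_of_conj' {G : Type*} [Group G] {R : Subgroup G} {f : G}
    (h1 : ∀ r ∈ R, f * r * f⁻¹ ∈ R) (h2 : ∀ r ∈ R, f⁻¹ * r * f ∈ R) :
    f ∈ Subgroup.normalizer (R : Set G) := by
  rw [Subgroup.mem_normalizer_iff]
  intro h
  refine ⟨h1 h, fun hh => ?_⟩
  have := h2 _ hh
  have e : f⁻¹ * (f * h * f⁻¹) * f = h := by group
  rwa [e] at this

/-- an element of `p`-power order of `SU` normalizing `R` maps into `pGen` of the image of `R` -/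
theorem prjU_mem_pGen (p : ℕ) [Fact p.Prime] {R : Subgroup ↥(Cfsg.SU n F q)}
    {f : ↥(Cfsg.SU n F q)} (h1 : ∀ r ∈ R, f * r * f⁻¹ ∈ R) (h2 : ∀ r ∈ R, f⁻¹ * r * f ∈ R)
    {k : ℕ} (hk : f ^ (p ^ k) = 1) : prjU n F q f ∈ pGen p (R.map (prjU n F q)) := by
  apply Subgroup.subset_closure
  refine ⟨?_, ?_⟩
  · apply Subgroup.le_normalizer_map
    exact Subgroup.mem_map_of_mem _ (mem_normalizer_of_conj' h1 h2)
  · have h3 : (prjU n F q f) ^ (p ^ k) = 1 := by rw [← map_pow, hk, map_one]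
    obtain ⟨j, -, hj⟩ := (Nat.dvd_prime_pow (Fact.out : p.Prime)).1 (orderOf_dvd_of_pow_eq_one h3)
    exact ⟨j, hj⟩

theorem pGen_mul_mem {G : Type*} [Group G] (p : ℕ) {R : Subgroup G} {a b : G}
    (ha : a ∈ pGen p R) (hb : b ∈ pGen p R) : a * b ∈ pGen p R := Subgroup.mul_mem _ ha hb

/-! ### the point radical -/

/-- conjugation by an element fixing `e` preserves `Q_e` -/
theorem conj_mem_QS_of_fix (hS : Frob σ q) {s g : ↥(Cfsg.SU n F q)} {e : Fin n → F}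
    (hs : s.1.1 *ᵥ e = e) (hg : g ∈ QS (σ := σ) e) : s * g * s⁻¹ ∈ QS (σ := σ) e := by
  have hs' : (s⁻¹).1.1 *ᵥ e = e := by
    conv_lhs => rw [← hs]
    exact su_inv_mulVec_mulVec s e
  obtain ⟨hge, hg'⟩ := hg
  refine ⟨?_, fun x hx => ?_⟩
  · rw [su_mul_mulVec, su_mul_mulVec, hs', hge, hs]
  · have hx' : hf σ ((s⁻¹).1.1 *ᵥ x) e = 0 := by
      rw [su_pres_inv_left hS, hs, hx]
    obtain ⟨μ, hμ⟩ := hg' _ hx'
    refine ⟨μ, ?_⟩
    rw [su_mul_mulVec, su_mul_mulVec, hμ, Matrix.mulVec_add, Matrix.mulVec_smul, hs,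
      su_mulVec_inv_mulVec]

theorem conj_mem_QS_of_fix' (hS : Frob σ q) {s g : ↥(Cfsg.SU n F q)} {e : Fin n → F}
    (hs : s.1.1 *ᵥ e = e) (hg : g ∈ QS (σ := σ) e) : s⁻¹ * g * s ∈ QS (σ := σ) e := by
  have hs' : (s⁻¹).1.1 *ᵥ e = e := by
    conv_lhs => rw [← hs]
    exact su_inv_mulVec_mulVec s e
  have := conj_mem_QS_of_fix hS hs' hg
  rwa [inv_inv] at this

/-- elements of `UJ` fix the first frame vector -/
theorem UJ_fix_first (hW : WF σ P) {i₀ : Fin n} (h0 : i₀.val = 0) {u : ↥(Cfsg.SU n F q)}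
    (hu : u ∈ UJ hW) : u.1.1 *ᵥ bb P i₀ = bb P i₀ := by
  have h1 := inV_of_mem_UJ hW hu i₀
  rw [h0] at h1
  exact sub_eq_zero.mp (hW.eq_zero_of_inV_zero h1)

theorem rev_first_val {i₀ : Fin n} (h0 : i₀.val = 0) : (Fin.rev i₀).val = n - 1 := by
  rw [Fin.val_rev, h0]

/-- `Q_{b_0} ≤ UJ` -/
theorem QS_le_UJ (hW : WF σ P) (hS : Frob σ q) (hn : 2 ≤ n) {i₀ : Fin n} (h0 : i₀.val = 0) :
    QS (σ := σ) (q := q) (bb P i₀) ≤ UJ hW := by
  intro g hg
  have hlt : i₀.val < (Fin.rev i₀).val := by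
    rw [rev_first_val h0, h0]
    omega
  obtain ⟨w, c, hw, hv, rfl⟩ := exists_sS_of_mem_QS hS (hW.hp_bb (ne_rev_of_lt hlt)) hg
  apply sS_mem_UJ hW hS hlt _ hv
  intro i hi
  have hi' : i = Fin.rev i₀ := by
    apply Fin.ext
    rw [rev_first_val h0] at hi ⊢
    have := i.2
    omega
  rw [hi', co_rev]
  exact hw.1

/-- the image of `Q_{b_0}` in `PSU` -/
noncomputable def R1Bar (P : Matrix (Fin n) (Fin n) F) (σ : F →+* F) (q : ℕ) (i₀ : Fin n) :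
    Subgroup (Cfsg.PSU n F q) :=
  (QS (σ := σ) (q := q) (bb P i₀)).map (prjU n F q)

theorem goodR_R1Bar (hW : WF σ P) (hS : Frob σ q) (hF : Fintype.card F = q ^ 2) (hn : 3 ≤ n)
    (p : ℕ) [Fact p.Prime] [CharP F p] {i₀ : Fin n} (h0 : i₀.val = 0) :
    GoodR (UBar hW) (R1Bar P σ q i₀) := by
  have hlt : i₀.val < (Fin.rev i₀).val := by
    rw [rev_first_val h0, h0]
    omega
  have hne := ne_rev_of_lt hlt
  refine ⟨Subgroup.map_mono (QS_le_UJ hW hS (by omega) h0), ?_, ?_⟩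
  · rintro _ ⟨u, hu, rfl⟩
    apply Subgroup.le_normalizer_map
    apply Subgroup.mem_map_of_mem
    have hfix := UJ_fix_first hW h0 hu
    exact mem_normalizer_of_conj' (fun r hr => conj_mem_QS_of_fix hS hfix hr)
      (fun r hr => conj_mem_QS_of_fix' hS hfix hr)
  · intro x hx
    obtain ⟨z, rfl⟩ := prjU_surjective x
    have hz : ∀ u c, InW σ (bb P i₀) (bb P (Fin.rev i₀)) u → SV σ (bb P i₀) u c →
        z * sS hS (bb P i₀) u c = sS hS (bb P i₀) u c * z := by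
      intro u c _ hv
      apply comm_of_mk_comm hF (by omega) p (sS_pow_char hS p _ _ _)
      exact hx _ (Subgroup.mem_map_of_mem _ (sS_mem_QS hS hv))
    obtain ⟨a, ha, hza⟩ := centralizer_Q hS hn (hW.hp_bb hne) hz
    rw [prjU_apply, hza]
    refine ⟨tS hS (bb P i₀) a, ?_, rfl⟩
    rw [← sS_zero_eq_tS hS (hW.iso_bb hne) ha]
    exact sS_mem_QS hS (SV.of_tr0 (hW.iso_bb hne) ha)

end Cfsg.Agent.Lib.Helper86.PSUFus
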