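import Cfsg.Agent.Lib.Helper86.PSUFusE

/-!
# `PSU_n(q)`: the radical of the stabilizer of the isotropic line `⟨b_0, b_1⟩` (helper86)
-/

set_option autoImplicit false
set_option linter.unusedSectionVars false

namespace Cfsg.Agent.Lib.Helper86.PSUFus

open Matrix Cfsg.Agent.S0837 Cfsg.Agent.S0781 Cfsg.Agent.S2644 Cfsg.Agent.Lib.Helper37
  Cfsg.Agent.Lib.Helper45.PSUAut Cfsg.Agent.Lib.Helper45.PSLAut
  Cfsg.Agent.Lib.Helper86.FusSimple

variable {F : Type*} [Field F] [Fintype F] {q n : ℕ} {σ : F →+* F}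
  {P : Matrix (Fin n) (Fin n) F}

/-- a submonoid of a finite group is a subgroup -/
def finSubgroup {G : Type*} [Group G] [Finite G] (M : Submonoid G) : Subgroup G :=
  { M with
    inv_mem' := by
      intro s hs
      have h1 : s⁻¹ = s ^ (orderOf s - 1) := by
        apply inv_eq_of_mul_eq_one_right
        rw [← pow_succ', Nat.sub_add_cancel (orderOf_pos s), pow_orderOf_eq_one]
      rw [h1]
      exact pow_mem (S := M) hs _ }

theorem mem_finSubgroup {G : Type*} [Group G] [Finite G] (M : Submonoid G) (g : G) :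
    g ∈ finSubgroup M ↔ g ∈ M := Iff.rfl

/-- the product of the diagonal entries of a flag-stabilizing element is `1` -/
theorem prod_diag_of_flagStab (hW : WF σ P) {g : ↥(Cfsg.SU n F q)} (hg : FlagStab σ P g) :
    ∏ i, co σ P i (g.1.1 *ᵥ bb P i) = 1 := by
  have h1 : ((toJ hW g : SpecialLinearGroup (Fin n) F) : Matrix (Fin n) (Fin n) F).det = 1 :=
    (toJ hW g).2
  have h2 : ((toJ hW g : SpecialLinearGroup (Fin n) F) :
      Matrix (Fin n) (Fin n) F).BlockTriangular id := by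
    intro i j hij
    rw [toJ_apply]
    apply hg _ _ (hW.inV_bb j) i
    have : j < i := hij
    have := Fin.lt_def.mp this
    omega
  rw [Matrix.det_of_isUpperTriangular h2] at h1
  refine Eq.trans ?_ h1
  apply Finset.prod_congr rfl
  intro i _
  rw [toJ_apply]

/-- scalar elements of `SU` -/
noncomputable def scalarSU (hS : Frob σ q) (μ : F) (h1 : μ * σ μ = 1) (h2 : μ ^ n = 1) :
    ↥(Cfsg.SU n F q) :=
  mkSU hS (μ • (1 : Matrix (Fin n) (Fin n) F))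
    (by rw [Matrix.det_smul, Matrix.det_one, mul_one, Fintype.card_fin, h2])
    (by
      intro x y
      rw [Matrix.smul_mulVec, Matrix.smul_mulVec, one_mulVec, one_mulVec, hf_smul_left,
        hf_smul_right, ← mul_assoc, h1, one_mul])

theorem scalarSU_mulVec (hS : Frob σ q) (μ : F) (h1 : μ * σ μ = 1) (h2 : μ ^ n = 1)
    (x : Fin n → F) : (scalarSU (n := n) hS μ h1 h2).1.1 *ᵥ x = μ • x := by
  unfold scalarSU
  rw [mkSU_mat, Matrix.smul_mulVec, one_mulVec]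

/-! ### the radical `R2` -/

/-- the submonoid underlying `R2` -/
def R2M (σ : F →+* F) (P : Matrix (Fin n) (Fin n) F) (q : ℕ) (hn : 4 ≤ n) :
    Submonoid ↥(Cfsg.SU n F q) where
  carrier := {g | (∀ x, InV σ P (n - 2) (g.1.1 *ᵥ x - x)) ∧
    ∀ x, InV σ P (n - 2) x → InV σ P 2 (g.1.1 *ᵥ x - x)}
  one_mem' := by
    refine ⟨fun x => ?_, fun x _ => ?_⟩ <;>
    · rw [su_one_mulVec, sub_self]
      exact inV_zero_vec _
  mul_mem' := by
    rintro a b ⟨ha1, ha2⟩ ⟨hb1, hb2⟩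
    have e : ∀ x : Fin n → F, (a * b).1.1 *ᵥ x - x =
        (a.1.1 *ᵥ (b.1.1 *ᵥ x) - b.1.1 *ᵥ x) + (b.1.1 *ᵥ x - x) := by
      intro x
      rw [su_mul_mulVec]
      abel
    refine ⟨fun x => ?_, fun x hx => ?_⟩
    · rw [e]
      exact (ha1 _).add (hb1 _)
    · rw [e]
      have h1 := hb2 x hx
      have h2 : InV σ P (n - 2) (b.1.1 *ᵥ x) := by
        have : b.1.1 *ᵥ x = (b.1.1 *ᵥ x - x) + x := by abel
        rw [this]
        exact (h1.mono (by omega)).add hx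
      exact (ha2 _ h2).add h1

/-- the unipotent radical of the stabilizer of `⟨b_0, b_1⟩` -/
def R2 (σ : F →+* F) (P : Matrix (Fin n) (Fin n) F) (q : ℕ) (hn : 4 ≤ n) :
    Subgroup ↥(Cfsg.SU n F q) := finSubgroup (R2M σ P q hn)

theorem mem_R2 (hn : 4 ≤ n) {g : ↥(Cfsg.SU n F q)} :
    g ∈ R2 σ P q hn ↔ (∀ x, InV σ P (n - 2) (g.1.1 *ᵥ x - x)) ∧
      ∀ x, InV σ P (n - 2) x → InV σ P 2 (g.1.1 *ᵥ x - x) := Iff.rfl

/-- elements of `R2` fix `V_2` pointwise -/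
theorem R2_fix (hW : WF σ P) (hS : Frob σ q) (hn : 4 ≤ n) {g : ↥(Cfsg.SU n F q)}
    (hg : g ∈ R2 σ P q hn) {x : Fin n → F} (hx : InV σ P 2 x) : g.1.1 *ᵥ x = x := by
  have hg' := ((mem_R2 hn).1 (inv_mem hg)).1
  rw [← sub_eq_zero]
  apply hf_right_nondeg hS
  intro y
  have h1 : hf σ (g.1.1 *ᵥ x - x) y = hf σ x ((g⁻¹).1.1 *ᵥ y - y) := by
    rw [hf_sub_left, hf_sub_right, su_pres_inv_right hS]
  rw [h1]
  exact hW.hf_of_inV hS hx (hg' y) (by omega)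

theorem R2_le_UJ (hW : WF σ P) (hS : Frob σ q) (hn : 4 ≤ n) : R2 σ P q hn ≤ UJ hW := by
  intro g hg
  apply mem_UJ_of_unip
  intro k x hx
  by_cases hk2 : k + 1 ≤ 2
  · rw [R2_fix hW hS hn hg (hx.mono hk2), sub_self]
    exact inV_zero_vec k
  · by_cases hk : k + 1 ≤ n - 2
    · exact (((mem_R2 hn).1 hg).2 x (hx.mono hk)).mono (by omega)
    · exact (((mem_R2 hn).1 hg).1 x).mono (by omega)

/-- stabilizing `V_2` and `V_{n-2}` -/
def Stab2 (σ : F →+* F) (P : Matrix (Fin n) (Fin n) F) (s : ↥(Cfsg.SU n F q)) : Prop :=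
  (∀ x, InV σ P 2 x → InV σ P 2 (s.1.1 *ᵥ x)) ∧
    ∀ x, InV σ P (n - 2) x → InV σ P (n - 2) (s.1.1 *ᵥ x)

theorem stab2_of_flagStab {s : ↥(Cfsg.SU n F q)} (hs : FlagStab σ P s) : Stab2 σ P s :=
  ⟨fun x hx => hs 2 x hx, fun x hx => hs (n - 2) x hx⟩

theorem conj_mem_R2 (hn : 4 ≤ n) {s g : ↥(Cfsg.SU n F q)} (hs : Stab2 σ P s)
    (hs' : Stab2 σ P s⁻¹) (hg : g ∈ R2 σ P q hn) : s * g * s⁻¹ ∈ R2 σ P q hn := by
  have e : ∀ x : Fin n → F, (s * g * s⁻¹).1.1 *ᵥ x - x =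
      s.1.1 *ᵥ (g.1.1 *ᵥ ((s⁻¹).1.1 *ᵥ x) - (s⁻¹).1.1 *ᵥ x) := by
    intro x
    rw [su_mul_mulVec, su_mul_mulVec, Matrix.mulVec_sub, su_mulVec_inv_mulVec]
  obtain ⟨hg1, hg2⟩ := (mem_R2 hn).1 hg
  rw [mem_R2]
  refine ⟨fun x => ?_, fun x hx => ?_⟩
  · rw [e]
    exact hs.2 _ (hg1 _)
  · rw [e]
    exact hs.1 _ (hg2 _ (hs'.2 _ hx))

theorem conj_mem_R2' (hn : 4 ≤ n) {s g : ↥(Cfsg.SU n F q)} (hs : Stab2 σ P s)
    (hs' : Stab2 σ P s⁻¹) (hg : g ∈ R2 σ P q hn) : s⁻¹ * g * s ∈ R2 σ P q hn := by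
  have := conj_mem_R2 hn hs' (by rwa [inv_inv]) hg
  rwa [inv_inv] at this

/-- `V_2` is totally isotropic -/
theorem WF.iso_of_inV2 (hW : WF σ P) (hS : Frob σ q) (hn : 4 ≤ n) {v w : Fin n → F}
    (hv : InV σ P 2 v) (hw : InV σ P (n - 2) w) : hf σ v w = 0 :=
  hW.hf_of_inV hS hv hw (by omega)

theorem tS_mem_R2 (hW : WF σ P) (hS : Frob σ q) (hn : 4 ≤ n) {v : Fin n → F}
    (hv : InV σ P 2 v) {c : F} (hc : c + σ c = 0) : tS hS v c ∈ R2 σ P q hn := by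
  have hvv : hf σ v v = 0 := hW.iso_of_inV2 hS hn hv (hv.mono (by omega))
  rw [mem_R2]
  refine ⟨fun x => ?_, fun x _ => ?_⟩
  · rw [tS_mulVec hS hvv hc, add_sub_cancel_left]
    exact (hv.mono (by omega)).smul _
  · rw [tS_mulVec hS hvv hc, add_sub_cancel_left]
    exact hv.smul _

theorem sS_mem_R2 (hW : WF σ P) (hS : Frob σ q) (hn : 4 ≤ n) {e w : Fin n → F} {c : F}
    (he : InV σ P 2 e) (hw : InV σ P (n - 2) w) (hv : SV σ e w c) :
    sS hS e w c ∈ R2 σ P q hn := by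
  rw [mem_R2]
  have e1 : ∀ x : Fin n → F, x + hf σ x e • (w + c • e) - hf σ x w • e - x =
      hf σ x e • (w + c • e) - hf σ x w • e := by
    intro x
    abel
  have he' : InV σ P (n - 2) e := he.mono (by omega)
  refine ⟨fun x => ?_, fun x hx => ?_⟩
  · rw [sS_mulVec hS hv, e1]
    exact ((hw.add (he'.smul c)).smul _).sub (he'.smul _)
  · have h0 : hf σ x e = 0 := hS.hf_eq_zero_symm (hW.iso_of_inV2 hS hn he hx)
    rw [sS_mulVec hS hv, e1, h0, zero_smul, zero_sub]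
    exact (he.smul _).neg

end Cfsg.Agent.Lib.Helper86.PSUFus
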