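import Cfsg.Agent.Lib.Helper86.PSUFusF

/-!
# `PSU_n(q)`: the line radical `R2` contains its centralizer (helper86)
-/

set_option autoImplicit false
set_option linter.unusedSectionVars false

namespace Cfsg.Agent.Lib.Helper86.PSUFus

open Matrix Cfsg.Agent.S0837 Cfsg.Agent.S0781 Cfsg.Agent.S2644 Cfsg.Agent.Lib.Helper37
  Cfsg.Agent.Lib.Helper45.PSUAut Cfsg.Agent.Lib.Helper45.PSLAut
  Cfsg.Agent.Lib.Helper86.FusSimple

variable {F : Type*} [Field F] [Fintype F] {q n : ℕ} {σ : F →+* F}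
  {P : Matrix (Fin n) (Fin n) F}

/-- an element commuting with a non-trivial transvection fixes its centre up to a scalar -/
theorem par_of_comm_tS (hS : Frob σ q) {z : ↥(Cfsg.SU n F q)} {v : Fin n → F} (hv0 : v ≠ 0)
    (hv : hf σ v v = 0) {ε : F} (hε0 : ε ≠ 0) (hε : ε + σ ε = 0)
    (hz : z * tS hS v ε = tS hS v ε * z) : ∃ l : F, z.1.1 *ᵥ v = l • v := by
  have h1 : tS hS (z.1.1 *ᵥ v) ε = tS hS v ε := by
    rw [← conj_tS hS z hv hε, hz, mul_inv_cancel_right]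
  obtain ⟨x, hx⟩ := exists_form_eq_one hS hv0
  have h2 := congrArg (fun s : ↥(Cfsg.SU n F q) => s.1.1 *ᵥ x) h1
  simp only [tS_mulVec hS (iso_mulVec hS z hv) hε, tS_mulVec hS hv hε, hx, mul_one] at h2
  have h3 : (ε * hf σ x (z.1.1 *ᵥ v)) • z.1.1 *ᵥ v = ε • v := add_left_cancel h2
  have h4 : hf σ x (z.1.1 *ᵥ v) ≠ 0 := by
    intro h0
    rw [h0, mul_zero, zero_smul] at h3
    exact smul_ne_zero hε0 hv0 h3.symm
  refine ⟨(hf σ x (z.1.1 *ᵥ v))⁻¹, ?_⟩
  have h5 : z.1.1 *ᵥ v = (ε * hf σ x (z.1.1 *ᵥ v))⁻¹ • (ε • v) := by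
    rw [← h3, smul_smul, inv_mul_cancel₀ (mul_ne_zero hε0 h4), one_smul]
  conv_lhs => rw [h5]
  rw [smul_smul]
  congr 1
  field_simp

/-- a vector orthogonal to `e^⊥` is a multiple of `e` -/
theorem eq_smul_of_perp_perp (hS : Frob σ q) {e f d : Fin n → F} (h : HP σ e f)
    (hd : ∀ x, hf σ x e = 0 → hf σ x d = 0) : d = σ (hf σ f d) • e := by
  rw [← sub_eq_zero]
  apply hf_left_nondeg hS
  intro y
  have hy' : hf σ (y - hf σ y e • f) e = 0 := by
    rw [hf_sub_left, hf_smul_left, h.vu, mul_one, sub_self]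
  have h1 := hd _ hy'
  rw [hf_sub_left, hf_smul_left] at h1
  rw [hf_sub_right, hf_smul_right, hS.invol]
  rw [hf_sub_left, hf_smul_left, h.vu, mul_one, sub_self] at hy'
  linear_combination h1

theorem scalar_of_inV2 (hW : WF σ P) {i₀ i₁ : Fin n} (h0 : i₀.val = 0) (h1 : i₁.val = 1)
    {v : Fin n → F} (hv : InV σ P 2 v) :
    v = co σ P i₀ v • bb P i₀ + co σ P i₁ v • bb P i₁ := by
  have h01 : i₀ ≠ i₁ := by
    intro h
    rw [h] at h0
    omega
  apply hW.ext_co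
  intro i
  rw [co_add, co_smul, co_smul, hW.co_bb, hW.co_bb]
  by_cases hi0 : i = i₀
  · rw [hi0, if_pos rfl, if_neg h01, mul_one, mul_zero, add_zero]
  · by_cases hi1 : i = i₁
    · rw [hi1, if_pos rfl, if_neg (Ne.symm h01), mul_one, mul_zero, zero_add]
    · rw [if_neg hi0, if_neg hi1, mul_zero, mul_zero, add_zero]
      apply hv
      have : i.val ≠ 0 := fun h => hi0 (Fin.ext (by rw [h, h0]))
      have : i.val ≠ 1 := fun h => hi1 (Fin.ext (by rw [h, h1]))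
      omega

/-- the centralizer of `R2` in `SU` is contained in `Z · R2` -/
theorem centralizer_R2 (hW : WF σ P) (hS : Frob σ q) (hn : 4 ≤ n) {i₀ i₁ : Fin n}
    (h0 : i₀.val = 0) (h1 : i₁.val = 1) {z : ↥(Cfsg.SU n F q)}
    (hz : ∀ r ∈ R2 σ P q hn, z * r = r * z) :
    ∃ r ∈ R2 σ P q hn, ∃ c ∈ Subgroup.center ↥(Cfsg.SU n F q), z = c * r := by
  have h01 : i₀ ≠ i₁ := by
    intro h
    rw [h] at h0
    omega
  have hb0 : InV σ P 2 (bb P i₀) := hW.inV_bb_of_lt (by omega)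
  have hb1 : InV σ P 2 (bb P i₁) := hW.inV_bb_of_lt (by omega)
  have hlt0 : i₀.val < (Fin.rev i₀).val := by rw [Fin.val_rev]; omega
  have hlt1 : i₁.val < (Fin.rev i₁).val := by rw [Fin.val_rev]; omega
  have hHP0 := hW.hp_bb (ne_rev_of_lt hlt0)
  have hHP1 := hW.hp_bb (ne_rev_of_lt hlt1)
  obtain ⟨ε, hε0, hε⟩ := exists_trace_zero_ne σ hS.ne hS.invol
  -- (S1)
  have S1 : ∀ v : Fin n → F, InV σ P 2 v → v ≠ 0 → ∃ l : F, z.1.1 *ᵥ v = l • v := by
    intro v hv hv0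
    exact par_of_comm_tS hS hv0 (hW.iso_of_inV2 hS hn hv (hv.mono (by omega))) hε0 hε
      (hz _ (tS_mem_R2 hW hS hn hv hε))
  -- (S2)
  obtain ⟨l₀, hl₀⟩ := S1 _ hb0 hHP0.ne_zero
  obtain ⟨l₁, hl₁⟩ := S1 _ hb1 hHP1.ne_zero
  have hsum0 : bb P i₀ + bb P i₁ ≠ 0 := by
    intro h
    have := congrArg (co σ P i₀) h
    rw [co_add, hW.co_bb, hW.co_bb, if_pos rfl, if_neg h01, add_zero, co_zero] at this
    exact one_ne_zero this
  obtain ⟨l₂, hl₂⟩ := S1 _ (hb0.add hb1) hsum0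
  rw [Matrix.mulVec_add, hl₀, hl₁] at hl₂
  have e0 : l₀ = l₂ := by
    have := congrArg (co σ P i₀) hl₂
    simpa [co_add, co_smul, hW.co_bb, h01] using this
  have e1 : l₁ = l₂ := by
    have := congrArg (co σ P i₁) hl₂
    simpa [co_add, co_smul, hW.co_bb, Ne.symm h01] using this
  set μ := l₀ with hμ
  rw [e1, ← e0] at hl₁
  have hμ0 : μ ≠ 0 := by
    intro h
    rw [h, zero_smul] at hl₀
    exact su_mulVec_ne_zero z hHP0.ne_zero hl₀
  -- (S3)
  have S3 : ∀ v : Fin n → F, InV σ P 2 v → z.1.1 *ᵥ v = μ • v := by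
    intro v hv
    conv_lhs => rw [scalar_of_inV2 hW h0 h1 hv]
    rw [Matrix.mulVec_add, Matrix.mulVec_smul, Matrix.mulVec_smul, hl₀, hl₁]
    conv_rhs => rw [scalar_of_inV2 hW h0 h1 hv]
    module
  -- (S4)
  have S4a : ∀ (e f : Fin n → F), HP σ e f → InV σ P 2 e → ∀ w : Fin n → F,
      InV σ P (n - 2) w → ∃ s : F, w - σ μ • z.1.1 *ᵥ w = s • e := by
    intro e f hHP he w hw
    have hwe : hf σ w e = 0 := hS.hf_eq_zero_symm (hW.iso_of_inV2 hS hn he hw)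
    obtain ⟨c, hv⟩ := exists_SV hS hHP.uu hwe
    have hr := hz _ (sS_mem_R2 hW hS hn he hw hv)
    have hconj : sS hS (z.1.1 *ᵥ e) (z.1.1 *ᵥ w) c = sS hS e w c := by
      rw [← conj_sS hS z hv, hr, mul_inv_cancel_right]
    refine ⟨_, eq_smul_of_perp_perp hS hHP ?_⟩
    intro x hx
    have hx' : hf σ x (z.1.1 *ᵥ e) = 0 := by
      rw [S3 e he, hf_smul_right, hx, mul_zero]
    have h2 := congrArg (fun s : ↥(Cfsg.SU n F q) => s.1.1 *ᵥ x) hconj
    simp only [sS_mulVec_of_perp hS (hv.conj hS z) hx', sS_mulVec_of_perp hS hv hx] at h2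
    rw [S3 e he, smul_smul] at h2
    have h3 : (hf σ x (z.1.1 *ᵥ w) * μ) • e = hf σ x w • e := sub_right_injective h2
    have h4 : hf σ x (z.1.1 *ᵥ w) * μ = hf σ x w := by
      by_contra hne
      have : (hf σ x (z.1.1 *ᵥ w) * μ - hf σ x w) • e = 0 := by
        rw [sub_smul, h3, sub_self]
      rcases smul_eq_zero.mp this with h5 | h5
      · exact hne (sub_eq_zero.mp h5)
      · exact hHP.ne_zero h5
    rw [hf_sub_right, hf_smul_right, hS.invol, ← h4]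
    ring
  have S4 : ∀ w : Fin n → F, InV σ P (n - 2) w → σ μ • z.1.1 *ᵥ w = w := by
    intro w hw
    obtain ⟨s₀, hs₀⟩ := S4a _ _ hHP0 hb0 w hw
    obtain ⟨s₁, hs₁⟩ := S4a _ _ hHP1 hb1 w hw
    have h2 : s₀ = 0 := by
      have := congrArg (co σ P i₀) (hs₀.symm.trans hs₁)
      simpa [co_smul, hW.co_bb, h01] using this
    rw [h2, zero_smul, sub_eq_zero] at hs₀
    exact hs₀.symm
  -- (S5)
  have S5 : μ * σ μ = 1 := by
    have := S4 _ (hb0.mono (by omega))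
    rw [hl₀, smul_smul] at this
    have h2 := congrArg (co σ P i₀) this
    rw [co_smul, hW.co_bb, if_pos rfl, mul_one] at h2
    rw [mul_comm]
    exact h2
  have hσμ0 : σ μ ≠ 0 := hS.ne_zero hμ0
  -- (S6)
  have S6 : ∀ w : Fin n → F, InV σ P (n - 2) w → z.1.1 *ᵥ w = μ • w := by
    intro w hw
    conv_rhs => rw [← S4 w hw]
    rw [smul_smul, S5, one_smul]
  -- (S7)
  have S7 : ∀ x : Fin n → F, InV σ P (n - 2) (z.1.1 *ᵥ x - μ • x) := by
    intro x i hi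
    have hb : InV σ P 2 (bb P (Fin.rev i)) := by
      apply hW.inV_bb_of_lt
      rw [Fin.val_rev]
      have := i.2
      omega
    have h2 : (z⁻¹).1.1 *ᵥ bb P (Fin.rev i) = μ⁻¹ • bb P (Fin.rev i) := by
      have h3 : bb P (Fin.rev i) = μ⁻¹ • z.1.1 *ᵥ bb P (Fin.rev i) := by
        rw [S3 _ hb, smul_smul, inv_mul_cancel₀ hμ0, one_smul]
      conv_lhs => rw [h3]
      rw [Matrix.mulVec_smul, su_inv_mulVec_mulVec]
    rw [co_sub, co_smul, co_mulVec hS, h2, hf_smul_right, map_inv₀]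
    have h4 : (σ μ)⁻¹ = μ := by
      rw [inv_eq_of_mul_eq_one_left S5]
    rw [h4]
    show μ * co σ P i x - μ * co σ P i x = 0
    ring
  -- (S8)
  have hzx : ∀ x : Fin n → F, z.1.1 *ᵥ x = μ • x + (z.1.1 *ᵥ x - μ • x) := by
    intro x
    abel
  have hfl : FlagStab σ P z := by
    intro k x hx
    by_cases hk : k ≤ n - 2
    · rw [S6 x (hx.mono hk)]
      exact hx.smul μ
    · rw [hzx]
      exact (hx.smul μ).add ((S7 x).mono (by omega))
  have hdiag : ∀ i : Fin n, co σ P i (z.1.1 *ᵥ bb P i) = μ := by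
    intro i
    by_cases hi : i.val + 1 ≤ n - 2
    · rw [S6 _ ((hW.inV_bb i).mono hi), co_smul, hW.co_bb, if_pos rfl, mul_one]
    · rw [hzx, co_add, co_smul, hW.co_bb, if_pos rfl, mul_one, S7 _ i (by omega), add_zero]
  have S8 : μ ^ n = 1 := by
    have := prod_diag_of_flagStab hW hfl
    rw [Finset.prod_congr rfl (fun i _ => hdiag i), Finset.prod_const, Finset.card_univ,
      Fintype.card_fin] at this
    exact this
  -- (S9)
  set c : ↥(Cfsg.SU n F q) := scalarSU hS μ S5 S8 with hc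
  have hcc : c ∈ Subgroup.center ↥(Cfsg.SU n F q) :=
    mem_center_of_smul (a := μ) (fun x => scalarSU_mulVec hS μ S5 S8 x)
  have hcinv : ∀ x : Fin n → F, (c⁻¹).1.1 *ᵥ x = μ⁻¹ • x := by
    intro x
    have h3 : x = c.1.1 *ᵥ (μ⁻¹ • x) := by
      rw [hc, scalarSU_mulVec, smul_smul, mul_inv_cancel₀ hμ0, one_smul]
    conv_lhs => rw [h3]
    exact su_inv_mulVec_mulVec c _
  refine ⟨c⁻¹ * z, ?_, c, hcc, by rw [mul_inv_cancel_left]⟩
  rw [mem_R2]
  have e : ∀ x : Fin n → F, (c⁻¹ * z).1.1 *ᵥ x - x = μ⁻¹ • (z.1.1 *ᵥ x - μ • x) := by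
    intro x
    rw [su_mul_mulVec, hcinv, smul_sub, smul_smul, inv_mul_cancel₀ hμ0, one_smul]
  refine ⟨fun x => ?_, fun x hx => ?_⟩
  · rw [e]
    exact (S7 x).smul _
  · rw [e, S6 x hx, sub_self, smul_zero]
    exact inV_zero_vec 2

/-- the image of `R2` in `PSU` -/
noncomputable def R2Bar (σ : F →+* F) (P : Matrix (Fin n) (Fin n) F) (q : ℕ) (hn : 4 ≤ n) :
    Subgroup (Cfsg.PSU n F q) := (R2 σ P q hn).map (prjU n F q)

theorem goodR_R2Bar (hW : WF σ P) (hS : Frob σ q) (hF : Fintype.card F = q ^ 2) (hn : 4 ≤ n)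
    (p : ℕ) [Fact p.Prime] [CharP F p] :
    GoodR (UBar hW) (R2Bar σ P q hn) := by
  refine ⟨Subgroup.map_mono (R2_le_UJ hW hS hn), ?_, ?_⟩
  · rintro _ ⟨u, hu, rfl⟩
    apply Subgroup.le_normalizer_map
    apply Subgroup.mem_map_of_mem
    have h1 := stab2_of_flagStab (flagStab_of_mem_UJ hW hS hu)
    have h2 := stab2_of_flagStab (flagStab_of_mem_UJ hW hS (inv_mem hu))
    exact mem_normalizer_of_conj' (fun r hr => conj_mem_R2 hn h1 h2 hr)
      (fun r hr => conj_mem_R2' hn h1 h2 hr)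
  · intro x hx
    obtain ⟨z, rfl⟩ := prjU_surjective x
    have hz : ∀ r ∈ R2 σ P q hn, z * r = r * z := by
      intro r hr
      obtain ⟨k, hk⟩ := exists_pow_of_mem_UJ hW p (R2_le_UJ hW hS hn hr)
      apply comm_of_mk_comm hF (by omega) p hk
      exact hx _ (Subgroup.mem_map_of_mem _ hr)
    obtain ⟨r, hr, c, hc, rfl⟩ := centralizer_R2 hW hS hn (i₀ := ⟨0, by omega⟩)
      (i₁ := ⟨1, by omega⟩) rfl rfl hz
    refine ⟨r, hr, ?_⟩
    rw [map_mul]
    have : prjU n F q c = 1 := by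
      rw [prjU_apply, QuotientGroup.eq_one_iff]
      exact hc
    rw [this, one_mul]

end Cfsg.Agent.Lib.Helper86.PSUFus
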