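import Cfsg.Agent.Lib.Helper86.PSUFusG

/-!
# `PSU_n(q)`: root elements of `SL_2(q²)` type and the torus elements they generate (helper86)
-/

set_option autoImplicit false
set_option linter.unusedSectionVars false

namespace Cfsg.Agent.Lib.Helper86.PSUFus

open Matrix Cfsg.Agent.S0837 Cfsg.Agent.S0781 Cfsg.Agent.S2644 Cfsg.Agent.Lib.Helper37
  Cfsg.Agent.Lib.Helper45.PSUAut Cfsg.Agent.Lib.Helper45.PSLAut
  Cfsg.Agent.Lib.Helper86.FusSimple

variable {F : Type*} [Field F] {q n : ℕ} {σ : F →+* F} {P : Matrix (Fin n) (Fin n) F}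

/-- four distinct indices `i, j, rev i, rev j` -/
structure Quad (i j : Fin n) : Prop where
  ii : i ≠ Fin.rev i
  jj : j ≠ Fin.rev j
  ij : i ≠ j
  ij' : i ≠ Fin.rev j

theorem Quad.symm {i j : Fin n} (h : Quad i j) : Quad j i where
  ii := h.jj
  jj := h.ii
  ij := h.ij.symm
  ij' := by
    intro h'
    apply h.ij'
    rw [h', Fin.rev_rev]

theorem Quad.ji' {i j : Fin n} (h : Quad i j) : j ≠ Fin.rev i := h.symm.ij'

theorem Quad.ri_rj {i j : Fin n} (h : Quad i j) : Fin.rev i ≠ Fin.rev j :=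
  fun h' => h.ij (Fin.rev_inj.mp h')

/-- the root element `x_{ij}(a)`: `b_j ↦ b_j - σ(a) b_i`, `b_{rev i} ↦ b_{rev i} + a b_{rev j}` -/
noncomputable def xr (hS : Frob σ q) (P : Matrix (Fin n) (Fin n) F) (i j : Fin n) (a : F) :
    ↥(Cfsg.SU n F q) := sS hS (bb P i) (a • bb P (Fin.rev j)) 0

theorem xr_SV (hW : WF σ P) {i j : Fin n} (h : Quad i j) (a : F) :
    SV σ (bb P i) (a • bb P (Fin.rev j)) 0 where
  iso := hW.iso_bb h.ii
  perp := by
    rw [hf_smul_left, hW.gram_bb, Fin.rev_rev, if_neg h.ij, mul_zero]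
  tr := by
    rw [hf_smul_left, hf_smul_right, hW.gram_bb, if_neg, map_zero]
    · ring
    · intro h'
      exact h.jj (Fin.rev_inj.mp h')

theorem xr_mulVec (hW : WF σ P) (hS : Frob σ q) {i j : Fin n} (h : Quad i j) (a : F)
    (x : Fin n → F) : (xr hS P i j a).1.1 *ᵥ x =
      x + (a * co σ P (Fin.rev i) x) • bb P (Fin.rev j) - (σ a * co σ P j x) • bb P i := by
  unfold xr
  rw [sS_mulVec hS (xr_SV hW h a), hf_smul_right, co_rev, zero_smul, add_zero, smul_smul]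
  rw [mul_comm a]
  rfl

theorem xr_bb_i (hW : WF σ P) (hS : Frob σ q) {i j : Fin n} (h : Quad i j) (a : F) :
    (xr hS P i j a).1.1 *ᵥ bb P i = bb P i := by
  rw [xr_mulVec hW hS h, hW.co_bb, hW.co_bb, if_neg (Ne.symm h.ii), if_neg (Ne.symm h.ij),
    mul_zero, mul_zero, zero_smul, zero_smul, add_zero, sub_zero]

theorem xr_bb_j (hW : WF σ P) (hS : Frob σ q) {i j : Fin n} (h : Quad i j) (a : F) :
    (xr hS P i j a).1.1 *ᵥ bb P j = bb P j - σ a • bb P i := by
  rw [xr_mulVec hW hS h, hW.co_bb, hW.co_bb, if_neg (Ne.symm h.ji'), if_pos rfl,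
    mul_zero, mul_one, zero_smul, add_zero]

theorem xr_bb_ri (hW : WF σ P) (hS : Frob σ q) {i j : Fin n} (h : Quad i j) (a : F) :
    (xr hS P i j a).1.1 *ᵥ bb P (Fin.rev i) = bb P (Fin.rev i) + a • bb P (Fin.rev j) := by
  rw [xr_mulVec hW hS h, hW.co_bb, hW.co_bb, if_pos rfl, if_neg h.ji',
    mul_zero, mul_one, zero_smul, sub_zero]

theorem xr_bb_rj (hW : WF σ P) (hS : Frob σ q) {i j : Fin n} (h : Quad i j) (a : F) :
    (xr hS P i j a).1.1 *ᵥ bb P (Fin.rev j) = bb P (Fin.rev j) := by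
  rw [xr_mulVec hW hS h, hW.co_bb, hW.co_bb, if_neg h.ri_rj, if_neg h.jj,
    mul_zero, mul_zero, zero_smul, zero_smul, add_zero, sub_zero]

theorem xr_bb_other (hW : WF σ P) (hS : Frob σ q) {i j : Fin n} (h : Quad i j) (a : F)
    {k : Fin n} (hk1 : k ≠ j) (hk2 : k ≠ Fin.rev i) :
    (xr hS P i j a).1.1 *ᵥ bb P k = bb P k := by
  rw [xr_mulVec hW hS h, hW.co_bb, hW.co_bb, if_neg (Ne.symm hk2), if_neg (Ne.symm hk1),
    mul_zero, mul_zero, zero_smul, zero_smul, add_zero, sub_zero]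

/-- action on the plane `⟨b_i, b_j⟩` -/
theorem xr_comb1 (hW : WF σ P) (hS : Frob σ q) {i j : Fin n} (h : Quad i j) (a α β : F) :
    (xr hS P i j a).1.1 *ᵥ (α • bb P i + β • bb P j) =
      (α - σ a * β) • bb P i + β • bb P j := by
  rw [Matrix.mulVec_add, Matrix.mulVec_smul, Matrix.mulVec_smul, xr_bb_i hW hS h,
    xr_bb_j hW hS h]
  module

/-- action on the plane `⟨b_{rev i}, b_{rev j}⟩` -/
theorem xr_comb2 (hW : WF σ P) (hS : Frob σ q) {i j : Fin n} (h : Quad i j) (a α β : F) :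
    (xr hS P i j a).1.1 *ᵥ (α • bb P (Fin.rev i) + β • bb P (Fin.rev j)) =
      α • bb P (Fin.rev i) + (β + a * α) • bb P (Fin.rev j) := by
  rw [Matrix.mulVec_add, Matrix.mulVec_smul, Matrix.mulVec_smul, xr_bb_ri hW hS h,
    xr_bb_rj hW hS h]
  module

theorem xr_comb1' (hW : WF σ P) (hS : Frob σ q) {i j : Fin n} (h : Quad i j) (a α β : F) :
    (xr hS P j i a).1.1 *ᵥ (α • bb P i + β • bb P j) =
      α • bb P i + (β - σ a * α) • bb P j := by
  rw [add_comm, xr_comb1 hW hS h.symm, add_comm]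

theorem xr_comb2' (hW : WF σ P) (hS : Frob σ q) {i j : Fin n} (h : Quad i j) (a α β : F) :
    (xr hS P j i a).1.1 *ᵥ (α • bb P (Fin.rev i) + β • bb P (Fin.rev j)) =
      (α + a * β) • bb P (Fin.rev i) + β • bb P (Fin.rev j) := by
  rw [add_comm, xr_comb2 hW hS h.symm, add_comm]

/-- the torus element `h_{ij}(l)` -/
noncomputable def hT (hS : Frob σ q) (P : Matrix (Fin n) (Fin n) F) (i j : Fin n) (l : F) :
    ↥(Cfsg.SU n F q) :=
  xr hS P i j (-σ (l - 1)) * xr hS P j i (-1) * xr hS P i j (-σ (l⁻¹ - 1)) * xr hS P j i (σ l)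

theorem hT_comb1 (hW : WF σ P) (hS : Frob σ q) {i j : Fin n} (h : Quad i j) {l : F} (hl : l ≠ 0)
    (α β : F) : (hT hS P i j l).1.1 *ᵥ (α • bb P i + β • bb P j) =
      (l * α) • bb P i + (l⁻¹ * β) • bb P j := by
  unfold hT
  rw [su_mul_mulVec, su_mul_mulVec, su_mul_mulVec, xr_comb1' hW hS h, xr_comb1 hW hS h,
    xr_comb1' hW hS h, xr_comb1 hW hS h]
  simp only [map_neg, map_sub, map_one, map_inv₀, hS.invol]
  congr 2
  · field_simp
    ring
  · field_simp
    ring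

theorem hT_comb2 (hW : WF σ P) (hS : Frob σ q) {i j : Fin n} (h : Quad i j) {l : F} (hl : l ≠ 0)
    (α β : F) : (hT hS P i j l).1.1 *ᵥ (α • bb P (Fin.rev i) + β • bb P (Fin.rev j)) =
      ((σ l)⁻¹ * α) • bb P (Fin.rev i) + (σ l * β) • bb P (Fin.rev j) := by
  have hσl : σ l ≠ 0 := hS.ne_zero hl
  unfold hT
  rw [su_mul_mulVec, su_mul_mulVec, su_mul_mulVec, xr_comb2' hW hS h, xr_comb2 hW hS h,
    xr_comb2' hW hS h, xr_comb2 hW hS h]
  simp only [map_sub, map_one, map_inv₀]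
  congr 2
  · field_simp
    ring
  · field_simp
    ring

theorem hT_other (hW : WF σ P) (hS : Frob σ q) {i j : Fin n} (h : Quad i j) (l : F)
    {k : Fin n} (hk1 : k ≠ i) (hk2 : k ≠ j) (hk3 : k ≠ Fin.rev i) (hk4 : k ≠ Fin.rev j) :
    (hT hS P i j l).1.1 *ᵥ bb P k = bb P k := by
  unfold hT
  rw [su_mul_mulVec, su_mul_mulVec, su_mul_mulVec, xr_bb_other hW hS h.symm _ hk1 hk4,
    xr_bb_other hW hS h _ hk2 hk3, xr_bb_other hW hS h.symm _ hk1 hk4,
    xr_bb_other hW hS h _ hk2 hk3]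

/-- the eigenvalues of `h_{ij}(l)` -/
noncomputable def hTδ (σ : F →+* F) (i j : Fin n) (l : F) (k : Fin n) : F :=
  if k = i then l else if k = j then l⁻¹ else if k = Fin.rev i then (σ l)⁻¹
    else if k = Fin.rev j then σ l else 1

/-- diagonal elements with respect to the frame -/
def IsDiag (P : Matrix (Fin n) (Fin n) F) (d : ↥(Cfsg.SU n F q))
    (δ : Fin n → F) : Prop := ∀ k, d.1.1 *ᵥ bb P k = δ k • bb P k

theorem hT_isDiag (hW : WF σ P) (hS : Frob σ q) {i j : Fin n} (h : Quad i j) {l : F}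
    (hl : l ≠ 0) : IsDiag P (hT hS P i j l) (hTδ σ i j l) := by
  intro k
  unfold hTδ
  by_cases h1 : k = i
  · rw [if_pos h1, h1]
    have := hT_comb1 hW hS h hl 1 0
    rwa [one_smul, zero_smul, add_zero, mul_one, mul_zero, zero_smul, add_zero] at this
  rw [if_neg h1]
  by_cases h2 : k = j
  · rw [if_pos h2, h2]
    have := hT_comb1 hW hS h hl 0 1
    rwa [one_smul, zero_smul, zero_add, mul_one, mul_zero, zero_smul, zero_add] at this
  rw [if_neg h2]
  by_cases h3 : k = Fin.rev i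
  · rw [if_pos h3, h3]
    have := hT_comb2 hW hS h hl 1 0
    rwa [one_smul, zero_smul, add_zero, mul_one, mul_zero, zero_smul, add_zero] at this
  rw [if_neg h3]
  by_cases h4 : k = Fin.rev j
  · rw [if_pos h4, h4]
    have := hT_comb2 hW hS h hl 0 1
    rwa [one_smul, zero_smul, zero_add, mul_one, mul_zero, zero_smul, zero_add] at this
  rw [if_neg h4, one_smul]
  exact hT_other hW hS h l h1 h2 h3 h4

end Cfsg.Agent.Lib.Helper86.PSUFus
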