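import Cfsg.Agent.Lib.Helper86.PSUFusH

/-!
# `PSU_n(q)`: the rank-one group on a hyperbolic pair: Weyl-type and torus elements (helper86)
-/

set_option autoImplicit false
set_option linter.unusedSectionVars false

namespace Cfsg.Agent.Lib.Helper86.PSUFus

open Matrix Cfsg.Agent.S0837 Cfsg.Agent.S0781 Cfsg.Agent.S2644 Cfsg.Agent.Lib.Helper37
  Cfsg.Agent.Lib.Helper45.PSUAut Cfsg.Agent.Lib.Helper45.PSLAut
  Cfsg.Agent.Lib.Helper86.FusSimple

variable {F : Type*} [Field F] {q n : ℕ} {σ : F →+* F}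

/-- data for the rank-one Weyl-type element -/
structure NWData (σ : F →+* F) (e f u : Fin n → F) (c : F) : Prop where
  hp : HP σ e f
  ue : hf σ u e = 0
  uf : hf σ u f = 0
  tr : c + σ c + hf σ u u = 0
  ne : c ≠ 0

/-- the Weyl-type element `n(u, c)` of the rank-one group on `⟨e, f⟩` -/
noncomputable def nW (hS : Frob σ q) (e f u : Fin n → F) (c : F) : ↥(Cfsg.SU n F q) :=
  sS hS e u c * sS hS f (-(σ c)⁻¹ • u) (σ c)⁻¹ * sS hS e ((c / σ c) • u) c

variable {e f u : Fin n → F} {c : F}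

theorem NWData.inW (d : NWData σ e f u c) : InW σ e f u := ⟨d.ue, d.uf⟩

theorem NWData.σne (hS : Frob σ q) (d : NWData σ e f u c) : σ c ≠ 0 := hS.ne_zero d.ne

theorem NWData.sv1 (d : NWData σ e f u c) : SV σ e u c := ⟨d.hp.uu, d.ue, d.tr⟩

theorem NWData.sv2 (hS : Frob σ q) (d : NWData σ e f u c) :
    SV σ f (-(σ c)⁻¹ • u) (σ c)⁻¹ where
  iso := d.hp.vv
  perp := by rw [hf_smul_left, d.uf, mul_zero]
  tr := by
    have h1 := d.ne
    have h2 := d.σne hS
    rw [hf_smul_left, hf_smul_right, map_neg, map_inv₀, hS.invol]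
    field_simp
    linear_combination d.tr

theorem NWData.sv3 (hS : Frob σ q) (d : NWData σ e f u c) : SV σ e ((c / σ c) • u) c where
  iso := d.hp.uu
  perp := by rw [hf_smul_left, d.ue, mul_zero]
  tr := by
    have h1 := d.ne
    have h2 := d.σne hS
    rw [hf_smul_left, hf_smul_right, map_div₀, hS.invol]
    have e1 : c / σ c * (σ c / c * hf σ u u) = hf σ u u := by
      field_simp
    rw [e1]
    exact d.tr

theorem inW_swap {e f y : Fin n → F} (h : InW σ e f y) : InW σ f e y := ⟨h.2, h.1⟩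

theorem nW_e (hS : Frob σ q) (d : NWData σ e f u c) :
    (nW hS e f u c).1.1 *ᵥ e = (σ c)⁻¹ • f := by
  have h1 := d.ne
  have h2 := d.σne hS
  have hp' : HP σ f e := d.hp.symm hS.invol
  have hu2 : InW σ f e (-(σ c)⁻¹ • u) := (inW_swap d.inW).smul _
  unfold nW
  rw [su_mul_mulVec, su_mul_mulVec, sS_mulVec_self hS (d.sv3 hS), sS_f hS hp' hu2 (d.sv2 hS),
    Matrix.mulVec_add, Matrix.mulVec_add, Matrix.mulVec_smul, Matrix.mulVec_smul,
    sS_mulVec_self hS d.sv1, sS_f hS d.hp d.inW d.sv1, sS_w hS d.inW d.sv1]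
  match_scalars
  · have : hf σ u u = -(c + σ c) := by linear_combination d.tr
    rw [this]
    field_simp
    ring
  · field_simp
    ring
  · field_simp

theorem nW_f (hS : Frob σ q) (d : NWData σ e f u c) :
    (nW hS e f u c).1.1 *ᵥ f = c • e := by
  have h1 := d.ne
  have h2 := d.σne hS
  have hp' : HP σ f e := d.hp.symm hS.invol
  have hu2 : InW σ f e (-(σ c)⁻¹ • u) := (inW_swap d.inW).smul _
  have hu3 : InW σ e f ((c / σ c) • u) := d.inW.smul _
  have s2 : (sS hS f (-(σ c)⁻¹ • u) (σ c)⁻¹).1.1 *ᵥ (f + (c / σ c) • u + c • e) = c • e := by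
    rw [Matrix.mulVec_add, Matrix.mulVec_add, Matrix.mulVec_smul, Matrix.mulVec_smul,
      sS_mulVec_self hS (d.sv2 hS), sS_f hS hp' hu2 (d.sv2 hS), sS_w hS (inW_swap d.inW) (d.sv2 hS),
      hf_smul_right, map_neg, map_inv₀, hS.invol]
    have : hf σ u u = -(c + σ c) := by linear_combination d.tr
    rw [this]
    match_scalars
    · field_simp
      ring
    · field_simp
      ring
    · field_simp
  unfold nW
  rw [su_mul_mulVec, su_mul_mulVec, sS_f hS d.hp hu3 (d.sv3 hS), s2, Matrix.mulVec_smul,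
    sS_mulVec_self hS d.sv1]

theorem nW_W (hS : Frob σ q) (d : NWData σ e f u c) {y : Fin n → F} (hy : InW σ e f y) :
    (nW hS e f u c).1.1 *ᵥ y = y + (c⁻¹ * hf σ y u) • u := by
  have h1 := d.ne
  have h2 := d.σne hS
  have hp' : HP σ f e := d.hp.symm hS.invol
  have hu2 : InW σ f e (-(σ c)⁻¹ • u) := (inW_swap d.inW).smul _
  unfold nW
  rw [su_mul_mulVec, su_mul_mulVec, sS_w hS hy (d.sv3 hS), Matrix.mulVec_sub, Matrix.mulVec_smul,
    sS_w hS (inW_swap hy) (d.sv2 hS), sS_f hS hp' hu2 (d.sv2 hS)]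
  simp only [Matrix.mulVec_add, Matrix.mulVec_sub, Matrix.mulVec_smul]
  rw [sS_w hS hy d.sv1, sS_f hS d.hp d.inW d.sv1, sS_mulVec_self hS d.sv1, sS_w hS d.inW d.sv1]
  simp only [hf_smul_right, map_neg, map_inv₀, map_div₀, hS.invol]
  have : hf σ u u = -(c + σ c) := by linear_combination d.tr
  rw [this]
  match_scalars
  · ring
  · field_simp
    ring
  · field_simp
    ring
  · field_simp
    ring

/-- the torus element of the rank-one group -/
noncomputable def hR (hS : Frob σ q) (e f u : Fin n → F) (c ε : F) : ↥(Cfsg.SU n F q) :=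
  nW hS e f u c * nW hS e f 0 ε

theorem nwData_zero {ε : F} (hp : HP σ e f) (hε0 : ε ≠ 0) (hε : ε + σ ε = 0) :
    NWData σ e f 0 ε where
  hp := hp
  ue := hf_zero_left σ e
  uf := hf_zero_left σ f
  tr := by rw [hf_zero_left, add_zero, hε]
  ne := hε0

theorem hR_e (hS : Frob σ q) (d : NWData σ e f u c) {ε : F} (hε0 : ε ≠ 0) (hε : ε + σ ε = 0) :
    (hR hS e f u c ε).1.1 *ᵥ e = (c / σ ε) • e := by
  unfold hR
  rw [su_mul_mulVec, nW_e hS (nwData_zero d.hp hε0 hε), Matrix.mulVec_smul, nW_f hS d, smul_smul,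
    div_eq_inv_mul]

theorem hR_f (hS : Frob σ q) (d : NWData σ e f u c) {ε : F} (hε0 : ε ≠ 0) (hε : ε + σ ε = 0) :
    (hR hS e f u c ε).1.1 *ᵥ f = (ε / σ c) • f := by
  unfold hR
  rw [su_mul_mulVec, nW_f hS (nwData_zero d.hp hε0 hε), Matrix.mulVec_smul, nW_e hS d, smul_smul,
    div_eq_mul_inv]

theorem hR_W (hS : Frob σ q) (d : NWData σ e f u c) {ε : F} (hε0 : ε ≠ 0) (hε : ε + σ ε = 0)
    {y : Fin n → F} (hy : InW σ e f y) :
    (hR hS e f u c ε).1.1 *ᵥ y = y + (c⁻¹ * hf σ y u) • u := by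
  unfold hR
  rw [su_mul_mulVec, nW_W hS (nwData_zero d.hp hε0 hε) hy, smul_zero, add_zero, nW_W hS d hy]

/-! ### the rank-one torus element in a Witt frame -/

variable {P : Matrix (Fin n) (Fin n) F}

/-- the eigenvalues of the rank-one torus element -/
noncomputable def hRδ (σ : F →+* F) (i m : Fin n) (a c ε : F) (k : Fin n) : F :=
  if k = i then c / σ ε else if k = Fin.rev i then ε / σ c
    else if k = m then 1 + c⁻¹ * (a * σ a) else 1

theorem nwData_frame (hW : WF σ P) {i m : Fin n} (hi : i ≠ Fin.rev i) (hmi : m ≠ i)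
    (hmi' : m ≠ Fin.rev i) {a c : F} (hc0 : c ≠ 0)
    (htr : c + σ c + a * σ a * hf σ (bb P m) (bb P m) = 0) :
    NWData σ (bb P i) (bb P (Fin.rev i)) (a • bb P m) c where
  hp := hW.hp_bb hi
  ue := by
    rw [hf_smul_left, hW.gram_bb, if_neg, mul_zero]
    intro h
    apply hmi'
    rw [h, Fin.rev_rev]
  uf := by
    rw [hf_smul_left, hW.gram_bb, if_neg, mul_zero]
    intro h
    exact hmi (Fin.rev_inj.mp h).symm
  tr := by
    rw [hf_smul_left, hf_smul_right, ← htr]
    ring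
  ne := hc0

theorem hR_isDiag (hW : WF σ P) (hS : Frob σ q) {i m : Fin n} (hi : i ≠ Fin.rev i)
    (hmi : m ≠ i) (hmi' : m ≠ Fin.rev i) {a c ε : F} (hc0 : c ≠ 0)
    (htr : c + σ c + a * σ a * hf σ (bb P m) (bb P m) = 0) (ham : a = 0 ∨ m = Fin.rev m)
    (hε0 : ε ≠ 0) (hε : ε + σ ε = 0) :
    IsDiag P (hR hS (bb P i) (bb P (Fin.rev i)) (a • bb P m) c ε) (hRδ σ i m a c ε) := by
  have d := nwData_frame hW hi hmi hmi' hc0 htr
  intro k
  unfold hRδ
  by_cases h1 : k = i
  · rw [if_pos h1, h1]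
    exact hR_e hS d hε0 hε
  rw [if_neg h1]
  by_cases h2 : k = Fin.rev i
  · rw [if_pos h2, h2]
    exact hR_f hS d hε0 hε
  rw [if_neg h2]
  have hk : InW σ (bb P i) (bb P (Fin.rev i)) (bb P k) := by
    constructor
    · rw [hW.gram_bb, if_neg]
      intro h
      apply h2
      rw [h, Fin.rev_rev]
    · rw [hW.gram_bb, if_neg]
      intro h
      exact h1 (Fin.rev_inj.mp h).symm
  rw [hR_W hS d hε0 hε hk, hf_smul_right, hW.gram_bb]
  by_cases h3 : k = m
  · rw [if_pos h3, h3]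
    rcases ham with ha | hm
    · rw [ha, map_zero, zero_mul, mul_zero, zero_smul, add_zero, mul_zero, mul_zero, add_zero,
        one_smul]
    · rw [if_pos hm]
      module
  · rw [if_neg h3, one_smul]
    rcases ham with ha | hm
    · rw [ha, zero_smul, smul_zero, add_zero]
    · rw [if_neg, mul_zero, mul_zero, zero_smul, add_zero]
      intro h
      apply h3
      rw [hm] at h
      exact (Fin.rev_inj.mp h).symm

end Cfsg.Agent.Lib.Helper86.PSUFus
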