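import Cfsg.Agent.Lib.Helper86.PSUFusI

/-!
# `PSU_n(q)`: diagonal elements and the subgroup generated by the local `p`-generators (helper86)
-/

set_option autoImplicit false
set_option linter.unusedSectionVars false

namespace Cfsg.Agent.Lib.Helper86.PSUFus

open Matrix Cfsg.Agent.S0837 Cfsg.Agent.S0781 Cfsg.Agent.S2644 Cfsg.Agent.Lib.Helper37
  Cfsg.Agent.Lib.Helper45.PSUAut Cfsg.Agent.Lib.Helper45.PSLAut
  Cfsg.Agent.Lib.Helper86.FusSimple

variable {F : Type*} [Field F] [Fintype F] {q n : ℕ} {σ : F →+* F}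
  {P : Matrix (Fin n) (Fin n) F}

theorem WF.bb_ne_zero (hW : WF σ P) (k : Fin n) : bb P k ≠ 0 := by
  intro h
  have := hW.co_bb k k
  rw [if_pos rfl, h, co_zero] at this
  exact zero_ne_one this

/-! ### diagonal elements -/

theorem IsDiag.ne_zero (hW : WF σ P) {d : ↥(Cfsg.SU n F q)} {δ : Fin n → F} (h : IsDiag P d δ)
    (k : Fin n) : δ k ≠ 0 := by
  intro h0
  have := h k
  rw [h0, zero_smul] at this
  exact su_mulVec_ne_zero d (hW.bb_ne_zero k) this

theorem IsDiag.inv_apply (hW : WF σ P) {d : ↥(Cfsg.SU n F q)} {δ : Fin n → F}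
    (h : IsDiag P d δ) (k : Fin n) : (d⁻¹).1.1 *ᵥ bb P k = (δ k)⁻¹ • bb P k := by
  have h1 : bb P k = d.1.1 *ᵥ ((δ k)⁻¹ • bb P k) := by
    rw [Matrix.mulVec_smul, h k, smul_smul, inv_mul_cancel₀ (h.ne_zero hW k), one_smul]
  conv_lhs => rw [h1]
  exact su_inv_mulVec_mulVec d _

theorem IsDiag.inv (hW : WF σ P) {d : ↥(Cfsg.SU n F q)} {δ : Fin n → F} (h : IsDiag P d δ) :
    IsDiag P d⁻¹ (fun k => (δ k)⁻¹) := fun k => h.inv_apply hW k

theorem IsDiag.mul {d₁ d₂ : ↥(Cfsg.SU n F q)} {δ₁ δ₂ : Fin n → F} (h₁ : IsDiag P d₁ δ₁)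
    (h₂ : IsDiag P d₂ δ₂) : IsDiag P (d₁ * d₂) (fun k => δ₁ k * δ₂ k) := by
  intro k
  rw [su_mul_mulVec, h₂ k, Matrix.mulVec_smul, h₁ k, smul_smul, mul_comm]

theorem IsDiag.rel (hW : WF σ P) (hS : Frob σ q) {d : ↥(Cfsg.SU n F q)} {δ : Fin n → F}
    (h : IsDiag P d δ) (i : Fin n) : δ i * σ (δ (Fin.rev i)) = 1 := by
  have h1 := su_pres hS d (bb P i) (bb P (Fin.rev i))
  rw [h i, h (Fin.rev i), hf_smul_left, hf_smul_right, hW.gram_bb, if_pos rfl, mul_one] at h1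
  exact h1

theorem IsDiag.co_apply (hW : WF σ P) (hS : Frob σ q) {d : ↥(Cfsg.SU n F q)} {δ : Fin n → F}
    (h : IsDiag P d δ) (i : Fin n) (x : Fin n → F) :
    co σ P i (d.1.1 *ᵥ x) = δ i * co σ P i x := by
  rw [co_mulVec hS, h.inv_apply hW (Fin.rev i), hf_smul_right, map_inv₀]
  have h1 : (σ (δ (Fin.rev i)))⁻¹ = δ i := by
    rw [inv_eq_of_mul_eq_one_left (h.rel hW hS i)]
  rw [h1]
  rfl

theorem IsDiag.flagStab (hW : WF σ P) (hS : Frob σ q) {d : ↥(Cfsg.SU n F q)} {δ : Fin n → F}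
    (h : IsDiag P d δ) : FlagStab σ P d := by
  intro k x hx i hi
  rw [h.co_apply hW hS, hx i hi, mul_zero]

theorem IsDiag.conj_mem_UJ (hW : WF σ P) (hS : Frob σ q) {d : ↥(Cfsg.SU n F q)}
    {δ : Fin n → F} (h : IsDiag P d δ) {u : ↥(Cfsg.SU n F q)} (hu : u ∈ UJ hW) :
    d * u * d⁻¹ ∈ UJ hW := by
  rw [mem_UJ]
  intro i j hij
  rw [su_mul_mulVec, su_mul_mulVec, h.inv_apply hW j, Matrix.mulVec_smul, Matrix.mulVec_smul,
    co_smul, h.co_apply hW hS, (mem_UJ hW).1 hu i j hij]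
  by_cases hij' : i = j
  · rw [if_pos hij', mul_one, hij', inv_mul_cancel₀ (h.ne_zero hW j)]
  · rw [if_neg hij', mul_zero, mul_zero]

theorem IsDiag.prjU_mem_normalizer (hW : WF σ P) (hS : Frob σ q) {d : ↥(Cfsg.SU n F q)}
    {δ : Fin n → F} (h : IsDiag P d δ) :
    prjU n F q d ∈ Subgroup.normalizer ((UBar hW : Subgroup (Cfsg.PSU n F q)) : Set _) := by
  apply Subgroup.le_normalizer_map
  apply Subgroup.mem_map_of_mem
  apply mem_normalizer_of_conj' (fun r hr => h.conj_mem_UJ hW hS hr)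
  intro r hr
  have := (h.inv hW).conj_mem_UJ hW hS hr
  rwa [inv_inv] at this

/-! ### relations between the diagonal entries of a flag-stabilizing element -/

theorem diag_rel (hW : WF σ P) (hS : Frob σ q) {g : ↥(Cfsg.SU n F q)} (hg : FlagStab σ P g)
    (hg' : FlagStab σ P g⁻¹) (k : Fin n) :
    co σ P k (g.1.1 *ᵥ bb P k) * σ (co σ P (Fin.rev k) (g.1.1 *ᵥ bb P (Fin.rev k))) = 1 := by
  have h1 : co σ P k (g.1.1 *ᵥ bb P k) =
      σ (co σ P (Fin.rev k) ((g⁻¹).1.1 *ᵥ bb P (Fin.rev k))) := by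
    rw [co_mulVec hS, hf_symm σ hS.invol, co_rev]
  have h2 := flag_diag_mul hW hg' (Fin.rev k) (hg _ _ (hW.inV_bb (Fin.rev k)))
  rw [su_inv_mulVec_mulVec, hW.co_bb, if_pos rfl] at h2
  rw [h1, ← map_mul, ← h2, map_one]

/-- a flag-stabilizing element whose diagonal is trivial on the first half lies in `UJ` -/
theorem mem_UJ_of_half_diag (hW : WF σ P) (hS : Frob σ q) {g : ↥(Cfsg.SU n F q)}
    (hg : FlagStab σ P g) (hg' : FlagStab σ P g⁻¹)
    (hd : ∀ k : Fin n, k.val < (Fin.rev k).val → co σ P k (g.1.1 *ᵥ bb P k) = 1) :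
    g ∈ UJ hW := by
  apply mem_UJ_of_flag_diag hW hg
  have h2 : ∀ k : Fin n, (Fin.rev k).val < k.val → co σ P k (g.1.1 *ᵥ bb P k) = 1 := by
    intro k hk
    have h3 := diag_rel hW hS hg hg' (Fin.rev k)
    rw [hd (Fin.rev k) (by rw [Fin.rev_rev]; exact hk), one_mul, Fin.rev_rev] at h3
    have h4 := congrArg σ h3
    rwa [hS.invol, map_one] at h4
  intro k
  rcases lt_trichotomy k.val (Fin.rev k).val with h | h | h
  · exact hd k h
  · have h3 := prod_diag_of_flagStab hW hg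
    rw [Finset.prod_eq_single k] at h3
    · exact h3
    · intro j _ hjk
      rcases lt_trichotomy j.val (Fin.rev j).val with h' | h' | h'
      · exact hd j h'
      · exfalso
        apply hjk
        apply Fin.ext
        rw [Fin.val_rev] at h h'
        omega
      · exact h2 j h'
    · intro h'
      exact absurd (Finset.mem_univ k) h'
  · exact h2 k h

/-! ### the subgroup generated by the local `p`-generators -/

/-- the preimage in `SU` of the subgroup generated by `genSet` -/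
noncomputable def KK (hW : WF σ P) (p : ℕ) : Subgroup ↥(Cfsg.SU n F q) :=
  (Subgroup.closure (genSet p (UBar (q := q) hW))).comap (prjU n F q)

theorem mem_KK_of_diag (hW : WF σ P) (hS : Frob σ q) (p : ℕ) {d : ↥(Cfsg.SU n F q)}
    {δ : Fin n → F} (h : IsDiag P d δ) {R : Subgroup (Cfsg.PSU n F q)}
    (hR : GoodR (UBar hW) R) (hd : prjU n F q d ∈ pGen p R) : d ∈ KK hW p := by
  apply Subgroup.subset_closure
  exact ⟨h.prjU_mem_normalizer hW hS, R, hR, hd⟩

theorem UJ_le_KK (hW : WF σ P) (hS : Frob σ q) (hF : Fintype.card F = q ^ 2) (hn : 3 ≤ n)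
    (p : ℕ) [Fact p.Prime] [CharP F p] : UJ (q := q) hW ≤ KK hW p := by
  intro u hu
  have hn0 : 0 < n := by omega
  have hR := goodR_R1Bar hW hS hF hn p (i₀ := ⟨0, hn0⟩) rfl
  have hu' : prjU n F q u ∈ UBar hW := Subgroup.mem_map_of_mem _ hu
  apply Subgroup.subset_closure
  refine ⟨Subgroup.le_normalizer hu', _, hR, ?_⟩
  apply Subgroup.subset_closure
  refine ⟨hR.2.1 hu', ?_⟩
  obtain ⟨k, hk⟩ := isPGroup_UBar (q := q) hW p ⟨_, hu'⟩
  have hk' : (prjU n F q u) ^ (p ^ k) = 1 := by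
    have := congrArg Subtype.val hk
    simpa using this
  obtain ⟨j, -, hj⟩ := (Nat.dvd_prime_pow (Fact.out : p.Prime)).1 (orderOf_dvd_of_pow_eq_one hk')
  exact ⟨j, hj⟩

/-- a Siegel element fixes the vectors orthogonal to its parameters -/
theorem sS_fix (hS : Frob σ q) {e u y : Fin n → F} {c : F} (h1 : hf σ y e = 0)
    (h2 : hf σ y u = 0) : (sS hS e u c).1.1 *ᵥ y = y := by
  by_cases hv : SV σ e u c
  · rw [sS_mulVec hS hv, h1, h2, zero_smul, zero_smul, add_zero, sub_zero]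
  · unfold sS
    rw [dif_neg hv, su_one_mulVec]

/-- Siegel elements fixing `b_0` give elements of `pGen` of the point radical -/
theorem prjU_sS_mem_pGen_R1 (hS : Frob σ q) (p : ℕ) [Fact p.Prime] [CharP F p] {i₀ : Fin n}
    {e u : Fin n → F} {c : F} (h1 : hf σ (bb P i₀) e = 0) (h2 : hf σ (bb P i₀) u = 0) :
    prjU n F q (sS hS e u c) ∈ pGen p (R1Bar P σ q i₀) := by
  have hfix := sS_fix hS (c := c) h1 h2
  exact prjU_mem_pGen p (fun r hr => conj_mem_QS_of_fix hS hfix hr)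
    (fun r hr => conj_mem_QS_of_fix' hS hfix hr) (sS_pow_char hS p e u c)

/-! ### `Stab2` for the root elements on the first two frame vectors -/

theorem Stab2.one : Stab2 σ P (1 : ↥(Cfsg.SU n F q)) :=
  ⟨fun x hx => by rw [su_one_mulVec]; exact hx, fun x hx => by rw [su_one_mulVec]; exact hx⟩

theorem Stab2.mul {a b : ↥(Cfsg.SU n F q)} (ha : Stab2 σ P a) (hb : Stab2 σ P b) :
    Stab2 σ P (a * b) :=
  ⟨fun x hx => by rw [su_mul_mulVec]; exact ha.1 _ (hb.1 _ hx),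
    fun x hx => by rw [su_mul_mulVec]; exact ha.2 _ (hb.2 _ hx)⟩

theorem Stab2.pow {a : ↥(Cfsg.SU n F q)} (ha : Stab2 σ P a) (m : ℕ) : Stab2 σ P (a ^ m) := by
  induction m with
  | zero => rw [pow_zero]; exact Stab2.one
  | succ m ih => rw [pow_succ]; exact ih.mul ha

theorem Stab2.inv {a : ↥(Cfsg.SU n F q)} (ha : Stab2 σ P a) : Stab2 σ P a⁻¹ := by
  have h1 : a⁻¹ = a ^ (orderOf a - 1) := by
    apply inv_eq_of_mul_eq_one_right
    rw [← pow_succ', Nat.sub_add_cancel (orderOf_pos a), pow_orderOf_eq_one]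
  rw [h1]
  exact ha.pow _

theorem stab2_xr (hW : WF σ P) (hS : Frob σ q) (hn : 4 ≤ n) {i j : Fin n} (h : Quad i j)
    (hi : i.val < 2) (a : F) : Stab2 σ P (xr hS P i j a) := by
  have hri : n - 2 ≤ (Fin.rev i).val := by
    rw [Fin.val_rev]
    omega
  have hbi : InV σ P 2 (bb P i) := hW.inV_bb_of_lt hi
  refine ⟨fun x hx => ?_, fun x hx => ?_⟩
  · rw [xr_mulVec hW hS h, hx (Fin.rev i) (by omega), mul_zero, zero_smul, add_zero]
    exact hx.sub (hbi.smul _)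
  · rw [xr_mulVec hW hS h, hx (Fin.rev i) hri, mul_zero, zero_smul, add_zero]
    exact hx.sub ((hbi.mono (by omega)).smul _)

theorem prjU_xr_mem_pGen_R2 (hW : WF σ P) (hS : Frob σ q) (hn : 4 ≤ n) (p : ℕ) [Fact p.Prime]
    [CharP F p] {i j : Fin n} (h : Quad i j) (hi : i.val < 2) (a : F) :
    prjU n F q (xr hS P i j a) ∈ pGen p (R2Bar σ P q hn) := by
  have h1 := stab2_xr hW hS hn h hi a
  exact prjU_mem_pGen p (fun r hr => conj_mem_R2 hn h1 h1.inv hr)
    (fun r hr => conj_mem_R2' hn h1 h1.inv hr) (sS_pow_char hS p _ _ _)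

end Cfsg.Agent.Lib.Helper86.PSUFus
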