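import Cfsg.Agent.Lib.Helper86.PSUFusJ

/-!
# `PSU_n(q)`: the normalizer of the unipotent subgroup is generated by local `p`-generators
(helper86)
-/

set_option autoImplicit false
set_option linter.unusedSectionVars false

namespace Cfsg.Agent.Lib.Helper86.PSUFus

open Matrix Cfsg.Agent.S0837 Cfsg.Agent.S0781 Cfsg.Agent.S2644 Cfsg.Agent.Lib.Helper37
  Cfsg.Agent.Lib.Helper45.PSUAut Cfsg.Agent.Lib.Helper45.PSLAut
  Cfsg.Agent.Lib.Helper86.FusSimple

variable {F : Type*} [Field F] [Fintype F] {q n : ℕ} {σ : F →+* F}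
  {P : Matrix (Fin n) (Fin n) F}

theorem hT_mem_KK_first (hW : WF σ P) (hS : Frob σ q) (hF : Fintype.card F = q ^ 2)
    (hn : 4 ≤ n) (p : ℕ) [Fact p.Prime] [CharP F p] {i₀ i₁ : Fin n} (h0 : i₀.val = 0)
    (h1 : i₁.val = 1) {l : F} (hl : l ≠ 0) : hT hS P i₀ i₁ l ∈ KK hW p := by
  have hQ : Quad i₀ i₁ := by
    have e0 := Fin.val_rev i₀
    have e1 := Fin.val_rev i₁
    refine ⟨?_, ?_, ?_, ?_⟩ <;>
    · intro h
      have := congrArg Fin.val h
      omega
  apply mem_KK_of_diag hW hS p (hT_isDiag hW hS hQ hl) (goodR_R2Bar hW hS hF hn p)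
  unfold hT
  rw [map_mul, map_mul, map_mul]
  exact mul_mem (mul_mem (mul_mem
    (prjU_xr_mem_pGen_R2 hW hS hn p hQ (by omega) _)
    (prjU_xr_mem_pGen_R2 hW hS hn p hQ.symm (by omega) _))
    (prjU_xr_mem_pGen_R2 hW hS hn p hQ (by omega) _))
    (prjU_xr_mem_pGen_R2 hW hS hn p hQ.symm (by omega) _)

theorem prjU_xr_mem_pGen_R1 (hW : WF σ P) (hS : Frob σ q) (p : ℕ) [Fact p.Prime] [CharP F p]
    {i₀ i j : Fin n} (hi : i ≠ Fin.rev i₀) (hj : j ≠ i₀) (a : F) :
    prjU n F q (xr hS P i j a) ∈ pGen p (R1Bar P σ q i₀) := by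
  unfold xr
  apply prjU_sS_mem_pGen_R1 hS p
  · rw [hW.gram_bb, if_neg hi]
  · rw [hf_smul_right, hW.gram_bb, if_neg, mul_zero]
    intro h
    exact hj (Fin.rev_inj.mp h)

theorem hT_mem_KK_other (hW : WF σ P) (hS : Frob σ q) (hF : Fintype.card F = q ^ 2)
    (hn : 4 ≤ n) (p : ℕ) [Fact p.Prime] [CharP F p] {i₀ i j : Fin n} (h0 : i₀.val = 0)
    (hQ : Quad i j) (hi0 : i ≠ i₀) (hi0' : i ≠ Fin.rev i₀) (hj0 : j ≠ i₀)
    (hj0' : j ≠ Fin.rev i₀) {l : F} (hl : l ≠ 0) : hT hS P i j l ∈ KK hW p := by
  apply mem_KK_of_diag hW hS p (hT_isDiag hW hS hQ hl)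
    (goodR_R1Bar hW hS hF (by omega) p h0)
  unfold hT
  rw [map_mul, map_mul, map_mul]
  exact mul_mem (mul_mem (mul_mem
    (prjU_xr_mem_pGen_R1 hW hS p hi0' hj0 _)
    (prjU_xr_mem_pGen_R1 hW hS p hj0' hi0 _))
    (prjU_xr_mem_pGen_R1 hW hS p hi0' hj0 _))
    (prjU_xr_mem_pGen_R1 hW hS p hj0' hi0 _)

theorem prjU_nW_mem_pGen_R1 (hS : Frob σ q) (p : ℕ) [Fact p.Prime] [CharP F p] {i₀ : Fin n}
    {e f u : Fin n → F} (c : F) (h1 : hf σ (bb P i₀) e = 0) (h2 : hf σ (bb P i₀) f = 0)
    (h3 : hf σ (bb P i₀) u = 0) :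
    prjU n F q (nW hS e f u c) ∈ pGen p (R1Bar P σ q i₀) := by
  unfold nW
  rw [map_mul, map_mul]
  refine mul_mem (mul_mem ?_ ?_) ?_
  · exact prjU_sS_mem_pGen_R1 hS p h1 h3
  · exact prjU_sS_mem_pGen_R1 hS p h2 (by rw [hf_smul_right, h3, mul_zero])
  · exact prjU_sS_mem_pGen_R1 hS p h1 (by rw [hf_smul_right, h3, mul_zero])

theorem hR_mem_KK (hW : WF σ P) (hS : Frob σ q) (hF : Fintype.card F = q ^ 2)
    (hn : 4 ≤ n) (p : ℕ) [Fact p.Prime] [CharP F p] {i₀ i m : Fin n} (h0 : i₀.val = 0)
    (hi : i ≠ Fin.rev i) (hmi : m ≠ i) (hmi' : m ≠ Fin.rev i) (hi0 : i ≠ i₀)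
    (hi0' : i ≠ Fin.rev i₀) (hm0 : m ≠ Fin.rev i₀) {a c ε : F} (hc0 : c ≠ 0)
    (htr : c + σ c + a * σ a * hf σ (bb P m) (bb P m) = 0) (ham : a = 0 ∨ m = Fin.rev m)
    (hε0 : ε ≠ 0) (hε : ε + σ ε = 0) :
    hR hS (bb P i) (bb P (Fin.rev i)) (a • bb P m) c ε ∈ KK hW p := by
  apply mem_KK_of_diag hW hS p (hR_isDiag hW hS hi hmi hmi' hc0 htr ham hε0 hε)
    (goodR_R1Bar hW hS hF (by omega) p h0)
  have e1 : hf σ (bb P i₀) (bb P i) = 0 := by rw [hW.gram_bb, if_neg hi0']
  have e2 : hf σ (bb P i₀) (bb P (Fin.rev i)) = 0 := by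
    rw [hW.gram_bb, if_neg]
    intro h
    exact hi0 (Fin.rev_inj.mp h)
  have e3 : hf σ (bb P i₀) (a • bb P m) = 0 := by
    rw [hf_smul_right, hW.gram_bb, if_neg hm0, mul_zero]
  unfold hR
  rw [map_mul]
  exact mul_mem (prjU_nW_mem_pGen_R1 hS p c e1 e2 e3)
    (prjU_nW_mem_pGen_R1 hS p ε e1 e2 (hf_zero_right σ _))

/-- in even dimension the middle diagonal entry lies in the fixed field -/
theorem diag_fixed_of_even (hW : WF σ P) (hS : Frob σ q) {g : ↥(Cfsg.SU n F q)}
    (hg : FlagStab σ P g) (hg' : FlagStab σ P g⁻¹) {i : Fin n}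
    (hi : i.val + 1 = (Fin.rev i).val)
    (h1 : ∀ k : Fin n, k.val < i.val → co σ P k (g.1.1 *ᵥ bb P k) = 1) :
    σ (co σ P i (g.1.1 *ᵥ bb P i)) = co σ P i (g.1.1 *ᵥ bb P i) := by
  have hne : i ≠ Fin.rev i := by
    intro h
    rw [← h] at hi
    omega
  have h2 : ∀ k : Fin n, k ≠ i ∧ k ≠ Fin.rev i → co σ P k (g.1.1 *ᵥ bb P k) = 1 := by
    rintro k ⟨hk1, hk2⟩
    by_cases hk : k.val < i.val
    · exact h1 k hk
    · have hk1' : k.val ≠ i.val := fun h => hk1 (Fin.ext h)
      have hk2' : k.val ≠ (Fin.rev i).val := fun h => hk2 (Fin.ext h)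
      have hrk : (Fin.rev k).val < i.val := by
        have e1 := Fin.val_rev i
        have e2 := Fin.val_rev k
        have e3 := k.2
        have e4 := i.2
        omega
      have h3 := diag_rel hW hS hg hg' (Fin.rev k)
      rw [h1 _ hrk, one_mul, Fin.rev_rev] at h3
      have h4 := congrArg σ h3
      rwa [hS.invol, map_one] at h4
  have h3 := prod_diag_of_flagStab hW hg
  rw [Finset.prod_eq_mul i (Fin.rev i) hne (fun k _ hk => h2 k hk)
    (fun h => absurd (Finset.mem_univ _) h) (fun h => absurd (Finset.mem_univ _) h)] at h3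
  have h4 := diag_rel hW hS hg hg' i
  set A := co σ P i (g.1.1 *ᵥ bb P i) with hA
  set B := co σ P (Fin.rev i) (g.1.1 *ᵥ bb P (Fin.rev i)) with hB
  have hA0 : A ≠ 0 := diag_ne_zero hW hg hg' i
  have hB0 : B ≠ 0 := diag_ne_zero hW hg hg' (Fin.rev i)
  have h5 : σ B = B := by
    apply mul_left_cancel₀ hA0
    rw [h4, h3]
  have h6 : σ A * B = 1 := by
    have := congrArg σ h3
    rwa [map_mul, map_one, h5] at this
  apply mul_right_cancel₀ hB0
  rw [h6, h3]

/-- every element stabilizing the flag, together with its inverse, lies in `KK` -/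
theorem mem_KK_of_flagStab (hW : WF σ P) (hS : Frob σ q) (hF : Fintype.card F = q ^ 2)
    (hn : 4 ≤ n) (p : ℕ) [Fact p.Prime] [CharP F p] {g : ↥(Cfsg.SU n F q)}
    (hg : FlagStab σ P g) (hg' : FlagStab σ P g⁻¹) : g ∈ KK hW p := by
  set m₁ := n / 2 - 1 with hm₁
  have hm1 : 1 ≤ m₁ := by omega
  have hm2 : 2 * m₁ + 2 ≤ n := by omega
  have hm3 : n ≤ 2 * m₁ + 3 := by omega
  have hn0 : 0 < n := by omega
  set i₀ : Fin n := ⟨0, hn0⟩ with hi₀
  have key : ∀ (d j : ℕ), d + j = m₁ → ∀ g : ↥(Cfsg.SU n F q), FlagStab σ P g →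
      FlagStab σ P g⁻¹ → (∀ i : Fin n, i.val < j → co σ P i (g.1.1 *ᵥ bb P i) = 1) →
      g ∈ KK hW p := by
    intro d
    induction d with
    | zero =>
      intro j hj g hg hg' hdiag
      have hj' : j = m₁ := by omega
      subst hj'
      set i : Fin n := ⟨m₁, by omega⟩ with hi
      have hiv : i.val = m₁ := rfl
      have hi0v : i₀.val = 0 := rfl
      have hriv : (Fin.rev i).val = n - (m₁ + 1) := by rw [Fin.val_rev]
      have hri0v : (Fin.rev i₀).val = n - 1 := by rw [Fin.val_rev]
      have hilt : i.val < (Fin.rev i).val := by omega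
      have hine := ne_rev_of_lt hilt
      set Λ := co σ P i (g.1.1 *ᵥ bb P i) with hΛ
      have hΛ0 : Λ ≠ 0 := diag_ne_zero hW hg hg' i
      obtain ⟨ε, hε0, hε⟩ := exists_trace_zero_ne σ hS.ne hS.invol
      have hσε0 : σ ε ≠ 0 := hS.ne_zero hε0
      set c := Λ⁻¹ * σ ε with hc
      have hc0 : c ≠ 0 := mul_ne_zero (inv_ne_zero hΛ0) hσε0
      have hci : c / σ ε = Λ⁻¹ := by
        rw [hc]
        field_simp
      have hii0 : i ≠ i₀ := by
        intro h
        have := congrArg Fin.val h
        omega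
      have hii0' : i ≠ Fin.rev i₀ := by
        intro h
        have := congrArg Fin.val h
        omega
      -- the data of the rank-one torus element
      obtain ⟨m, a, hmi, hmi', hm0, htr, ham, hδ1⟩ : ∃ (m : Fin n) (a : F), m ≠ i ∧
          m ≠ Fin.rev i ∧ m ≠ Fin.rev i₀ ∧
          c + σ c + a * σ a * hf σ (bb P m) (bb P m) = 0 ∧ (a = 0 ∨ m = Fin.rev m) ∧
          ∀ k : Fin n, k.val < m₁ → hRδ σ i m a c ε k = 1 := by
        by_cases hodd : n = 2 * m₁ + 3
        · -- odd dimension
          set m : Fin n := ⟨m₁ + 1, by omega⟩ with hm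
          have hmv : m.val = m₁ + 1 := rfl
          have hrmv : (Fin.rev m).val = n - (m₁ + 1 + 1) := by rw [Fin.val_rev]
          have hmm : m = Fin.rev m := by
            apply Fin.ext
            omega
          have hmi : m ≠ i := by
            intro h
            have := congrArg Fin.val h
            omega
          have hmi' : m ≠ Fin.rev i := by
            intro h
            have := congrArg Fin.val h
            omega
          have hm0 : m ≠ Fin.rev i₀ := by
            intro h
            have := congrArg Fin.val h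
            omega
          have hgm : hf σ (bb P m) (bb P m) = 1 := by rw [hW.gram_bb, if_pos hmm]
          have hδ1 : ∀ (a : F) (k : Fin n), k.val < m₁ → hRδ σ i m a c ε k = 1 := by
            intro a k hk
            unfold hRδ
            have k1 : k ≠ i := by
              intro h
              have := congrArg Fin.val h
              omega
            have k2 : k ≠ Fin.rev i := by
              intro h
              have := congrArg Fin.val h
              omega
            have k3 : k ≠ m := by
              intro h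
              have := congrArg Fin.val h
              omega
            rw [if_neg k1, if_neg k2, if_neg k3]
          by_cases ht : c + σ c = 0
          · refine ⟨m, 0, hmi, hmi', hm0, ?_, Or.inl rfl, hδ1 0⟩
            rw [zero_mul, zero_mul, add_zero, ht]
          · have hfix : σ (-(c + σ c)) = -(c + σ c) := by
              rw [map_neg, map_add, hS.invol]
              ring
            obtain ⟨a, ha⟩ := Cfsg.Agent.Lib.Helper13.exists_norm_eq σ hS.ne hS.invol
              (-(c + σ c)) (neg_ne_zero.mpr ht) hfix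
            refine ⟨m, a, hmi, hmi', hm0, ?_, Or.inr hmm, hδ1 a⟩
            rw [ha, hgm]
            ring
        · -- even dimension
          have heven : n = 2 * m₁ + 2 := by omega
          have hi1 : i.val + 1 = (Fin.rev i).val := by omega
          have hfixΛ : σ Λ = Λ := diag_fixed_of_even hW hS hg hg' hi1 hdiag
          have hmi : i₀ ≠ i := Ne.symm hii0
          have hmi' : i₀ ≠ Fin.rev i := by
            intro h
            have := congrArg Fin.val h
            omega
          have hm0 : i₀ ≠ Fin.rev i₀ := by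
            intro h
            have := congrArg Fin.val h
            omega
          refine ⟨i₀, 0, hmi, hmi', hm0, ?_, Or.inl rfl, ?_⟩
          · rw [zero_mul, zero_mul, add_zero, hc, map_mul, map_inv₀, hfixΛ, hS.invol]
            have : σ ε = -ε := by linear_combination hε
            rw [this]
            ring
          · intro k hk
            unfold hRδ
            have k1 : k ≠ i := by
              intro h
              have := congrArg Fin.val h
              omega
            have k2 : k ≠ Fin.rev i := by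
              intro h
              have := congrArg Fin.val h
              omega
            rw [if_neg k1, if_neg k2, map_zero, mul_zero, mul_zero, add_zero, ite_self]
      have hD := hR_isDiag hW hS hine hmi hmi' hc0 htr ham hε0 hε
      set d := hR hS (bb P i) (bb P (Fin.rev i)) (a • bb P m) c ε with hd
      have hdK : d ∈ KK hW p :=
        hR_mem_KK hW hS hF hn p rfl hine hmi hmi' hii0 hii0' hm0 hc0 htr ham hε0 hε
      have hfl : FlagStab σ P (d * g) := (hD.flagStab hW hS).mul hg
      have hfl' : FlagStab σ P (d * g)⁻¹ := by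
        rw [_root_.mul_inv_rev]
        exact hg'.mul ((hD.inv hW).flagStab hW hS)
      have hmem : d * g ∈ UJ hW := by
        apply mem_UJ_of_half_diag hW hS hfl hfl'
        intro k hk
        rw [su_mul_mulVec, hD.co_apply hW hS]
        by_cases hki : k = i
        · rw [hki]
          unfold hRδ
          rw [if_pos rfl, hci, ← hΛ, inv_mul_cancel₀ hΛ0]
        · have hk' : k.val < m₁ := by
            have h1 : k.val ≠ m₁ := fun h => hki (Fin.ext h)
            have e1 := Fin.val_rev k
            omega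
          rw [hδ1 k hk', one_mul]
          exact hdiag k hk'
      have : g = d⁻¹ * (d * g) := by rw [inv_mul_cancel_left]
      rw [this]
      exact mul_mem (inv_mem hdK) (UJ_le_KK hW hS hF (by omega) p hmem)
    | succ d ih =>
      intro j hj g hg hg' hdiag
      have hjm : j + 1 ≤ m₁ := by omega
      set ij : Fin n := ⟨j, by omega⟩ with hij
      set ij1 : Fin n := ⟨j + 1, by omega⟩ with hij1
      have hijv : ij.val = j := rfl
      have hij1v : ij1.val = j + 1 := rfl
      have hi0v : i₀.val = 0 := rfl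
      have hrijv : (Fin.rev ij).val = n - (j + 1) := by rw [Fin.val_rev]
      have hrij1v : (Fin.rev ij1).val = n - (j + 1 + 1) := by rw [Fin.val_rev]
      have hri0v : (Fin.rev i₀).val = n - 1 := by rw [Fin.val_rev]
      have hQ : Quad ij ij1 := by
        refine ⟨?_, ?_, ?_, ?_⟩ <;>
        · intro h
          have := congrArg Fin.val h
          omega
      set l := co σ P ij (g.1.1 *ᵥ bb P ij) with hl
      have hl0 : l ≠ 0 := diag_ne_zero hW hg hg' ij
      have hD := hT_isDiag hW hS hQ (inv_ne_zero hl0)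
      set h := hT hS P ij ij1 l⁻¹ with hh
      have hhK : h ∈ KK hW p := by
        by_cases hj0 : j = 0
        · apply hT_mem_KK_first hW hS hF hn p _ _ (inv_ne_zero hl0)
          · show j = 0
            exact hj0
          · show j + 1 = 1
            omega
        · apply hT_mem_KK_other hW hS hF hn p (i₀ := i₀) rfl hQ _ _ _ _ (inv_ne_zero hl0) <;>
          · intro h
            have := congrArg Fin.val h
            omega
      have hfl : FlagStab σ P (h * g) := (hD.flagStab hW hS).mul hg
      have hfl' : FlagStab σ P (h * g)⁻¹ := by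
        rw [_root_.mul_inv_rev]
        exact hg'.mul ((hD.inv hW).flagStab hW hS)
      have hmem : h * g ∈ KK hW p := by
        apply ih (j + 1) (by omega) _ hfl hfl'
        intro k hk
        rw [su_mul_mulVec, hD.co_apply hW hS]
        by_cases hki : k = ij
        · rw [hki]
          unfold hTδ
          rw [if_pos rfl, ← hl, inv_mul_cancel₀ hl0]
        · have hk' : k.val < j := by
            have h1 : k.val ≠ j := fun h => hki (Fin.ext h)
            omega
          have k2 : k ≠ ij1 := by
            intro h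
            have := congrArg Fin.val h
            omega
          have k3 : k ≠ Fin.rev ij := by
            intro h
            have := congrArg Fin.val h
            omega
          have k4 : k ≠ Fin.rev ij1 := by
            intro h
            have := congrArg Fin.val h
            omega
          unfold hTδ
          rw [if_neg hki, if_neg k2, if_neg k3, if_neg k4, one_mul]
          exact hdiag k hk'
      have : g = h⁻¹ * (h * g) := by rw [inv_mul_cancel_left]
      rw [this]
      exact mul_mem (inv_mem hhK) hmem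
  exact key m₁ 0 (by omega) g hg hg' (fun i hi => absurd hi (Nat.not_lt_zero _))

/-- the normalizer of `UBar` is generated by the local `p`-generators -/
theorem normalizer_UBar_le (hW : WF σ P) (hS : Frob σ q) (hF : Fintype.card F = q ^ 2)
    (hn : 4 ≤ n) (p : ℕ) [Fact p.Prime] [CharP F p] :
    Subgroup.normalizer ((UBar hW : Subgroup (Cfsg.PSU n F q)) : Set _) ≤
      Subgroup.closure (genSet p (UBar (q := q) hW)) := by
  intro x hx
  obtain ⟨z, rfl⟩ := prjU_surjective x
  obtain ⟨h1, h2⟩ := flagStab_of_prjU_mem_normalizer hW hS hF (by omega) p hx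
  exact mem_KK_of_flagStab hW hS hF hn p h1 h2

end Cfsg.Agent.Lib.Helper86.PSUFus
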