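import Cfsg.Agent.Lib.Helper86.PSUFusK

/-!
# `PSU_n(q)`: fusion-closed subgroups of the unipotent subgroup contain all transvections of it
(helper86)
-/

set_option autoImplicit false
set_option linter.unusedSectionVars false

namespace Cfsg.Agent.Lib.Helper86.PSUFus

open Matrix Cfsg.Agent.S0837 Cfsg.Agent.S0781 Cfsg.Agent.S2644 Cfsg.Agent.Lib.Helper37
  Cfsg.Agent.Lib.Helper45.PSUAut Cfsg.Agent.Lib.Helper45.PSLAut
  Cfsg.Agent.Lib.Helper86.FusSimple Cfsg.Agent.Lib.Helper98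

variable {F : Type*} [Field F] [Fintype F] {q n : ℕ} {σ : F →+* F}
  {P : Matrix (Fin n) (Fin n) F}

/-- strong closure, lifted to `SU` -/
theorem sc_lift (hW : WF σ P) {T : Subgroup (Cfsg.PSU n F q)}
    (hT : FusionCyclicQuot.FusClosed T (UBar hW)) {x : ↥(Cfsg.SU n F q)}
    (hx : x ∈ T.comap (prjU n F q)) (g : ↥(Cfsg.SU n F q)) (hg : g * x * g⁻¹ ∈ UJ hW) :
    g * x * g⁻¹ ∈ T.comap (prjU n F q) := by
  have := hT _ hx (prjU n F q g) (by
    rw [← map_inv, ← map_mul, ← map_mul]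
    exact Subgroup.mem_map_of_mem _ hg)
  rw [← map_inv, ← map_mul, ← map_mul] at this
  exact this

/-- transvections centred in the first half of the flag lie in `UJ` -/
theorem tS_mem_UJ_of_inV (hW : WF σ P) (hS : Frob σ q) {k : ℕ} (hk : 2 * k ≤ n)
    {v : Fin n → F} (hv : InV σ P k v) {c : F} (hc : c + σ c = 0) : tS hS v c ∈ UJ hW := by
  have hvv : hf σ v v = 0 := hW.hf_of_inV hS hv hv (by omega)
  apply mem_UJ_of_unip
  intro l x hx
  rw [tS_mulVec hS hvv hc, add_sub_cancel_left]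
  by_cases hl : l + 1 + k ≤ n
  · rw [hW.hf_of_inV hS hx hv hl, mul_zero, zero_smul]
    exact inV_zero_vec l
  · exact (hv.mono (by omega)).smul _

/-- changing the last parameter of a Siegel element -/
theorem sS_change_c (hS : Frob σ q) {e u : Fin n → F} {c c' : F} (h : SV σ e u c)
    (h' : SV σ e u c') : sS hS e u c = sS hS e u c' * tS hS e (c - c') := by
  have htr : (c - c') + σ (c - c') = 0 := by
    rw [map_sub]
    linear_combination h.tr - h'.tr
  rw [← sS_zero_eq_tS hS h.iso htr, sS_mul hS h' (SV.of_tr0 h.iso htr)]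
  congr 1
  · rw [add_zero]
  · rw [hf_zero_left]
    ring

/-- a product of two transvections with orthogonal centres is a Siegel element -/
theorem tS_mul_tS_eq_sS (hS : Frob σ q) {e z : Fin n → F} (he : hf σ e e = 0)
    (hz : hf σ z z = 0) (hze : hf σ z e = 0) {γ : F} (hγ : γ + σ γ = 0) (κ : F) :
    SV σ e ((γ * σ κ) • z) (γ * κ * σ κ) ∧
      tS hS (z + κ • e) γ * tS hS z (-γ) = sS hS e ((γ * σ κ) • z) (γ * κ * σ κ) := by
  have hez : hf σ e z = 0 := hS.hf_eq_zero_symm hze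
  have hσγ : σ γ = -γ := by linear_combination hγ
  have hv : SV σ e ((γ * σ κ) • z) (γ * κ * σ κ) := by
    refine ⟨he, ?_, ?_⟩
    · rw [hf_smul_left, hze, mul_zero]
    · rw [hf_smul_left, hf_smul_right, hz, map_mul, map_mul, hS.invol, hσγ]
      ring
  refine ⟨hv, ?_⟩
  have hzz : hf σ (z + κ • e) (z + κ • e) = 0 := by
    simp only [hf_add_left, hf_add_right, hf_smul_left, hf_smul_right, he, hz, hze, hez]
    ring
  apply su_ext
  intro x
  rw [su_mul_mulVec, tS_mulVec hS hz (tr0_neg hγ), tS_mulVec hS hzz hγ, sS_mulVec hS hv]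
  simp only [hf_add_left, hf_add_right, hf_smul_left, hf_smul_right, hz, hze, map_mul, hS.invol,
    hσγ]
  module

/-- a fusion-closed nontrivial subgroup of `UBar` contains a central transvection -/
theorem exists_tS_mem (hW : WF σ P) (hS : Frob σ q) (hF : Fintype.card F = q ^ 2) (hn : 3 ≤ n)
    (p : ℕ) [Fact p.Prime] [CharP F p] {i₀ : Fin n} (h0 : i₀.val = 0)
    {T : Subgroup (Cfsg.PSU n F q)} (hTS : T ≤ UBar hW)
    (hT : FusionCyclicQuot.FusClosed T (UBar hW)) (hTbot : T ≠ ⊥) :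
    ∃ a : F, a ≠ 0 ∧ a + σ a = 0 ∧ tS hS (bb P i₀) a ∈ T.comap (prjU n F q) := by
  have hlt : i₀.val < (Fin.rev i₀).val := by
    rw [rev_first_val h0, h0]
    omega
  have hne := ne_rev_of_lt hlt
  have hP : IsPGroup p (UBar (q := q) hW) := isPGroup_UBar hW p
  have hnorm : (T.subgroupOf (UBar hW)).Normal := by
    constructor
    intro x hx g
    rw [Subgroup.mem_subgroupOf] at hx ⊢
    exact hT _ hx (g : Cfsg.PSU n F q)
      ((UBar hW).mul_mem ((UBar hW).mul_mem g.2 x.2) ((UBar hW).inv_mem g.2))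
  have hne' : T.subgroupOf (UBar hW) ≠ ⊥ := by
    intro h
    rw [Subgroup.subgroupOf_eq_bot, disjoint_iff, inf_eq_left.2 hTS] at h
    exact hTbot h
  obtain ⟨z, hzT, hzo, hzc⟩ := FusionCentralConj.exists_central_of_normal p hP
    (T.subgroupOf (UBar hW)) hne'
  rw [Subgroup.mem_subgroupOf] at hzT
  obtain ⟨z₀, hz₀U, hz₀z⟩ := z.2
  have hz₀c : ∀ u ∈ UJ hW, z₀ * u = u * z₀ := by
    intro u hu
    obtain ⟨k, hk⟩ := exists_pow_of_mem_UJ hW p hu
    apply comm_of_mk_comm hF (by omega) p hk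
    have h1 : (QuotientGroup.mk z₀ : Cfsg.PSU n F q) = (z : Cfsg.PSU n F q) := hz₀z
    rw [h1]
    have := hzc ⟨prjU n F q u, Subgroup.mem_map_of_mem _ hu⟩
    exact (congrArg Subtype.val this).symm
  obtain ⟨a, ha, hza⟩ := centralizer_Q hS hn (hW.hp_bb hne) (z := z₀)
    (fun u c _ hv => hz₀c _ (QS_le_UJ hW hS (by omega) h0 (sS_mem_QS hS hv)))
  refine ⟨a, ?_, ha, ?_⟩
  · rintro rfl
    have h1 : (z : Cfsg.PSU n F q) = 1 := by
      rw [← hz₀z, prjU_apply, hza]
      unfold tb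
      rw [tS_zero hS (hW.iso_bb hne)]
      rfl
    have h3 : z = 1 := Subtype.ext h1
    rw [h3, orderOf_one] at hzo
    exact (Fact.out : p.Prime).one_lt.ne hzo
  · show prjU n F q (tS hS (bb P i₀) a) ∈ T
    have : prjU n F q (tS hS (bb P i₀) a) = (z : Cfsg.PSU n F q) := by
      rw [← hz₀z, prjU_apply, prjU_apply, hza]
      rfl
    rw [this]
    exact hzT

/-- all transvections of `UJ` lie in a nontrivial fusion-closed subgroup -/
theorem all_tS_mem (hW : WF σ P) (hS : Frob σ q) (hn : 3 ≤ n) {i₀ : Fin n}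
    (hi₀ : i₀ ≠ Fin.rev i₀)
    {T : Subgroup (Cfsg.PSU n F q)} (hT : FusionCyclicQuot.FusClosed T (UBar hW))
    {a : F} (ha0 : a ≠ 0) (ha : a + σ a = 0) (haT : tS hS (bb P i₀) a ∈ T.comap (prjU n F q))
    {v : Fin n → F} {c : F} (hv : hf σ v v = 0) (hc : c + σ c = 0) (hU : tS hS v c ∈ UJ hW) :
    tS hS v c ∈ T.comap (prjU n F q) := by
  by_cases hv0 : v = 0
  · rw [hv0, tS_zero_left]
    exact one_mem _
  by_cases hc0 : c = 0
  · rw [hc0, tS_zero hS hv]
    exact one_mem _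
  have hσa : σ a = -a := by linear_combination ha
  have hσc : σ c = -c := by linear_combination hc
  have hfix : σ (c / a) = c / a := by
    rw [map_div₀, hσa, hσc, neg_div_neg_eq]
  obtain ⟨κ, hκ⟩ := Cfsg.Agent.Lib.Helper13.exists_norm_eq σ hS.ne hS.invol (c / a)
    (div_ne_zero hc0 ha0) hfix
  have hκ0 : κ ≠ 0 := by
    rintro rfl
    rw [zero_mul] at hκ
    exact div_ne_zero hc0 ha0 hκ.symm
  have hv' : hf σ (κ • v) (κ • v) = 0 := iso_smul κ hv
  obtain ⟨t, ht, htb⟩ := rel_isotropic σ hS.ne hS.invol hn (bb P i₀) (κ • v)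
    (hW.bb_ne_zero i₀) (smul_ne_zero hκ0 hv0) (hW.iso_bb hi₀) hv'
  set s := suOfTG hS t ht with hs
  have hsb : s.1.1 *ᵥ bb P i₀ = κ • v := by
    rw [hs, suOfTG_mat]
    exact htb
  have hconj : s * tS hS (bb P i₀) a * s⁻¹ = tS hS v c := by
    rw [conj_tS hS s (hW.iso_bb hi₀) ha, hsb, tS_smul hS κ hv ha, hκ, div_mul_cancel₀ c ha0]
  rw [← hconj]
  apply sc_lift hW hT haT
  rw [hconj]
  exact hU

end Cfsg.Agent.Lib.Helper86.PSUFus
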