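import Cfsg.Agent.Lib.Helper86.PSUFusL

/-!
# `PSU_n(q)`: a fusion-closed subgroup containing the transvections of `UJ` contains the point
radical (helper86)
-/

set_option autoImplicit false
set_option linter.unusedSectionVars false

namespace Cfsg.Agent.Lib.Helper86.PSUFus

open Matrix Cfsg.Agent.S0837 Cfsg.Agent.S0781 Cfsg.Agent.S2644 Cfsg.Agent.Lib.Helper37
  Cfsg.Agent.Lib.Helper45.PSUAut Cfsg.Agent.Lib.Helper45.PSLAut
  Cfsg.Agent.Lib.Helper86.FusSimple Cfsg.Agent.Lib.Helper98

variable {F : Type*} [Field F] [Fintype F] {q n : ℕ} {σ : F →+* F}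
  {P : Matrix (Fin n) (Fin n) F}

/-- all Siegel elements with centre `e` and parameter `u` lie in `T'` -/
def GoodU (hS : Frob σ q) (T' : Subgroup ↥(Cfsg.SU n F q)) (e u : Fin n → F) : Prop :=
  ∀ c, SV σ e u c → sS hS e u c ∈ T'

section good

variable {hS : Frob σ q} {T' : Subgroup ↥(Cfsg.SU n F q)} {e : Fin n → F}

theorem goodU_of_exists (hte : ∀ c, c + σ c = 0 → tS hS e c ∈ T') {u : Fin n → F}
    (h : ∃ c, SV σ e u c ∧ sS hS e u c ∈ T') : GoodU hS T' e u := by
  obtain ⟨c₀, hv₀, hm⟩ := h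
  intro c hv
  rw [sS_change_c hS hv hv₀]
  apply mul_mem hm
  apply hte
  rw [map_sub]
  linear_combination hv.tr - hv₀.tr

theorem goodU_zero (hte : ∀ c, c + σ c = 0 → tS hS e c ∈ T') : GoodU hS T' e 0 := by
  intro c hv
  have hc : c + σ c = 0 := by
    have := hv.tr
    rwa [hf_zero_left, add_zero] at this
  rw [sS_zero_eq_tS hS hv.iso hc]
  exact hte c hc

theorem goodU_add (hte : ∀ c, c + σ c = 0 → tS hS e c ∈ T') (he : hf σ e e = 0)
    {u₁ u₂ : Fin n → F} (h₁ : hf σ u₁ e = 0) (h₂ : hf σ u₂ e = 0) (g₁ : GoodU hS T' e u₁)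
    (g₂ : GoodU hS T' e u₂) : GoodU hS T' e (u₁ + u₂) := by
  obtain ⟨c₁, hv₁⟩ := exists_SV hS he h₁
  obtain ⟨c₂, hv₂⟩ := exists_SV hS he h₂
  apply goodU_of_exists hte
  refine ⟨_, hv₁.mul hS hv₂, ?_⟩
  rw [← sS_mul hS hv₁ hv₂]
  exact mul_mem (g₁ c₁ hv₁) (g₂ c₂ hv₂)

end good

/-! ### the three kinds of frame directions -/

section dirs

variable (hW : WF σ P) (hS : Frob σ q) (hn : 4 ≤ n) {T : Subgroup (Cfsg.PSU n F q)}
  (hT : FusionCyclicQuot.FusClosed T (UBar hW)) {i₀ : Fin n} (h0 : i₀.val = 0)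
  (hts : ∀ (v : Fin n → F) (c : F), hf σ v v = 0 → c + σ c = 0 → tS hS v c ∈ UJ hW →
    tS hS v c ∈ T.comap (prjU n F q))

include hn h0 hts in
theorem hte_first : ∀ c, c + σ c = 0 → tS hS (bb P i₀) c ∈ T.comap (prjU n F q) := by
  intro c hc
  have hlt : i₀.val < (Fin.rev i₀).val := by
    rw [rev_first_val h0, h0]
    omega
  exact hts _ _ (hW.iso_bb (ne_rev_of_lt hlt)) hc (tS_mem_UJ hW hS hlt hc)

include hn h0 hts in
/-- directions in the first half -/
theorem goodU_alpha {j : Fin n} (hj1 : 1 ≤ j.val) (hj : j.val < (Fin.rev j).val) (a : F) :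
    GoodU hS (T.comap (prjU n F q)) (bb P i₀) (a • bb P j) := by
  have hlt : i₀.val < (Fin.rev i₀).val := by
    rw [rev_first_val h0, h0]
    omega
  have he := hW.iso_bb (ne_rev_of_lt hlt)
  have hz := hW.iso_bb (ne_rev_of_lt hj)
  have hrj := Fin.val_rev j
  have hze : hf σ (bb P j) (bb P i₀) = 0 := by
    rw [hW.gram_bb, if_neg]
    intro h
    have := congrArg Fin.val h
    omega
  obtain ⟨ε, hε0, hε⟩ := exists_trace_zero_ne σ hS.ne hS.invol
  apply goodU_of_exists (hte_first hW hS hn h0 hts)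
  obtain ⟨hv, heq⟩ := tS_mul_tS_eq_sS hS he hz hze hε (σ (a / ε))
  have ha : ε * σ (σ (a / ε)) = a := by
    rw [hS.invol]
    field_simp
  rw [ha] at hv heq
  refine ⟨_, hv, ?_⟩
  rw [← heq]
  apply mul_mem
  · have hk : 2 * (j.val + 1) ≤ n := by omega
    have hv' : InV σ P (j.val + 1) (bb P j + σ (a / ε) • bb P i₀) :=
      (hW.inV_bb j).add ((hW.inV_bb_of_lt (by omega)).smul _)
    apply hts _ _ (hW.hf_of_inV hS hv' hv' (by omega)) hε (tS_mem_UJ_of_inV hW hS hk hv' hε)
  · exact hts _ _ hz (tr0_neg hε) (tS_mem_UJ hW hS hj (tr0_neg hε))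

include hn hT h0 hts in
/-- directions in the second half -/
theorem goodU_beta {j : Fin n} (hj : (Fin.rev j).val < j.val) (hj2 : j.val + 2 ≤ n) (a : F) :
    GoodU hS (T.comap (prjU n F q)) (bb P i₀) (a • bb P j) := by
  have hlt : i₀.val < (Fin.rev i₀).val := by
    rw [rev_first_val h0, h0]
    omega
  have he := hW.iso_bb (ne_rev_of_lt hlt)
  have hrj := Fin.val_rev j
  have hri0 := rev_first_val h0
  have hjj : j ≠ Fin.rev j := by
    intro h
    rw [← h] at hj
    exact lt_irrefl _ hj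
  have hz := hW.iso_bb hjj
  obtain ⟨ε, hε0, hε⟩ := exists_trace_zero_ne σ hS.ne hS.invol
  have hte := hte_first hW hS hn h0 hts
  set j' := Fin.rev j with hj'
  have hj'1 : 1 ≤ j'.val := by omega
  have hj'lt : j'.val < (Fin.rev j').val := by
    rw [hj', Fin.rev_rev]
    exact hj
  have hperp' : ∀ b : F, hf σ (b • bb P j') (bb P i₀) = 0 := by
    intro b
    rw [hf_smul_left, hW.gram_bb, if_neg, mul_zero]
    intro h
    have := congrArg Fin.val h
    rw [Fin.val_rev] at this
    omega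
  have hperp : ∀ b : F, hf σ (b • bb P j) (bb P i₀) = 0 := by
    intro b
    rw [hf_smul_left, hW.gram_bb, if_neg, mul_zero]
    intro h
    have := congrArg Fin.val h
    omega
  have gα := goodU_alpha hW hS hn h0 hts hj'1 hj'lt
  set a' := a / ε with ha'
  obtain ⟨c₀, hv₀⟩ := exists_SV hS he (hperp' a')
  have hx := gα a' c₀ hv₀
  set t := tS hS (bb P j) ε with ht
  have hte' : t.1.1 *ᵥ bb P i₀ = bb P i₀ := by
    apply tS_mulVec_of_perp hS hz hε
    rw [hW.gram_bb, if_neg]
    intro h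
    have := congrArg Fin.val h
    omega
  have htu : t.1.1 *ᵥ (a' • bb P j') = a' • (bb P j' + ε • bb P j) := by
    rw [Matrix.mulVec_smul, ht, tS_mulVec hS hz hε, hW.gram_bb, if_pos (by rw [hj', Fin.rev_rev]),
      mul_one]
  have hconj := conj_sS hS t hv₀
  rw [hte', htu] at hconj
  have hv₁ : SV σ (bb P i₀) (a' • (bb P j' + ε • bb P j)) c₀ := by
    have := hv₀.conj hS t
    rwa [hte', htu] at this
  have hU : sS hS (bb P i₀) (a' • (bb P j' + ε • bb P j)) c₀ ∈ UJ hW := by
    apply sS_mem_UJ hW hS hlt _ hv₁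
    apply InV.smul
    apply InV.add
    · apply hW.inV_bb_of_lt
      omega
    · apply InV.smul
      apply hW.inV_bb_of_lt
      omega
  have h1 : GoodU hS (T.comap (prjU n F q)) (bb P i₀) (a' • (bb P j' + ε • bb P j)) := by
    apply goodU_of_exists hte
    refine ⟨c₀, hv₁, ?_⟩
    rw [← hconj]
    apply sc_lift hW hT hx
    rw [hconj]
    exact hU
  have h2 := goodU_add hte he hv₁.perp (hperp' (-a')) h1 (gα (-a'))
  have e1 : a' • (bb P j' + ε • bb P j) + -a' • bb P j' = a • bb P j := by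
    rw [ha']
    match_scalars
    · ring
    · field_simp
  rwa [e1] at h2

include hn hT h0 hts in
/-- the middle direction -/
theorem goodU_gamma {j : Fin n} (hj : j = Fin.rev j) (hn5 : 5 ≤ n) (a : F) :
    GoodU hS (T.comap (prjU n F q)) (bb P i₀) (a • bb P j) := by
  have hlt : i₀.val < (Fin.rev i₀).val := by
    rw [rev_first_val h0, h0]
    omega
  have he := hW.iso_bb (ne_rev_of_lt hlt)
  have hri0 := rev_first_val h0
  have hrj := Fin.val_rev j
  have hjv : 2 * j.val + 1 = n := by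
    have := congrArg Fin.val hj
    have := j.2
    omega
  have hte := hte_first hW hS hn h0 hts
  set i₁ : Fin n := ⟨1, by omega⟩ with hi₁
  have hi1v : i₁.val = 1 := rfl
  set r₁ := Fin.rev i₁ with hr₁
  have hr1v : r₁.val = n - 2 := by rw [hr₁, Fin.val_rev]
  have hrr : Fin.rev r₁ = i₁ := by rw [hr₁, Fin.rev_rev]
  have hi1lt : i₁.val < (Fin.rev i₁).val := by
    rw [← hr₁, hr1v, hi1v]
    omega
  have hr1ne : r₁ ≠ Fin.rev r₁ := by
    rw [hrr]
    intro h
    have := congrArg Fin.val h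
    omega
  have hz1 := hW.iso_bb hr1ne
  have hperp1 : hf σ (a • bb P j) (bb P r₁) = 0 := by
    rw [hf_smul_left, hW.gram_bb, if_neg, mul_zero]
    intro h
    have := congrArg Fin.val h
    omega
  obtain ⟨c₁, hv₁⟩ := exists_SV hS hz1 hperp1
  set s := sS hS (bb P r₁) (a • bb P j) c₁ with hs
  have hse : s.1.1 *ᵥ bb P i₀ = bb P i₀ := by
    apply sS_fix hS
    · rw [hW.gram_bb, if_neg]
      intro h
      have := congrArg Fin.val h
      omega
    · rw [hf_smul_right, hW.gram_bb, if_neg, mul_zero]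
      intro h
      have := congrArg Fin.val h
      omega
  have hsb : s.1.1 *ᵥ ((1 : F) • bb P i₁) =
      (1 : F) • (bb P i₁ + (a • bb P j + c₁ • bb P r₁)) := by
    rw [one_smul, one_smul, hs, sS_mulVec hS hv₁, hW.gram_bb, if_pos hr₁, one_smul,
      hf_smul_right, hW.gram_bb, if_neg, mul_zero, zero_smul, sub_zero]
    intro h
    have := congrArg Fin.val h
    omega
  have hperpA : ∀ b : F, hf σ (b • bb P i₁) (bb P i₀) = 0 := by
    intro b
    rw [hf_smul_left, hW.gram_bb, if_neg, mul_zero]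
    intro h
    have := congrArg Fin.val h
    omega
  have hperpB : ∀ b : F, hf σ (b • bb P r₁) (bb P i₀) = 0 := by
    intro b
    rw [hf_smul_left, hW.gram_bb, if_neg, mul_zero]
    intro h
    have := congrArg Fin.val h
    omega
  have gα := goodU_alpha hW hS hn h0 hts (j := i₁) (by omega) hi1lt
  have gβ := goodU_beta hW hS hn hT h0 hts (j := r₁) (by rw [hrr, hr1v, hi1v]; omega) (by omega)
  obtain ⟨c₀, hv₀⟩ := exists_SV hS he (hperpA 1)
  have hx := gα 1 c₀ hv₀
  have hconj := conj_sS hS s hv₀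
  rw [hse, hsb] at hconj
  have hv₂ : SV σ (bb P i₀) ((1 : F) • (bb P i₁ + (a • bb P j + c₁ • bb P r₁))) c₀ := by
    have := hv₀.conj hS s
    rwa [hse, hsb] at this
  have hU : sS hS (bb P i₀) ((1 : F) • (bb P i₁ + (a • bb P j + c₁ • bb P r₁))) c₀ ∈ UJ hW := by
    apply sS_mem_UJ hW hS hlt _ hv₂
    apply InV.smul
    apply InV.add
    · apply hW.inV_bb_of_lt
      omega
    · apply InV.add
      · apply InV.smul
        apply hW.inV_bb_of_lt
        omega
      · apply InV.smul
        apply hW.inV_bb_of_lt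
        omega
  have h1 : GoodU hS (T.comap (prjU n F q)) (bb P i₀)
      ((1 : F) • (bb P i₁ + (a • bb P j + c₁ • bb P r₁))) := by
    apply goodU_of_exists hte
    refine ⟨c₀, hv₂, ?_⟩
    rw [← hconj]
    apply sc_lift hW hT hx
    rw [hconj]
    exact hU
  have h2 := goodU_add hte he hv₂.perp (hperpA (-1)) h1 (gα (-1))
  have h3 := goodU_add hte he (by
    rw [hf_add_left, hv₂.perp, hperpA, add_zero]) (hperpB (-c₁)) h2 (gβ (-c₁))
  have e1 : (1 : F) • (bb P i₁ + (a • bb P j + c₁ • bb P r₁)) + (-1 : F) • bb P i₁ +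
      -c₁ • bb P r₁ = a • bb P j := by
    module
  rwa [e1] at h3

include hn hT h0 hts in
/-- the point radical lies in `T'` -/
theorem QS_le_T' : QS (σ := σ) (q := q) (bb P i₀) ≤ T.comap (prjU n F q) := by
  intro g hg
  have hlt : i₀.val < (Fin.rev i₀).val := by
    rw [rev_first_val h0, h0]
    omega
  have hne := ne_rev_of_lt hlt
  have he := hW.iso_bb hne
  have hri0 := rev_first_val h0
  have hte := hte_first hW hS hn h0 hts
  obtain ⟨w, c, hw, hv, rfl⟩ := exists_sS_of_mem_QS hS (hW.hp_bb hne) hg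
  have key : hf σ (∑ j, co σ P j w • bb P j) (bb P i₀) = 0 ∧
      GoodU hS (T.comap (prjU n F q)) (bb P i₀) (∑ j, co σ P j w • bb P j) := by
    apply Finset.sum_induction _ (fun u => hf σ u (bb P i₀) = 0 ∧
      GoodU hS (T.comap (prjU n F q)) (bb P i₀) u)
    · rintro u₁ u₂ ⟨h₁, g₁⟩ ⟨h₂, g₂⟩
      exact ⟨by rw [hf_add_left, h₁, h₂, add_zero], goodU_add hte he h₁ h₂ g₁ g₂⟩
    · exact ⟨hf_zero_left σ _, goodU_zero hte⟩
    · intro j _
      by_cases hj0 : j = i₀
      · have : co σ P j w = 0 := by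
          rw [hj0]
          exact hw.2
        rw [this, zero_smul]
        exact ⟨hf_zero_left σ _, goodU_zero hte⟩
      by_cases hjr : j = Fin.rev i₀
      · have : co σ P j w = 0 := by
          rw [hjr, co_rev]
          exact hw.1
        rw [this, zero_smul]
        exact ⟨hf_zero_left σ _, goodU_zero hte⟩
      have hj1 : 1 ≤ j.val := by
        have : j.val ≠ 0 := fun h => hj0 (Fin.ext (by rw [h, h0]))
        omega
      have hj2 : j.val + 2 ≤ n := by
        have : j.val ≠ n - 1 := fun h => hjr (Fin.ext (by rw [h, hri0]))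
        have := j.2
        omega
      refine ⟨?_, ?_⟩
      · rw [hf_smul_left, hW.gram_bb, if_neg, mul_zero]
        intro h
        apply hjr
        rw [h, Fin.rev_rev]
      · rcases lt_trichotomy j.val (Fin.rev j).val with h | h | h
        · exact goodU_alpha hW hS hn h0 hts hj1 h _
        · have hjj : j = Fin.rev j := Fin.ext h
          have hn5 : 5 ≤ n := by
            rw [Fin.val_rev] at h
            omega
          exact goodU_gamma hW hS hn hT h0 hts hjj hn5 _
        · exact goodU_beta hW hS hn hT h0 hts h hj2 _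
  rw [← hW.expand w] at key
  exact key.2 c hv

end dirs

end Cfsg.Agent.Lib.Helper86.PSUFus
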