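import Cfsg.Agent.Lib.Helper45.PSpAut.Central
import Cfsg.Agent.Lib.Helper86.PSLUnitriB

/-!
# `Sp_2m(F)`: the standard flag and the unipotent subgroup `UUsp` (helper86)
-/

set_option autoImplicit false
set_option linter.unusedSectionVars false

namespace Cfsg.Agent.Lib.Helper86.PSpFus

open Matrix Cfsg.Agent.Lib.Helper13 Cfsg.Agent.Lib.Helper45.PSLAut Cfsg.Agent.Lib.Helper45.PSpAut

variable {m : ℕ} {F : Type*} [Field F]

local notation "Spm" => Matrix.symplecticGroup (Fin m) F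
local notation "Vec" => Fin m ⊕ Fin m → F

/-- position in the ordered basis `e_0, …, e_{m-1}, f_{m-1}, …, f_0` -/
def pos : Fin m ⊕ Fin m → ℕ
  | Sum.inl i => i
  | Sum.inr i => 2 * m - 1 - i

theorem pos_inl (i : Fin m) : pos (Sum.inl i : Fin m ⊕ Fin m) = i := rfl

theorem pos_inr (i : Fin m) : pos (Sum.inr i : Fin m ⊕ Fin m) = 2 * m - 1 - i := rfl

/-- membership in the `k`-th term of the standard flag -/
def InV (k : ℕ) (x : Vec) : Prop := ∀ a, k ≤ pos a → x a = 0

theorem inV_mono {k k' : ℕ} (h : k ≤ k') {x : Vec} (hx : InV k x) : InV k' x :=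
  fun a ha => hx a (h.trans ha)

theorem inV_zero_iff {x : Vec} : InV 0 x ↔ x = 0 :=
  ⟨fun h => funext fun a => h a (Nat.zero_le _), fun h a _ => by rw [h]; rfl⟩

theorem inV_add {k : ℕ} {x y : Vec} (hx : InV k x) (hy : InV k y) : InV k (x + y) := by
  intro a ha
  rw [Pi.add_apply, hx a ha, hy a ha, add_zero]

theorem inV_sub {k : ℕ} {x y : Vec} (hx : InV k x) (hy : InV k y) : InV k (x - y) := by
  intro a ha
  rw [Pi.sub_apply, hx a ha, hy a ha, sub_zero]

theorem inE_of_inV {k : ℕ} (hk : k ≤ m) {x : Vec} (hx : InV k x) : InE x := by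
  intro i
  apply hx
  rw [pos_inr]
  have := i.2
  omega

/-- unipotent action on the standard flag -/
def Unip (u : Spm) : Prop := ∀ (k : ℕ) (x : Vec), InV (k + 1) x → InV k (u.1 *ᵥ x - x)

theorem Unip.stab {u : Spm} (hu : Unip u) {k : ℕ} {x : Vec} (hx : InV k x) : InV k (u.1 *ᵥ x) := by
  rcases k with _ | k
  · rw [inV_zero_iff] at hx ⊢
    rw [hx, Matrix.mulVec_zero]
  · have h1 := inV_mono (Nat.le_succ k) (hu k x hx)
    have := inV_add h1 hx
    rwa [sub_add_cancel] at this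

theorem Unip.mul {u u' : Spm} (hu : Unip u) (hu' : Unip u') : Unip (u * u') := by
  intro k x hx
  rw [sp_mul_mulVec]
  have h1 : InV k (u'.1 *ᵥ x - x) := hu' k x hx
  have h2 : InV k (u.1 *ᵥ (u'.1 *ᵥ x - x)) := hu.stab h1
  have h3 : InV k (u.1 *ᵥ x - x) := hu k x hx
  have := inV_add h2 h3
  rw [Matrix.mulVec_sub] at this
  convert this using 1
  abel

theorem unip_QQ {u : Spm} (hu : u ∈ QQ m F) : Unip u := by
  intro k x hx a ha
  by_cases hk : k + 1 ≤ m
  · rw [hu x (inE_of_inV hk hx), sub_self]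
    rfl
  · rcases a with i | i
    · rw [pos_inl] at ha
      have := i.2
      omega
    · exact QQ_sub_inE hu x i

theorem leviSL_mulVec_inl (a : Matrix.SpecialLinearGroup (Fin m) F) (x : Vec) (i : Fin m) :
    ((leviSL a).1 *ᵥ x) (Sum.inl i) =
      ∑ j, (a : Matrix (Fin m) (Fin m) F) i j * x (Sum.inl j) := by
  rw [leviSL_coe, Matrix.fromBlocks_mulVec, Sum.elim_inl, Matrix.zero_mulVec, add_zero]
  rfl

theorem leviSL_mulVec_inr (a : Matrix.SpecialLinearGroup (Fin m) F) (x : Vec) (i : Fin m) :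
    ((leviSL a).1 *ᵥ x) (Sum.inr i) =
      ∑ j, ((a⁻¹ : Matrix.SpecialLinearGroup (Fin m) F) : Matrix (Fin m) (Fin m) F) j i *
        x (Sum.inr j) := by
  rw [leviSL_coe, Matrix.fromBlocks_mulVec, Sum.elim_inr, Matrix.zero_mulVec, zero_add]
  rfl

theorem unip_LL [Finite F] {u : Spm} (hu : u ∈ LL m F) : Unip u := by
  obtain ⟨a, ha0, rfl⟩ := hu
  have ha : a ∈ UU m F := ha0
  have ha' : a⁻¹ ∈ UU m F := (UU m F).inv_mem ha
  rw [mem_UU] at ha ha'
  intro k x hx b hb
  rcases b with i | i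
  · rw [Pi.sub_apply]
    show ((leviSL a).1 *ᵥ x) (Sum.inl i) - x (Sum.inl i) = 0
    rw [leviSL_mulVec_inl, sub_eq_zero, Finset.sum_eq_single i]
    · rw [ha i i le_rfl, one_apply_eq, one_mul]
    · intro j _ hji
      rcases lt_or_gt_of_ne hji with h | h
      · rw [ha i j h.le, one_apply_ne (Ne.symm hji), zero_mul]
      · rw [hx (Sum.inl j) (by rw [pos_inl] at hb ⊢; omega), mul_zero]
    · intro h
      exact absurd (Finset.mem_univ i) h
  · rw [Pi.sub_apply]
    show ((leviSL a).1 *ᵥ x) (Sum.inr i) - x (Sum.inr i) = 0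
    rw [leviSL_mulVec_inr, sub_eq_zero, Finset.sum_eq_single i]
    · rw [ha' i i le_rfl, one_apply_eq, one_mul]
    · intro j _ hji
      rcases lt_or_gt_of_ne hji with h | h
      · rw [hx (Sum.inr j) (by
          rw [pos_inr] at hb ⊢
          have := i.2
          have hh : (j : ℕ) < i := h
          omega), mul_zero]
      · rw [ha' j i h.le, one_apply_ne hji, zero_mul]
    · intro h
      exact absurd (Finset.mem_univ i) h

theorem exists_mul_of_mem_UUsp [Finite F] {u : Spm} (hu : u ∈ UUsp m F) :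
    ∃ l ∈ LL m F, ∃ q ∈ QQ m F, u = l * q := by
  have h : (u : Spm) ∈ ((LL m F ⊔ QQ m F : Subgroup Spm) : Set Spm) := hu
  rw [Subgroup.coe_mul_of_left_le_normalizer_right (LL m F) (QQ m F) LL_le_normalizer] at h
  obtain ⟨l, hl, q, hq, rfl⟩ := h
  exact ⟨l, hl, q, hq, rfl⟩

theorem unip_of_mem_UUsp [Finite F] {u : Spm} (hu : u ∈ UUsp m F) : Unip u := by
  obtain ⟨l, hl, q, hq, rfl⟩ := exists_mul_of_mem_UUsp hu
  exact (unip_LL hl).mul (unip_QQ hq)

theorem inV_eL (i : Fin m) : InV ((i : ℕ) + 1) (eL i : Vec) := by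
  intro a ha
  rcases a with k | k
  · rw [eL_inl, if_neg]
    intro h
    rw [pos_inl, h] at ha
    omega
  · exact eL_inr i k

/-- elements of `UUsp` are unitriangular on `E` -/
theorem flag_of_mem_UUsp [Finite F] {u : Spm} (hu : u ∈ UUsp m F) (i : Fin m) :
    (∀ k : Fin m, (u.1 *ᵥ (eL i)) (Sum.inr k) = 0) ∧
    (∀ k : Fin m, i < k → (u.1 *ᵥ (eL i)) (Sum.inl k) = 0) ∧
    (u.1 *ᵥ (eL i)) (Sum.inl i) = 1 := by
  have h1 := unip_of_mem_UUsp hu (i : ℕ) (eL i) (inV_eL i)
  refine ⟨fun k => ?_, fun k hik => ?_, ?_⟩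
  · have := h1 (Sum.inr k) (by rw [pos_inr]; have := k.2; have := i.2; omega)
    rw [Pi.sub_apply, eL_inr, sub_zero] at this
    exact this
  · have := h1 (Sum.inl k) (by rw [pos_inl]; exact hik.le)
    rw [Pi.sub_apply, eL_inl, if_neg (ne_of_gt hik), sub_zero] at this
    exact this
  · have := h1 (Sum.inl i) (by rw [pos_inl])
    rw [Pi.sub_apply, eL_inl, if_pos rfl, sub_eq_zero] at this
    exact this

/-- conversely, a symplectic matrix unitriangular on `E` lies in `UUsp` -/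
theorem mem_UUsp_of_flag [Finite F] {g : Spm}
    (h : ∀ i : Fin m, (∀ k : Fin m, (g.1 *ᵥ (eL i)) (Sum.inr k) = 0) ∧
      (∀ k : Fin m, i < k → (g.1 *ᵥ (eL i)) (Sum.inl k) = 0) ∧
      (g.1 *ᵥ (eL i)) (Sum.inl i) = 1) : g ∈ UUsp m F := by
  set A : Matrix (Fin m) (Fin m) F := Matrix.of fun k i => (g.1 *ᵥ (eL i)) (Sum.inl k) with hA
  have hAle : ∀ i j : Fin m, j ≤ i → A i j = (1 : Matrix (Fin m) (Fin m) F) i j := by
    intro i j hji
    rcases eq_or_lt_of_le hji with hij | hij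
    · rw [hij, one_apply_eq]
      exact (h i).2.2
    · rw [one_apply_ne (ne_of_gt hij)]
      exact (h j).2.1 i hij
  have hdet : A.det = 1 := by
    rw [det_of_isUpperTriangular]
    · apply Finset.prod_eq_one
      intro i _
      rw [hAle i i le_rfl, one_apply_eq]
    · intro i j hji
      have hji' : j < i := hji
      rw [hAle i j hji'.le, one_apply_ne (ne_of_gt hji')]
  set a : Matrix.SpecialLinearGroup (Fin m) F := ⟨A, hdet⟩ with ha
  have haU : a ∈ UU m F := by
    rw [mem_UU]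
    exact hAle
  have heq : ∀ i : Fin m, (leviSL a).1 *ᵥ (eL i) = g.1 *ᵥ (eL i) := by
    intro i
    funext b
    rcases b with k | k
    · rw [leviSL_mulVec_inl, Finset.sum_eq_single i]
      · rw [eL_inl, if_pos rfl, mul_one]
        rfl
      · intro j _ hji
        rw [eL_inl, if_neg hji, mul_zero]
      · intro hh
        exact absurd (Finset.mem_univ i) hh
    · rw [leviSL_mulVec_inr, (h i).1 k]
      apply Finset.sum_eq_zero
      intro j _
      rw [eL_inr, mul_zero]
  have hq : (leviSL a)⁻¹ * g ∈ QQ m F := by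
    intro y hy
    rw [sp_mul_mulVec]
    have h1 : g.1 *ᵥ y = (leviSL a).1 *ᵥ y := by
      conv_lhs => rw [inE_expand hy]
      conv_rhs => rw [inE_expand hy]
      rw [Matrix.mulVec_sum, Matrix.mulVec_sum]
      apply Finset.sum_congr rfl
      intro i _
      rw [Matrix.mulVec_smul, Matrix.mulVec_smul, heq]
    rw [h1, sp_inv_mulVec_mulVec]
  have : g = leviSL a * ((leviSL a)⁻¹ * g) := by rw [mul_inv_cancel_left]
  rw [this]
  exact Subgroup.mul_mem_sup (Subgroup.mem_map_of_mem _ haU) hq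

/-- shifting elements: for each position `≥ 1` an element of `UUsp` moving the coordinate down -/
theorem exists_shift [Finite F] (a : Fin m ⊕ Fin m) (ha : 1 ≤ pos a) :
    ∃ u ∈ UUsp m F, ∃ a' : Fin m ⊕ Fin m, pos a' + 1 = pos a ∧ ∃ ε : F, ε ≠ 0 ∧
      ∀ x : Vec, (u.1 *ᵥ x - x) a' = ε * x a := by
  rcases a with i | i
  · rw [pos_inl] at ha
    set i' : Fin m := ⟨(i : ℕ) - 1, by have := i.2; omega⟩ with hi'
    have hlt : i' < i := by
      rw [Fin.lt_def]
      show (i : ℕ) - 1 < i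
      omega
    refine ⟨aij i' i, aij_mem hlt, Sum.inl i', ?_, 1, one_ne_zero, fun x => ?_⟩
    · rw [pos_inl, pos_inl]
      show (i : ℕ) - 1 + 1 = i
      omega
    · rw [aij_mulVec (ne_of_lt hlt)]
      simp only [Pi.sub_apply, Pi.add_apply, Pi.smul_apply, smul_eq_mul, eL_inl, eR_inl, if_true,
        mul_one, mul_zero, sub_zero, one_mul, add_sub_cancel_left]
  · by_cases hi : (i : ℕ) + 1 < m
    · set i' : Fin m := ⟨(i : ℕ) + 1, hi⟩ with hi'
      have hlt : i < i' := by
        rw [Fin.lt_def]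
        show (i : ℕ) < (i : ℕ) + 1
        omega
      refine ⟨aij i i', aij_mem hlt, Sum.inr i', ?_, -1, neg_ne_zero.mpr one_ne_zero, fun x => ?_⟩
      · rw [pos_inr, pos_inr]
        show 2 * m - 1 - ((i : ℕ) + 1) + 1 = 2 * m - 1 - i
        omega
      · rw [aij_mulVec (ne_of_lt hlt)]
        simp only [Pi.sub_apply, Pi.add_apply, Pi.smul_apply, smul_eq_mul, eL_inr, eR_inr, if_true,
          mul_one, mul_zero, add_zero]
        ring
    · refine ⟨tvElt (eL i) 1, tvElt_mem_UUsp (inE_eL i) 1, Sum.inl i, ?_, 1, one_ne_zero,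
        fun x => ?_⟩
      · rw [pos_inr, pos_inl]
        have := i.2
        omega
      · rw [tvElt_mulVec, form_eL]
        simp only [Pi.sub_apply, Pi.add_apply, Pi.smul_apply, smul_eq_mul, eL_inl, if_true,
          mul_one, one_mul, add_sub_cancel_left]

end Cfsg.Agent.Lib.Helper86.PSpFus
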