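import Cfsg.Agent.Lib.Helper86.PSpFusA

/-!
# `PSp_2m(F)`: the normalizer of the unipotent subgroup stabilizes the standard flag (helper86)
-/

set_option autoImplicit false
set_option linter.unusedSectionVars false

namespace Cfsg.Agent.Lib.Helper86.PSpFus

open Matrix Cfsg.Agent.Lib.Helper13 Cfsg.Agent.Lib.Helper45.PSLAut Cfsg.Agent.Lib.Helper45.PSpAut

variable {m : ℕ} {F : Type*} [Field F]

local notation "Spm" => Matrix.symplecticGroup (Fin m) F
local notation "Vec" => Fin m ⊕ Fin m → F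

/-- the quotient map `Sp → PSp` -/
noncomputable def prjSp : Spm →* Cfsg.PSp m F :=
  QuotientGroup.mk' (Subgroup.center Spm)

theorem prjSp_apply (s : Spm) : prjSp s = (QuotientGroup.mk s : Cfsg.PSp m F) := rfl

theorem prjSp_surjective : Function.Surjective (prjSp : Spm → Cfsg.PSp m F) :=
  QuotientGroup.mk'_surjective _

/-- a central element of `p`-power order is trivial -/
theorem center_eq_one_of_pow (hm : 1 ≤ m) (p : ℕ) [Fact p.Prime] [CharP F p] {c : Spm}
    (hcc : c ∈ Subgroup.center Spm) {k : ℕ} (hcn : c ^ (p ^ k) = 1) : c = 1 := by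
  have : Nonempty (Fin m) := ⟨⟨0, by omega⟩⟩
  rcases Cfsg.Agent.Lib.Helper5.symplecticGroup_center_eq_one_or_neg_one c hcc with h1 | h1
  · exact Subtype.ext h1
  · have hneg : (-1 : F) = 1 := by
      rcases Nat.Prime.eq_two_or_odd' (Fact.out : p.Prime) with hp2 | hpodd
      · have h2 : (2 : F) = 0 := by
          have := CharP.cast_eq_zero F p
          rw [hp2] at this
          exact_mod_cast this
        linear_combination (-1 : F) * h2
      · have hodd : Odd (p ^ k) := hpodd.pow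
        have h3 := congrArg Subtype.val hcn
        rw [SubmonoidClass.coe_pow, h1, hodd.neg_one_pow] at h3
        have h4 := congrFun (congrFun h3 (Sum.inl ⟨0, by omega⟩)) (Sum.inl ⟨0, by omega⟩)
        simpa using h4
    apply Subtype.ext
    rw [h1]
    ext i j
    rw [Matrix.neg_apply, ← neg_one_mul, hneg, one_mul]
    rfl

/-- two elements of `p`-power order with the same image in `PSp` are equal -/
theorem eq_of_prjSp_eq_of_pow (hm : 1 ≤ m) (p : ℕ) [Fact p.Prime] [CharP F p] {x y : Spm} {k : ℕ}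
    (hx : x ^ (p ^ k) = 1) (hy : y ^ (p ^ k) = 1) (h : prjSp x = prjSp y) : x = y := by
  set c : Spm := x⁻¹ * y with hc
  have hcc : c ∈ Subgroup.center Spm := by
    rw [prjSp_apply, prjSp_apply, QuotientGroup.eq] at h
    exact h
  have hyc : y = x * c := by rw [hc, mul_inv_cancel_left]
  have hcomm : Commute x c := (Subgroup.mem_center_iff.mp hcc x : x * c = c * x)
  have hcn : c ^ (p ^ k) = 1 := by
    have h1 := hy
    rw [hyc, hcomm.mul_pow, hx, one_mul] at h1
    exact h1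
  rw [hyc, center_eq_one_of_pow hm p hcc hcn, mul_one]

/-- the image of `UUsp` in `PSp` -/
noncomputable def UBarSp (m : ℕ) (F : Type*) [Field F] [Finite F] : Subgroup (Cfsg.PSp m F) :=
  (UUsp m F).map prjSp

theorem exists_pow_of_mem_UUsp [Fintype F] (p : ℕ) [Fact p.Prime] [CharP F p] {u : Spm}
    (hu : u ∈ UUsp m F) : ∃ k : ℕ, u ^ (p ^ k) = 1 := by
  obtain ⟨k, hk⟩ := (isPGroup_UUsp (m := m) (F := F) p) ⟨u, hu⟩
  refine ⟨k, ?_⟩
  have := congrArg Subtype.val hk
  simpa using this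

/-- membership in `UBarSp` lifts for elements of `p`-power order -/
theorem mem_UUsp_of_prjSp_mem [Fintype F] (hm : 1 ≤ m) (p : ℕ) [Fact p.Prime] [CharP F p] {x : Spm}
    {k : ℕ} (hx : x ^ (p ^ k) = 1) (h : prjSp x ∈ UBarSp m F) : x ∈ UUsp m F := by
  obtain ⟨u, hu, hux⟩ := h
  obtain ⟨k', hk'⟩ := exists_pow_of_mem_UUsp p hu
  have h1 : u ^ (p ^ (k + k')) = 1 := by
    rw [pow_add, mul_comm, pow_mul, hk', one_pow]
  have h2 : x ^ (p ^ (k + k')) = 1 := by
    rw [pow_add, pow_mul, hx, one_pow]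
  rw [← eq_of_prjSp_eq_of_pow hm p h1 h2 hux]
  exact hu

/-- an element of `Sp` normalizing `UBarSp` modulo the centre normalizes `UUsp` -/
theorem conj_mem_UUsp_of_prjSp_mem_normalizer [Fintype F] (hm : 1 ≤ m) (p : ℕ) [Fact p.Prime]
    [CharP F p] {g : Spm}
    (hg : prjSp g ∈ Subgroup.normalizer ((UBarSp m F : Subgroup (Cfsg.PSp m F)) : Set _)) :
    ∀ u ∈ UUsp m F, g * u * g⁻¹ ∈ UUsp m F := by
  intro u hu
  obtain ⟨k, hk⟩ := exists_pow_of_mem_UUsp p hu
  have h1 : (g * u * g⁻¹) ^ (p ^ k) = 1 := by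
    rw [conj_pow, hk, mul_one, mul_inv_cancel]
  apply mem_UUsp_of_prjSp_mem hm p h1
  rw [map_mul, map_mul, map_inv]
  exact (Subgroup.mem_normalizer_iff.1 hg _).1 (Subgroup.mem_map_of_mem _ hu)

/-- an element whose inverse-conjugation preserves `UUsp` stabilizes the standard flag -/
theorem flag_stab_of_conj [Finite F] {g : Spm} (hg : ∀ u ∈ UUsp m F, g⁻¹ * u * g ∈ UUsp m F) :
    ∀ (k : ℕ) (x : Vec), InV k x → InV k (g.1 *ᵥ x) := by
  intro k
  induction k with
  | zero =>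
    intro x hx
    rw [inV_zero_iff] at hx ⊢
    rw [hx, Matrix.mulVec_zero]
  | succ k ih =>
    intro x hx
    by_contra hcon
    unfold InV at hcon
    push Not at hcon
    obtain ⟨a, ha, hne⟩ := hcon
    obtain ⟨u, hu, a', ha', ε, hε, hux⟩ := exists_shift (F := F) a (by omega)
    have h1 : InV k ((g⁻¹ * u * g).1 *ᵥ x - x) := unip_of_mem_UUsp (hg u hu) k x hx
    have h2 := ih _ h1
    have h3 : g.1 *ᵥ ((g⁻¹ * u * g).1 *ᵥ x - x) = u.1 *ᵥ (g.1 *ᵥ x) - g.1 *ᵥ x := by
      have e1 : g * (g⁻¹ * u * g) = u * g := by group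
      rw [Matrix.mulVec_sub, ← sp_mul_mulVec, e1, sp_mul_mulVec]
    rw [h3] at h2
    have h4 := h2 a' (by omega)
    rw [hux] at h4
    rcases mul_eq_zero.mp h4 with h5 | h5
    · exact hε h5
    · exact hne h5

/-- the only index at position `i < m` is `inl i` -/
theorem eq_inl_of_pos_eq {a : Fin m ⊕ Fin m} {i : Fin m} (h : pos a = i) : a = Sum.inl i := by
  rcases a with k | k
  · rw [pos_inl] at h
    rw [Fin.ext h]
  · rw [pos_inr] at h
    have := k.2
    have := i.2
    omega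

theorem diag_ne_zero_of_flag_stab {g : Spm}
    (hg' : ∀ (k : ℕ) (x : Vec), InV k x → InV k ((g⁻¹).1 *ᵥ x))
    (hg : ∀ (k : ℕ) (x : Vec), InV k x → InV k (g.1 *ᵥ x)) (i : Fin m) :
    (g.1 *ᵥ (eL i)) (Sum.inl i) ≠ 0 := by
  intro h0
  have h1 : InV ((i : ℕ) + 1) (g.1 *ᵥ (eL i)) := hg _ _ (inV_eL i)
  have h2 : InV (i : ℕ) (g.1 *ᵥ (eL i)) := by
    intro a ha
    rcases Nat.eq_or_lt_of_le ha with h | h
    · rw [eq_inl_of_pos_eq h.symm]
      exact h0
    · exact h1 a h
  have h3 := hg' _ _ h2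
  rw [sp_inv_mulVec_mulVec] at h3
  have := h3 (Sum.inl i) (by rw [pos_inl])
  rw [eL_inl, if_pos rfl] at this
  exact one_ne_zero this

end Cfsg.Agent.Lib.Helper86.PSpFus
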