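import Cfsg.Agent.Lib.Helper86.PSpFusB

/-!
# `Sp_2m(F)`: torus elements and the Borel decomposition (helper86)
-/

set_option autoImplicit false
set_option linter.unusedSectionVars false

namespace Cfsg.Agent.Lib.Helper86.PSpFus

open Matrix Cfsg.Agent.Lib.Helper13 Cfsg.Agent.Lib.Helper45.PSLAut Cfsg.Agent.Lib.Helper45.PSpAut

variable {m : ℕ} {F : Type*} [Field F]

local notation "Spm" => Matrix.symplecticGroup (Fin m) F
local notation "Vec" => Fin m ⊕ Fin m → F

/-- the rank one torus element at the index `l`, as a product of four transvections -/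
noncomputable def hTor (l : Fin m) (τ : F) : Spm :=
  tvElt (eL l) (τ - 1) * tvElt (eR l) (-1) * tvElt (eL l) (τ⁻¹ - 1) * tvElt (eR l) τ

theorem hTor_mulVec (l : Fin m) {τ : F} (hτ : τ ≠ 0) (x : Vec) :
    (hTor l τ).1 *ᵥ x =
      x + ((τ - 1) * x (Sum.inl l)) • eL l + ((τ⁻¹ - 1) * x (Sum.inr l)) • eR l := by
  unfold hTor
  rw [sp_mul_mulVec, sp_mul_mulVec, sp_mul_mulVec, tvElt_mulVec, tvElt_mulVec, tvElt_mulVec,
    tvElt_mulVec]
  simp only [form_eL, form_eR]
  funext a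
  rcases a with k | k
  · simp only [Pi.add_apply, Pi.smul_apply, smul_eq_mul, eL_inl, eL_inr, eR_inl, eR_inr, mul_zero,
      add_zero, mul_one, if_true]
    by_cases hk : k = l
    · subst hk
      simp only [if_true, mul_one]
      field_simp
      ring
    · simp only [if_neg hk, mul_zero, add_zero]
  · simp only [Pi.add_apply, Pi.smul_apply, smul_eq_mul, eL_inl, eL_inr, eR_inl, eR_inr, mul_zero,
      add_zero, mul_one, if_true]
    by_cases hk : k = l
    · subst hk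
      simp only [if_true, mul_one]
      field_simp
      ring
    · simp only [if_neg hk, mul_zero, add_zero]

theorem hTor_eL (l : Fin m) {τ : F} (hτ : τ ≠ 0) (i : Fin m) :
    (hTor l τ).1 *ᵥ (eL i) = (if i = l then τ else 1) • (eL i : Vec) := by
  rw [hTor_mulVec l hτ, eL_inl, eL_inr, mul_zero, zero_smul, add_zero]
  by_cases h : l = i
  · subst h
    rw [if_pos rfl, if_pos rfl, mul_one]
    rw [sub_smul, one_smul]
    abel
  · rw [if_neg h, if_neg (Ne.symm h), mul_zero, zero_smul, add_zero, one_smul]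

/-- `d` acts diagonally on `E` with eigenvalues `D` -/
def DiagAct (d : Spm) (D : Fin m → F) : Prop := ∀ i : Fin m, d.1 *ᵥ (eL i) = D i • (eL i : Vec)

theorem DiagAct.mulVec_inl {d : Spm} {D : Fin m → F} (hd : DiagAct d D) {y : Vec} (hy : InE y)
    (k : Fin m) : (d.1 *ᵥ y) (Sum.inl k) = D k * y (Sum.inl k) := by
  conv_lhs => rw [inE_expand hy]
  rw [Matrix.mulVec_sum, Finset.sum_apply, Finset.sum_eq_single k]
  · rw [Matrix.mulVec_smul, hd k, Pi.smul_apply, Pi.smul_apply, eL_inl, if_pos rfl, smul_eq_mul,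
      smul_eq_mul, mul_one, mul_comm]
  · intro j _ hjk
    rw [Matrix.mulVec_smul, hd j, Pi.smul_apply, Pi.smul_apply, eL_inl, if_neg (Ne.symm hjk),
      smul_zero, smul_zero]
  · intro h
    exact absurd (Finset.mem_univ k) h

theorem DiagAct.mulVec_inr {d : Spm} {D : Fin m → F} (hd : DiagAct d D) {y : Vec} (hy : InE y)
    (k : Fin m) : (d.1 *ᵥ y) (Sum.inr k) = 0 := by
  conv_lhs => rw [inE_expand hy]
  rw [Matrix.mulVec_sum, Finset.sum_apply]
  apply Finset.sum_eq_zero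
  intro j _
  rw [Matrix.mulVec_smul, hd j, Pi.smul_apply, Pi.smul_apply, eL_inr, smul_zero, smul_zero]

theorem DiagAct.inv {d : Spm} {D : Fin m → F} (hd : DiagAct d D) (hD : ∀ i, D i ≠ 0) :
    DiagAct d⁻¹ (fun i => (D i)⁻¹) := by
  intro i
  have h1 : d.1 *ᵥ ((D i)⁻¹ • (eL i : Vec)) = eL i := by
    rw [Matrix.mulVec_smul, hd i, smul_smul, inv_mul_cancel₀ (hD i), one_smul]
  conv_lhs => rw [← h1]
  rw [sp_inv_mulVec_mulVec]

theorem DiagAct.mul {d d' : Spm} {D D' : Fin m → F} (hd : DiagAct d D) (hd' : DiagAct d' D') :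
    DiagAct (d * d') (fun i => D i * D' i) := by
  intro i
  rw [sp_mul_mulVec, hd' i, Matrix.mulVec_smul, hd i, smul_smul, mul_comm]

theorem DiagAct.conj_mem [Finite F] {d : Spm} {D : Fin m → F} (hd : DiagAct d D)
    (hD : ∀ i, D i ≠ 0) : ∀ u ∈ UUsp m F, d * u * d⁻¹ ∈ UUsp m F := by
  intro u hu
  apply mem_UUsp_of_flag
  intro i
  obtain ⟨f1, f2, f3⟩ := flag_of_mem_UUsp hu i
  have hy : InE (u.1 *ᵥ (eL i)) := f1
  have e1 : (d * u * d⁻¹).1 *ᵥ (eL i) = (D i)⁻¹ • d.1 *ᵥ (u.1 *ᵥ (eL i)) := by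
    rw [sp_mul_mulVec, sp_mul_mulVec, (hd.inv hD) i, Matrix.mulVec_smul, Matrix.mulVec_smul]
  refine ⟨fun k => ?_, fun k hik => ?_, ?_⟩
  · rw [e1, Pi.smul_apply, hd.mulVec_inr hy, smul_zero]
  · rw [e1, Pi.smul_apply, hd.mulVec_inl hy, f2 k hik, mul_zero, smul_zero]
  · rw [e1, Pi.smul_apply, hd.mulVec_inl hy, f3, mul_one, smul_eq_mul, inv_mul_cancel₀ (hD i)]

theorem DiagAct.mem_normalizer [Finite F] {d : Spm} {D : Fin m → F} (hd : DiagAct d D)
    (hD : ∀ i, D i ≠ 0) :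
    d ∈ Subgroup.normalizer ((UUsp m F : Subgroup Spm) : Set Spm) := by
  apply Cfsg.Agent.Lib.Helper86.PSLFus.mem_normalizer_of_conj _ _ (hd.conj_mem hD)
  intro u hu
  have := (hd.inv hD).conj_mem (fun i => inv_ne_zero (hD i)) u hu
  rwa [inv_inv] at this

theorem hTor_diagAct (l : Fin m) {τ : F} (hτ : τ ≠ 0) :
    DiagAct (hTor l τ) (fun i => if i = l then τ else 1) :=
  fun i => hTor_eL l hτ i

/-- the Levi image of a diagonal matrix acts diagonally -/
theorem leviSL_diagAct (s : Matrix.SpecialLinearGroup (Fin m) F) (D : Fin m → F)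
    (hs : (s : Matrix (Fin m) (Fin m) F) = diagonal D) : DiagAct (leviSL s) D := by
  intro i
  funext a
  rcases a with k | k
  · rw [leviSL_mulVec_inl, hs, Pi.smul_apply, eL_inl, smul_eq_mul, Finset.sum_eq_single i]
    · rw [eL_inl, if_pos rfl, mul_one, diagonal_apply]
      by_cases h : k = i
      · rw [if_pos h, if_pos h, mul_one, h]
      · rw [if_neg h, if_neg h, mul_zero]
    · intro j _ hji
      rw [eL_inl, if_neg hji, mul_zero]
    · intro h
      exact absurd (Finset.mem_univ i) h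
  · rw [leviSL_mulVec_inr, Pi.smul_apply, eL_inr, smul_zero]
    apply Finset.sum_eq_zero
    intro j _
    rw [eL_inr, mul_zero]

/-- the Borel decomposition: a flag-stabilizing element is a diagonal-acting element times an
element of `UUsp` -/
theorem exists_diag_mul_of_flag_stab [Finite F] {g : Spm}
    (hg : ∀ (k : ℕ) (x : Vec), InV k x → InV k (g.1 *ᵥ x))
    {d : Spm} {D : Fin m → F} (hd : DiagAct d D) (hD : ∀ i, D i ≠ 0)
    (hDg : ∀ i, (g.1 *ᵥ (eL i)) (Sum.inl i) = D i) : d⁻¹ * g ∈ UUsp m F := by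
  apply mem_UUsp_of_flag
  intro i
  have h1 : InV ((i : ℕ) + 1) (g.1 *ᵥ (eL i)) := hg _ _ (inV_eL i)
  have hy : InE (g.1 *ᵥ (eL i)) := inE_of_inV (by have := i.2; omega) h1
  refine ⟨fun k => ?_, fun k hik => ?_, ?_⟩
  · rw [sp_mul_mulVec, (hd.inv hD).mulVec_inr hy]
  · rw [sp_mul_mulVec, (hd.inv hD).mulVec_inl hy, h1 (Sum.inl k) (by
      rw [pos_inl]
      have : (i : ℕ) < k := hik
      omega), mul_zero]
  · rw [sp_mul_mulVec, (hd.inv hD).mulVec_inl hy, hDg i, inv_mul_cancel₀ (hD i)]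

end Cfsg.Agent.Lib.Helper86.PSpFus
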