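import Cfsg.Agent.Lib.Helper86.PSpFusC

/-!
# `PSp_2m(F)`: the two radical subgroups used for the torus, and their centralizers (helper86)
-/

set_option autoImplicit false
set_option linter.unusedSectionVars false

namespace Cfsg.Agent.Lib.Helper86.PSpFus

open Matrix Cfsg.Agent.Lib.Helper13 Cfsg.Agent.Lib.Helper45.PSLAut Cfsg.Agent.Lib.Helper45.PSpAut
  Cfsg.Agent.Lib.Helper86.FusSimple

variable {m : ℕ} {F : Type*} [Field F]

local notation "Spm" => Matrix.symplecticGroup (Fin m) F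
local notation "Vec" => Fin m ⊕ Fin m → F

/-- the unipotent radical of the stabilizer of the point `⟨e_{i₀}⟩` -/
def R1 (i₀ : Fin m) : Subgroup Spm where
  carrier := {g | g.1 *ᵥ (eL i₀) = (eL i₀ : Vec) ∧
    ∀ x : Vec, Cfsg.sympForm m F x (eL i₀) = 0 → ∃ c : F, g.1 *ᵥ x = x + c • (eL i₀ : Vec)}
  one_mem' := ⟨sp_one_mulVec _, fun x _ => ⟨0, by rw [sp_one_mulVec, zero_smul, add_zero]⟩⟩
  mul_mem' := by
    rintro a b ⟨ha1, ha2⟩ ⟨hb1, hb2⟩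
    refine ⟨by rw [sp_mul_mulVec, hb1, ha1], fun x hx => ?_⟩
    obtain ⟨c, hc⟩ := hb2 x hx
    obtain ⟨c', hc'⟩ := ha2 x hx
    refine ⟨c' + c, ?_⟩
    rw [sp_mul_mulVec, hc, Matrix.mulVec_add, Matrix.mulVec_smul, ha1, hc', add_smul, add_assoc]
  inv_mem' := by
    rintro a ⟨ha1, ha2⟩
    have h1 : (a⁻¹).1 *ᵥ (eL i₀) = (eL i₀ : Vec) := by
      conv_lhs => rw [← ha1]
      exact sp_inv_mulVec_mulVec a _
    refine ⟨h1, fun x hx => ?_⟩
    obtain ⟨c, hc⟩ := ha2 x hx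
    refine ⟨-c, ?_⟩
    have h2 : (a⁻¹).1 *ᵥ (a.1 *ᵥ x) = x := sp_inv_mulVec_mulVec a x
    rw [hc, Matrix.mulVec_add, Matrix.mulVec_smul, h1] at h2
    rw [neg_smul, ← sub_eq_add_neg, eq_sub_iff_add_eq]
    exact h2

theorem mem_R1 {i₀ : Fin m} {g : Spm} : g ∈ R1 (F := F) i₀ ↔ g.1 *ᵥ (eL i₀) = (eL i₀ : Vec) ∧
    ∀ x : Vec, Cfsg.sympForm m F x (eL i₀) = 0 → ∃ c : F, g.1 *ᵥ x = x + c • (eL i₀ : Vec) :=
  Iff.rfl

theorem R1_le_UUsp [Finite F] {i₀ : Fin m} (h0 : (i₀ : ℕ) = 0) : R1 (F := F) i₀ ≤ UUsp m F := by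
  rintro g ⟨hg1, hg2⟩
  apply mem_UUsp_of_flag
  intro i
  by_cases hi : i = i₀
  · subst hi
    rw [hg1]
    refine ⟨fun k => eL_inr i k, fun k hik => ?_, ?_⟩
    · rw [eL_inl, if_neg (ne_of_gt hik)]
    · rw [eL_inl, if_pos rfl]
  · obtain ⟨c, hc⟩ := hg2 (eL i) (form_inE (inE_eL i) (inE_eL i₀))
    rw [hc]
    refine ⟨fun k => ?_, fun k hik => ?_, ?_⟩
    · rw [Pi.add_apply, Pi.smul_apply, eL_inr, eL_inr, smul_zero, add_zero]
    · have hk : k ≠ i₀ := by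
        intro h
        rw [h, Fin.lt_def, h0] at hik
        omega
      rw [Pi.add_apply, Pi.smul_apply, eL_inl, eL_inl, if_neg (ne_of_gt hik), if_neg hk, smul_zero,
        add_zero]
    · rw [Pi.add_apply, Pi.smul_apply, eL_inl, eL_inl, if_pos rfl, if_neg hi, smul_zero, add_zero]

theorem conj_mem_R1 {i₀ : Fin m} {g : Spm} (hg : g.1 *ᵥ (eL i₀) = (eL i₀ : Vec)) :
    ∀ r ∈ R1 (F := F) i₀, g * r * g⁻¹ ∈ R1 (F := F) i₀ := by
  rintro r ⟨hr1, hr2⟩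
  have hg' : (g⁻¹).1 *ᵥ (eL i₀) = (eL i₀ : Vec) := by
    conv_lhs => rw [← hg]
    exact sp_inv_mulVec_mulVec g _
  refine ⟨by rw [sp_mul_mulVec, sp_mul_mulVec, hg', hr1, hg], fun x hx => ?_⟩
  have h1 : Cfsg.sympForm m F ((g⁻¹).1 *ᵥ x) (eL i₀) = 0 := by
    rw [sp_form_inv_left, hg, hx]
  obtain ⟨c, hc⟩ := hr2 _ h1
  refine ⟨c, ?_⟩
  rw [sp_mul_mulVec, sp_mul_mulVec, hc, Matrix.mulVec_add, sp_mulVec_inv_mulVec,
    Matrix.mulVec_smul, hg]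

theorem mem_normalizer_R1 {i₀ : Fin m} {g : Spm} (hg : g.1 *ᵥ (eL i₀) = (eL i₀ : Vec)) :
    g ∈ Subgroup.normalizer ((R1 (F := F) i₀ : Subgroup Spm) : Set Spm) := by
  apply Cfsg.Agent.Lib.Helper86.PSLFus.mem_normalizer_of_conj _ _ (conj_mem_R1 hg)
  intro r hr
  have hg' : (g⁻¹).1 *ᵥ (eL i₀) = (eL i₀ : Vec) := by
    conv_lhs => rw [← hg]
    exact sp_inv_mulVec_mulVec g _
  have := conj_mem_R1 hg' r hr
  rwa [inv_inv] at this

theorem mulVec_eL_zero_of_mem_UUsp [Finite F] {i₀ : Fin m} (h0 : (i₀ : ℕ) = 0) {u : Spm}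
    (hu : u ∈ UUsp m F) : u.1 *ᵥ (eL i₀) = (eL i₀ : Vec) := by
  obtain ⟨f1, f2, f3⟩ := flag_of_mem_UUsp hu i₀
  funext a
  rcases a with k | k
  · by_cases hk : k = i₀
    · rw [hk, f3, eL_inl, if_pos rfl]
    · rw [eL_inl, if_neg hk]
      apply f2
      rw [Fin.lt_def, h0]
      have : (k : ℕ) ≠ 0 := fun h => hk (Fin.ext (by rw [h, h0]))
      omega
  · rw [f1 k, eL_inr]

theorem UUsp_le_normalizer_R1 [Finite F] {i₀ : Fin m} (h0 : (i₀ : ℕ) = 0) :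
    UUsp m F ≤ Subgroup.normalizer ((R1 (F := F) i₀ : Subgroup Spm) : Set Spm) :=
  fun _ hu => mem_normalizer_R1 (mulVec_eL_zero_of_mem_UUsp h0 hu)

/-- the element `x ↦ x + ω(x,e) e + ω(x,e) w + ω(x,w) e` of `R1` -/
noncomputable def rw1 (i₀ : Fin m) (w : Vec) : Spm := tvElt (eL i₀ + w) 1 * tvElt w (-1)

theorem rw1_mulVec (i₀ : Fin m) {w : Vec} (hw : Cfsg.sympForm m F w (eL i₀) = 0) (x : Vec) :
    (rw1 i₀ w).1 *ᵥ x = x + Cfsg.sympForm m F x (eL i₀) • (eL i₀ : Vec) +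
      Cfsg.sympForm m F x (eL i₀) • w + Cfsg.sympForm m F x w • (eL i₀ : Vec) := by
  unfold rw1
  rw [sp_mul_mulVec, tvElt_mulVec, tvElt_mulVec]
  have hy : Cfsg.sympForm m F (x + (-1 * Cfsg.sympForm m F x w) • w) (eL i₀ + w) =
      Cfsg.sympForm m F x (eL i₀) + Cfsg.sympForm m F x w := by
    rw [sympForm_add_left, sympForm_smul_left, sympForm_add_right, sympForm_add_right, hw,
      sympForm_self]
    ring
  rw [hy]
  module

theorem rw1_mem_R1 (i₀ : Fin m) {w : Vec} (hw : Cfsg.sympForm m F w (eL i₀) = 0) :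
    rw1 i₀ w ∈ R1 (F := F) i₀ := by
  have hw' : Cfsg.sympForm m F (eL i₀) w = 0 := by rw [sympForm_swap, hw, neg_zero]
  refine ⟨?_, fun x hx => ⟨Cfsg.sympForm m F x w, ?_⟩⟩
  · rw [rw1_mulVec i₀ hw, sympForm_self, hw']
    simp only [zero_smul, add_zero]
  · rw [rw1_mulVec i₀ hw, hx]
    simp only [zero_smul, add_zero]

theorem tvElt_mem_R1 (i₀ : Fin m) (c : F) : tvElt (eL i₀) c ∈ R1 (F := F) i₀ := by
  refine ⟨tvElt_mulVec_of_perp (sympForm_self _) c, fun x hx => ⟨0, ?_⟩⟩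
  rw [tvElt_mulVec_of_perp hx, zero_smul, add_zero]

/-- multiplying a symplectic matrix by a sign -/
noncomputable def signSp (k : F) (hk : k * k = 1) (z : Spm) : Spm :=
  ⟨k • z.1, by
    rw [mem_symplecticGroup_iff]
    intro u v
    rw [Matrix.smul_mulVec, Matrix.smul_mulVec, sympForm_smul_left, sympForm_smul_right,
      sp_form, ← mul_assoc, hk, one_mul]⟩

theorem signSp_mulVec (k : F) (hk : k * k = 1) (z : Spm) (x : Vec) :
    (signSp k hk z).1 *ᵥ x = k • z.1 *ᵥ x := Matrix.smul_mulVec _ _ _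

theorem prjSp_signSp (k : F) (hk : k * k = 1) (z : Spm) : prjSp (signSp k hk z) = prjSp z := by
  rw [prjSp_apply, prjSp_apply, eq_comm, QuotientGroup.eq]
  apply mem_center_of_smul (a := k)
  intro x
  rw [sp_mul_mulVec, signSp_mulVec, Matrix.mulVec_smul, sp_inv_mulVec_mulVec]

/-- the centralizer of `R1` is contained in `± R1` -/
theorem exists_R1_rep (hm : 2 ≤ m) (i₀ : Fin m) {z : Spm}
    (h : ∀ r ∈ R1 (F := F) i₀, z * r = r * z) :
    ∃ z' ∈ R1 (F := F) i₀, prjSp z' = prjSp z := by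
  obtain ⟨k, hk, hke⟩ := centralizes_tv hm (eL_ne_zero i₀) (h _ (tvElt_mem_R1 i₀ 1))
  obtain ⟨x₀, hx₀⟩ := exists_form_eq_one (eL_ne_zero (F := F) i₀)
  have hk0 : k ≠ 0 := by
    rintro rfl
    rw [mul_zero] at hk
    exact zero_ne_one hk
  have hze : ∀ y : Vec, Cfsg.sympForm m F (z.1 *ᵥ y) (eL i₀) = k * Cfsg.sympForm m F y (eL i₀) := by
    intro y
    have h1 : Cfsg.sympForm m F (z.1 *ᵥ y) (z.1 *ᵥ (eL i₀)) = Cfsg.sympForm m F y (eL i₀) :=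
      sp_form z y _
    rw [hke, sympForm_smul_right] at h1
    calc Cfsg.sympForm m F (z.1 *ᵥ y) (eL i₀)
        = k * (k * Cfsg.sympForm m F (z.1 *ᵥ y) (eL i₀)) := by rw [← mul_assoc, hk, one_mul]
      _ = k * Cfsg.sympForm m F y (eL i₀) := by rw [h1]
  refine ⟨signSp k hk z, ⟨?_, fun w hw => ?_⟩, prjSp_signSp k hk z⟩
  · rw [signSp_mulVec, hke, smul_smul, hk, one_smul]
  · have hcomm := congrArg (fun s : Spm => s.1 *ᵥ x₀) (h _ (rw1_mem_R1 i₀ hw))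
    simp only [sp_mul_mulVec] at hcomm
    rw [rw1_mulVec i₀ hw, rw1_mulVec i₀ hw, hx₀, hze, hx₀, mul_one, one_smul, one_smul,
      Matrix.mulVec_add, Matrix.mulVec_add, Matrix.mulVec_add, Matrix.mulVec_smul, hke] at hcomm
    refine ⟨k * (Cfsg.sympForm m F (z.1 *ᵥ x₀) w - k * Cfsg.sympForm m F x₀ w), ?_⟩
    rw [signSp_mulVec]
    have h2 : z.1 *ᵥ w = k • w + (Cfsg.sympForm m F (z.1 *ᵥ x₀) w - k * Cfsg.sympForm m F x₀ w) •
        (eL i₀ : Vec) := by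
      linear_combination (norm := module) hcomm
    rw [h2, smul_add, smul_smul, smul_smul, hk, one_smul]

end Cfsg.Agent.Lib.Helper86.PSpFus
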