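import Cfsg.Agent.Lib.Helper86.PSpFusD

/-!
# `PSp_2m(F)`: the normalizer of the unipotent subgroup is generated by `p`-elements of
normalizers of radical subgroups (helper86)
-/

set_option autoImplicit false
set_option linter.unusedSectionVars false

namespace Cfsg.Agent.Lib.Helper86.PSpFus

open Matrix Cfsg.Agent.Lib.Helper13 Cfsg.Agent.Lib.Helper45.PSLAut Cfsg.Agent.Lib.Helper45.PSpAut
  Cfsg.Agent.Lib.Helper86.FusSimple

variable {m : ℕ} {F : Type*} [Field F] [Fintype F] {p : ℕ} [Fact p.Prime] [CharP F p]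

local notation "Spm" => Matrix.symplecticGroup (Fin m) F
local notation "Vec" => Fin m ⊕ Fin m → F

/-- the image of the Siegel radical -/
noncomputable def QBar (m : ℕ) (F : Type*) [Field F] : Subgroup (Cfsg.PSp m F) :=
  (QQ m F).map prjSp

/-- the image of the point radical -/
noncomputable def R1Bar (i₀ : Fin m) : Subgroup (Cfsg.PSp m F) :=
  (R1 (F := F) i₀).map prjSp

theorem exists_orderOf_of_pow_eq_one {G : Type*} [Group G] (p : ℕ) [Fact p.Prime] {g : G}
    (h : g ^ p = 1) : ∃ k : ℕ, orderOf g = p ^ k := by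
  have h2 := orderOf_dvd_of_pow_eq_one h
  rcases (Nat.dvd_prime (Fact.out : p.Prime)).1 h2 with h3 | h3
  · exact ⟨0, by rw [h3, pow_zero]⟩
  · exact ⟨1, by rw [h3, pow_one]⟩

theorem tvElt_pow (v : Vec) (c : F) (k : ℕ) : tvElt v c ^ k = tvElt v (k * c) := by
  induction k with
  | zero => rw [pow_zero, Nat.cast_zero, zero_mul, tvElt_zero]
  | succ k ih => rw [pow_succ, ih, tvElt_mul, Nat.cast_succ, add_mul, one_mul]

theorem tvElt_pow_char (p : ℕ) [CharP F p] (v : Vec) (c : F) : tvElt v c ^ p = 1 := by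
  rw [tvElt_pow, CharP.cast_eq_zero, zero_mul, tvElt_zero]

theorem UUsp_le_normalizer_QQ :
    UUsp m F ≤ Subgroup.normalizer ((QQ m F : Subgroup Spm) : Set Spm) :=
  sup_le LL_le_normalizer Subgroup.le_normalizer

theorem comm_lift (hm : 1 ≤ m) (p : ℕ) [Fact p.Prime] [CharP F p] {z u : Spm} (hu : u ∈ UUsp m F)
    (h : prjSp z * prjSp u = prjSp u * prjSp z) : z * u = u * z := by
  obtain ⟨k, hk⟩ := exists_pow_of_mem_UUsp p hu
  exact comm_of_mk_comm hm p hk h

theorem goodR_QBar (p : ℕ) [Fact p.Prime] [CharP F p] (hm : 2 ≤ m) :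
    GoodR (UBarSp m F) (QBar m F) := by
  refine ⟨Subgroup.map_mono le_sup_right, ?_, ?_⟩
  · exact (Subgroup.map_mono UUsp_le_normalizer_QQ).trans (Subgroup.le_normalizer_map _)
  · intro x hx
    obtain ⟨z, rfl⟩ := prjSp_surjective x
    have h1 : ∀ v : Vec, InE v → z * tvElt v 1 = tvElt v 1 * z := by
      intro v hv
      apply comm_lift (by omega) p (tvElt_mem_UUsp hv 1)
      exact hx _ (Subgroup.mem_map_of_mem _ (tvElt_mem_QQ hv 1))
    obtain ⟨z', hz'Q, hz'mk, -⟩ := exists_QQ_rep hm h1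
    exact ⟨z', hz'Q, hz'mk⟩

theorem goodR_R1Bar (p : ℕ) [Fact p.Prime] [CharP F p] (hm : 2 ≤ m) {i₀ : Fin m}
    (h0 : (i₀ : ℕ) = 0) : GoodR (UBarSp m F) (R1Bar (F := F) i₀) := by
  refine ⟨Subgroup.map_mono (R1_le_UUsp h0), ?_, ?_⟩
  · exact (Subgroup.map_mono (UUsp_le_normalizer_R1 h0)).trans (Subgroup.le_normalizer_map _)
  · intro x hx
    obtain ⟨z, rfl⟩ := prjSp_surjective x
    have h1 : ∀ r ∈ R1 (F := F) i₀, z * r = r * z := by
      intro r hr
      apply comm_lift (by omega) p (R1_le_UUsp h0 hr)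
      exact hx _ (Subgroup.mem_map_of_mem _ hr)
    obtain ⟨z', hz', hz'mk⟩ := exists_R1_rep hm i₀ h1
    exact ⟨z', hz', hz'mk⟩

/-! ### `p`-elements -/

theorem prjSp_tvElt_mem_pGen_R1Bar (p : ℕ) [Fact p.Prime] [CharP F p] {i₀ : Fin m} {v : Vec}
    (hv : Cfsg.sympForm m F (eL i₀) v = 0) (c : F) :
    prjSp (tvElt v c) ∈ pGen p (R1Bar (F := F) i₀) := by
  apply Subgroup.subset_closure
  refine ⟨?_, ?_⟩
  · apply Subgroup.le_normalizer_map
    exact ⟨_, mem_normalizer_R1 (tvElt_mulVec_of_perp hv c), rfl⟩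
  · apply exists_orderOf_of_pow_eq_one p
    rw [← map_pow, tvElt_pow_char, map_one]

theorem prjSp_hTor_mem_pGen_R1Bar (p : ℕ) [Fact p.Prime] [CharP F p] {i₀ l : Fin m} (hl : l ≠ i₀)
    (τ : F) : prjSp (hTor l τ) ∈ pGen p (R1Bar (F := F) i₀) := by
  have h1 : Cfsg.sympForm m F (eL i₀ : Vec) (eL l) = 0 := form_inE (inE_eL _) (inE_eL _)
  have h2 : Cfsg.sympForm m F (eL i₀ : Vec) (eR l) = 0 := by
    rw [form_eR, eL_inl, if_neg hl, neg_zero]
  unfold hTor
  simp only [map_mul]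
  exact mul_mem (mul_mem (mul_mem (prjSp_tvElt_mem_pGen_R1Bar p h1 _)
    (prjSp_tvElt_mem_pGen_R1Bar p h2 _)) (prjSp_tvElt_mem_pGen_R1Bar p h1 _))
    (prjSp_tvElt_mem_pGen_R1Bar p h2 _)

theorem leviSL_conj_mem_QQ (s : Matrix.SpecialLinearGroup (Fin m) F) :
    ∀ q ∈ QQ m F, leviSL s * q * (leviSL s)⁻¹ ∈ QQ m F := by
  intro q hq y hy
  have h1 : InE ((leviSL s)⁻¹.1 *ᵥ y) := by
    rw [← map_inv]
    exact leviSL_inE _ hy
  rw [sp_mul_mulVec, sp_mul_mulVec, hq _ h1, sp_mulVec_inv_mulVec]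

theorem leviSL_mem_normalizer_QQ (s : Matrix.SpecialLinearGroup (Fin m) F) :
    leviSL s ∈ Subgroup.normalizer ((QQ m F : Subgroup Spm) : Set Spm) := by
  apply Cfsg.Agent.Lib.Helper86.PSLFus.mem_normalizer_of_conj _ _ (leviSL_conj_mem_QQ s)
  intro q hq
  have := leviSL_conj_mem_QQ s⁻¹ q hq
  rwa [map_inv, inv_inv] at this

theorem prjSp_leviSL_transvection_mem_pGen_QBar (p : ℕ) [Fact p.Prime] [CharP F p] {i j : Fin m}
    (hij : i ≠ j) (c : F) :
    prjSp (leviSL (Matrix.SpecialLinearGroup.transvection hij c)) ∈ pGen p (QBar m F) := by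
  apply Subgroup.subset_closure
  refine ⟨?_, ?_⟩
  · apply Subgroup.le_normalizer_map
    exact ⟨_, leviSL_mem_normalizer_QQ _, rfl⟩
  · apply exists_orderOf_of_pow_eq_one p
    rw [← map_pow, ← map_pow, ← tv_eb_eq_transvection hij,
      Cfsg.Agent.Lib.Helper86.PSLFus.tv_pow
        (by rw [dotProduct_smul, eb_dot_eb_of_ne hij.symm, smul_zero])]
    have : (p • (eb j : Fin m → F)) = 0 := by
      funext k
      rw [Pi.smul_apply, nsmul_eq_mul, CharP.cast_eq_zero, zero_mul, Pi.zero_apply]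
    rw [this, tv_zero_right, map_one, map_one]

theorem prjSp_leviSL_diag2n_mem_pGen_QBar (p : ℕ) [Fact p.Prime] [CharP F p] {i j : Fin m}
    (hij : i ≠ j) (a : F) (ha : a ≠ 0) :
    prjSp (leviSL (Matrix.SpecialLinearGroup.diag2n hij a ha)) ∈ pGen p (QBar m F) := by
  rw [Cfsg.Agent.Lib.Helper5.diag2n_eq_prod_transvection hij a ha]
  simp only [map_mul]
  have h1 := fun c => prjSp_leviSL_transvection_mem_pGen_QBar (F := F) p hij c
  have h2 := fun c => prjSp_leviSL_transvection_mem_pGen_QBar (F := F) p hij.symm c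
  exact mul_mem (h1 _) (mul_mem (h2 _) (mul_mem (h1 _) (mul_mem (h1 _) (mul_mem (h2 _) (h1 _)))))

/-! ### The generating set -/

theorem isPGroup_UBarSp (p : ℕ) [Fact p.Prime] [CharP F p] : IsPGroup p (UBarSp m F) :=
  (isPGroup_UUsp p).map _

theorem UBarSp_le_closure_genSet (p : ℕ) [Fact p.Prime] [CharP F p] (hm : 2 ≤ m) :
    UBarSp m F ≤ Subgroup.closure (genSet p (UBarSp m F)) := by
  intro u hu
  apply Subgroup.subset_closure
  refine ⟨Subgroup.le_normalizer hu, _, goodR_QBar p hm, Subgroup.subset_closure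
    ⟨(goodR_QBar p hm).2.1 hu, ?_⟩⟩
  obtain ⟨k, hk⟩ := (IsPGroup.iff_orderOf.mp (isPGroup_UBarSp (m := m) (F := F) p)) ⟨u, hu⟩
  rw [Subgroup.orderOf_mk] at hk
  exact ⟨k, hk⟩

theorem prjSp_mem_normalizer_of_diagAct {d : Spm} {D : Fin m → F} (hd : DiagAct d D)
    (hD : ∀ i, D i ≠ 0) :
    prjSp d ∈ Subgroup.normalizer ((UBarSp m F : Subgroup (Cfsg.PSp m F)) : Set _) := by
  apply Subgroup.le_normalizer_map
  exact ⟨_, hd.mem_normalizer hD, rfl⟩

theorem diag2n_ne_zero {i j : Fin m} (a : F) (ha : a ≠ 0) (k : Fin m) :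
    (if k = i then a else if k = j then a⁻¹ else 1) ≠ 0 := by
  split_ifs
  · exact ha
  · exact inv_ne_zero ha
  · exact one_ne_zero

theorem prjSp_leviSL_diag_mem (p : ℕ) [Fact p.Prime] [CharP F p] (hm : 2 ≤ m) (D : Fin m → F)
    (hD : det (diagonal D) = 1) :
    prjSp (leviSL (Cfsg.Agent.Lib.Helper86.PSLFus.diagSL D hD)) ∈
      Subgroup.closure (genSet p (UBarSp m F)) := by
  set i₁ : Fin m := ⟨0, by omega⟩ with hi₁
  have hdiag : Cfsg.Agent.Lib.Helper86.PSLFus.diagSL D hD =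
      Finset.noncommProd {i : Fin m | i ≠ i₁} (fun i ↦ if hi : i ≠ i₁ then
      Matrix.SpecialLinearGroup.diag2n hi (D i) (Matrix.SpecialLinearGroup.diagonal_neZero D hD i)
        else 1)
      (Matrix.SpecialLinearGroup.diag_commute i₁ D hD) :=
    Matrix.SpecialLinearGroup.diag_eq_diag2n_prod i₁ D hD
  rw [hdiag]
  refine Finset.noncommProd_induction _ _ _
    (fun b : Matrix.SpecialLinearGroup (Fin m) F =>
      prjSp (leviSL b) ∈ Subgroup.closure (genSet p (UBarSp m F))) ?_ ?_ ?_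
  · intro a b ha hb
    show prjSp (leviSL (a * b)) ∈ _
    rw [map_mul, map_mul]
    exact mul_mem ha hb
  · show prjSp (leviSL (1 : Matrix.SpecialLinearGroup (Fin m) F)) ∈ _
    rw [map_one, map_one]
    exact one_mem _
  · intro i hi
    have hi1 : i ≠ i₁ := (Finset.mem_filter.1 hi).2
    show prjSp (leviSL (if hi : i ≠ i₁ then Matrix.SpecialLinearGroup.diag2n hi (D i) _ else 1)) ∈ _
    rw [dif_pos hi1]
    apply Subgroup.subset_closure
    refine ⟨?_, _, goodR_QBar p hm, prjSp_leviSL_diag2n_mem_pGen_QBar p hi1 _ _⟩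
    exact prjSp_mem_normalizer_of_diagAct
      (leviSL_diagAct _ _ (Matrix.SpecialLinearGroup.diag2n_coe hi1 _ _))
      (diag2n_ne_zero _ (Matrix.SpecialLinearGroup.diagonal_neZero D hD i))

theorem prjSp_hTor_mem (p : ℕ) [Fact p.Prime] [CharP F p] (hm : 2 ≤ m) {i₀ l : Fin m}
    (h0 : (i₀ : ℕ) = 0) (hl : l ≠ i₀) {τ : F} (hτ : τ ≠ 0) :
    prjSp (hTor l τ) ∈ Subgroup.closure (genSet p (UBarSp m F)) := by
  apply Subgroup.subset_closure
  refine ⟨?_, _, goodR_R1Bar p hm h0, prjSp_hTor_mem_pGen_R1Bar p hl τ⟩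
  apply prjSp_mem_normalizer_of_diagAct (hTor_diagAct l hτ)
  intro i
  split_ifs
  · exact hτ
  · exact one_ne_zero

/-- the normalizer of `UBarSp` is generated by the elements of the criterion -/
theorem normalizer_UBarSp_le (p : ℕ) [Fact p.Prime] [CharP F p] (hm : 2 ≤ m) :
    Subgroup.normalizer ((UBarSp m F : Subgroup (Cfsg.PSp m F)) : Set _) ≤
      Subgroup.closure (genSet p (UBarSp m F)) := by
  intro g hg
  obtain ⟨s, rfl⟩ := prjSp_surjective g
  have hg' : prjSp s⁻¹ ∈ Subgroup.normalizer ((UBarSp m F : Subgroup (Cfsg.PSp m F)) : Set _) := by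
    rw [map_inv]
    exact Subgroup.inv_mem _ hg
  have hm1 : 1 ≤ m := by omega
  have c1 := conj_mem_UUsp_of_prjSp_mem_normalizer hm1 p hg
  have c2 := conj_mem_UUsp_of_prjSp_mem_normalizer hm1 p hg'
  have f1 : ∀ (k : ℕ) (x : Vec), InV k x → InV k (s.1 *ᵥ x) := by
    apply flag_stab_of_conj
    intro u hu
    have := c2 u hu
    rwa [inv_inv] at this
  have f2 : ∀ (k : ℕ) (x : Vec), InV k x → InV k ((s⁻¹).1 *ᵥ x) := by
    apply flag_stab_of_conj
    intro u hu
    have := c1 u hu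
    rwa [inv_inv]
  set D : Fin m → F := fun i => (s.1 *ᵥ (eL i)) (Sum.inl i) with hDdef
  have hD : ∀ i, D i ≠ 0 := fun i => diag_ne_zero_of_flag_stab f2 f1 i
  set i₀ : Fin m := ⟨0, by omega⟩ with hi₀
  set l : Fin m := ⟨1, by omega⟩ with hl
  have hl0 : l ≠ i₀ := by
    intro h
    have := congrArg Fin.val h
    simp [hl, hi₀] at this
  set τ : F := ∏ i, D i with hτ
  have hτ0 : τ ≠ 0 := Finset.prod_ne_zero_iff.mpr (fun i _ => hD i)
  set D' : Fin m → F := fun i => D i * (if i = l then τ⁻¹ else 1) with hD'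
  have hdet : det (diagonal D') = 1 := by
    rw [det_diagonal, hD', Finset.prod_mul_distrib, Finset.prod_ite_eq' Finset.univ l (fun _ => τ⁻¹)]
    simp only [Finset.mem_univ, if_true]
    rw [← hτ, mul_inv_cancel₀ hτ0]
  set d : Spm := hTor l τ * leviSL (Cfsg.Agent.Lib.Helper86.PSLFus.diagSL D' hdet) with hd
  have hdact : DiagAct d D := by
    have h1 := (hTor_diagAct l hτ0).mul (leviSL_diagAct _ D'
      (Cfsg.Agent.Lib.Helper86.PSLFus.diagSL_coe D' hdet))
    intro i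
    rw [h1 i]
    congr 1
    show (if i = l then τ else 1) * (D i * (if i = l then τ⁻¹ else 1)) = D i
    by_cases h : i = l
    · rw [if_pos h, if_pos h]
      field_simp
    · rw [if_neg h, if_neg h, one_mul, mul_one]
  have hu : d⁻¹ * s ∈ UUsp m F := exists_diag_mul_of_flag_stab f1 hdact hD (fun i => rfl)
  have hs : s = d * (d⁻¹ * s) := by rw [mul_inv_cancel_left]
  rw [hs, map_mul, hd, map_mul]
  exact mul_mem (mul_mem (prjSp_hTor_mem p hm (i₀ := i₀) rfl hl0 hτ0)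
    (prjSp_leviSL_diag_mem p hm D' hdet))
    (UBarSp_le_closure_genSet p hm (Subgroup.mem_map_of_mem _ hu))

end Cfsg.Agent.Lib.Helper86.PSpFus
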