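import Cfsg.Agent.Lib.Helper86.PSpFusE

/-!
# `PSp_2m(F)`: the image of `UUsp` is a Sylow `p`-subgroup (helper86)
-/

set_option autoImplicit false
set_option linter.unusedSectionVars false

namespace Cfsg.Agent.Lib.Helper86.PSpFus

open Matrix Cfsg.Agent.Lib.Helper13 Cfsg.Agent.Lib.Helper45.PSLAut Cfsg.Agent.Lib.Helper45.PSpAut
  Cfsg.Agent.Lib.Helper86.FusSimple

variable {m : ℕ} {F : Type*} [Field F]

local notation "Spm" => Matrix.symplecticGroup (Fin m) F
local notation "Vec" => Fin m ⊕ Fin m → F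

theorem inV_smul {k : ℕ} (c : F) {x : Vec} (hx : InV k x) : InV k (c • x) := by
  intro a ha
  rw [Pi.smul_apply, hx a ha, smul_zero]

/-- the diagonal entry of a flag-stabilizing element is multiplicative -/
theorem flag_diag_mul {s : Spm} (hs : ∀ (k : ℕ) (x : Vec), InV k x → InV k (s.1 *ᵥ x)) (i : Fin m)
    {y : Vec} (hy : InV ((i : ℕ) + 1) y) :
    (s.1 *ᵥ y) (Sum.inl i) = (s.1 *ᵥ (eL i)) (Sum.inl i) * y (Sum.inl i) := by
  set y' : Vec := y - y (Sum.inl i) • (eL i : Vec) with hy'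
  have h1 : InV (i : ℕ) y' := by
    intro a ha
    rcases Nat.eq_or_lt_of_le ha with h | h
    · rw [eq_inl_of_pos_eq h.symm, hy', Pi.sub_apply, Pi.smul_apply, eL_inl, if_pos rfl, smul_eq_mul,
        mul_one, sub_self]
    · rw [hy', Pi.sub_apply, Pi.smul_apply, hy a h, inV_eL i a h, smul_zero, sub_zero]
  have h2 : y = y (Sum.inl i) • (eL i : Vec) + y' := by rw [hy']; abel
  have h3 := hs _ _ h1 (Sum.inl i) (by rw [pos_inl])
  conv_lhs => rw [h2]
  rw [Matrix.mulVec_add, Matrix.mulVec_smul, Pi.add_apply, Pi.smul_apply, h3, add_zero, smul_eq_mul,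
    mul_comm]

theorem flag_pow {s : Spm} (hs : ∀ (k : ℕ) (x : Vec), InV k x → InV k (s.1 *ᵥ x)) (n : ℕ) :
    ∀ (k : ℕ) (x : Vec), InV k x → InV k ((s ^ n).1 *ᵥ x) := by
  induction n with
  | zero =>
    intro k x hx
    rw [pow_zero, sp_one_mulVec]
    exact hx
  | succ n ih =>
    intro k x hx
    rw [pow_succ, sp_mul_mulVec]
    exact ih _ _ (hs _ _ hx)

theorem flag_diag_pow {s : Spm} (hs : ∀ (k : ℕ) (x : Vec), InV k x → InV k (s.1 *ᵥ x)) (i : Fin m)
    (n : ℕ) : ((s ^ n).1 *ᵥ (eL i)) (Sum.inl i) = ((s.1 *ᵥ (eL i)) (Sum.inl i)) ^ n := by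
  induction n with
  | zero => rw [pow_zero, sp_one_mulVec, pow_zero, eL_inl, if_pos rfl]
  | succ n ih =>
    rw [pow_succ', sp_mul_mulVec, flag_diag_mul hs i (flag_pow hs n _ _ (inV_eL i)), ih, pow_succ']

variable [Fintype F]

/-- a `p`-element normalizing `UBarSp` lies in `UBarSp` -/
theorem mem_UBarSp_of_mem_normalizer (p : ℕ) [Fact p.Prime] [CharP F p] (hm : 1 ≤ m)
    {x : Cfsg.PSp m F}
    (hx : x ∈ Subgroup.normalizer ((UBarSp m F : Subgroup (Cfsg.PSp m F)) : Set _)) {k : ℕ}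
    (hxk : x ^ (p ^ k) = 1) : x ∈ UBarSp m F := by
  have : Nonempty (Fin m) := ⟨⟨0, by omega⟩⟩
  obtain ⟨s, rfl⟩ := prjSp_surjective x
  have hx' : prjSp s⁻¹ ∈ Subgroup.normalizer ((UBarSp m F : Subgroup (Cfsg.PSp m F)) : Set _) := by
    rw [map_inv]
    exact Subgroup.inv_mem _ hx
  have c1 := conj_mem_UUsp_of_prjSp_mem_normalizer hm p hx
  have c2 := conj_mem_UUsp_of_prjSp_mem_normalizer hm p hx'
  have f1 : ∀ (k : ℕ) (x : Vec), InV k x → InV k (s.1 *ᵥ x) := by
    apply flag_stab_of_conj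
    intro u hu
    have := c2 u hu
    rwa [inv_inv] at this
  -- the power is central
  have hc : s ^ (p ^ k) ∈ Subgroup.center Spm := by
    rw [← map_pow, prjSp_apply, QuotientGroup.eq_one_iff] at hxk
    exact hxk
  -- a sign `ε` with `D i ^ (p ^ k) = ε`
  obtain ⟨ε, hε, hεpow, hεD⟩ : ∃ ε : F, ε * ε = 1 ∧ ε ^ (p ^ k) = ε ∧
      ∀ i : Fin m, ((s.1 *ᵥ (eL i)) (Sum.inl i)) ^ (p ^ k) = ε := by
    rcases Cfsg.Agent.Lib.Helper5.symplecticGroup_center_eq_one_or_neg_one _ hc with h1 | h1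
    · refine ⟨1, one_mul 1, one_pow _, fun i => ?_⟩
      rw [← flag_diag_pow f1, h1, Matrix.one_mulVec, eL_inl, if_pos rfl]
    · rcases Nat.Prime.eq_two_or_odd' (Fact.out : p.Prime) with hp2 | hpodd
      · have h2 : (2 : F) = 0 := by
          have := CharP.cast_eq_zero F p
          rw [hp2] at this
          exact_mod_cast this
        have hneg : (-1 : F) = 1 := by linear_combination (-1 : F) * h2
        refine ⟨1, one_mul 1, one_pow _, fun i => ?_⟩
        rw [← flag_diag_pow f1, h1, Matrix.neg_mulVec, Matrix.one_mulVec, Pi.neg_apply, eL_inl,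
          if_pos rfl, hneg]
      · have hodd : Odd (p ^ k) := hpodd.pow
        refine ⟨-1, by ring, hodd.neg_one_pow, fun i => ?_⟩
        rw [← flag_diag_pow f1, h1, Matrix.neg_mulVec, Matrix.one_mulVec, Pi.neg_apply, eL_inl,
          if_pos rfl]
  have hD : ∀ i : Fin m, (s.1 *ᵥ (eL i)) (Sum.inl i) = ε := by
    intro i
    have h1 : ((s.1 *ᵥ (eL i)) (Sum.inl i) - ε) ^ (p ^ k) = 0 := by
      rw [sub_pow_char_pow, hεD i, hεpow, sub_self]
    exact sub_eq_zero.mp ((pow_eq_zero_iff (pow_pos (Fact.out : p.Prime).pos k).ne').mp h1)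
  -- the representative `ε s`
  set s' : Spm := signSp ε hε s with hs'
  have f1' : ∀ (k : ℕ) (x : Vec), InV k x → InV k (s'.1 *ᵥ x) := by
    intro k x hx
    rw [hs', signSp_mulVec]
    exact inV_smul ε (f1 k x hx)
  have hone : DiagAct (1 : Spm) (fun _ : Fin m => (1 : F)) := by
    intro i
    rw [sp_one_mulVec, one_smul]
  have hmem : (1 : Spm)⁻¹ * s' ∈ UUsp m F := by
    apply exists_diag_mul_of_flag_stab f1' hone (fun _ => one_ne_zero)
    intro i
    rw [hs', signSp_mulVec, Pi.smul_apply, hD i, smul_eq_mul, hε]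
  rw [inv_one, one_mul] at hmem
  rw [← prjSp_signSp ε hε s]
  exact Subgroup.mem_map_of_mem _ hmem

/-- `UBarSp` is a Sylow `p`-subgroup of `PSp_2m(F)` -/
theorem exists_sylow_eq_UBarSp (p : ℕ) [Fact p.Prime] [CharP F p] (hm : 1 ≤ m) :
    ∃ S₀ : Sylow p (Cfsg.PSp m F), (S₀ : Subgroup (Cfsg.PSp m F)) = UBarSp m F := by
  obtain ⟨P, hP⟩ := (isPGroup_UBarSp (m := m) (F := F) p).exists_le_sylow
  refine ⟨P, ?_⟩
  by_contra hne
  have hlt : (UBarSp m F).subgroupOf (P : Subgroup (Cfsg.PSp m F)) < ⊤ := by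
    rw [lt_top_iff_ne_top]
    intro h
    rw [Subgroup.subgroupOf_eq_top] at h
    exact hne (le_antisymm h hP)
  have hnil : Group.IsNilpotent (P : Subgroup (Cfsg.PSp m F)) := P.isPGroup'.isNilpotent
  have hnc := Group.normalizerCondition_of_isNilpotent (G := (P : Subgroup (Cfsg.PSp m F))) _ hlt
  obtain ⟨y, hyN, hyU⟩ := SetLike.exists_of_lt hnc
  apply hyU
  rw [Subgroup.mem_subgroupOf]
  obtain ⟨k, hk⟩ := (P.isPGroup' : IsPGroup p (P : Subgroup (Cfsg.PSp m F))) y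
  have hk' : (y : Cfsg.PSp m F) ^ (p ^ k) = 1 := by
    have := congrArg Subtype.val hk
    simpa using this
  apply mem_UBarSp_of_mem_normalizer p hm _ hk'
  rw [Subgroup.mem_normalizer_iff]
  intro u
  constructor
  · intro hu
    have h1 := (Subgroup.mem_normalizer_iff.1 hyN ⟨u, hP hu⟩).1 (by
      rw [Subgroup.mem_subgroupOf]
      exact hu)
    rw [Subgroup.mem_subgroupOf] at h1
    exact h1
  · intro hu
    have huP : u ∈ (P : Subgroup (Cfsg.PSp m F)) := by
      have h2 : (y : Cfsg.PSp m F)⁻¹ * ((y : Cfsg.PSp m F) * u * (y : Cfsg.PSp m F)⁻¹) *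
          (y : Cfsg.PSp m F) = u := by group
      rw [← h2]
      exact mul_mem (mul_mem (inv_mem y.2) (hP hu)) y.2
    have h1 := (Subgroup.mem_normalizer_iff.1 hyN ⟨u, huP⟩).2 (by
      rw [Subgroup.mem_subgroupOf]
      exact hu)
    rw [Subgroup.mem_subgroupOf] at h1
    exact h1

end Cfsg.Agent.Lib.Helper86.PSpFus
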