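import Cfsg.Agent.Lib.Helper86.PSpFusF
import Cfsg.Agent.Lib.Helper45.PSpAut.Even1

/-!
# `Sp_2m(F)`: short root elements as products of transvections; generation of the Siegel radical
(helper86)
-/

set_option autoImplicit false
set_option linter.unusedSectionVars false

namespace Cfsg.Agent.Lib.Helper86.PSpFus

open Matrix Cfsg.Agent.Lib.Helper13 Cfsg.Agent.Lib.Helper45.PSLAut Cfsg.Agent.Lib.Helper45.PSpAut

variable {m : ℕ} {F : Type*} [Field F]

local notation "Spm" => Matrix.symplecticGroup (Fin m) F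
local notation "Vec" => Fin m ⊕ Fin m → F

/-- the "short root element" `x ↦ x + c ω(x,v) w + c ω(x,w) v` as a product of transvections -/
noncomputable def sr (v w : Vec) (c : F) : Spm := tvElt (v + w) c * tvElt v (-c) * tvElt w (-c)

theorem sr_mulVec {v w : Vec} (h : Cfsg.sympForm m F v w = 0) (c : F) (x : Vec) :
    (sr v w c).1 *ᵥ x = x + (c * Cfsg.sympForm m F x v) • w + (c * Cfsg.sympForm m F x w) • v := by
  have h' : Cfsg.sympForm m F w v = 0 := by rw [sympForm_swap, h, neg_zero]
  unfold sr
  rw [sp_mul_mulVec, sp_mul_mulVec, tvElt_mulVec, tvElt_mulVec, tvElt_mulVec]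
  simp only [sympForm_add_left, sympForm_add_right, sympForm_smul_left, sympForm_self, h, h',
    mul_zero, add_zero]
  module

theorem conj_sr (g : Spm) (v w : Vec) (c : F) :
    g * sr v w c * g⁻¹ = sr (g.1 *ᵥ v) (g.1 *ᵥ w) c := by
  unfold sr
  rw [← Matrix.mulVec_add, ← conj_tvElt, ← conj_tvElt, ← conj_tvElt]
  group

theorem conj_mul3 {G : Type*} [Group G] (g a b : G) :
    g * (a * b) * g⁻¹ = (g * a * g⁻¹) * (g * b * g⁻¹) := by group

theorem sr_mem_QQ {v w : Vec} (hv : InE v) (hw : InE w) (c : F) : sr v w c ∈ QQ m F :=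
  mul_mem (mul_mem (tvElt_mem_QQ (inE_add hv hw) c) (tvElt_mem_QQ hv _)) (tvElt_mem_QQ hw _)

/-- the product of two elements of `QQ` acts additively -/
theorem QQ_mul_mulVec {a b : Spm} (ha : a ∈ QQ m F) (hb : b ∈ QQ m F) (x : Vec) :
    (a * b).1 *ᵥ x = a.1 *ᵥ x + b.1 *ᵥ x - x := by
  have h1 : a.1 *ᵥ (b.1 *ᵥ x - x) = b.1 *ᵥ x - x := ha _ (QQ_sub_inE hb x)
  rw [sp_mul_mulVec]
  rw [Matrix.mulVec_sub] at h1
  rw [sub_eq_iff_eq_add] at h1
  rw [h1]
  abel

theorem IsR.eq_prod {i j : Fin m} {β b : F} {y : Spm} (hy : IsR i j β b y) :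
    y = tvElt (eL i) β * sr (eL i) (eL j) b := by
  apply sp_ext
  intro x
  rw [hy x, QQ_mul_mulVec (tvElt_mem_QQ (inE_eL i) β) (sr_mem_QQ (inE_eL i) (inE_eL j) b),
    tvElt_mulVec, sr_mulVec (form_inE (inE_eL i) (inE_eL j)), form_eL, form_eL]
  module

theorem isR_prod {i j : Fin m} (β b : F) : IsR i j β b (tvElt (eL i) β * sr (eL i) (eL j) b) := by
  intro x
  rw [QQ_mul_mulVec (tvElt_mem_QQ (inE_eL i) β) (sr_mem_QQ (inE_eL i) (inE_eL j) b),
    tvElt_mulVec, sr_mulVec (form_inE (inE_eL i) (inE_eL j)), form_eL, form_eL]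
  module

/-- the embedding of `F^m` onto `E` -/
def iotaE (w : Fin m → F) : Vec := Sum.elim w 0

theorem iotaE_inl (w : Fin m → F) (i : Fin m) : iotaE w (Sum.inl i) = w i := rfl

theorem iotaE_inr (w : Fin m → F) (i : Fin m) : iotaE w (Sum.inr i) = 0 := rfl

theorem inE_iotaE (w : Fin m → F) : InE (iotaE w) := fun i => iotaE_inr w i

theorem form_iotaE (x : Vec) (w : Fin m → F) :
    Cfsg.sympForm m F x (iotaE w) = ∑ i, x (Sum.inr i) * w i := by
  rw [sympForm_eq_sum]
  apply Finset.sum_congr rfl
  intro i _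
  rw [iotaE_inl, iotaE_inr, mul_zero, sub_zero]

/-- the Levi image of a column transvection is a short root element -/
theorem leviSL_tv_eq_sr {k : Fin m} {w : Fin m → F} (hw : w k = 0) :
    leviSL (tv w (eb k)) = sr (iotaE w) (eR k) (-1) := by
  have h0 : (eb k : Fin m → F) ⬝ᵥ w = 0 := by rw [eb_dot, hw]
  have h0' : (-(eb k : Fin m → F)) ⬝ᵥ w = 0 := by rw [neg_dotProduct, h0, neg_zero]
  have hperp : Cfsg.sympForm m F (iotaE w) (eR k) = 0 := by
    rw [form_eR, iotaE_inl, hw, neg_zero]
  apply sp_ext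
  intro x
  rw [sr_mulVec hperp, form_eR, form_iotaE]
  funext a
  rcases a with i | i
  · rw [leviSL_mulVec_inl, tv_coe h0]
    simp only [tvMat_apply, add_mul, Finset.sum_add_distrib, one_apply, ite_mul, one_mul, zero_mul,
      Finset.sum_ite_eq, Finset.mem_univ, if_true, Pi.add_apply, Pi.smul_apply, iotaE_inl,
      eR_inl, smul_eq_mul, mul_zero, add_zero, eb_apply, mul_ite, mul_one]
    simp only [Finset.sum_ite_eq', Finset.mem_univ, if_true]
    ring
  · rw [leviSL_mulVec_inr, tv_inv h0, tv_coe h0']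
    simp only [tvMat_apply, add_mul, Finset.sum_add_distrib, one_apply, ite_mul, one_mul, zero_mul,
      Finset.sum_ite_eq', Finset.mem_univ, if_true, Pi.add_apply, Pi.smul_apply, iotaE_inr,
      eR_inr, smul_eq_mul, mul_zero, add_zero, eb_apply, mul_ite, mul_one, Pi.neg_apply]
    by_cases hik : i = k
    · subst hik
      simp only [if_true, mul_one, mul_neg, neg_mul, one_mul, Finset.sum_neg_distrib]
      congr 1
      congr 1
      apply Finset.sum_congr rfl
      intro l _
      ring
    · simp only [if_neg hik, mul_zero, zero_mul, Finset.sum_const_zero, add_zero, neg_zero]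

theorem sr_mem_of_tvElt_mem (N : Subgroup Spm)
    (hN : ∀ v : Vec, InE v → ∀ c : F, tvElt v c ∈ N) {v w : Vec} (hv : InE v) (hw : InE w) (c : F) :
    sr v w c ∈ N :=
  mul_mem (mul_mem (hN _ (inE_add hv hw) c) (hN _ hv _)) (hN _ hw _)

/-- the Siegel radical is generated by the transvections centred in `E` -/
theorem QQ_le_of_tvElt_mem (N : Subgroup Spm)
    (hN : ∀ v : Vec, InE v → ∀ c : F, tvElt v c ∈ N) : QQ m F ≤ N := by
  have key : ∀ d n : ℕ, n + d = m → ∀ z ∈ QQ m F,
      (∀ k : Fin m, (k : ℕ) < n → z.1 *ᵥ (eR k) = (eR k : Vec)) → z ∈ N := by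
    intro d
    induction d with
    | zero =>
      intro n hn z hz hfix
      have : z = 1 := by
        apply sp_ext_basis
        · intro k
          rw [hz _ (inE_eL k), sp_one_mulVec]
        · intro k
          rw [hfix k (by have := k.2; omega), sp_one_mulVec]
      rw [this]
      exact N.one_mem
    | succ d ih =>
      intro n hn z hz hfix
      set k₀ : Fin m := ⟨n, by omega⟩ with hk₀
      set B : Fin m → F := fun l => (z.1 *ᵥ (eR k₀)) (Sum.inl l) with hB
      have hB0 : ∀ l : Fin m, (l : ℕ) < n → B l = 0 := by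
        intro l hl
        show (z.1 *ᵥ (eR k₀)) (Sum.inl l) = 0
        rw [QQ_symm hz k₀ l, hfix l hl, eR_inl]
      set w' : Fin m → F := fun l => if k₀ < l then B l else 0 with hw'
      set u' : Vec := iotaE w' with hu'
      have hperp : Cfsg.sympForm m F (eL k₀ : Vec) u' = 0 := form_inE (inE_eL k₀) (inE_iotaE w')
      set corr : Spm := tvElt (eL k₀) (B k₀) * sr (eL k₀) u' 1 with hcorr
      have h1Q : tvElt (eL k₀ : Vec) (B k₀) ∈ QQ m F := tvElt_mem_QQ (inE_eL k₀) _
      have h2Q : sr (eL k₀ : Vec) u' 1 ∈ QQ m F := sr_mem_QQ (inE_eL k₀) (inE_iotaE w') 1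
      have hcorrQ : corr ∈ QQ m F := mul_mem h1Q h2Q
      have hcorrN : corr ∈ N :=
        mul_mem (hN _ (inE_eL k₀) _) (sr_mem_of_tvElt_mem N hN (inE_eL k₀) (inE_iotaE w') 1)
      have hact : ∀ k : Fin m, corr.1 *ᵥ (eR k) = (eR k : Vec) +
          (B k₀ * (if k₀ = k then 1 else 0)) • (eL k₀ : Vec) +
          (if k₀ = k then (1 : F) else 0) • u' + w' k • (eL k₀ : Vec) := by
        intro k
        have e1 : Cfsg.sympForm m F (eR k : Vec) u' = w' k := by
          rw [form_iotaE, Finset.sum_eq_single k]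
          · rw [eR_inr, if_pos rfl, one_mul]
          · intro i _ hik
            rw [eR_inr, if_neg hik, zero_mul]
          · intro h
            exact absurd (Finset.mem_univ k) h
        rw [hcorr, QQ_mul_mulVec h1Q h2Q, tvElt_mulVec, sr_mulVec hperp, form_eL, eR_inr, e1]
        module
      have hagree : ∀ k : Fin m, (k : ℕ) ≤ n → corr.1 *ᵥ (eR k) = z.1 *ᵥ (eR k) := by
        intro k hk
        rcases Nat.eq_or_lt_of_le hk with hkn | hkn
        · have hkk : k = k₀ := Fin.ext hkn
          rw [hkk, hact k₀, if_pos rfl, mul_one, one_smul]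
          have hw0 : w' k₀ = 0 := by
            show (if k₀ < k₀ then B k₀ else 0) = 0
            rw [if_neg (lt_irrefl _)]
          rw [hw0, zero_smul, add_zero]
          funext a
          rcases a with l | l
          · simp only [Pi.add_apply, Pi.smul_apply, eR_inl, eL_inl, smul_eq_mul, zero_add]
            show B k₀ * (if l = k₀ then 1 else 0) + (if k₀ < l then B l else 0) = B l
            rcases lt_trichotomy l k₀ with h | h | h
            · rw [if_neg (ne_of_lt h), if_neg (not_lt.mpr h.le), mul_zero, add_zero]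
              exact (hB0 l h).symm
            · rw [h, if_pos rfl, if_neg (lt_irrefl _), mul_one, add_zero]
            · rw [if_neg (ne_of_gt h), if_pos h, mul_zero, zero_add]
          · simp only [Pi.add_apply, Pi.smul_apply, eL_inr, smul_eq_mul, mul_zero, add_zero]
            rw [QQ_eR_inr hz, eR_inr]
            show _ + iotaE w' (Sum.inr l) = _
            rw [iotaE_inr, add_zero]
        · have hne : k₀ ≠ k := by
            intro h
            rw [← h] at hkn
            exact lt_irrefl _ hkn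
          have hw0 : w' k = 0 := by
            show (if k₀ < k then B k else 0) = 0
            rw [if_neg]
            intro h
            have : n < (k : ℕ) := h
            omega
          rw [hact k, if_neg hne, mul_zero, zero_smul, zero_smul, hw0, zero_smul, add_zero,
            add_zero, add_zero, hfix k hkn]
      set z' : Spm := corr⁻¹ * z with hz'
      have hz'Q : z' ∈ QQ m F := mul_mem (inv_mem hcorrQ) hz
      have hfix' : ∀ k : Fin m, (k : ℕ) < n + 1 → z'.1 *ᵥ (eR k) = (eR k : Vec) := by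
        intro k hk
        rw [hz', sp_mul_mulVec, ← hagree k (by omega), sp_inv_mulVec_mulVec]
      have hz'N : z' ∈ N := ih (n + 1) (by omega) z' hz'Q hfix'
      have : z = corr * z' := by rw [hz', mul_inv_cancel_left]
      rw [this]
      exact mul_mem hcorrN hz'N
  intro z hz
  exact key m 0 (by omega) z hz (fun k hk => absurd hk (Nat.not_lt_zero _))

end Cfsg.Agent.Lib.Helper86.PSpFus
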