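import Cfsg.Agent.Lib.Helper86.PSpFusG

/-!
# `PSp_2m(F)`: no proper nontrivial subgroup of the unipotent subgroup is closed under fusion
(helper86)
-/

set_option autoImplicit false
set_option linter.unusedSectionVars false

namespace Cfsg.Agent.Lib.Helper86.PSpFus

open Matrix Cfsg.Agent.Lib.Helper13 Cfsg.Agent.Lib.Helper45.PSLAut Cfsg.Agent.Lib.Helper45.PSpAut
  Cfsg.Agent.Lib.Helper86.FusSimple Cfsg.Agent.Lib.Helper98

variable {m : ℕ} {F : Type*} [Field F] [Fintype F]

local notation "Spm" => Matrix.symplecticGroup (Fin m) F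
local notation "Vec" => Fin m ⊕ Fin m → F

/-- strong closure, lifted to `Sp` -/
theorem sc_lift {T : Subgroup (Cfsg.PSp m F)} (hT : FusionCyclicQuot.FusClosed T (UBarSp m F))
    {x : Spm} (hx : x ∈ T.comap prjSp) (g : Spm) (hg : g * x * g⁻¹ ∈ UUsp m F) :
    g * x * g⁻¹ ∈ T.comap prjSp := by
  have := hT _ hx (prjSp g) (by
    rw [← map_inv, ← map_mul, ← map_mul]
    exact Subgroup.mem_map_of_mem _ hg)
  rw [← map_inv, ← map_mul, ← map_mul] at this
  exact this

theorem form_eL_swap {j : Fin m} (x : Vec) :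
    Cfsg.sympForm m F x (eR j - eL j : Vec) = -x (Sum.inl j) - x (Sum.inr j) := by
  rw [sympForm_sub_right, form_eR, form_eL]

/-- the transvection swapping `e_j` to `f_j` -/
theorem swap_eL (j : Fin m) : (tvElt (eR j - eL j : Vec) (-1)).1 *ᵥ (eL j) = (eR j : Vec) := by
  rw [tvElt_mulVec, form_eL_swap, eL_inl, eL_inr, if_pos rfl]
  module

theorem swap_fix {j : Fin m} {v : Vec} (h1 : v (Sum.inl j) = 0) (h2 : v (Sum.inr j) = 0) :
    (tvElt (eR j - eL j : Vec) (-1)).1 *ᵥ v = v := by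
  apply tvElt_mulVec_of_perp
  rw [form_eL_swap, h1, h2]
  ring

/-- **Key step**: from a central-type element to a transvection. -/
theorem lemmaW {T : Subgroup (Cfsg.PSp m F)} (hT : FusionCyclicQuot.FusClosed T (UBarSp m F))
    {i j : Fin m} (hij : i < j) (β b : F)
    (hy : tvElt (eL i : Vec) β * sr (eL i) (eL j) b ∈ T.comap prjSp) :
    tvElt (eL i : Vec) (β + b * b) ∈ T.comap prjSp := by
  have hne : i ≠ j := ne_of_lt hij
  set y : Spm := tvElt (eL i : Vec) β * sr (eL i) (eL j) b with hydef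
  set g : Spm := tvElt (eR j - eL j : Vec) (-1) with hg
  have hgi : g.1 *ᵥ (eL i) = (eL i : Vec) :=
    swap_fix (by rw [eL_inl, if_neg (Ne.symm hne)]) (eL_inr i j)
  have hgj : g.1 *ᵥ (eL j) = (eR j : Vec) := swap_eL j
  set y₁ : Spm := tvElt (eL i : Vec) β * sr (eL i) (eR j) b with hy₁
  have hconj : g * y * g⁻¹ = y₁ := by
    rw [hydef, conj_mul3, conj_tvElt, conj_sr, hgi, hgj]
  have hperp : Cfsg.sympForm m F (eL i : Vec) (eR j) = 0 := by
    rw [form_eR, eL_inl, if_neg (Ne.symm hne), neg_zero]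
  have hy₁eL : ∀ k : Fin m, y₁.1 *ᵥ (eL k) =
      (eL k : Vec) - (b * (if j = k then 1 else 0)) • (eL i : Vec) := by
    intro k
    have e1 : (sr (eL i : Vec) (eR j) b).1 *ᵥ (eL k) =
        (eL k : Vec) - (b * (if j = k then 1 else 0)) • (eL i : Vec) := by
      rw [sr_mulVec hperp, form_eL, eL_inr, form_eR, eL_inl]
      module
    rw [hy₁, sp_mul_mulVec, e1]
    apply tvElt_mulVec_of_perp
    rw [sympForm_sub_left, sympForm_smul_left, form_eL, form_eL, eL_inr, eL_inr]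
    ring
  have hy₁U : y₁ ∈ UUsp m F := by
    apply mem_UUsp_of_flag
    intro k
    rw [hy₁eL k]
    refine ⟨fun l => ?_, fun l hkl => ?_, ?_⟩
    · rw [Pi.sub_apply, Pi.smul_apply, eL_inr, eL_inr, smul_zero, sub_zero]
    · rw [Pi.sub_apply, Pi.smul_apply, eL_inl, eL_inl, if_neg (ne_of_gt hkl), zero_sub, neg_eq_zero,
        smul_eq_mul]
      by_cases hkj : j = k
      · have hli : l ≠ i := by
          intro hli
          rw [hli, ← hkj] at hkl
          exact absurd hkl (not_lt.mpr hij.le)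
        rw [if_neg hli, mul_zero]
      · rw [if_neg hkj, mul_zero, zero_mul]
    · rw [Pi.sub_apply, Pi.smul_apply, eL_inl, eL_inl, if_pos rfl, smul_eq_mul]
      by_cases hkj : j = k
      · have hki : k ≠ i := by
          rw [← hkj]
          exact Ne.symm hne
        rw [if_neg hki, mul_zero, sub_zero]
      · rw [if_neg hkj, mul_zero, zero_mul, sub_zero]
  have hy₁T : y₁ ∈ T.comap prjSp := by
    have := sc_lift hT hy g (by rw [hconj]; exact hy₁U)
    rwa [hconj] at this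
  set t : Spm := tvElt (eL j : Vec) 1 with ht
  have htU : t ∈ UUsp m F := tvElt_mem_UUsp (inE_eL j) 1
  have h2 : t * y₁⁻¹ * t⁻¹ ∈ T.comap prjSp :=
    sc_lift hT (inv_mem hy₁T) t (mul_mem (mul_mem htU (inv_mem hy₁U)) (inv_mem htU))
  have hc₁ : y₁ * (t * y₁⁻¹ * t⁻¹) ∈ T.comap prjSp := mul_mem hy₁T h2
  have hc₁eq : y₁ * (t * y₁⁻¹ * t⁻¹) =
      tvElt (eL j - b • eL i : Vec) 1 * tvElt (eL j : Vec) (-1) := by
    have e1 : y₁ * (t * y₁⁻¹ * t⁻¹) = (y₁ * t * y₁⁻¹) * t⁻¹ := by group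
    rw [e1, ht, conj_tvElt, tvElt_inv, hy₁eL j, if_pos rfl, mul_one]
  rw [hc₁eq] at hc₁
  have hfin : tvElt (eL j - b • eL i : Vec) 1 * tvElt (eL j : Vec) (-1) * y =
      tvElt (eL i : Vec) (β + b * b) := by
    have hv : InE (eL j - b • eL i : Vec) := by
      intro l
      rw [Pi.sub_apply, Pi.smul_apply, eL_inr, eL_inr, smul_zero, sub_zero]
    have q1 : tvElt (eL j - b • eL i : Vec) 1 ∈ QQ m F := tvElt_mem_QQ hv 1
    have q2 : tvElt (eL j : Vec) (-1) ∈ QQ m F := tvElt_mem_QQ (inE_eL j) _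
    have q3 : tvElt (eL i : Vec) β ∈ QQ m F := tvElt_mem_QQ (inE_eL i) _
    have q4 : sr (eL i : Vec) (eL j) b ∈ QQ m F := sr_mem_QQ (inE_eL i) (inE_eL j) b
    apply sp_ext
    intro x
    rw [hydef, QQ_mul_mulVec (mul_mem q1 q2) (mul_mem q3 q4), QQ_mul_mulVec q1 q2,
      QQ_mul_mulVec q3 q4, tvElt_mulVec, tvElt_mulVec, tvElt_mulVec, tvElt_mulVec,
      sr_mulVec (form_inE (inE_eL i) (inE_eL j)), sympForm_sub_right, sympForm_smul_right,
      form_eL, form_eL]
    module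
  rw [← hfin]
  exact mul_mem hc₁ hy

/-- squaring is surjective on a finite field of characteristic two -/
theorem exists_sq_eq_of_two_eq_zero (h2 : (2 : F) = 0) (c : F) : ∃ a : F, a ^ 2 = c := by
  have hinj : Function.Injective (fun a : F => a ^ 2) := by
    intro a b hab
    have hab' : a ^ 2 = b ^ 2 := hab
    have h1 : (a - b) ^ 2 = 0 := by
      have : (a - b) ^ 2 = a ^ 2 + b ^ 2 - 2 * (a * b) := by ring
      rw [this, h2, zero_mul, sub_zero, hab']
      have : b ^ 2 + b ^ 2 = 2 * b ^ 2 := by ring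
      rw [this, h2, zero_mul]
    exact sub_eq_zero.mp ((pow_eq_zero_iff (two_ne_zero)).mp h1)
  exact (Finite.injective_iff_surjective.mp hinj) c

/-- from one transvection centred in `E` to all of them -/
theorem all_tvElt_mem {T : Subgroup (Cfsg.PSp m F)}
    (hT : FusionCyclicQuot.FusClosed T (UBarSp m F)) {i₀ : Fin m} {γ : F} (hγ : γ ≠ 0)
    (h : tvElt (eL i₀ : Vec) γ ∈ T.comap prjSp) :
    ∀ v : Vec, InE v → ∀ c : F, tvElt v c ∈ T.comap prjSp := by
  have ha : ∀ v : Vec, InE v → tvElt v γ ∈ T.comap prjSp := by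
    intro v hv
    by_cases hv0 : v = 0
    · rw [hv0, tvElt_zero_left]
      exact one_mem _
    · obtain ⟨s, hs⟩ := Cfsg.Agent.Lib.Helper5.symplecticGroup_transitive
        (eL_ne_zero (F := F) i₀) hv0
      have hs' : s.1 *ᵥ (eL i₀) = v := hs
      have := sc_lift hT h s (by rw [conj_tvElt, hs']; exact tvElt_mem_UUsp hv γ)
      rwa [conj_tvElt, hs'] at this
  have hb : ∀ v : Vec, InE v → ∀ a : F, tvElt v (γ * a ^ 2) ∈ T.comap prjSp := by
    intro v hv a
    rw [← tvElt_smul]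
    exact ha _ (inE_smul a hv)
  intro v hv c
  by_cases h2 : (2 : F) = 0
  · obtain ⟨a, ha2⟩ := exists_sq_eq_of_two_eq_zero h2 (c / γ)
    have := hb v hv a
    rw [ha2, mul_div_cancel₀ c hγ] at this
    exact this
  · set a : F := c / (2 * γ) with hadef
    have h1 := hb v hv (a + 1)
    have h2' := inv_mem (hb v hv a)
    have h3 := inv_mem (hb v hv 1)
    rw [tvElt_inv] at h2' h3
    have h4 := mul_mem (mul_mem h1 h2') h3
    rw [tvElt_mul, tvElt_mul] at h4
    have e : γ * (a + 1) ^ 2 + -(γ * a ^ 2) + -(γ * 1 ^ 2) = c := by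
      rw [hadef]
      field_simp
      ring
    rw [e] at h4
    exact h4

variable {p : ℕ} [Fact p.Prime] [CharP F p]

/-- once all transvections centred in `E` lie in `T`, so does all of `UUsp` -/
theorem UUsp_le_of_tvElt_mem {T : Subgroup (Cfsg.PSp m F)}
    (hT : FusionCyclicQuot.FusClosed T (UBarSp m F))
    (hN : ∀ v : Vec, InE v → ∀ c : F, tvElt v c ∈ T.comap prjSp) :
    UUsp m F ≤ T.comap prjSp := by
  apply sup_le
  · -- the Levi part
    show (UU m F).map leviSL ≤ _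
    rw [Subgroup.map_le_iff_le_comap]
    apply Cfsg.Agent.Lib.Helper86.PSLFus.UU_le_of_tv_mem
    intro k w hw
    show leviSL (tv w (eb k)) ∈ T.comap prjSp
    have hwk : w k = 0 := hw k le_rfl
    have hU : leviSL (tv w (eb k)) ∈ UUsp m F :=
      (le_sup_left : LL m F ≤ UUsp m F)
        (Subgroup.mem_map_of_mem _ (Cfsg.Agent.Lib.Helper86.PSLFus.tv_col_mem_UU k w hw))
    rw [leviSL_tv_eq_sr hwk] at hU ⊢
    set g : Spm := tvElt (eR k - eL k : Vec) (-1) with hg
    have hg1 : g.1 *ᵥ (iotaE w) = iotaE w := swap_fix (by rw [iotaE_inl, hwk]) (iotaE_inr w k)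
    have hg2 : g.1 *ᵥ (eL k) = (eR k : Vec) := swap_eL k
    have hconj : g * sr (iotaE w) (eL k) (-1) * g⁻¹ = sr (iotaE w) (eR k) (-1) := by
      rw [conj_sr, hg1, hg2]
    have h0 : sr (iotaE w) (eL k : Vec) (-1) ∈ T.comap prjSp :=
      sr_mem_of_tvElt_mem _ hN (inE_iotaE w) (inE_eL k) _
    have := sc_lift hT h0 g (by rw [hconj]; exact hU)
    rwa [hconj] at this
  · exact QQ_le_of_tvElt_mem _ hN

end Cfsg.Agent.Lib.Helper86.PSpFus
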