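import Cfsg.Agent.Lib.Helper86.PSpFusH

/-!
# The `p`-fusion system of `PSp_2m(F)`, `char F = p`: data for simplicity (helper86)
-/

set_option autoImplicit false
set_option linter.unusedSectionVars false

namespace Cfsg.Agent.Lib.Helper86.PSpFus

open Matrix Cfsg.Agent.Lib.Helper13 Cfsg.Agent.Lib.Helper45.PSLAut Cfsg.Agent.Lib.Helper45.PSpAut
  Cfsg.Agent.Lib.Helper86.FusSimple Cfsg.Agent.Lib.Helper98

variable {m : ℕ} {F : Type*} [Field F] [Fintype F] {p : ℕ} [Fact p.Prime] [CharP F p]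

local notation "Spm" => Matrix.symplecticGroup (Fin m) F
local notation "Vec" => Fin m ⊕ Fin m → F

/-- a short root element in `T` gives a transvection in `T` -/
theorem tvElt_mem_of_sr_mem {T : Subgroup (Cfsg.PSp m F)}
    (hT : FusionCyclicQuot.FusClosed T (UBarSp m F)) {i j : Fin m} (hij : i < j) {b : F}
    (h : sr (eL i : Vec) (eL j) b ∈ T.comap prjSp) :
    tvElt (eL i : Vec) (b * b) ∈ T.comap prjSp := by
  have h1 : tvElt (eL i : Vec) 0 * sr (eL i : Vec) (eL j) b ∈ T.comap prjSp := by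
    rw [tvElt_zero, one_mul]
    exact h
  have := lemmaW hT hij 0 b h1
  rwa [zero_add] at this

theorem closed_UBarSp (p : ℕ) [Fact p.Prime] [CharP F p] (hm : 2 ≤ m)
    (hex : m = 2 → 3 ≤ Fintype.card F) (T : Subgroup (Cfsg.PSp m F)) (hTS : T ≤ UBarSp m F)
    (hT : FusionCyclicQuot.FusClosed T (UBarSp m F)) : T = ⊥ ∨ T = UBarSp m F := by
  have hm1 : 1 ≤ m := by omega
  by_cases hTbot : T = ⊥
  · exact Or.inl hTbot
  right
  apply le_antisymm hTS
  have hP : IsPGroup p (UBarSp m F) := isPGroup_UBarSp p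
  have hnorm : (T.subgroupOf (UBarSp m F)).Normal := by
    constructor
    intro x hx g
    rw [Subgroup.mem_subgroupOf] at hx ⊢
    exact hT _ hx (g : Cfsg.PSp m F)
      ((UBarSp m F).mul_mem ((UBarSp m F).mul_mem g.2 x.2) ((UBarSp m F).inv_mem g.2))
  have hne : T.subgroupOf (UBarSp m F) ≠ ⊥ := by
    intro h
    rw [Subgroup.subgroupOf_eq_bot, disjoint_iff, inf_eq_left.2 hTS] at h
    exact hTbot h
  obtain ⟨z, hzT, hzo, hzc⟩ := FusionCentralConj.exists_central_of_normal p hP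
    (T.subgroupOf (UBarSp m F)) hne
  rw [Subgroup.mem_subgroupOf] at hzT
  obtain ⟨z₀, hz₀U, hz₀z⟩ := z.2
  have hz₀c : ∀ u ∈ UUsp m F, z₀ * u = u * z₀ := by
    intro u hu
    apply comm_lift hm1 p hu
    rw [hz₀z]
    have := hzc ⟨prjSp u, Subgroup.mem_map_of_mem _ hu⟩
    exact (congrArg Subtype.val this).symm
  obtain ⟨z', hz'Q, hz'mk, hz'comm⟩ := exists_QQ_rep hm
    (fun v hv => hz₀c _ (tvElt_mem_UUsp hv 1))
  obtain ⟨β, b, hR⟩ := QQ_centralizer_gen hm hz'Q
    (fun i j hij => hz'comm _ (hz₀c _ (aij_mem hij)))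
  set i₀ : Fin m := ⟨0, by omega⟩ with hi₀
  set i₁ : Fin m := ⟨1, by omega⟩ with hi₁
  have h01 : i₀ < i₁ := by
    rw [Fin.lt_def]
    show (0 : ℕ) < 1
    omega
  have hz'T : z' ∈ T.comap prjSp := by
    show prjSp z' ∈ T
    rw [prjSp_apply, hz'mk, ← prjSp_apply, hz₀z]
    exact hzT
  have hprod : z' = tvElt (eL i₀ : Vec) β * sr (eL i₀) (eL i₁) b :=
    IsR.eq_prod (i := i₀) (j := i₁) (β := β) (b := b) hR
  have hnz : ¬ (β = 0 ∧ b = 0) := by
    rintro ⟨rfl, rfl⟩
    have h1 : z' = 1 := by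
      apply sp_ext
      intro x
      rw [hR x, sp_one_mulVec]
      simp only [zero_mul, add_zero, zero_smul]
    have h2 : (z : Cfsg.PSp m F) = 1 := by
      rw [← hz₀z, prjSp_apply, ← hz'mk, h1]
      rfl
    have h3 : z = 1 := Subtype.ext h2
    rw [h3, orderOf_one] at hzo
    exact (Fact.out : p.Prime).one_lt.ne hzo
  -- a transvection in `T`
  obtain ⟨γ, hγ, hγT⟩ : ∃ γ : F, γ ≠ 0 ∧ tvElt (eL i₀ : Vec) γ ∈ T.comap prjSp := by
    have W1 := lemmaW hT h01 β b (hprod ▸ hz'T)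
    by_cases hγ : β + b * b = 0
    · have hb : b ≠ 0 := by
        rintro rfl
        apply hnz
        rw [mul_zero, add_zero] at hγ
        exact ⟨hγ, rfl⟩
      have q3 : tvElt (eL i₀ : Vec) β ∈ QQ m F := tvElt_mem_QQ (inE_eL i₀) _
      have q4 : sr (eL i₀ : Vec) (eL i₁) b ∈ QQ m F := sr_mem_QQ (inE_eL i₀) (inE_eL i₁) b
      by_cases hm3 : 3 ≤ m
      · set i₂ : Fin m := ⟨2, by omega⟩ with hi₂
        have h02 : i₀ < i₂ := by
          rw [Fin.lt_def]
          show (0 : ℕ) < 2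
          omega
        have h21 : i₂ ≠ i₁ := by
          intro h
          have := congrArg Fin.val h
          simp [hi₂, hi₁] at this
        have h10 : i₁ ≠ i₀ := ne_of_gt h01
        set g : Spm := aij i₂ i₁ with hg
        have hg0 : g.1 *ᵥ (eL i₀) = (eL i₀ : Vec) := by
          rw [hg, aij_mulVec h21, eL_inl, if_neg h10, eL_inr, zero_smul, zero_smul, add_zero,
            sub_zero]
        have hg1 : g.1 *ᵥ (eL i₁) = (eL i₁ + eL i₂ : Vec) := by
          rw [hg, aij_mulVec h21, eL_inl, if_pos rfl, eL_inr, zero_smul, one_smul, sub_zero]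
        have hconj : g * z' * g⁻¹ = tvElt (eL i₀ : Vec) β * sr (eL i₀) (eL i₁ + eL i₂) b := by
          rw [hprod, conj_mul3, conj_tvElt, conj_sr, hg0, hg1]
        have q5 : sr (eL i₀ : Vec) (eL i₁ + eL i₂) b ∈ QQ m F :=
          sr_mem_QQ (inE_eL i₀) (inE_add (inE_eL i₁) (inE_eL i₂)) b
        have hcT : g * z' * g⁻¹ ∈ T.comap prjSp := by
          apply sc_lift hT hz'T
          rw [hconj]
          exact (le_sup_right : QQ m F ≤ UUsp m F) (mul_mem q3 q5)
        have q6 : sr (eL i₀ : Vec) (eL i₂) b ∈ QQ m F := sr_mem_QQ (inE_eL i₀) (inE_eL i₂) b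
        have heq : g * z' * g⁻¹ = sr (eL i₀ : Vec) (eL i₂) b * z' := by
          rw [hconj, hprod]
          apply sp_ext
          intro x
          rw [QQ_mul_mulVec q3 q5, QQ_mul_mulVec q6 (mul_mem q3 q4), QQ_mul_mulVec q3 q4,
            tvElt_mulVec, sr_mulVec (form_inE (inE_eL i₀) (inE_add (inE_eL i₁) (inE_eL i₂))),
            sr_mulVec (form_inE (inE_eL i₀) (inE_eL i₂)),
            sr_mulVec (form_inE (inE_eL i₀) (inE_eL i₁)), sympForm_add_right, form_eL, form_eL,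
            form_eL]
          module
        have hsr : sr (eL i₀ : Vec) (eL i₂) b ∈ T.comap prjSp := by
          have := mul_mem hcT (inv_mem hz'T)
          rwa [heq, mul_inv_cancel_right] at this
        exact ⟨b * b, mul_ne_zero hb hb, tvElt_mem_of_sr_mem hT h02 hsr⟩
      · have hm2 : m = 2 := by omega
        classical
        obtain ⟨t, ht0, ht1⟩ := Cfsg.Agent.Lib.Helper5.exists_ne_ne_of_three_le_card (hex hm2)
          (0 : F) 1
        have h10 : i₁ ≠ i₀ := ne_of_gt h01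
        set g : Spm := hTor i₁ t with hg
        have hg0 : g.1 *ᵥ (eL i₀) = (eL i₀ : Vec) := by
          rw [hg, hTor_eL i₁ ht0, if_neg (Ne.symm h10), one_smul]
        have hg1 : g.1 *ᵥ (eL i₁) = (t • eL i₁ : Vec) := by
          rw [hg, hTor_eL i₁ ht0, if_pos rfl]
        have hconj : g * z' * g⁻¹ = tvElt (eL i₀ : Vec) β * sr (eL i₀) (t • eL i₁) b := by
          rw [hprod, conj_mul3, conj_tvElt, conj_sr, hg0, hg1]
        have q5 : sr (eL i₀ : Vec) (t • eL i₁) b ∈ QQ m F :=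
          sr_mem_QQ (inE_eL i₀) (inE_smul t (inE_eL i₁)) b
        have hcT : g * z' * g⁻¹ ∈ T.comap prjSp := by
          apply sc_lift hT hz'T
          rw [hconj]
          exact (le_sup_right : QQ m F ≤ UUsp m F) (mul_mem q3 q5)
        have q6 : sr (eL i₀ : Vec) (eL i₁) (b * (t - 1)) ∈ QQ m F :=
          sr_mem_QQ (inE_eL i₀) (inE_eL i₁) _
        have heq : g * z' * g⁻¹ = sr (eL i₀ : Vec) (eL i₁) (b * (t - 1)) * z' := by
          rw [hconj, hprod]
          apply sp_ext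
          intro x
          rw [QQ_mul_mulVec q3 q5, QQ_mul_mulVec q6 (mul_mem q3 q4), QQ_mul_mulVec q3 q4,
            tvElt_mulVec, sr_mulVec (form_inE (inE_eL i₀) (inE_smul t (inE_eL i₁))),
            sr_mulVec (form_inE (inE_eL i₀) (inE_eL i₁)),
            sr_mulVec (form_inE (inE_eL i₀) (inE_eL i₁)), sympForm_smul_right, form_eL, form_eL]
          module
        have hsr : sr (eL i₀ : Vec) (eL i₁) (b * (t - 1)) ∈ T.comap prjSp := by
          have := mul_mem hcT (inv_mem hz'T)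
          rwa [heq, mul_inv_cancel_right] at this
        have hbt : b * (t - 1) ≠ 0 := mul_ne_zero hb (sub_ne_zero.mpr ht1)
        exact ⟨b * (t - 1) * (b * (t - 1)), mul_ne_zero hbt hbt, tvElt_mem_of_sr_mem hT h01 hsr⟩
    · exact ⟨β + b * b, hγ, W1⟩
  have hN := all_tvElt_mem hT hγ hγT
  have hU := UUsp_le_of_tvElt_mem hT hN
  rintro _ ⟨u, hu, rfl⟩
  exact hU hu

theorem UBarSp_ne_bot (hm : 2 ≤ m) : UBarSp m F ≠ ⊥ := by
  intro h
  set i₀ : Fin m := ⟨0, by omega⟩ with hi₀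
  have h1 : prjSp (tvElt (eL i₀ : Vec) 1) ∈ UBarSp m F :=
    Subgroup.mem_map_of_mem _ (tvElt_mem_UUsp (inE_eL i₀) 1)
  rw [h, Subgroup.mem_bot] at h1
  exact tbar_ne_one hm (eL_ne_zero i₀) one_ne_zero h1

/-- The data for the simplicity of the `p`-fusion system of `PSp_2m(F)` on the image of the
unipotent subgroup. -/
theorem simpleData_UBarSp (p : ℕ) [Fact p.Prime] [CharP F p] (hm : 2 ≤ m)
    (hex : m = 2 → 3 ≤ Fintype.card F) : SimpleData p (UBarSp m F) :=
  ⟨UBarSp_ne_bot hm, closed_UBarSp p hm hex, normalizer_UBarSp_le p hm⟩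

end Cfsg.Agent.Lib.Helper86.PSpFus
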