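/-
helper86: two distinct subgroups of order `p` in `Aut(V)`, `V` elementary abelian of order `p²`, generate a subgroup
containing a "torus element" `diag(l, l⁻¹)` normalising the first one.  Pure linear algebra over `𝔽_p`, written
multiplicatively.  All declarations live in `Cfsg.Agent.Lib.Helper86.RankTwo`.
-/
import Mathlib

set_option autoImplicit false

namespace Cfsg.Agent.Lib.Helper86.RankTwo

variable {V : Type*} [CommGroup V]

/-- `v ↦ v⁻¹ t(v)`. -/
def dl (t : MulAut V) : V →* V where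
  toFun v := v⁻¹ * t v
  map_one' := by simp
  map_mul' x y := by
    rw [map_mul, mul_inv]
    exact mul_mul_mul_comm _ _ _ _

theorem dl_apply (t : MulAut V) (v : V) : dl t v = v⁻¹ * t v := rfl

theorem mem_ker_dl (t : MulAut V) (v : V) : v ∈ (dl t).ker ↔ t v = v := by
  rw [MonoidHom.mem_ker, dl_apply, inv_mul_eq_one, eq_comm]

theorem zpow_congr_of_pow_eq_one {G : Type*} [Group G] {p : ℕ} {x : G} (hx : x ^ p = 1) {a b : ℤ}
    (h : a ≡ b [ZMOD (p : ℤ)]) : x ^ a = x ^ b := by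
  obtain ⟨c, hc⟩ := (Int.modEq_iff_dvd.1 h)
  have : a = b - p * c := by linarith
  rw [this, zpow_sub, zpow_mul, zpow_natCast, hx, one_zpow, inv_one, mul_one]

theorem card_zpowers_eq_prime {G : Type*} [Group G] {p : ℕ} [hp : Fact p.Prime] {x : G} (hx : x ^ p = 1)
    (hx1 : x ≠ 1) : Nat.card (Subgroup.zpowers x) = p := by
  rw [Nat.card_zpowers]
  exact orderOf_eq_prime hx hx1

/-- In a group of prime order generated by `x`, every element is a natural power of any non-identity element. -/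
theorem exists_zpow_eq_of_prime {G : Type*} [Group G] {p : ℕ} [hp : Fact p.Prime] {x : G} (hx : x ^ p = 1)
    {u w : G} (hu : u ∈ Subgroup.zpowers x) (hu1 : u ≠ 1) (hw : w ∈ Subgroup.zpowers x) : ∃ k : ℤ, u ^ k = w := by
  have hx1 : x ≠ 1 := by
    rintro rfl
    rw [Subgroup.zpowers_one_eq_bot, Subgroup.mem_bot] at hu
    exact hu1 hu
  have hup : u ^ p = 1 := by
    obtain ⟨i, rfl⟩ := Subgroup.mem_zpowers_iff.1 hu
    rw [← zpow_natCast, ← zpow_mul, mul_comm, zpow_mul, zpow_natCast, hx, one_zpow]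
  have hle : Subgroup.zpowers u ≤ Subgroup.zpowers x := by
    rw [Subgroup.zpowers_le]; exact hu
  have : Finite (Subgroup.zpowers x) := Nat.finite_of_card_ne_zero (by
    rw [card_zpowers_eq_prime hx hx1]; exact hp.out.ne_zero)
  have heq : Subgroup.zpowers u = Subgroup.zpowers x := by
    apply Subgroup.eq_of_le_of_card_ge hle
    rw [card_zpowers_eq_prime hx hx1, card_zpowers_eq_prime hup hu1]
  rw [← heq] at hw
  exact Subgroup.mem_zpowers_iff.1 hw


/-- **Transvection structure.** An automorphism `t ≠ 1` with `t ^ p = 1` of an elementary abelian group of order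
`p²` has a fixed line `⟨z⟩` and `[V, t] = ⟨z⟩`. -/
theorem exists_transvection_center [Finite V] {p : ℕ} [hp : Fact p.Prime] (hcard : Nat.card V = p ^ 2)
    (hexp : ∀ v : V, v ^ p = 1) (t : MulAut V) (a : ℕ) (ht : t ^ p ^ a = 1) (ht1 : t ≠ 1) :
    ∃ z : V, z ≠ 1 ∧ t z = z ∧ (∀ v, t v = v → v ∈ Subgroup.zpowers z) ∧
      ∀ v, v⁻¹ * t v ∈ Subgroup.zpowers z := by
  classical
  have hpp := hp.out
  -- a fixed point
  have hP : IsPGroup p (Subgroup.zpowers t) := by
    rintro ⟨g, hg⟩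
    refine ⟨a, ?_⟩
    obtain ⟨k, rfl⟩ := Subgroup.mem_zpowers_iff.1 hg
    apply Subtype.ext
    show (t ^ k) ^ p ^ a = 1
    rw [← zpow_natCast, ← zpow_mul, mul_comm, zpow_mul, zpow_natCast, ht, one_zpow]
  have hdvd : p ∣ Nat.card V := by rw [hcard]; exact dvd_pow_self p (by norm_num)
  have h1fix : (1 : V) ∈ MulAction.fixedPoints (Subgroup.zpowers t) V := by
    intro g
    show (g : MulAut V) (1 : V) = 1
    exact map_one _
  obtain ⟨z, hzfix, hz1⟩ := hP.exists_fixed_point_of_prime_dvd_card_of_fixed_point V hdvd h1fix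
  have hz1' : z ≠ 1 := fun h => hz1 h.symm
  have htz : t z = z := hzfix ⟨t, Subgroup.mem_zpowers t⟩
  set K : Subgroup V := (dl t).ker with hK
  have hzK : z ∈ K := (mem_ker_dl t z).2 htz
  have hzp : Nat.card (Subgroup.zpowers z) = p := card_zpowers_eq_prime (hexp z) hz1'
  have hzle : Subgroup.zpowers z ≤ K := by rw [Subgroup.zpowers_le]; exact hzK
  have hKcard : Nat.card K = p := by
    have h1 : Nat.card K ∣ p ^ 2 := hcard ▸ Subgroup.card_subgroup_dvd_card K
    obtain ⟨k, hk2, hk⟩ := (Nat.dvd_prime_pow hpp).1 h1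
    have hk0 : k ≠ 0 := by
      rintro rfl
      rw [pow_zero] at hk
      have := Subgroup.card_le_of_le hzle
      rw [hzp, hk] at this
      exact absurd this (by have := hpp.two_le; omega)
    have hk2' : k ≠ 2 := by
      rintro rfl
      have htop : K = ⊤ := Subgroup.eq_top_of_card_eq K (by rw [hk, hcard])
      apply ht1
      ext v
      have : v ∈ K := htop ▸ Subgroup.mem_top v
      exact (mem_ker_dl t v).1 this
    have : k = 1 := by omega
    rw [hk, this, pow_one]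
  have hKeq : Subgroup.zpowers z = K := Subgroup.eq_of_le_of_card_ge hzle (by rw [hKcard, hzp])
  -- the range has order `p`
  set R : Subgroup V := (dl t).range with hR
  have hRcard : Nat.card R = p := by
    have h1 := Subgroup.card_mul_index K
    rw [hKcard, hcard, hK, Subgroup.index_ker, ← hR] at h1
    have : p * Nat.card R = p * p := by rw [h1]; ring
    exact Nat.eq_of_mul_eq_mul_left hpp.pos this
  -- a non-identity element of the range
  obtain ⟨v₀, hv₀⟩ : ∃ v₀ : V, t v₀ ≠ v₀ := by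
    by_contra hcon
    push Not at hcon
    exact ht1 (by ext v; exact hcon v)
  set w : V := dl t v₀ with hw
  have hw1 : w ≠ 1 := by
    intro h
    apply hv₀
    exact (mem_ker_dl t v₀).1 h
  have hwR : w ∈ R := ⟨v₀, rfl⟩
  have hwp : Nat.card (Subgroup.zpowers w) = p := card_zpowers_eq_prime (hexp w) hw1
  have hwle : Subgroup.zpowers w ≤ R := by rw [Subgroup.zpowers_le]; exact hwR
  have hReq : Subgroup.zpowers w = R := Subgroup.eq_of_le_of_card_ge hwle (by rw [hRcard, hwp])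
  -- `t` fixes `w`
  have htwR : t w ∈ R := ⟨t v₀, by rw [hw, dl_apply, dl_apply, map_mul, map_inv]⟩
  rw [← hReq] at htwR
  have hfin : IsOfFinOrder w := isOfFinOrder_of_finite w
  obtain ⟨k, hk⟩ : ∃ k : ℕ, w ^ k = t w := by
    have := (hfin.mem_powers_iff_mem_zpowers).2 htwR
    exact (Submonoid.mem_powers_iff _ _).1 this
  have hpow : ∀ j : ℕ, (t ^ j) w = w ^ (k ^ j) := by
    intro j
    induction j with
    | zero => simp
    | succ j ih =>
      rw [pow_succ', MulAut.mul_apply, ih, map_pow, ← hk, ← pow_mul, pow_succ']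
  have h2 := hpow (p ^ a)
  rw [ht, MulAut.one_apply] at h2
  have h3 : w ^ (k ^ p ^ a) = w ^ 1 := by rw [pow_one]; exact h2.symm
  rw [pow_eq_pow_iff_modEq, orderOf_eq_prime (hexp w) hw1] at h3
  have h4 : k ≡ 1 [MOD p] := by
    have h5 : ((k ^ p ^ a : ℕ) : ZMod p) = ((1 : ℕ) : ZMod p) := (ZMod.natCast_eq_natCast_iff _ _ _).2 h3
    rw [Nat.cast_pow, ZMod.pow_card_pow] at h5
    exact (ZMod.natCast_eq_natCast_iff _ _ _).1 h5
  have htw : t w = w := by
    rw [← hk]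
    have : w ^ k = w ^ 1 := by
      rw [pow_eq_pow_iff_modEq, orderOf_eq_prime (hexp w) hw1]; exact h4
    rw [this, pow_one]
  have hwK : w ∈ K := (mem_ker_dl t w).2 htw
  have hwz : Subgroup.zpowers w = Subgroup.zpowers z := by
    rw [hKeq]
    exact Subgroup.eq_of_le_of_card_ge (by rw [Subgroup.zpowers_le]; exact hwK) (by rw [hKcard, hwp])
  refine ⟨z, hz1', htz, fun v hv => ?_, fun v => ?_⟩
  · rw [hKeq]; exact (mem_ker_dl t v).2 hv
  · rw [← hwz, hReq]; exact ⟨v, rfl⟩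


theorem zpow_apply_of_fixed (t : MulAut V) {u : V} (hu : t u = u) (k : ℤ) : (t ^ k) u = u := by
  have h1 : t ∈ MulAction.stabilizer (MulAut V) u := MulAction.mem_stabilizer_iff.2 hu
  exact MulAction.mem_stabilizer_iff.1 (Subgroup.zpow_mem _ h1 k)

theorem zpow_apply_of_shift (t : MulAut V) {u v : V} (hu : t u = u) (hv : t v = v * u) (k : ℤ) :
    (t ^ k) v = v * u ^ k := by
  have hinv : t⁻¹ v = v * u⁻¹ := by
    have h1 : t (v * u⁻¹) = v := by rw [map_mul, map_inv, hu, hv, mul_inv_cancel_right]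
    calc t⁻¹ v = t⁻¹ (t (v * u⁻¹)) := by rw [h1]
      _ = v * u⁻¹ := MulAut.inv_apply_self _ _ _
  induction k using Int.induction_on with
  | zero => simp
  | succ k ih =>
    rw [zpow_add_one, MulAut.mul_apply, hv, map_mul, ih, zpow_apply_of_fixed t hu, zpow_add_one, mul_assoc]
  | pred k ih =>
    rw [zpow_sub_one, MulAut.mul_apply, hinv, map_mul, ih, map_inv, zpow_apply_of_fixed t hu, zpow_sub_one,
      mul_assoc]

theorem aut_ext_of_gen {a b : V} (hgen : Subgroup.closure ({a, b} : Set V) = ⊤) (f g : MulAut V)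
    (ha : f a = g a) (hb : f b = g b) : f = g := by
  have : f.toMonoidHom = g.toMonoidHom := by
    apply MonoidHom.eq_of_eqOn_dense hgen
    rintro x (rfl | rfl)
    · exact ha
    · exact hb
  ext v
  exact DFunLike.congr_fun this v

theorem closure_pair_eq_top [Finite V] {p : ℕ} [hp : Fact p.Prime] (hcard : Nat.card V = p ^ 2)
    (hexp : ∀ v : V, v ^ p = 1) {z v : V} (hz1 : z ≠ 1) (hv : v ∉ Subgroup.zpowers z) :
    Subgroup.closure ({z, v} : Set V) = ⊤ := by
  have hpp := hp.out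
  set C := Subgroup.closure ({z, v} : Set V) with hC
  have hzC : z ∈ C := Subgroup.subset_closure (by simp)
  have hvC : v ∈ C := Subgroup.subset_closure (by simp)
  have hle : Subgroup.zpowers z ≤ C := by rw [Subgroup.zpowers_le]; exact hzC
  have hzp : Nat.card (Subgroup.zpowers z) = p := card_zpowers_eq_prime (hexp z) hz1
  have h1 : Nat.card C ∣ p ^ 2 := hcard ▸ Subgroup.card_subgroup_dvd_card C
  obtain ⟨k, hk2, hk⟩ := (Nat.dvd_prime_pow hpp).1 h1
  have hk1 : k ≠ 1 := by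
    rintro rfl
    rw [pow_one] at hk
    have := Subgroup.eq_of_le_of_card_ge hle (by rw [hk, hzp])
    exact hv (this ▸ hvC)
  have hk0 : k ≠ 0 := by
    rintro rfl
    rw [pow_zero] at hk
    have := Subgroup.card_le_of_le hle
    rw [hzp, hk] at this
    exact absurd this (by have := hpp.two_le; omega)
  have : k = 2 := by omega
  exact Subgroup.eq_top_of_card_eq C (by rw [hk, this, hcard])

theorem exists_zpow_mul_zpow {a b : V} (hgen : Subgroup.closure ({a, b} : Set V) = ⊤) (v : V) :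
    ∃ i j : ℤ, v = a ^ i * b ^ j := by
  have hv : v ∈ Subgroup.closure ({a, b} : Set V) := hgen ▸ Subgroup.mem_top v
  rw [Subgroup.mem_closure_pair] at hv
  obtain ⟨i, j, h⟩ := hv
  exact ⟨i, j, h.symm⟩

/-- Two transvection-like automorphisms with the same fixed line generate the same cyclic group. -/
theorem mem_zpowers_of_same_center [Finite V] {p : ℕ} [hp : Fact p.Prime] (hcard : Nat.card V = p ^ 2)
    (hexp : ∀ v : V, v ^ p = 1) (t t' : MulAut V) (ht1 : t ≠ 1) {z : V} (hz1 : z ≠ 1)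
    (htz : t z = z) (htr : ∀ v, v⁻¹ * t v ∈ Subgroup.zpowers z)
    (ht'z : t' z = z) (ht'r : ∀ v, v⁻¹ * t' v ∈ Subgroup.zpowers z) : t' ∈ Subgroup.zpowers t := by
  obtain ⟨v₀, hv₀⟩ : ∃ v₀ : V, t v₀ ≠ v₀ := by
    by_contra hcon
    push Not at hcon
    exact ht1 (by ext v; exact hcon v)
  have hv₀z : v₀ ∉ Subgroup.zpowers z := by
    intro h
    obtain ⟨i, rfl⟩ := Subgroup.mem_zpowers_iff.1 h
    exact hv₀ (by rw [map_zpow, htz])
  have hgen := closure_pair_eq_top hcard hexp hz1 hv₀z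
  have hu1 : v₀⁻¹ * t v₀ ≠ 1 := by
    intro h
    rw [inv_mul_eq_one] at h
    exact hv₀ h.symm
  obtain ⟨k, hk⟩ := exists_zpow_eq_of_prime (hexp z) (htr v₀) hu1 (ht'r v₀)
  have htu : t (v₀⁻¹ * t v₀) = v₀⁻¹ * t v₀ := by
    obtain ⟨i, hi⟩ := Subgroup.mem_zpowers_iff.1 (htr v₀)
    rw [← hi, map_zpow, htz]
  have hshift : t v₀ = v₀ * (v₀⁻¹ * t v₀) := by rw [mul_inv_cancel_left]
  have h1 : (t ^ k) v₀ = t' v₀ := by
    rw [zpow_apply_of_shift t htu hshift k, hk, mul_inv_cancel_left]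
  have h2 : (t ^ k) z = t' z := by rw [zpow_apply_of_fixed t htz, ht'z]
  rw [Subgroup.mem_zpowers_iff]
  exact ⟨k, aut_ext_of_gen hgen _ _ h2 h1⟩


theorem coord_apply (t : MulAut V) {z z' : V} (htz : t z = z) (htz' : t z' = z' * z) (k i j : ℤ) :
    (t ^ k) (z ^ i * z' ^ j) = z ^ (i + k * j) * z' ^ j := by
  rw [map_mul, map_zpow, map_zpow, zpow_apply_of_fixed t htz, zpow_apply_of_shift t htz htz', mul_zpow, ← zpow_mul,
    zpow_add, mul_assoc, mul_comm (z' ^ j)]

theorem coord_apply' (t' : MulAut V) {z z' : V} (ht'z' : t' z' = z') (ht'z : t' z = z * z') (k i j : ℤ) :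
    (t' ^ k) (z ^ i * z' ^ j) = z ^ i * z' ^ (j + k * i) := by
  rw [map_mul, map_zpow, map_zpow, zpow_apply_of_fixed t' ht'z', zpow_apply_of_shift t' ht'z' ht'z, mul_zpow,
    ← zpow_mul, zpow_add, mul_assoc, mul_comm (z' ^ j)]

/-- The product of six elementary maps is diagonal. -/
theorem torus_apply {p : ℕ} (hexp : ∀ v : V, v ^ p = 1) (t t' : MulAut V) {z z' : V}
    (htz : t z = z) (htz' : t z' = z' * z) (ht'z' : t' z' = z') (ht'z : t' z = z * z')
    (l l' : ℕ) (hl : l * l' ≡ 1 [MOD p]) :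
    (t ^ (l : ℤ) * t' ^ (-(l' : ℤ)) * t ^ (l : ℤ) * t ^ (-1 : ℤ) * t' ^ (1 : ℤ) * t ^ (-1 : ℤ)) z = z ^ l ∧
    (t ^ (l : ℤ) * t' ^ (-(l' : ℤ)) * t ^ (l : ℤ) * t ^ (-1 : ℤ) * t' ^ (1 : ℤ) * t ^ (-1 : ℤ)) z' = z' ^ l' := by
  have hl' : ((l : ℤ) * (l' : ℤ)) ≡ 1 [ZMOD (p : ℤ)] := by
    have := Int.natCast_modEq_iff.2 hl
    push_cast at this
    exact this
  obtain ⟨c, hc⟩ := Int.modEq_iff_dvd.1 hl'
  have hT := coord_apply t htz htz'
  have hT' := coord_apply' t' ht'z' ht'z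
  constructor
  · have e : z = z ^ (1 : ℤ) * z' ^ (0 : ℤ) := by simp
    conv_lhs => rw [e]
    simp only [MulAut.mul_apply, hT, hT']
    rw [zpow_congr_of_pow_eq_one (hexp z) (b := (l : ℤ)), zpow_congr_of_pow_eq_one (hexp z') (b := (0 : ℤ)),
      zpow_zero, mul_one, zpow_natCast]
    · apply Int.modEq_iff_dvd.2
      exact ⟨-c, by linear_combination (-1 : ℤ) * hc⟩
    · apply Int.modEq_iff_dvd.2
      exact ⟨-l * c, by linear_combination (-(l : ℤ)) * hc⟩
  · have e : z' = z ^ (0 : ℤ) * z' ^ (1 : ℤ) := by simp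
    conv_lhs => rw [e]
    simp only [MulAut.mul_apply, hT, hT']
    rw [zpow_congr_of_pow_eq_one (hexp z) (b := (0 : ℤ)), zpow_congr_of_pow_eq_one (hexp z') (b := (l' : ℤ)),
      zpow_zero, one_mul, zpow_natCast]
    · apply Int.modEq_iff_dvd.2
      exact ⟨0, by ring⟩
    · apply Int.modEq_iff_dvd.2
      exact ⟨c, by linear_combination hc⟩


theorem pow_congr_of_pow_eq_one {G : Type*} [Group G] {p : ℕ} {x : G} (hx : x ^ p = 1) {a b : ℕ}
    (h : a ≡ b [MOD p]) : x ^ a = x ^ b := by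
  have := zpow_congr_of_pow_eq_one hx (Int.natCast_modEq_iff.2 h)
  simpa using this

/-- **The torus element.** -/
theorem exists_torus [Finite V] {p : ℕ} [hp : Fact p.Prime] (hcard : Nat.card V = p ^ 2)
    (hexp : ∀ v : V, v ^ p = 1) (t t' : MulAut V) (ht : t ^ p = 1) (ht1 : t ≠ 1) (ht' : t' ^ p = 1) (ht'1 : t' ≠ 1)
    (hne : t' ∉ Subgroup.zpowers t) (l l' : ℕ) (hl : l * l' ≡ 1 [MOD p]) :
    ∃ z : V, z ≠ 1 ∧ t z = z ∧ (∀ v, t v = v → v ∈ Subgroup.zpowers z) ∧
      ∃ ν ∈ Subgroup.closure ({t, t'} : Set (MulAut V)), ν z = z ^ l ∧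
        (∀ v : V, (v ^ l')⁻¹ * ν v ∈ Subgroup.zpowers z) ∧ ν * t * ν⁻¹ ∈ Subgroup.zpowers t := by
  obtain ⟨z, hz1, htz, htfix, htr⟩ := exists_transvection_center hcard hexp t 1 (by rwa [pow_one]) ht1
  obtain ⟨z', hz'1, ht'z', ht'fix, ht'r⟩ := exists_transvection_center hcard hexp t' 1 (by rwa [pow_one]) ht'1
  have hz'z : z' ∉ Subgroup.zpowers z := by
    intro h
    apply hne
    obtain ⟨k, hk⟩ := exists_zpow_eq_of_prime (hexp z) h hz'1 (Subgroup.mem_zpowers z)
    have ht'z : t' z = z := by rw [← hk, map_zpow, ht'z']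
    have hle : Subgroup.zpowers z' ≤ Subgroup.zpowers z := Subgroup.zpowers_le.2 h
    exact mem_zpowers_of_same_center hcard hexp t t' ht1 hz1 htz htr ht'z (fun v => hle (ht'r v))
  have hzz' : z ∉ Subgroup.zpowers z' := by
    intro h
    obtain ⟨k, hk⟩ := exists_zpow_eq_of_prime (hexp z') h hz1 (Subgroup.mem_zpowers z')
    exact hz'z (hk ▸ Subgroup.zpow_mem_zpowers z k)
  have hgen := closure_pair_eq_top hcard hexp hz1 hz'z
  -- normalise `t`
  obtain ⟨u, hu⟩ : ∃ u : V, u = z'⁻¹ * t z' := ⟨_, rfl⟩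
  have huz : u ∈ Subgroup.zpowers z := hu ▸ htr z'
  have hu1 : u ≠ 1 := by
    intro h
    rw [hu, inv_mul_eq_one] at h
    exact hz'z (htfix z' h.symm)
  obtain ⟨a, ha⟩ := exists_zpow_eq_of_prime (hexp z) huz hu1 (Subgroup.mem_zpowers z)
  have htu : t u = u := by
    obtain ⟨i, hi⟩ := Subgroup.mem_zpowers_iff.1 huz
    rw [← hi, map_zpow, htz]
  have hshift : t z' = z' * u := by rw [hu, mul_inv_cancel_left]
  obtain ⟨t₁, ht₁⟩ : ∃ t₁ : MulAut V, t₁ = t ^ a := ⟨_, rfl⟩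
  have ht₁z : t₁ z = z := by rw [ht₁]; exact zpow_apply_of_fixed t htz a
  have ht₁z' : t₁ z' = z' * z := by rw [ht₁, zpow_apply_of_shift t htu hshift a, ha]
  -- normalise `t'`
  obtain ⟨u', hu'⟩ : ∃ u' : V, u' = z⁻¹ * t' z := ⟨_, rfl⟩
  have hu'z : u' ∈ Subgroup.zpowers z' := hu' ▸ ht'r z
  have hu'1 : u' ≠ 1 := by
    intro h
    rw [hu', inv_mul_eq_one] at h
    exact hzz' (ht'fix z h.symm)
  obtain ⟨b, hb⟩ := exists_zpow_eq_of_prime (hexp z') hu'z hu'1 (Subgroup.mem_zpowers z')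
  have ht'u' : t' u' = u' := by
    obtain ⟨i, hi⟩ := Subgroup.mem_zpowers_iff.1 hu'z
    rw [← hi, map_zpow, ht'z']
  have hshift' : t' z = z * u' := by rw [hu', mul_inv_cancel_left]
  obtain ⟨t₂, ht₂⟩ : ∃ t₂ : MulAut V, t₂ = t' ^ b := ⟨_, rfl⟩
  have ht₂z' : t₂ z' = z' := by rw [ht₂]; exact zpow_apply_of_fixed t' ht'z' b
  have ht₂z : t₂ z = z * z' := by rw [ht₂, zpow_apply_of_shift t' ht'u' hshift' b, hb]
  obtain ⟨hν1, hν2⟩ := torus_apply hexp t₁ t₂ ht₁z ht₁z' ht₂z' ht₂z l l' hl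
  obtain ⟨ν, hν⟩ : ∃ ν : MulAut V, ν = t₁ ^ (l : ℤ) * t₂ ^ (-(l' : ℤ)) * t₁ ^ (l : ℤ) * t₁ ^ (-1 : ℤ) *
    t₂ ^ (1 : ℤ) * t₁ ^ (-1 : ℤ) := ⟨_, rfl⟩
  rw [← hν] at hν1 hν2
  have htc : t ∈ Subgroup.closure ({t, t'} : Set (MulAut V)) := Subgroup.subset_closure (by simp)
  have ht'c : t' ∈ Subgroup.closure ({t, t'} : Set (MulAut V)) := Subgroup.subset_closure (by simp)
  have ht₁c : t₁ ∈ Subgroup.closure ({t, t'} : Set (MulAut V)) := ht₁ ▸ Subgroup.zpow_mem _ htc a
  have ht₂c : t₂ ∈ Subgroup.closure ({t, t'} : Set (MulAut V)) := ht₂ ▸ Subgroup.zpow_mem _ ht'c b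
  have hνc : ν ∈ Subgroup.closure ({t, t'} : Set (MulAut V)) := by
    rw [hν]
    exact Subgroup.mul_mem _ (Subgroup.mul_mem _ (Subgroup.mul_mem _ (Subgroup.mul_mem _ (Subgroup.mul_mem _
      (Subgroup.zpow_mem _ ht₁c _) (Subgroup.zpow_mem _ ht₂c _)) (Subgroup.zpow_mem _ ht₁c _))
      (Subgroup.zpow_mem _ ht₁c _)) (Subgroup.zpow_mem _ ht₂c _)) (Subgroup.zpow_mem _ ht₁c _)
  have hll : l' * l ≡ 1 [MOD p] := by rw [mul_comm]; exact hl
  have hνinvz : ν⁻¹ z = z ^ l' := by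
    have h1 : ν (z ^ l') = z := by
      rw [map_pow, hν1, ← pow_mul, pow_congr_of_pow_eq_one (hexp z) hl, pow_one]
    calc ν⁻¹ z = ν⁻¹ (ν (z ^ l')) := by rw [h1]
      _ = z ^ l' := MulAut.inv_apply_self _ _ _
  have hνinvz' : ν⁻¹ z' = z' ^ l := by
    have h1 : ν (z' ^ l) = z' := by
      rw [map_pow, hν2, ← pow_mul, pow_congr_of_pow_eq_one (hexp z') hll, pow_one]
    calc ν⁻¹ z' = ν⁻¹ (ν (z' ^ l)) := by rw [h1]
      _ = z' ^ l := MulAut.inv_apply_self _ _ _
  have hνu : ν u = u ^ l := by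
    obtain ⟨i, hi⟩ := Subgroup.mem_zpowers_iff.1 huz
    rw [← hi, map_zpow, hν1, ← zpow_natCast, ← zpow_natCast, ← zpow_mul, ← zpow_mul, mul_comm]
  refine ⟨z, hz1, htz, htfix, ν, hνc, hν1, ?_, ?_⟩
  · -- the quotient action
    let f : V →* V :=
      { toFun := fun v => (v ^ l')⁻¹ * ν v
        map_one' := by simp
        map_mul' := fun x y => by
          rw [map_mul, mul_pow, mul_inv]
          exact mul_mul_mul_comm _ _ _ _ }
    have hle : (⊤ : Subgroup V) ≤ (Subgroup.zpowers z).comap f := by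
      rw [← hgen, Subgroup.closure_le]
      rintro x (rfl | rfl)
      · show (x ^ l')⁻¹ * ν x ∈ Subgroup.zpowers x
        rw [hν1]
        exact Subgroup.mul_mem _ (Subgroup.inv_mem _ (Subgroup.pow_mem _ (Subgroup.mem_zpowers x) _))
          (Subgroup.pow_mem _ (Subgroup.mem_zpowers x) _)
      · show (x ^ l')⁻¹ * ν x ∈ Subgroup.zpowers z
        rw [hν2, inv_mul_cancel]
        exact Subgroup.one_mem _
    intro v
    exact hle (Subgroup.mem_top v)
  · rw [Subgroup.mem_zpowers_iff]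
    refine ⟨((l * l : ℕ) : ℤ), ?_⟩
    apply aut_ext_of_gen hgen
    · rw [zpow_apply_of_fixed t htz, MulAut.mul_apply, MulAut.mul_apply, hνinvz, map_pow, htz, ← hνinvz,
        MulAut.apply_inv_self]
    · rw [zpow_apply_of_shift t htu hshift, MulAut.mul_apply, MulAut.mul_apply, hνinvz', map_pow, hshift, map_pow,
        map_mul, hν2, hνu, mul_pow, ← pow_mul, ← pow_mul, pow_congr_of_pow_eq_one (hexp z') hll, pow_one,
        zpow_natCast]


/-- A `p`-element of `Aut(V)`, `|V| = p²` elementary abelian, has order dividing `p`. -/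
theorem pow_prime_eq_one [Finite V] {p : ℕ} [hp : Fact p.Prime] (hcard : Nat.card V = p ^ 2)
    (hexp : ∀ v : V, v ^ p = 1) (t : MulAut V) (a : ℕ) (ht : t ^ p ^ a = 1) : t ^ p = 1 := by
  by_cases ht1 : t = 1
  · rw [ht1, one_pow]
  obtain ⟨z, hz1, htz, htfix, htr⟩ := exists_transvection_center hcard hexp t a ht ht1
  ext v
  have htu : t (v⁻¹ * t v) = v⁻¹ * t v := by
    obtain ⟨i, hi⟩ := Subgroup.mem_zpowers_iff.1 (htr v)
    rw [← hi, map_zpow, htz]
  have hshift : t v = v * (v⁻¹ * t v) := by rw [mul_inv_cancel_left]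
  have := zpow_apply_of_shift t htu hshift (p : ℤ)
  rw [zpow_natCast, zpow_natCast, hexp, mul_one] at this
  rw [this, MulAut.one_apply]

/-- The form needed in helper70's S5289 project (module [DIAG0]). -/
theorem exists_diag_bot' {p : ℕ} [hp : Fact p.Prime] {W : Type*} [Group W] [Finite W] (hp2 : p ≠ 2)
    (hWc : ∀ a b : W, a * b = b * a) (hWe : ∀ a : W, a ^ p = 1) (hcard : Nat.card W = p ^ 2)
    (G : Subgroup (MulAut W)) (t : MulAut W) (ht : t ∈ G) (a : ℕ) (hta : t ^ p ^ a = 1) (ht1 : t ≠ 1)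
    (y : W) (hy1 : y ≠ 1) (hty : t y = y)
    (α : MulAut W) (hα : α ∈ G) (hαy : α y ∉ Subgroup.zpowers y) :
    ∃ τ ∈ G, τ * t * τ⁻¹ ∈ Subgroup.zpowers t ∧ ∀ w : W, ∃ k : ℤ, τ w = w ^ 2 * y ^ k := by
  let _ : CommGroup W := { (inferInstance : Group W) with mul_comm := hWc }
  have hpp := hp.out
  obtain ⟨t', ht'def⟩ : ∃ t' : MulAut W, t' = α * t * α⁻¹ := ⟨_, rfl⟩
  have ht'G : t' ∈ G := ht'def ▸ G.mul_mem (G.mul_mem hα ht) (G.inv_mem hα)
  have ht'pow : ∀ k : ℕ, t' ^ k = α * t ^ k * α⁻¹ := by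
    intro k
    rw [ht'def]
    induction k with
    | zero => simp
    | succ k ih => rw [pow_succ, ih, pow_succ]; group
  have ht'a : t' ^ p ^ a = 1 := by rw [ht'pow, hta]; group
  have ht'1 : t' ≠ 1 := by
    intro h
    apply ht1
    rw [ht'def] at h
    have : t = α⁻¹ * (α * t * α⁻¹) * α := by group
    rw [this, h]; group
  have htp := pow_prime_eq_one hcard hWe t a hta
  have ht'p := pow_prime_eq_one hcard hWe t' a ht'a
  have hgen := closure_pair_eq_top hcard hWe hy1 hαy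
  have ht'αy : t' (α y) = α y := by
    rw [ht'def, MulAut.mul_apply, MulAut.mul_apply, MulAut.inv_apply_self, hty]
  have hne : t' ∉ Subgroup.zpowers t := by
    intro h
    obtain ⟨k, hk⟩ := Subgroup.mem_zpowers_iff.1 h
    apply ht'1
    apply aut_ext_of_gen hgen
    · rw [← hk, zpow_apply_of_fixed t hty, MulAut.one_apply]
    · rw [ht'αy, MulAut.one_apply]
  have hodd : p % 2 = 1 := by
    rcases hpp.eq_two_or_odd with h | h
    · exact absurd h hp2
    · exact h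
  have hl : (p + 1) / 2 * 2 ≡ 1 [MOD p] := by
    have : (p + 1) / 2 * 2 = p + 1 := by omega
    rw [this]
    simp [Nat.ModEq]
  obtain ⟨z, hz1, htz, htfix, ν, hν, -, hquot, hnorm⟩ :=
    exists_torus hcard hWe t t' htp ht1 ht'p ht'1 hne ((p + 1) / 2) 2 hl
  have hyz : y ∈ Subgroup.zpowers z := htfix y hty
  refine ⟨ν, ?_, hnorm, fun w => ?_⟩
  · have hle : Subgroup.closure ({t, t'} : Set (MulAut W)) ≤ G := by
      rw [Subgroup.closure_le]
      rintro x (rfl | rfl)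
      · exact ht
      · exact ht'G
    exact hle hν
  · obtain ⟨k, hk⟩ := exists_zpow_eq_of_prime (hWe z) hyz hy1 (hquot w)
    refine ⟨k, ?_⟩
    rw [hk, mul_inv_cancel_left]

end Cfsg.Agent.Lib.Helper86.RankTwo
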