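import Mathlib
import Cfsg.Agent.Lib.Helper36.ReeWPsl2
import Cfsg.Agent.Lib.Helper86.ReeWZ2PslCore

set_option autoImplicit false

namespace Cfsg.Agent.Lib.Helper86.ReeW

/-! ## [W-Z2PSL] -/
theorem z2psl2_centralizer {K : Type*} [Field K] [Fintype K] (hq : Fintype.card K % 8 = 3) {C : Type*} [Group C]
    (e : C ≃* Multiplicative (ZMod 2) × Matrix.ProjectiveSpecialLinearGroup (Fin 2) K)
    (s : ℕ) (hs : s.Prime) (hs2 : s ≠ 2) (hsq : s ∣ Fintype.card K + 1) (a : C) (ha : orderOf a = s) :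
    (∀ x ∈ Subgroup.centralizer ({a} : Set C), ∀ y ∈ Subgroup.centralizer ({a} : Set C), x * y = y * x) ∧
    Nat.card ↥(Subgroup.centralizer ({a} : Set C)) = Fintype.card K + 1 ∧
    ∀ x ∈ Subgroup.centralizer ({a} : Set C), orderOf x ≠ 4 :=
  z2_prod_centralizer (Fintype.card K) hq e s hs hs2 a ha
    (fun b hb => Cfsg.Agent.Lib.Helper36.ReeW.psl2_centralizer hq s hs hs2 hsq b hb)

end Cfsg.Agent.Lib.Helper86.ReeW
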