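import Mathlib
import Cfsg.Agent.Lib.Helper22.S1936Defs

/-!
# S1936 module END-[F2] (sheet `notes/helper22_S1936_sheet.md`, §F2)

For `a ∈ T#` and `x ≠ 1` of odd order inverted by `a`, the involution `a x` is not in `N(T)`.
The abstract core `eq_one_of_inverted_of_mul_mem_normalizer` needs only that `T` is a `2`-group.
-/

set_option autoImplicit false
universe u
open Cfsg.Agent.Lib.Helper22.S1936

namespace Cfsg.Agent.Lib.Helper86.S1936

/-- Abstract core of F2: if `a ∈ T`, `T` a `2`-group, `a` inverts `x` of odd order, and `a * x` normalizes `T`,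
then `x = 1`. -/
theorem eq_one_of_inverted_of_mul_mem_normalizer {G : Type u} [Group G] (T : Subgroup G) (hT : IsPGroup 2 ↥T) {a x : G}
    (haT : a ∈ T) (hinv : a * x * a⁻¹ = x⁻¹) (hodd : Odd (orderOf x))
    (hmem : a * x ∈ Subgroup.normalizer (T : Set G)) : x = 1 := by
  have haN : a ∈ Subgroup.normalizer (T : Set G) := Subgroup.le_normalizer haT
  have hxN : x ∈ Subgroup.normalizer (T : Set G) := by
    have := Subgroup.mul_mem _ (Subgroup.inv_mem _ haN) hmem
    simpa [mul_assoc] using this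
  -- `x a x⁻¹ = a x⁻²`
  have h1 : x * a * x⁻¹ ∈ T := (Subgroup.mem_normalizer_iff.mp hxN a).mp haT
  have h2 : x * a * x⁻¹ = a * (x ^ 2)⁻¹ := by
    have h3 : a * x = x⁻¹ * a := by
      have := congrArg (· * a) hinv
      simpa [mul_assoc] using this
    have h4 : x * a = a * x⁻¹ := by
      have : x * (a * x) * x⁻¹ = x * (x⁻¹ * a) * x⁻¹ := by rw [h3]
      have h5 : x * (a * x) * x⁻¹ = x * a := by group
      have h6 : x * (x⁻¹ * a) * x⁻¹ = a * x⁻¹ := by group
      rw [h5, h6] at this
      exact this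
    rw [h4, pow_two, mul_inv_rev, mul_assoc]
  have hx2 : x ^ 2 ∈ T := by
    rw [h2] at h1
    have := Subgroup.mul_mem _ (Subgroup.inv_mem _ haT) h1
    rw [inv_mul_cancel_left] at this
    exact (Subgroup.inv_mem_iff _).mp this
  -- `x ^ 2` is a `2`-element of odd order
  obtain ⟨k, hk⟩ := hT ⟨x ^ 2, hx2⟩
  have hk' : (x ^ 2) ^ (2 ^ k) = 1 := by
    have := congrArg Subtype.val hk
    simpa using this
  have hdvd : orderOf x ∣ 2 ^ (k + 1) := by
    apply orderOf_dvd_of_pow_eq_one
    rw [pow_succ', pow_mul]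
    exact hk'
  have hcop : (orderOf x).Coprime (2 ^ (k + 1)) :=
    Nat.Coprime.pow_right _ (Nat.coprime_two_right.mpr hodd)
  have h1' : orderOf x = 1 := Nat.Coprime.eq_one_of_dvd hcop hdvd
  exact orderOf_eq_one_iff.mp h1'

section END
variable {G : Type u} [Group G] [Finite G] {p : ℕ} [Fact p.Prime]
variable (hG : MinCE p G) {T : Sylow 2 G}
  (hD : SEDatum T (Subgroup.normalizer ((T : Subgroup G) : Set G)))
  (hC : ∀ a ∈ (T : Subgroup G), a ≠ 1 →
    Subgroup.centralizer ({a} : Set G) = Subgroup.centralizer ((T : Subgroup G) : Set G))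
include hG hD hC

set_option linter.unusedSectionVars false in
set_option linter.unusedVariables false in
/-- END-[F2]: `a x ∉ N(T)` for `x ≠ 1` of odd order inverted by `a ∈ T`. -/
theorem mul_not_mem_normalizer {a x : G} (haT : a ∈ (T : Subgroup G)) (ha1 : a ≠ 1)
    (hinv : a * x * a⁻¹ = x⁻¹) (hodd : Odd (orderOf x)) (hx1 : x ≠ 1) :
    a * x ∉ Subgroup.normalizer ((T : Subgroup G) : Set G) := fun hmem =>
  hx1 (eq_one_of_inverted_of_mul_mem_normalizer (T : Subgroup G) T.isPGroup' haT hinv hodd hmem)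

end END

end Cfsg.Agent.Lib.Helper86.S1936
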