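import Cfsg.Agent.Lib.Helper86.SatCritExt

/-!
# Every automorphism of the sink extends to `N_S^K` (helper86)

Step C2 of the proof of S5110: for a sink `Ph` of a class without member in `ℋ`, when `F` is `ℋ`-generated, every map
`φ` of the system between members `P`, `φ(P)` of the class becomes, after transport to `Ph` by maps defined on the
normalizers, the restriction of an element of `Aut_F(N_S^K(Ph))` stabilizing `Ph`.
-/

set_option autoImplicit false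
set_option linter.unusedSectionVars false
set_option linter.unusedVariables false

namespace Cfsg.Agent.Lib.Helper86.SatCrit

open Cfsg Cfsg.FusionSystem Cfsg.Agent.Lib.Helper85 Cfsg.Agent.Lib.Helper87

variable {Ω : Type*} [Group Ω] {S : Subgroup Ω}

/-- `φ`, transported to `Ph` by any two maps defined on the normalizers of its source and image, is the restriction of
an element of `Aut_F(N_S^K(Ph))` stabilizing `Ph`. -/
def GoodC (F : FusionSystem S) (p : ℕ) (Ph : Subgroup Ω) (P : Subgroup Ω) (φ : P →* Ω) : Prop :=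
  ∀ ρ ∈ F.Hom (normalizerIn S P), img ρ P = Ph → ∀ ρ' ∈ F.Hom (normalizerIn S φ.range), img ρ' φ.range = Ph →
    ∃ a : stabSub F (nKp F p Ph) Ph, ∀ (x : P) (hx : (x : Ω) ∈ normalizerIn S P)
      (hρQ : ρ ⟨x, hx⟩ ∈ nKp F p Ph) (hx' : φ x ∈ normalizerIn S φ.range),
      ((((a : F.autGroup (nKp F p Ph)) : MulAut (nKp F p Ph)) ⟨ρ ⟨x, hx⟩, hρQ⟩ : nKp F p Ph) : Ω)
        = ρ' ⟨φ x, hx'⟩

theorem range_comp_rangeRestrict {P : Subgroup Ω} (φ : P →* Ω) (ψ : φ.range →* Ω) :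
    (ψ.comp φ.rangeRestrict).range = ψ.range := by
  ext x
  constructor
  · rintro ⟨y, rfl⟩
    exact ⟨_, rfl⟩
  · rintro ⟨⟨_, y, rfl⟩, rfl⟩
    exact ⟨y, rfl⟩

theorem range_eq_of_leftInverse {P : Subgroup Ω} (φ : P →* Ω) (ψ : φ.range →* Ω)
    (hψx : ∀ x : P, ψ ⟨φ x, ⟨x, rfl⟩⟩ = (x : Ω)) : ψ.range = P := by
  ext x
  constructor
  · rintro ⟨⟨_, y, rfl⟩, rfl⟩
    rw [hψx]
    exact y.2
  · intro hx
    exact ⟨⟨φ ⟨x, hx⟩, ⟨_, rfl⟩⟩, hψx _⟩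

variable [Finite S] {p : ℕ} [Fact p.Prime]

/-- **Step C2.** -/
theorem goodC_all (hS : IsPGroup p S) (F : FusionSystem S) (ℋ : Set (Subgroup Ω))
    (hgen : ∀ E : FusionSystem S, (∀ P ∈ ℋ, F.Hom P ⊆ E.Hom P) → F ≤ E) (hSℋ : S ∈ ℋ) {n : ℕ}
    (hbig : BigGood F p n) {Ph : Subgroup Ω} (hPhS : Ph ≤ S) (hPhn : Nat.card Ph = n)
    (hPhℋ : ∀ P, F.IsConj Ph P → P ∉ ℋ) (hsink : ∀ P, F.IsConj Ph P → Sink F Ph P) :
    ∀ P, F.IsConj Ph P → ∀ φ ∈ F.Hom P, GoodC F p Ph P φ := by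
  have hPhQ : Ph ≤ nKp F p Ph := le_nKp F hS hPhS
  apply forall_good_of_gen F ℋ hgen hSℋ {P | F.IsConj Ph P}
    (fun P hP Q hPQ => Helper85.isConj_trans F hP hPQ) (GoodC F p Ph)
  · -- composition
    intro P hP φ ψ hφ hψ h1 h2 ρ hρ hρimg ρ'' hρ'' hρ''img
    have hr : (ψ.comp φ.rangeRestrict).range = ψ.range := range_comp_rangeRestrict φ ψ
    have hconj' : F.IsConj Ph φ.range := Helper85.isConj_trans F hP ⟨φ, hφ, rfl⟩
    obtain ⟨ρ', hρ', hρ'img⟩ := hsink _ hconj'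
    obtain ⟨ρ₃, hρ₃, hρ₃x, hρ₃img⟩ := exists_of_eq F (congrArg (normalizerIn S) hr) hρ''
    have hρ₃img' : img ρ₃ ψ.range = Ph := by
      rw [hρ₃img]
      have h3 : img ρ'' ψ.range = img ρ'' (ψ.comp φ.rangeRestrict).range := congrArg (img ρ'') hr.symm
      rw [h3, hρ''img]
    obtain ⟨a₁, ha₁⟩ := h1 ρ hρ hρimg ρ' hρ' hρ'img
    obtain ⟨a₂, ha₂⟩ := h2 ρ' hρ' hρ'img ρ₃ hρ₃ hρ₃img'
    refine ⟨a₂ * a₁, fun x hx hρQ hx' => ?_⟩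
    have hφxN : φ x ∈ normalizerIn S φ.range :=
      Helper87.le_normalizerIn (Helper85.range_le_of_mem_Hom F hφ) ⟨x, rfl⟩
    have hmem : ρ' ⟨φ x, hφxN⟩ ∈ Ph := by
      have := apply_mem_img ρ' (P := φ.range) ⟨φ x, hφxN⟩ ⟨x, rfl⟩
      rwa [hρ'img] at this
    have hψxN : ψ ⟨φ x, ⟨x, rfl⟩⟩ ∈ normalizerIn S ψ.range :=
      Helper87.le_normalizerIn (Helper85.range_le_of_mem_Hom F hψ) ⟨_, rfl⟩
    have e₁ : ((a₁ : F.autGroup (nKp F p Ph)) : MulAut (nKp F p Ph)) ⟨ρ ⟨x, hx⟩, hρQ⟩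
        = ⟨ρ' ⟨φ x, hφxN⟩, hPhQ hmem⟩ := Subtype.ext (ha₁ x hx hρQ hφxN)
    have e₂ := ha₂ ⟨φ x, ⟨x, rfl⟩⟩ hφxN (hPhQ hmem) hψxN
    have e : (((a₂ * a₁ : stabSub F (nKp F p Ph) Ph) : F.autGroup (nKp F p Ph)) : MulAut (nKp F p Ph))
        ⟨ρ ⟨x, hx⟩, hρQ⟩ = ((a₂ : F.autGroup (nKp F p Ph)) : MulAut (nKp F p Ph)) ⟨ρ' ⟨φ x, hφxN⟩, hPhQ hmem⟩ := by
      show (((a₂ : F.autGroup (nKp F p Ph)) : MulAut (nKp F p Ph))
        * ((a₁ : F.autGroup (nKp F p Ph)) : MulAut (nKp F p Ph))) ⟨ρ ⟨x, hx⟩, hρQ⟩ = _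
      rw [MulAut.mul_apply, e₁]
    rw [e, e₂, hρ₃x]
    rfl
  · -- inverses
    intro P hP φ ψ hφ hψ hψx h1 ρ₁ hρ₁ hρ₁img ρ₂ hρ₂ hρ₂img
    have hr : ψ.range = P := range_eq_of_leftInverse φ ψ hψx
    obtain ⟨ρ₃, hρ₃, hρ₃x, hρ₃img⟩ := exists_of_eq F (congrArg (normalizerIn S) hr) hρ₂
    have hρ₃img' : img ρ₃ P = Ph := by
      rw [hρ₃img]
      have h3 : img ρ₂ P = img ρ₂ ψ.range := congrArg (img ρ₂) hr.symm
      rw [h3, hρ₂img]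
    obtain ⟨a₁, ha₁⟩ := h1 ρ₃ hρ₃ hρ₃img' ρ₁ hρ₁ hρ₁img
    refine ⟨a₁⁻¹, fun y hy hρQ hy' => ?_⟩
    obtain ⟨x, hx⟩ := MonoidHom.mem_range.1 y.2
    have hy1 : y = ⟨φ x, ⟨x, rfl⟩⟩ := Subtype.ext hx.symm
    have hPS : P ≤ S := (F.le_of_mem hφ).1
    have hxN : (x : Ω) ∈ normalizerIn S P := Helper87.le_normalizerIn hPS x.2
    have hmem : ρ₃ ⟨x, hxN⟩ ∈ Ph := by
      have := apply_mem_img ρ₃ (P := P) ⟨x, hxN⟩ x.2
      rwa [hρ₃img'] at this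
    have hφxN : φ x ∈ normalizerIn S φ.range :=
      Helper87.le_normalizerIn (Helper85.range_le_of_mem_Hom F hφ) ⟨x, rfl⟩
    have e₁ : ((a₁ : F.autGroup (nKp F p Ph)) : MulAut (nKp F p Ph)) ⟨ρ₃ ⟨x, hxN⟩, hPhQ hmem⟩
        = ⟨ρ₁ ⟨y, hy⟩, hρQ⟩ := by
      apply Subtype.ext
      rw [ha₁ x hxN (hPhQ hmem) hφxN]
      congr 1
      exact Subtype.ext hx
    have e : (((a₁⁻¹ : stabSub F (nKp F p Ph) Ph) : F.autGroup (nKp F p Ph)) : MulAut (nKp F p Ph))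
        ⟨ρ₁ ⟨y, hy⟩, hρQ⟩ = ⟨ρ₃ ⟨x, hxN⟩, hPhQ hmem⟩ := by
      show (((a₁ : F.autGroup (nKp F p Ph)) : MulAut (nKp F p Ph))⁻¹) ⟨ρ₁ ⟨y, hy⟩, hρQ⟩ = _
      rw [← e₁, MulAut.inv_apply_self]
    rw [e]
    show ρ₃ ⟨↑x, hxN⟩ = ρ₂ ⟨ψ y, hy'⟩
    rw [hρ₃x]
    congr 1
    apply Subtype.ext
    show (x : Ω) = ψ y
    rw [hy1, hψx]
  · -- maps with source in ℋ
    intro R hR θ hθ P hP hPR ρ hρ hρimg ρ' hρ' hρ'img
    have hRS : R ≤ S := (F.le_of_mem hθ).1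
    have hPS : P ≤ S := hPR.trans hRS
    have : Finite R := finite_of_le hRS
    have hne : P ≠ R := fun h => hPhℋ P hP (h ▸ hR)
    have hrg : (θ.comp (Subgroup.inclusion hPR)).range = img θ P := range_restrict_eq_img θ hPR
    have hlt : Nat.card P < Nat.card ↥(normalizerIn R P) := card_lt_card_normalizerIn (hS.to_le hRS) hPR hne
    have hR₁R : normalizerIn R P ≤ R := inf_le_left
    have hR₁N : normalizerIn R P ≤ normalizerIn S P := fun x hx => ⟨hRS hx.1, hx.2⟩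
    have hPR₁ : P ≤ normalizerIn R P := Helper87.le_normalizerIn hPR
    obtain ⟨ρ₁, hρ₁, hρ₁x, hρ₁img⟩ := exists_restrict (R₀ := normalizerIn R P) F hρ hR₁N
    obtain ⟨ψ, hψ, hψx, hψimg⟩ := exists_inverse F hρ₁
    obtain ⟨θ₁, hθ₁, hθ₁x, hθ₁img⟩ := exists_restrict (R₀ := normalizerIn R P) F hθ hR₁R
    obtain ⟨ρ₃, hρ₃, hρ₃x, hρ₃img⟩ := exists_of_eq F (congrArg (normalizerIn S) hrg) hρ'
    have hρ₃img' : img ρ₃ (img θ P) = Ph := by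
      rw [hρ₃img]
      have h3 : img ρ' (img θ P) = img ρ' (θ.comp (Subgroup.inclusion hPR)).range :=
        congrArg (img ρ') hrg.symm
      rw [h3, hρ'img]
    have hθ₁N : ∀ d : ↥(normalizerIn R P), θ₁ d ∈ normalizerIn S (img θ P) := by
      intro d
      have := map_mem_normalizerIn_img F hθ₁ (P := P) d d.2.2
      rwa [hθ₁img P hPR₁] at this
    obtain ⟨χ', hχ', hχ'x, hχ'img⟩ := exists_comp F hθ₁ hρ₃ hθ₁N
    have hψD : ∀ y : ρ₁.range, ψ y ∈ normalizerIn R P := by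
      intro y
      obtain ⟨x, hx⟩ := MonoidHom.mem_range.1 y.2
      have h1 : y = ⟨ρ₁ x, ⟨x, rfl⟩⟩ := Subtype.ext hx.symm
      rw [h1, hψx]
      exact x.2
    obtain ⟨χ, hχ, hχx, hχimg⟩ := exists_comp F hψ hχ' hψD
    have hρ₁P : img ρ₁ P = Ph := by rw [hρ₁img P hPR₁, hρimg]
    have hPhR₃ : Ph ≤ ρ₁.range := hρ₁P ▸ img_le_range ρ₁ P
    have hR₃N : ρ₁.range ≤ Subgroup.normalizer (Ph : Set Ω) := by
      rw [← img_self ρ₁, ← hρ₁P]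
      exact img_le_normalizer_img ρ₁ inf_le_right
    have hχPh : img χ Ph = Ph := by
      rw [hχimg]
      have h1 : img ψ Ph = P := by
        rw [← hρ₁P]
        exact hψimg P hPR₁
      rw [h1, hχ'img, hθ₁img P hPR₁, hρ₃img']
    have hcardR₃ : Nat.card ρ₁.range = Nat.card ↥(normalizerIn R P) := by
      rw [← img_self ρ₁, card_img (F.injective_of_mem hρ₁) le_rfl]
    have hcardP : Nat.card Ph = Nat.card P := Helper85.isConj_card_eq F hP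
    obtain ⟨a, ha⟩ := extAut_of_map hS F hbig hPhn hsink _ ρ₁.range χ le_rfl hχ hPhR₃ hR₃N (by omega) hχPh
    refine ⟨a, fun x hx hρQ hx' => ?_⟩
    have hxR₁ : (x : Ω) ∈ normalizerIn R P := hPR₁ x.2
    have hmem : ρ ⟨x, hx⟩ ∈ Ph := by
      have := apply_mem_img ρ (P := P) ⟨x, hx⟩ x.2
      rwa [hρimg] at this
    have h1 : ρ ⟨x, hx⟩ = ρ₁ ⟨x, hxR₁⟩ := by rw [hρ₁x]
    have hmemR₃ : ρ ⟨x, hx⟩ ∈ ρ₁.range := hPhR₃ hmem
    rw [ha _ hmem hmemR₃ hρQ, hχx]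
    have h2 : (⟨ρ ⟨x, hx⟩, hmemR₃⟩ : ρ₁.range) = ⟨ρ₁ ⟨x, hxR₁⟩, ⟨_, rfl⟩⟩ := Subtype.ext h1
    have h3 : ψ ⟨ρ ⟨x, hx⟩, hmemR₃⟩ = (x : Ω) := by rw [h2, hψx]
    have h4 : (⟨ψ ⟨ρ ⟨x, hx⟩, hmemR₃⟩, hψD _⟩ : ↥(normalizerIn R P)) = ⟨x, hxR₁⟩ := Subtype.ext h3
    rw [h4, hχ'x, hρ₃x]
    congr 1
    apply Subtype.ext
    show θ₁ ⟨x, hxR₁⟩ = θ ⟨x, hPR x.2⟩
    rw [hθ₁x]

/-- every element of `Aut_F(Ph)` is the restriction of an element of `Aut_F(N_S^K(Ph))` stabilizing `Ph` -/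
theorem exists_stab_of_aut (hS : IsPGroup p S) (F : FusionSystem S) {Ph : Subgroup Ω} (hPhS : Ph ≤ S)
    (hgood : ∀ P, F.IsConj Ph P → ∀ φ ∈ F.Hom P, GoodC F p Ph P φ) {α : MulAut Ph} (hα : α ∈ F.autGroup Ph) :
    ∃ a : stabSub F (nKp F p Ph) Ph, resStab F (le_nKp F hS hPhS) a = α := by
  have hφ : autHom α ∈ F.Hom Ph := autHom_mem F hPhS hα
  have hr : (autHom α).range = Ph := autHom_range α
  have hNS : normalizerIn S Ph ≤ S := normalizerIn_le S Ph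
  have hN'S : normalizerIn S (autHom α).range ≤ S := normalizerIn_le S _
  have hPhN : Ph ≤ normalizerIn S Ph := Helper87.le_normalizerIn hPhS
  have himg' : img (normalizerIn S (autHom α).range).subtype (autHom α).range = Ph := by
    rw [img_subtype (Helper87.le_normalizerIn (hr.symm ▸ hPhS)), hr]
  obtain ⟨a, ha⟩ := hgood Ph (Helper85.isConj_refl F hPhS) (autHom α) hφ _ (Helper85.id_mem F hNS)
    (img_subtype hPhN) _ (Helper85.id_mem F hN'S) himg'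
  refine ⟨a, ?_⟩
  ext x
  rw [resStab_apply]
  have hxN : ((x : Ph) : Ω) ∈ normalizerIn S Ph := hPhN x.2
  have hx' : autHom α x ∈ normalizerIn S (autHom α).range :=
    Helper87.le_normalizerIn (hr.symm ▸ hPhS) ⟨x, rfl⟩
  exact ha x hxN (le_nKp F hS hPhS x.2) hx'

end Cfsg.Agent.Lib.Helper86.SatCrit
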