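import Cfsg.Agent.Lib.Helper85.FusionBasic
import Cfsg.Agent.Lib.Helper85.FusionRS
import Cfsg.Agent.Lib.Helper87.FusionSat
import Cfsg.Agent.Lib.Helper88.FusionAut

/-!
# Basic API for the saturation criterion S5110 (helper86)

`img φ P` is the image `φ(P ∩ R)` of a subgroup under a homomorphism `φ : R →* Ω`, as a subgroup of the ambient
group; `Sink F Ph P` says that some map of the system defined on `N_S(P)` carries `P` onto `Ph`.
-/

set_option autoImplicit false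

namespace Cfsg.Agent.Lib.Helper86.SatCrit

open Cfsg Cfsg.FusionSystem Cfsg.Agent.Lib.Helper85 Cfsg.Agent.Lib.Helper87

variable {Ω : Type*} [Group Ω] {S : Subgroup Ω}

/-- The image of (the part in `R` of) a subgroup `P` under `φ : R →* Ω`. -/
def img {R : Subgroup Ω} (φ : R →* Ω) (P : Subgroup Ω) : Subgroup Ω := (P.subgroupOf R).map φ

theorem mem_img {R : Subgroup Ω} {φ : R →* Ω} {P : Subgroup Ω} {x : Ω} :
    x ∈ img φ P ↔ ∃ y : R, (y : Ω) ∈ P ∧ φ y = x := by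
  unfold img
  rw [Subgroup.mem_map]
  constructor
  · rintro ⟨y, hy, rfl⟩
    exact ⟨y, Subgroup.mem_subgroupOf.1 hy, rfl⟩
  · rintro ⟨y, hy, rfl⟩
    exact ⟨y, Subgroup.mem_subgroupOf.2 hy, rfl⟩

theorem apply_mem_img {R : Subgroup Ω} (φ : R →* Ω) {P : Subgroup Ω} (y : R) (hy : (y : Ω) ∈ P) :
    φ y ∈ img φ P := mem_img.2 ⟨y, hy, rfl⟩

theorem img_mono {R : Subgroup Ω} (φ : R →* Ω) {P P' : Subgroup Ω} (h : P ≤ P') : img φ P ≤ img φ P' := by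
  intro x hx
  obtain ⟨y, hy, rfl⟩ := mem_img.1 hx
  exact apply_mem_img φ y (h hy)

theorem img_le_range {R : Subgroup Ω} (φ : R →* Ω) (P : Subgroup Ω) : img φ P ≤ φ.range := by
  intro x hx
  obtain ⟨y, -, rfl⟩ := mem_img.1 hx
  exact ⟨y, rfl⟩

theorem img_of_le {R : Subgroup Ω} (φ : R →* Ω) {P : Subgroup Ω} (h : R ≤ P) : img φ P = φ.range := by
  apply le_antisymm (img_le_range φ P)
  rintro _ ⟨y, rfl⟩
  exact apply_mem_img φ y (h y.2)

theorem img_self {R : Subgroup Ω} (φ : R →* Ω) : img φ R = φ.range := img_of_le φ le_rfl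

theorem img_subtype {R P : Subgroup Ω} (h : P ≤ R) : img R.subtype P = P := by
  ext x
  rw [mem_img]
  constructor
  · rintro ⟨y, hy, rfl⟩
    exact hy
  · intro hx
    exact ⟨⟨x, h hx⟩, hx, rfl⟩

theorem img_comp {R R' : Subgroup Ω} (φ : R →* Ω) (ψ : R' →* Ω) (h : ∀ x : R, φ x ∈ R') (P : Subgroup Ω) :
    img (ψ.comp (φ.codRestrict R' h)) P = img ψ (img φ P) := by
  ext x
  rw [mem_img, mem_img]
  constructor
  · rintro ⟨y, hy, rfl⟩
    exact ⟨⟨φ y, h y⟩, apply_mem_img φ y hy, rfl⟩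
  · rintro ⟨z, hz, rfl⟩
    obtain ⟨y, hy, hyz⟩ := mem_img.1 hz
    refine ⟨y, hy, ?_⟩
    show ψ ⟨φ y, h y⟩ = ψ z
    congr 1
    exact Subtype.ext hyz

theorem img_congr {R : Subgroup Ω} {φ ψ : R →* Ω} {P : Subgroup Ω}
    (h : ∀ y : R, (y : Ω) ∈ P → φ y = ψ y) : img φ P = img ψ P := by
  ext x
  rw [mem_img, mem_img]
  constructor
  · rintro ⟨y, hy, rfl⟩
    exact ⟨y, hy, (h y hy).symm⟩
  · rintro ⟨y, hy, rfl⟩
    exact ⟨y, hy, h y hy⟩

/-- image under a map agreeing with `φ` on a smaller domain -/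
theorem img_of_agree {R R₀ : Subgroup Ω} (φ : R →* Ω) (χ : R₀ →* Ω) (h : R₀ ≤ R)
    (hχ : ∀ x : R₀, χ x = φ ⟨x, h x.2⟩) {P : Subgroup Ω} (hP : P ≤ R₀) : img χ P = img φ P := by
  ext x
  rw [mem_img, mem_img]
  constructor
  · rintro ⟨y, hy, rfl⟩
    exact ⟨⟨y, h y.2⟩, hy, (hχ y).symm⟩
  · rintro ⟨y, hy, rfl⟩
    exact ⟨⟨y, hP hy⟩, hy, hχ _⟩

theorem card_img {R : Subgroup Ω} {φ : R →* Ω} (hφ : Function.Injective φ) {P : Subgroup Ω} (h : P ≤ R) :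
    Nat.card (img φ P) = Nat.card P := by
  unfold img
  rw [Subgroup.card_map_of_injective hφ]
  exact Nat.card_congr (Subgroup.subgroupOfEquivOfLe h).toEquiv

theorem img_inv {R : Subgroup Ω} {φ : R →* Ω} {R' : Subgroup Ω} {ψ : R' →* Ω}
    (hψ : ∀ (x : R) (hx : φ x ∈ R'), ψ ⟨φ x, hx⟩ = (x : Ω)) (hR' : φ.range ≤ R')
    {P : Subgroup Ω} (hPR : P ≤ R) : img ψ (img φ P) = P := by
  ext x
  rw [mem_img]
  constructor
  · rintro ⟨z, hz, rfl⟩
    obtain ⟨y, hy, hyz⟩ := mem_img.1 hz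
    have : z = ⟨φ y, hR' ⟨y, rfl⟩⟩ := Subtype.ext hyz.symm
    rw [this, hψ]
    exact hy
  · intro hx
    refine ⟨⟨φ ⟨x, hPR hx⟩, hR' ⟨_, rfl⟩⟩, apply_mem_img φ _ hx, ?_⟩
    rw [hψ]

/-- `φ(g)` normalizes `φ(P)` when `g` normalizes `P`. -/
theorem map_mem_normalizer_img {R : Subgroup Ω} (φ : R →* Ω) {P : Subgroup Ω} (g : R)
    (hg : (g : Ω) ∈ Subgroup.normalizer (P : Set Ω)) : φ g ∈ Subgroup.normalizer (img φ P : Set Ω) := by
  rw [Subgroup.mem_normalizer_iff]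
  intro n
  constructor
  · intro hn
    obtain ⟨y, hy, rfl⟩ := mem_img.1 hn
    have h1 : φ g * φ y * (φ g)⁻¹ = φ (g * y * g⁻¹) := by simp
    rw [h1]
    apply apply_mem_img
    have := (Subgroup.mem_normalizer_iff.1 hg (y : Ω)).1 hy
    simpa using this
  · intro hn
    obtain ⟨y, hy, hyn⟩ := mem_img.1 hn
    have h1 : n = φ (g⁻¹ * y * g) := by
      have : φ (g⁻¹ * y * g) = (φ g)⁻¹ * φ y * φ g := by simp
      rw [this, hyn]
      group
    rw [h1]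
    apply apply_mem_img
    have h2 := (Subgroup.mem_normalizer_iff.1 hg ((g : Ω)⁻¹ * (y : Ω) * (g : Ω))).2
    have h3 : (g : Ω) * ((g : Ω)⁻¹ * (y : Ω) * (g : Ω)) * (g : Ω)⁻¹ = (y : Ω) := by group
    rw [h3] at h2
    simpa using h2 hy

theorem map_mem_normalizerIn_img (F : FusionSystem S) {R : Subgroup Ω} {φ : R →* Ω} (hφ : φ ∈ F.Hom R)
    {P : Subgroup Ω} (g : R) (hg : (g : Ω) ∈ Subgroup.normalizer (P : Set Ω)) :
    φ g ∈ normalizerIn S (img φ P) :=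
  ⟨(F.le_of_mem hφ).2 g, map_mem_normalizer_img φ g hg⟩

/-- `P` is carried onto `Ph` by a map of the system defined on the whole of `N_S(P)`. -/
def Sink (F : FusionSystem S) (Ph P : Subgroup Ω) : Prop :=
  ∃ ρ ∈ F.Hom (normalizerIn S P), img ρ P = Ph

theorem isConj_img (F : FusionSystem S) {R : Subgroup Ω} {φ : R →* Ω} (hφ : φ ∈ F.Hom R)
    {P : Subgroup Ω} (hPR : P ≤ R) : F.IsConj P (img φ P) := by
  refine ⟨φ.comp (Subgroup.inclusion hPR), Helper85.restrict_mem F hφ hPR, ?_⟩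
  ext x
  rw [mem_img]
  constructor
  · rintro ⟨y, rfl⟩
    exact ⟨⟨y, hPR y.2⟩, y.2, rfl⟩
  · rintro ⟨y, hy, rfl⟩
    exact ⟨⟨y, hy⟩, rfl⟩

theorem Sink.isConj {F : FusionSystem S} {Ph P : Subgroup Ω} (hPS : P ≤ S) (h : Sink F Ph P) : F.IsConj P Ph := by
  obtain ⟨ρ, hρ, rfl⟩ := h
  exact isConj_img F hρ (le_normalizerIn hPS)

/-- composition of two maps of the system, with its image formula -/
theorem exists_comp (F : FusionSystem S) {R R' : Subgroup Ω} {φ : R →* Ω} {ψ : R' →* Ω}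
    (hφ : φ ∈ F.Hom R) (hψ : ψ ∈ F.Hom R') (h : ∀ x : R, φ x ∈ R') :
    ∃ χ ∈ F.Hom R, (∀ x : R, χ x = ψ ⟨φ x, h x⟩) ∧ ∀ P : Subgroup Ω, img χ P = img ψ (img φ P) :=
  ⟨ψ.comp (φ.codRestrict R' h), F.comp_mem hφ hψ h, fun _ => rfl, fun P => img_comp φ ψ h P⟩

/-- restriction of a map of the system, with its image formula -/
theorem exists_restrict (F : FusionSystem S) {R R₀ : Subgroup Ω} {φ : R →* Ω}
    (hφ : φ ∈ F.Hom R) (h : R₀ ≤ R) :
    ∃ χ ∈ F.Hom R₀, (∀ x : R₀, χ x = φ ⟨x, h x.2⟩) ∧ ∀ P : Subgroup Ω, P ≤ R₀ → img χ P = img φ P :=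
  ⟨φ.comp (Subgroup.inclusion h), Helper85.restrict_mem F hφ h, fun _ => rfl,
    fun _ hP => img_of_agree φ _ h (fun _ => rfl) hP⟩

/-- inverse of a map of the system, with its image formula -/
theorem exists_inverse (F : FusionSystem S) {R : Subgroup Ω} {φ : R →* Ω} (hφ : φ ∈ F.Hom R) :
    ∃ ψ ∈ F.Hom φ.range, (∀ x : R, ψ ⟨φ x, ⟨x, rfl⟩⟩ = (x : Ω)) ∧
      ∀ P : Subgroup Ω, P ≤ R → img ψ (img φ P) = P := by
  obtain ⟨ψ, hψ, hψx⟩ := F.inv_mem hφ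
  refine ⟨ψ, hψ, hψx, fun P hP => ?_⟩
  exact img_inv (fun x _ => hψx x) le_rfl hP

/-- transport of a map along an equality of domains -/
theorem exists_of_eq (F : FusionSystem S) {R R' : Subgroup Ω} (h : R = R') {φ : R →* Ω} (hφ : φ ∈ F.Hom R) :
    ∃ χ ∈ F.Hom R', (∀ x : R', χ x = φ ⟨x, h ▸ x.2⟩) ∧ ∀ P : Subgroup Ω, img χ P = img φ P := by
  subst h
  exact ⟨φ, hφ, fun _ => rfl, fun _ => rfl⟩

end Cfsg.Agent.Lib.Helper86.SatCrit
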