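import Cfsg.Agent.Lib.Helper86.SatCritPair

/-!
# The decomposition lemma for the saturation criterion S5110 (helper86)

Given a map `θ` of the system on `R`, a subgroup `P` normal in `R` and a fully automized receptive conjugate `Rs` of
`R`: both pairs `(R, P)` and `(θ(R), θ(P))` are carried, by maps defined on `N_S(R) ∩ N_S(P)` and on
`N_S(θ R) ∩ N_S(θ P)`, onto one and the same pair `(Rs, P₂)` satisfying `SylowCond`, and `θ` becomes an element `γ` of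
`Aut_F(Rs)` stabilizing `P₂`.
-/

set_option autoImplicit false

namespace Cfsg.Agent.Lib.Helper86.SatCrit

open Cfsg Cfsg.FusionSystem Cfsg.Agent.Lib.Helper85 Cfsg.Agent.Lib.Helper87

variable {Ω : Type*} [Group Ω] {S : Subgroup Ω}

theorem img_autHom_mul {R : Subgroup Ω} (α β : MulAut R) (Q : Subgroup Ω) :
    img (autHom (α * β)) Q = img (autHom α) (img (autHom β) Q) := by
  ext x
  rw [mem_img, mem_img]
  constructor
  · rintro ⟨y, hy, rfl⟩
    exact ⟨β y, apply_mem_img (autHom β) y hy, rfl⟩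
  · rintro ⟨z, hz, rfl⟩
    obtain ⟨y, hy, hyz⟩ := mem_img.1 hz
    refine ⟨y, hy, ?_⟩
    have : β y = z := Subtype.ext hyz
    simp [← this]

theorem img_autHom_one {R Q : Subgroup Ω} (hQ : Q ≤ R) : img (autHom (1 : MulAut R)) Q = Q := by
  have : autHom (1 : MulAut R) = R.subtype := by
    ext x
    rfl
  rw [this, img_subtype hQ]

theorem img_autHom_inv {R : Subgroup Ω} (α : MulAut R) {Q : Subgroup Ω} (hQ : Q ≤ R) :
    img (autHom α⁻¹) (img (autHom α) Q) = Q := by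
  rw [← img_autHom_mul, inv_mul_cancel, img_autHom_one hQ]

theorem img_autHom_self {R : Subgroup Ω} (α : MulAut R) : img (autHom α) R = R := by
  rw [img_self, autHom_range]

/-- the image of a subgroup normalizing `P` normalizes the image of `P` -/
theorem img_le_normalizer_img {D : Subgroup Ω} (φ : D →* Ω) {R P : Subgroup Ω}
    (hRN : R ≤ Subgroup.normalizer (P : Set Ω)) : img φ R ≤ Subgroup.normalizer (img φ P : Set Ω) := by
  intro x hx
  obtain ⟨y, hy, rfl⟩ := mem_img.1 hx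
  exact map_mem_normalizer_img φ y (hRN hy)

/-- a map agreeing with an automorphism `α` of `R` on `R` has the same images of subgroups of `R` -/
theorem img_eq_img_autHom {D R : Subgroup Ω} (θ : D →* Ω) (α : MulAut R) (hRD : R ≤ D)
    (h : ∀ (x : Ω) (hx : x ∈ R) (hx' : x ∈ D), θ ⟨x, hx'⟩ = ((α ⟨x, hx⟩ : R) : Ω)) {Q : Subgroup Ω} (hQ : Q ≤ R) :
    img θ Q = img (autHom α) Q :=
  (img_of_agree θ (autHom α) hRD (fun x => (h x x.2 (hRD x.2)).symm) hQ).symm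

variable [Finite S] {p : ℕ} [Fact p.Prime]

/-- a map of the system on `N_S(R)` carrying `R` onto a fully automized receptive conjugate -/
theorem exists_map_to_good (hS : IsPGroup p S) (F : FusionSystem S) {R Rs : Subgroup Ω}
    (hRsa : F.IsFullyAutomized p Rs) (hRsr : F.IsReceptive Rs) (hconj : F.IsConj R Rs) :
    ∃ (ψ : normalizerIn S R →* Ω) (e : R ≃* Rs), ψ ∈ F.Hom (normalizerIn S R) ∧ IsIso F e ∧
      (∀ (x : Ω) (hx : x ∈ R) (hx' : x ∈ normalizerIn S R), ψ ⟨x, hx'⟩ = e ⟨x, hx⟩) ∧ img ψ R = Rs := by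
  obtain ⟨ψ, e, hψ, he, hψe⟩ := exists_extension F hS hRsa hRsr hconj
  refine ⟨ψ, e, hψ, he, hψe, ?_⟩
  have hRS : R ≤ S := he.le_left
  ext x
  rw [mem_img]
  constructor
  · rintro ⟨y, hy, rfl⟩
    rw [show y = ⟨(y : Ω), y.2⟩ from rfl, hψe y hy y.2]
    exact (e _).2
  · intro hx
    refine ⟨⟨(e.symm ⟨x, hx⟩ : R), le_normalizerIn hRS (e.symm ⟨x, hx⟩).2⟩, (e.symm ⟨x, hx⟩).2, ?_⟩
    rw [hψe _ (e.symm ⟨x, hx⟩).2]
    simp

/-- **Decomposition lemma.** -/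
theorem exists_decomp (hS : IsPGroup p S) (F : FusionSystem S) {R Rs P : Subgroup Ω} {θ : R →* Ω}
    (hθ : θ ∈ F.Hom R) (hPR : P ≤ R) (hRN : R ≤ Subgroup.normalizer (P : Set Ω))
    (hRsa : F.IsFullyAutomized p Rs) (hRsr : F.IsReceptive Rs) (hconj : F.IsConj R Rs) :
    ∃ (P₂ : Subgroup Ω) (ω : ↥(normalizerIn S R ⊓ normalizerIn S P) →* Ω)
      (ω' : ↥(normalizerIn S θ.range ⊓ normalizerIn S (img θ P)) →* Ω) (γ : MulAut Rs),
      P₂ ≤ Rs ∧ Rs ≤ Subgroup.normalizer (P₂ : Set Ω) ∧ SylowCond F p Rs P₂ ∧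
      ω ∈ F.Hom (normalizerIn S R ⊓ normalizerIn S P) ∧ img ω R = Rs ∧ img ω P = P₂ ∧
      ω' ∈ F.Hom (normalizerIn S θ.range ⊓ normalizerIn S (img θ P)) ∧ img ω' θ.range = Rs ∧
      img ω' (img θ P) = P₂ ∧
      γ ∈ F.autGroup Rs ∧ img (autHom γ) P₂ = P₂ ∧
      ∀ (x : R) (hx : (x : Ω) ∈ normalizerIn S R ⊓ normalizerIn S P)
        (hx' : θ x ∈ normalizerIn S θ.range ⊓ normalizerIn S (img θ P)) (hω : ω ⟨x, hx⟩ ∈ Rs),
        ((γ ⟨ω ⟨x, hx⟩, hω⟩ : Rs) : Ω) = ω' ⟨θ x, hx'⟩ := by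
  have hRS : R ≤ S := (F.le_of_mem hθ).1
  have hRsS : Rs ≤ S := hRsr.1
  have hR'S : θ.range ≤ S := Helper85.range_le_of_mem_Hom F hθ
  obtain ⟨ψ, e, hψ, he, hψe, hψR⟩ := exists_map_to_good hS F hRsa hRsr hconj
  have hconj' : F.IsConj θ.range Rs := Helper85.isConj_trans F (Helper85.isConj_symm F ⟨θ, hθ, rfl⟩) hconj
  obtain ⟨ψ', e', hψ', he', hψe', hψ'R⟩ := exists_map_to_good hS F hRsa hRsr hconj'
  -- θ as an isomorphism
  let θe : R ≃* θ.range := MonoidHom.ofInjective (F.injective_of_mem hθ)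
  have hθe : IsIso F θe := isIso_ofInjective F hθ
  have hθe_apply : ∀ x : R, ((θe x : θ.range) : Ω) = θ x := fun _ => rfl
  let α₀ : MulAut Rs := (e.symm.trans θe).trans e'
  have hα₀ : α₀ ∈ F.autGroup Rs := (Helper87.mem_autGroup_iff F hRsS).2 ((he.symm.trans hθe).trans he')
  have hα₀e : ∀ x : R, α₀ (e x) = e' (θe x) := by
    intro x
    simp [α₀]
  -- images of P
  have hP'R' : img θ P ≤ θ.range := img_le_range θ P
  have hPsRs : img ψ P ≤ Rs := hψR ▸ img_mono ψ hPR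
  have hPs'Rs : img ψ' (img θ P) ≤ Rs := hψ'R ▸ img_mono ψ' hP'R'
  have hα₀P : img (autHom α₀) (img ψ P) = img ψ' (img θ P) := by
    ext x
    rw [mem_img, mem_img]
    constructor
    · rintro ⟨y, hy, rfl⟩
      obtain ⟨z, hz, hzy⟩ := mem_img.1 hy
      have hzR : (z : Ω) ∈ R := hPR hz
      have h1 : y = e ⟨z, hzR⟩ := by
        apply Subtype.ext
        rw [← hzy]
        exact hψe z hzR z.2
      refine ⟨⟨θ ⟨z, hzR⟩, le_normalizerIn hR'S ⟨_, rfl⟩⟩, apply_mem_img θ ⟨z, hzR⟩ hz, ?_⟩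
      rw [hψe' _ ⟨_, rfl⟩, autHom_apply, h1, hα₀e]
      rfl
    · rintro ⟨y, hy, rfl⟩
      obtain ⟨z, hz, hzy⟩ := mem_img.1 hy
      refine ⟨e z, ?_, ?_⟩
      · rw [mem_img]
        refine ⟨⟨z, le_normalizerIn hRS z.2⟩, hz, ?_⟩
        rw [hψe _ z.2]
      · rw [autHom_apply, hα₀e]
        have h2 : y = ⟨((θe z : θ.range) : Ω), le_normalizerIn hR'S (θe z).2⟩ := Subtype.ext hzy.symm
        rw [h2, hψe' _ (θe z).2]
  -- the sink of the orbit
  obtain ⟨α₁, hα₁, hsyl⟩ := exists_sylowCond F hRsa (img ψ' (img θ P))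
  have hP₂ : img (autHom α₁) (img ψ' (img θ P)) ≤ Rs := img_autHom_le _ _
  obtain ⟨g', hg', hg'P, θ₂, hθ₂, hθ₂x⟩ := exists_ext_to_sink F hRsa hRsr hP₂ hsyl hα₁ rfl
  have hβP : img (autHom (α₁ * α₀)) (img ψ P) = img (autHom α₁) (img ψ' (img θ P)) := by
    rw [img_autHom_mul, hα₀P]
  obtain ⟨g, hg, hgP, θ₁, hθ₁, hθ₁x⟩ := exists_ext_to_sink F hRsa hRsr hP₂ hsyl (mul_mem hα₁ hα₀) hβP
  -- normality transported
  have hRsNs : Rs ≤ Subgroup.normalizer (img ψ P : Set Ω) := by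
    rw [← hψR]
    exact img_le_normalizer_img ψ hRN
  have hR'N : θ.range ≤ Subgroup.normalizer (img θ P : Set Ω) := by
    rw [← img_self θ]
    exact img_le_normalizer_img θ hRN
  have hRsNs' : Rs ≤ Subgroup.normalizer (img ψ' (img θ P) : Set Ω) := by
    rw [← hψ'R]
    exact img_le_normalizer_img ψ' hR'N
  have hRsD₁ : Rs ≤ normalizerIn S Rs ⊓ normalizerIn S (img ψ P) :=
    le_inf (le_normalizerIn hRsS) (le_inf hRsS hRsNs)
  have hRsD₂ : Rs ≤ normalizerIn S Rs ⊓ normalizerIn S (img ψ' (img θ P)) :=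
    le_inf (le_normalizerIn hRsS) (le_inf hRsS hRsNs')
  -- ω
  have hRD : R ≤ normalizerIn S R ⊓ normalizerIn S P := le_inf (le_normalizerIn hRS) (le_inf hRS hRN)
  have hPD : P ≤ normalizerIn S R ⊓ normalizerIn S P := hPR.trans hRD
  obtain ⟨χ, hχ, hχx, hχimg⟩ := exists_restrict F hψ
    (inf_le_left : normalizerIn S R ⊓ normalizerIn S P ≤ normalizerIn S R)
  have hχD : ∀ d : ↥(normalizerIn S R ⊓ normalizerIn S P),
      χ d ∈ normalizerIn S Rs ⊓ normalizerIn S (img ψ P) := by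
    intro d
    refine ⟨?_, ?_⟩
    · have := map_mem_normalizerIn_img F hχ (P := R) d d.2.1.2
      rwa [hχimg R hRD, hψR] at this
    · have := map_mem_normalizerIn_img F hχ (P := P) d d.2.2.2
      rwa [hχimg P hPD] at this
  obtain ⟨ω, hω, hωx, hωimg⟩ := exists_comp F hχ hθ₁ hχD
  have hωR : img ω R = Rs := by
    rw [hωimg, hχimg R hRD, hψR, img_eq_img_autHom θ₁ g hRsD₁ hθ₁x le_rfl, img_autHom_self]
  have hωP : img ω P = img (autHom α₁) (img ψ' (img θ P)) := by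
    rw [hωimg, hχimg P hPD, img_eq_img_autHom θ₁ g hRsD₁ hθ₁x hPsRs, hgP]
  -- ω'
  have hR'D : θ.range ≤ normalizerIn S θ.range ⊓ normalizerIn S (img θ P) :=
    le_inf (le_normalizerIn hR'S) (le_inf hR'S hR'N)
  have hP'D : img θ P ≤ normalizerIn S θ.range ⊓ normalizerIn S (img θ P) := hP'R'.trans hR'D
  obtain ⟨χ', hχ', hχ'x, hχ'img⟩ := exists_restrict F hψ'
    (inf_le_left : normalizerIn S θ.range ⊓ normalizerIn S (img θ P) ≤ normalizerIn S θ.range)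
  have hχ'D : ∀ d : ↥(normalizerIn S θ.range ⊓ normalizerIn S (img θ P)),
      χ' d ∈ normalizerIn S Rs ⊓ normalizerIn S (img ψ' (img θ P)) := by
    intro d
    refine ⟨?_, ?_⟩
    · have := map_mem_normalizerIn_img F hχ' (P := θ.range) d d.2.1.2
      rwa [hχ'img θ.range hR'D, hψ'R] at this
    · have := map_mem_normalizerIn_img F hχ' (P := img θ P) d d.2.2.2
      rwa [hχ'img (img θ P) hP'D] at this
  obtain ⟨ω', hω', hω'x, hω'img⟩ := exists_comp F hχ' hθ₂ hχ'D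
  have hω'R : img ω' θ.range = Rs := by
    rw [hω'img, hχ'img θ.range hR'D, hψ'R, img_eq_img_autHom θ₂ g' hRsD₂ hθ₂x le_rfl, img_autHom_self]
  have hω'P : img ω' (img θ P) = img (autHom α₁) (img ψ' (img θ P)) := by
    rw [hω'img, hχ'img (img θ P) hP'D, img_eq_img_autHom θ₂ g' hRsD₂ hθ₂x hPs'Rs, hg'P]
  -- γ
  have hγ : g' * α₀ * g⁻¹ ∈ F.autGroup Rs := mul_mem (mul_mem hg' hα₀) (inv_mem hg)
  have hγP : img (autHom (g' * α₀ * g⁻¹)) (img (autHom α₁) (img ψ' (img θ P)))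
      = img (autHom α₁) (img ψ' (img θ P)) := by
    rw [img_autHom_mul, img_autHom_mul]
    conv_lhs => rw [← hgP]
    rw [img_autHom_inv g hPsRs, hα₀P, hg'P]
  have hP₂N : Rs ≤ Subgroup.normalizer (img (autHom α₁) (img ψ' (img θ P)) : Set Ω) := by
    have h1 := img_le_normalizer_img (autHom α₁) hRsNs'
    rwa [img_autHom_self] at h1
  refine ⟨_, ω, ω', g' * α₀ * g⁻¹, hP₂, hP₂N, hsyl, hω, hωR, hωP, hω', hω'R, hω'P, hγ, hγP, ?_⟩
  intro x hx hx' hωRs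
  -- compute ω x
  have h1 : ω ⟨x, hx⟩ = ((g (e x) : Rs) : Ω) := by
    rw [hωx]
    have h2 : χ ⟨x, hx⟩ = ((e x : Rs) : Ω) := by
      rw [hχx]
      exact hψe x x.2 _
    have h3 : (⟨χ ⟨x, hx⟩, hχD ⟨x, hx⟩⟩ : ↥(normalizerIn S Rs ⊓ normalizerIn S (img ψ P)))
        = ⟨((e x : Rs) : Ω), hRsD₁ (e x).2⟩ := Subtype.ext h2
    rw [h3, hθ₁x _ (e x).2]
  have h4 : ω' ⟨θ x, hx'⟩ = ((g' (e' (θe x)) : Rs) : Ω) := by
    rw [hω'x]
    have h2 : χ' ⟨θ x, hx'⟩ = ((e' (θe x) : Rs) : Ω) := by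
      rw [hχ'x]
      exact hψe' (θ x) ⟨x, rfl⟩ _
    have h3 : (⟨χ' ⟨θ x, hx'⟩, hχ'D ⟨θ x, hx'⟩⟩ :
        ↥(normalizerIn S Rs ⊓ normalizerIn S (img ψ' (img θ P))))
        = ⟨((e' (θe x) : Rs) : Ω), hRsD₂ (e' (θe x)).2⟩ := Subtype.ext h2
    rw [h3, hθ₂x _ (e' (θe x)).2]
  have h5 : (⟨ω ⟨x, hx⟩, hωRs⟩ : Rs) = g (e x) := Subtype.ext h1
  rw [h5, h4]
  simp only [MulAut.mul_apply, MulAut.inv_apply_self]
  rw [hα₀e]

end Cfsg.Agent.Lib.Helper86.SatCrit
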