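import Cfsg.Agent.Lib.Helper86.SatCritStab
import Cfsg.Agent.Lib.Helper85.FusionGroupSat

/-!
# Extending automorphisms of the sink to `N_S^K` (helper86)

Step C2' of the proof of S5110. `Ph` is a sink of its class and every larger subgroup has a fully automized receptive
conjugate. Then every map of the system defined on a subgroup `R` with `Ph < R ≤ N_S(Ph)` and stabilizing `Ph` restricts
on `Ph` to the restriction of an element of `Aut_F(N_S^K(Ph))` (`ExtAut`).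
-/

set_option autoImplicit false
set_option linter.unusedSectionVars false
set_option linter.unusedVariables false

namespace Cfsg.Agent.Lib.Helper86.SatCrit

open Cfsg Cfsg.FusionSystem Cfsg.Agent.Lib.Helper85 Cfsg.Agent.Lib.Helper87

variable {Ω : Type*} [Group Ω] {S : Subgroup Ω}

/-- the restriction of `θ` to `Ph` is the restriction of an element of `Aut_F(N_S^K(Ph))` stabilizing `Ph` -/
def ExtAut (F : FusionSystem S) (p : ℕ) (Ph : Subgroup Ω) {R : Subgroup Ω} (θ : R →* Ω) : Prop :=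
  ∃ a : stabSub F (nKp F p Ph) Ph, ∀ (x : Ω) (hx : x ∈ Ph) (hxR : x ∈ R) (hxQ : x ∈ nKp F p Ph),
    ((((a : F.autGroup (nKp F p Ph)) : MulAut (nKp F p Ph)) ⟨x, hxQ⟩ : nKp F p Ph) : Ω) = θ ⟨x, hxR⟩

/-- extension through receptivity to a subgroup of the extender -/
theorem exists_ext_of_le_extender (F : FusionSystem S) {R : Subgroup Ω} (hRr : F.IsReceptive R) {α : MulAut R}
    (hα : α ∈ F.autGroup R) {D : Subgroup Ω} (hD : D ≤ extender S R (autHom α)) :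
    ∃ θ ∈ F.Hom D, ∀ (x : Ω) (hx : x ∈ R) (hx' : x ∈ D), θ ⟨x, hx'⟩ = ((α ⟨x, hx⟩ : R) : Ω) := by
  have hφ : autHom α ∈ F.Hom R := autHom_mem F hRr.1 hα
  obtain ⟨ψ, hψ, hψx⟩ := hRr.2 R (autHom α) hφ (autHom_range α)
  refine ⟨ψ.comp (Subgroup.inclusion hD), Helper85.restrict_mem F hψ hD, fun x hx hx' => ?_⟩
  exact hψx x hx (hD hx')

variable [Finite S] {p : ℕ} [Fact p.Prime]

/-- a `p`-group lemma: if `R` normalizes `Q` and `Q ≰ R` then `N_Q(R) ≰ R` -/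
theorem exists_mem_normalizer_not_mem (hS : IsPGroup p S) {R Q : Subgroup Ω} (hRS : R ≤ S) (hQS : Q ≤ S)
    (hRQ : R ≤ Subgroup.normalizer (Q : Set Ω)) (hne : ¬ Q ≤ R) :
    ∃ x ∈ Q, x ∈ Subgroup.normalizer (R : Set Ω) ∧ x ∉ R := by
  have hTS : R ⊔ Q ≤ S := sup_le hRS hQS
  have : Finite ↥(R ⊔ Q) := finite_of_le hTS
  have hT : IsPGroup p ↥(R ⊔ Q) := hS.to_le hTS
  have hneT : R ≠ R ⊔ Q := by
    intro h
    apply hne
    rw [h]
    exact le_sup_right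
  obtain ⟨x, hxN, hxR⟩ := exists_mem_normalizerIn_not_mem (S := R ⊔ Q) hT le_sup_left hneT
  obtain ⟨r, hr, q, hq, rfl⟩ := Helper85.mem_sup_of_le_normalizer hRQ hxN.1
  refine ⟨q, hq, ?_, ?_⟩
  · have h1 : q = r⁻¹ * (r * q) := by group
    rw [h1]
    exact (Subgroup.normalizer (R : Set Ω)).mul_mem ((Subgroup.normalizer (R : Set Ω)).inv_mem (Subgroup.le_normalizer hr)) hxN.2
  · intro hqR
    exact hxR (R.mul_mem hr hqR)

/-- a map defined on a subgroup containing `N_S^K(Ph)` and stabilizing `Ph` -/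
theorem extAut_of_le (F : FusionSystem S) {Ph R : Subgroup Ω} {θ : R →* Ω} (hθ : θ ∈ F.Hom R) (hPhS : Ph ≤ S)
    (hS : IsPGroup p S) (hQR : nKp F p Ph ≤ R) (himg : img θ Ph = Ph) : ExtAut F p Ph θ := by
  have hPhQ : Ph ≤ nKp F p Ph := le_nKp F hS hPhS
  have hQS : nKp F p Ph ≤ S := (nKp_le_normalizerIn F p Ph).trans (normalizerIn_le S Ph)
  obtain ⟨θ₀, hθ₀, hθ₀x, hθ₀img⟩ := exists_restrict F hθ hQR
  have himg₀ : img θ₀ Ph = Ph := by rw [hθ₀img Ph hPhQ, himg]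
  have hle : θ₀.range ≤ nKp F p Ph := by
    rintro _ ⟨g, rfl⟩
    have := map_mem_nKp F p hθ₀ hPhQ g g.2
    rwa [himg₀] at this
  have hrange : θ₀.range = nKp F p Ph := by
    apply eq_of_le_of_card_le hQS hle
    rw [← img_self θ₀, card_img (F.injective_of_mem hθ₀) le_rfl]
  obtain ⟨α, hα, hαx⟩ := Helper88.exists_aut_of_range_eq F hθ₀ hrange
  have hαimg : img (autHom α) Ph = Ph := (img_congr (fun y _ => hαx y)).trans himg₀
  refine ⟨toStab F α hα (stab_iff_of_img_eq hPhQ α hαimg), fun x hx hxR hxQ => ?_⟩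
  show ((α ⟨x, hxQ⟩ : nKp F p Ph) : Ω) = θ ⟨x, hxR⟩
  rw [hαx, hθ₀x]

/-- **Step C2'.** -/
theorem extAut_of_map (hS : IsPGroup p S) (F : FusionSystem S) {n : ℕ} (hbig : BigGood F p n) {Ph : Subgroup Ω}
    (hPhn : Nat.card Ph = n) (hsink : ∀ P, F.IsConj Ph P → Sink F Ph P) :
    ∀ (k : ℕ) (R : Subgroup Ω) (θ : R →* Ω), Nat.card S - Nat.card R ≤ k → θ ∈ F.Hom R → Ph ≤ R →
      R ≤ Subgroup.normalizer (Ph : Set Ω) → Nat.card Ph < Nat.card R → img θ Ph = Ph → ExtAut F p Ph θ := by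
  intro k
  induction k with
  | zero =>
    intro R θ hk hθ hPR hRN hcard himg
    have hRS : R ≤ S := (F.le_of_mem hθ).1
    have h1 : Nat.card S ≤ Nat.card R := by omega
    have h2 : R = S := eq_of_le_of_card_le le_rfl hRS h1
    have hQS : nKp F p Ph ≤ S := (nKp_le_normalizerIn F p Ph).trans (normalizerIn_le S Ph)
    exact extAut_of_le F hθ (hPR.trans hRS) hS (h2 ▸ hQS) himg
  | succ k ih =>
    intro R θ hk hθ hPR hRN hcard himg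
    have hRS : R ≤ S := (F.le_of_mem hθ).1
    have hPhS : Ph ≤ S := hPR.trans hRS
    by_cases hQR : nKp F p Ph ≤ R
    · exact extAut_of_le F hθ hPhS hS hQR himg
    have hRNS : R ≤ normalizerIn S Ph := le_inf hRS hRN
    have hQN : nKp F p Ph ≤ normalizerIn S Ph := nKp_le_normalizerIn F p Ph
    have hQS : nKp F p Ph ≤ S := hQN.trans (normalizerIn_le S Ph)
    have hne : R ≠ normalizerIn S Ph := fun h => hQR (h ▸ hQN)
    have hinj : Function.Injective θ := F.injective_of_mem hθ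
    have hR'S : θ.range ≤ S := Helper85.range_le_of_mem_Hom F hθ
    have hcardR' : Nat.card θ.range = Nat.card R := by
      rw [← img_self θ, card_img hinj le_rfl]
    have hM : Nat.card R < Nat.card ↥(normalizerIn S R ⊓ normalizerIn S Ph) :=
      card_lt_card_inf_normalizerIn hS hRNS hne
    have hR'N : θ.range ≤ normalizerIn S (img θ Ph) := by
      rintro _ ⟨y, rfl⟩
      exact map_mem_normalizerIn_img F hθ y (hRN y.2)
    have hRlt : Nat.card R < Nat.card ↥(normalizerIn S Ph) :=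
      card_lt_card_of_lt (normalizerIn_le S Ph) hRNS hne
    have hne' : θ.range ≠ normalizerIn S (img θ Ph) := by
      intro h
      have h1 : Nat.card θ.range = Nat.card ↥(normalizerIn S (img θ Ph)) := by rw [← h]
      rw [himg] at h1
      omega
    have hM' : Nat.card θ.range < Nat.card ↥(normalizerIn S θ.range ⊓ normalizerIn S (img θ Ph)) :=
      card_lt_card_inf_normalizerIn hS hR'N hne'
    -- the good conjugate of R and the decomposition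
    obtain ⟨Rs, hconj, hRsa, hRsr⟩ := hbig R hRS (hPhn ▸ hcard)
    have hRsS : Rs ≤ S := hRsr.1
    obtain ⟨P₂, ω, ω', γ, hP₂Rs, hRsN, hsyl₂, hω, hωR, hωP, hω', hω'R, hω'P, hγ, hγP, hrel⟩ :=
      exists_decomp hS F hθ hPR hRN hRsa hRsr hconj
    have hMS : normalizerIn S R ⊓ normalizerIn S Ph ≤ S := inf_le_left.trans (normalizerIn_le S R)
    have hM'S : normalizerIn S θ.range ⊓ normalizerIn S (img θ Ph) ≤ S :=
      inf_le_left.trans (normalizerIn_le S θ.range)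
    have hcardMS := card_le_card_of_le le_rfl hMS
    have hcardM'S := card_le_card_of_le le_rfl hM'S
    have hRM : R ≤ normalizerIn S R ⊓ normalizerIn S Ph := le_inf (Helper87.le_normalizerIn hRS) hRNS
    have hPhM : Ph ≤ normalizerIn S R ⊓ normalizerIn S Ph := hPR.trans hRM
    have hconjP₂ : F.IsConj Ph P₂ := hωP ▸ isConj_img F hω hPhM
    obtain ⟨ρ₂, hρ₂, hρ₂img⟩ := hsink P₂ hconjP₂
    have hP₂S : P₂ ≤ S := hP₂Rs.trans hRsS
    have hP₂N : P₂ ≤ normalizerIn S P₂ := Helper87.le_normalizerIn hP₂S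
    -- χ₁
    have hωN : ∀ d : ↥(normalizerIn S R ⊓ normalizerIn S Ph), ω d ∈ normalizerIn S P₂ := by
      intro d
      have := map_mem_normalizerIn_img F hω (P := Ph) d d.2.2.2
      rwa [hωP] at this
    obtain ⟨χ₁, hχ₁, hχ₁x, hχ₁img⟩ := exists_comp F hω hρ₂ hωN
    have hχ₁Ph : img χ₁ Ph = Ph := by rw [hχ₁img, hωP, hρ₂img]
    have hE₁ : ExtAut F p Ph χ₁ :=
      ih _ χ₁ (by omega) hχ₁ hPhM (inf_le_right.trans inf_le_right) (by omega) hχ₁Ph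
    -- χ₂
    have hP'M' : img θ Ph ≤ normalizerIn S θ.range ⊓ normalizerIn S (img θ Ph) :=
      (img_le_range θ Ph).trans (le_inf (Helper87.le_normalizerIn hR'S) hR'N)
    have hPhM' : Ph ≤ normalizerIn S θ.range ⊓ normalizerIn S (img θ Ph) := (le_of_eq himg.symm).trans hP'M'
    have hM'N : normalizerIn S θ.range ⊓ normalizerIn S (img θ Ph) ≤ Subgroup.normalizer (Ph : Set Ω) := by
      intro x hx
      have := hx.2.2
      rwa [himg] at this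
    have hω'N : ∀ d : ↥(normalizerIn S θ.range ⊓ normalizerIn S (img θ Ph)), ω' d ∈ normalizerIn S P₂ := by
      intro d
      have := map_mem_normalizerIn_img F hω' (P := img θ Ph) d d.2.2.2
      rwa [hω'P] at this
    obtain ⟨χ₂, hχ₂, hχ₂x, hχ₂img⟩ := exists_comp F hω' hρ₂ hω'N
    have hω'Ph : img ω' Ph = P₂ := by
      have h1 : img ω' Ph = img ω' (img θ Ph) := congrArg (img ω') himg.symm
      rw [h1, hω'P]
    have hχ₂Ph : img χ₂ Ph = Ph := by rw [hχ₂img, hω'Ph, hρ₂img]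
    have hE₂ : ExtAut F p Ph χ₂ :=
      ih _ χ₂ (by omega) hχ₂ hPhM' hM'N (by omega) hχ₂Ph
    -- adjusting γ
    obtain ⟨γ', hγ'res, hγ'ext⟩ := exists_adjust hS F hRsS hP₂Rs hsyl₂
      (toStab F γ hγ (stab_iff_of_img_eq hP₂Rs γ hγP))
    have hD₂e : extender S Rs (autHom ((γ' : F.autGroup Rs) : MulAut Rs)) ⊓ normalizerIn S P₂
        ≤ extender S Rs (autHom ((γ' : F.autGroup Rs) : MulAut Rs)) := inf_le_left
    have hD₂N : extender S Rs (autHom ((γ' : F.autGroup Rs) : MulAut Rs)) ⊓ normalizerIn S P₂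
        ≤ normalizerIn S P₂ := inf_le_right
    have hD₂S : extender S Rs (autHom ((γ' : F.autGroup Rs) : MulAut Rs)) ⊓ normalizerIn S P₂ ≤ S :=
      hD₂N.trans (normalizerIn_le S P₂)
    have hRsD₂ : Rs ≤ extender S Rs (autHom ((γ' : F.autGroup Rs) : MulAut Rs)) ⊓ normalizerIn S P₂ :=
      le_inf (le_extender_self F hRsS _) (le_inf hRsS hRsN)
    have hP₂D₂ : P₂ ≤ extender S Rs (autHom ((γ' : F.autGroup Rs) : MulAut Rs)) ⊓ normalizerIn S P₂ :=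
      hP₂Rs.trans hRsD₂
    obtain ⟨θ₃, hθ₃, hθ₃x⟩ := exists_ext_of_le_extender F hRsr (γ' : F.autGroup Rs).2 hD₂e
    have hθ₃P₂ : img θ₃ P₂ = P₂ := by
      rw [img_eq_img_autHom θ₃ _ hRsD₂ hθ₃x hP₂Rs]
      exact img_eq_of_stab hP₂Rs _ γ'.2
    have hθ₃N : ∀ d : ↥(extender S Rs (autHom ((γ' : F.autGroup Rs) : MulAut Rs)) ⊓ normalizerIn S P₂),
        θ₃ d ∈ normalizerIn S P₂ := by
      intro d
      have := map_mem_normalizerIn_img F hθ₃ (P := P₂) d d.2.2.2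
      rwa [hθ₃P₂] at this
    obtain ⟨χ₃', hχ₃', hχ₃'x, hχ₃'img⟩ := exists_comp F hθ₃ hρ₂ hθ₃N
    obtain ⟨ρD, hρD, hρDx, hρDimg⟩ := exists_restrict F hρ₂ hD₂N
    obtain ⟨ψ, hψ, hψx, hψimg⟩ := exists_inverse F hρD
    have hψD : ∀ y : ρD.range,
        ψ y ∈ extender S Rs (autHom ((γ' : F.autGroup Rs) : MulAut Rs)) ⊓ normalizerIn S P₂ := by
      intro y
      obtain ⟨x, hx⟩ := MonoidHom.mem_range.1 y.2
      have h1 : y = ⟨ρD x, ⟨x, rfl⟩⟩ := Subtype.ext hx.symm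
      rw [h1, hψx]
      exact x.2
    obtain ⟨χ₃, hχ₃, hχ₃x, hχ₃img⟩ := exists_comp F hψ hχ₃' hψD
    -- properties of the domain of χ₃
    have hρDP₂ : img ρD P₂ = Ph := by rw [hρDimg P₂ hP₂D₂, hρ₂img]
    have hPhR₃ : Ph ≤ ρD.range := hρDP₂ ▸ img_le_range ρD P₂
    have hR₃N : ρD.range ≤ Subgroup.normalizer (Ph : Set Ω) := by
      rw [← img_self ρD, ← hρDP₂]
      exact img_le_normalizer_img ρD (hD₂N.trans inf_le_right)
    have hχ₃Ph : img χ₃ Ph = Ph := by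
      rw [hχ₃img]
      have h1 : img ψ Ph = P₂ := by
        rw [← hρDP₂]
        exact hψimg P₂ hP₂D₂
      rw [h1, hχ₃'img, hθ₃P₂, hρ₂img]
    have hcardR₃ : Nat.card ρD.range
        = Nat.card ↥(extender S Rs (autHom ((γ' : F.autGroup Rs) : MulAut Rs)) ⊓ normalizerIn S P₂) := by
      rw [← img_self ρD, card_img (F.injective_of_mem hρD) le_rfl]
    have hcardRs : Nat.card R = Nat.card Rs := Helper85.isConj_card_eq F hconj
    -- an element of D₂ outside Rs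
    have hRnQ : R ≤ Subgroup.normalizer (nKp F p Ph : Set Ω) :=
      hRNS.trans (normalizerIn_le_normalizer_nKp F p hPhS)
    obtain ⟨x₀, hx₀Q, hx₀N, hx₀R⟩ := exists_mem_normalizer_not_mem hS hRS hQS hRnQ hQR
    have hx₀M : x₀ ∈ normalizerIn S R ⊓ normalizerIn S Ph := ⟨⟨hQS hx₀Q, hx₀N⟩, hQN hx₀Q⟩
    have hωx₀K : ω ⟨x₀, hx₀M⟩ ∈ nKp F p P₂ := by
      have := map_mem_nKp F p hω hPhM ⟨x₀, hx₀M⟩ hx₀Q
      rwa [hωP] at this
    have hωx₀N : ω ⟨x₀, hx₀M⟩ ∈ normalizerIn S Rs := by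
      have := map_mem_normalizerIn_img F hω (P := R) ⟨x₀, hx₀M⟩ hx₀N
      rwa [hωR] at this
    have hωx₀D : ω ⟨x₀, hx₀M⟩
        ∈ extender S Rs (autHom ((γ' : F.autGroup Rs) : MulAut Rs)) ⊓ normalizerIn S P₂ :=
      ⟨hγ'ext ⟨hωx₀K, hωx₀N⟩, nKp_le_normalizerIn F p P₂ hωx₀K⟩
    have hωx₀Rs : ω ⟨x₀, hx₀M⟩ ∉ Rs := by
      intro h
      rw [← hωR] at h
      obtain ⟨z, hz, hzx⟩ := mem_img.1 h
      have : z = ⟨x₀, hx₀M⟩ := F.injective_of_mem hω hzx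
      rw [this] at hz
      exact hx₀R hz
    have hneD : Rs ≠ extender S Rs (autHom ((γ' : F.autGroup Rs) : MulAut Rs)) ⊓ normalizerIn S P₂ := by
      intro h
      apply hωx₀Rs
      rw [h]
      exact hωx₀D
    have hcardD := card_lt_card_of_lt hD₂S hRsD₂ hneD
    have hcardD₂S := card_le_card_of_le le_rfl hD₂S
    have hE₃ : ExtAut F p Ph χ₃ :=
      ih _ χ₃ (by omega) hχ₃ hPhR₃ hR₃N (by omega) hχ₃Ph
    -- combining
    obtain ⟨a₁, ha₁⟩ := hE₁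
    obtain ⟨a₂, ha₂⟩ := hE₂
    obtain ⟨a₃, ha₃⟩ := hE₃
    have hPhQ : Ph ≤ nKp F p Ph := le_nKp F hS hPhS
    refine ⟨a₂⁻¹ * a₃ * a₁, fun x hx hxR hxQ => ?_⟩
    -- the elements involved
    have hxM : x ∈ normalizerIn S R ⊓ normalizerIn S Ph := hPhM hx
    have hy₁ : χ₁ ⟨x, hxM⟩ ∈ Ph := by
      have := apply_mem_img χ₁ (P := Ph) ⟨x, hxM⟩ hx
      rwa [hχ₁Ph] at this
    have ht : θ ⟨x, hxR⟩ ∈ Ph := by
      have := apply_mem_img θ (P := Ph) ⟨x, hxR⟩ hx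
      rwa [himg] at this
    have hy₃ : χ₃ ⟨χ₁ ⟨x, hxM⟩, hPhR₃ hy₁⟩ ∈ Ph := by
      have := apply_mem_img χ₃ (P := Ph) ⟨χ₁ ⟨x, hxM⟩, hPhR₃ hy₁⟩ hy₁
      rwa [hχ₃Ph] at this
    -- the key relation
    have hωxP₂ : ω ⟨x, hxM⟩ ∈ P₂ := by
      have := apply_mem_img ω (P := Ph) ⟨x, hxM⟩ hx
      rwa [hωP] at this
    have hkey : χ₂ ⟨θ ⟨x, hxR⟩, hPhM' ht⟩ = χ₃ ⟨χ₁ ⟨x, hxM⟩, hPhR₃ hy₁⟩ := by
      rw [hχ₂x, hχ₃x, hχ₃'x]
      have h1 : χ₁ ⟨x, hxM⟩ = ρD ⟨ω ⟨x, hxM⟩, hP₂D₂ hωxP₂⟩ := by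
        rw [hχ₁x, hρDx]
      have h2 : (⟨χ₁ ⟨x, hxM⟩, hPhR₃ hy₁⟩ : ρD.range)
          = ⟨ρD ⟨ω ⟨x, hxM⟩, hP₂D₂ hωxP₂⟩, ⟨_, rfl⟩⟩ := Subtype.ext h1
      have h3 : ψ ⟨χ₁ ⟨x, hxM⟩, hPhR₃ hy₁⟩ = ω ⟨x, hxM⟩ := by
        rw [h2, hψx]
      have h4 : (⟨ψ ⟨χ₁ ⟨x, hxM⟩, hPhR₃ hy₁⟩, hψD _⟩ :
          ↥(extender S Rs (autHom ((γ' : F.autGroup Rs) : MulAut Rs)) ⊓ normalizerIn S P₂))
          = ⟨ω ⟨x, hxM⟩, hP₂D₂ hωxP₂⟩ := Subtype.ext h3
      have h5 : θ₃ ⟨ψ ⟨χ₁ ⟨x, hxM⟩, hPhR₃ hy₁⟩, hψD _⟩ = ω' ⟨θ ⟨x, hxR⟩, hPhM' ht⟩ := by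
        rw [h4, hθ₃x _ (hP₂Rs hωxP₂)]
        have h6 := congrArg (fun f : MulAut P₂ => ((f ⟨ω ⟨x, hxM⟩, hωxP₂⟩ : P₂) : Ω)) hγ'res
        simp only [resStab_apply] at h6
        rw [h6]
        exact hrel ⟨x, hxR⟩ hxM (hPhM' ht) (hP₂Rs hωxP₂)
      congr 1
      exact Subtype.ext h5.symm
    -- evaluation
    have e₁ : ((a₁ : F.autGroup (nKp F p Ph)) : MulAut (nKp F p Ph)) ⟨x, hxQ⟩
        = ⟨χ₁ ⟨x, hxM⟩, hPhQ hy₁⟩ := Subtype.ext (ha₁ x hx hxM hxQ)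
    have e₃ : ((a₃ : F.autGroup (nKp F p Ph)) : MulAut (nKp F p Ph)) ⟨χ₁ ⟨x, hxM⟩, hPhQ hy₁⟩
        = ⟨χ₃ ⟨χ₁ ⟨x, hxM⟩, hPhR₃ hy₁⟩, hPhQ hy₃⟩ := Subtype.ext (ha₃ _ hy₁ (hPhR₃ hy₁) (hPhQ hy₁))
    have e₂ : ((a₂ : F.autGroup (nKp F p Ph)) : MulAut (nKp F p Ph)) ⟨θ ⟨x, hxR⟩, hPhQ ht⟩
        = ⟨χ₃ ⟨χ₁ ⟨x, hxM⟩, hPhR₃ hy₁⟩, hPhQ hy₃⟩ := by
      apply Subtype.ext
      rw [ha₂ _ ht (hPhM' ht) (hPhQ ht)]
      exact hkey
    have e₂' : ((a₂ : F.autGroup (nKp F p Ph)) : MulAut (nKp F p Ph))⁻¹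
        ⟨χ₃ ⟨χ₁ ⟨x, hxM⟩, hPhR₃ hy₁⟩, hPhQ hy₃⟩ = ⟨θ ⟨x, hxR⟩, hPhQ ht⟩ := by
      rw [← e₂, MulAut.inv_apply_self]
    have e : (((a₂⁻¹ * a₃ * a₁ : stabSub F (nKp F p Ph) Ph) : F.autGroup (nKp F p Ph)) : MulAut (nKp F p Ph))
        ⟨x, hxQ⟩ = ⟨θ ⟨x, hxR⟩, hPhQ ht⟩ := by
      show (((a₂ : F.autGroup (nKp F p Ph)) : MulAut (nKp F p Ph))⁻¹
        * ((a₃ : F.autGroup (nKp F p Ph)) : MulAut (nKp F p Ph))
        * ((a₁ : F.autGroup (nKp F p Ph)) : MulAut (nKp F p Ph))) ⟨x, hxQ⟩ = _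
      rw [MulAut.mul_apply, MulAut.mul_apply, e₁, e₃, e₂']
    rw [e]

end Cfsg.Agent.Lib.Helper86.SatCrit
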