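import Cfsg.Agent.Lib.Helper86.SatCritBasic

/-!
# Using `ℋ`-generation (helper86)

`F` is `ℋ`-generated when every fusion system over `S` containing the maps of `F` with source in `ℋ` contains `F`.
To prove that a property `Good` holds for all maps of `F` between the members of a conjugation-closed class `𝒞`, it is
enough that `Good` is closed under composition and inverses and holds for the restrictions of the maps with source in `ℋ`:
the maps all of whose restrictions to members of `𝒞` are `Good` then form a fusion system over `S`.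
-/

set_option autoImplicit false

namespace Cfsg.Agent.Lib.Helper86.SatCrit

open Cfsg Cfsg.FusionSystem Cfsg.Agent.Lib.Helper85 Cfsg.Agent.Lib.Helper87

variable {Ω : Type*} [Group Ω] {S : Subgroup Ω}

theorem good_congr (Good : ∀ P : Subgroup Ω, (P →* Ω) → Prop) {P P' : Subgroup Ω} (h : P = P')
    {φ : P →* Ω} {φ' : P' →* Ω} (hφ : ∀ (x : Ω) (hx : x ∈ P) (hx' : x ∈ P'), φ' ⟨x, hx'⟩ = φ ⟨x, hx⟩)
    (hg : Good P φ) : Good P' φ' := by
  subst h
  have : φ' = φ := by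
    ext x
    exact hφ x x.2 x.2
  rw [this]
  exact hg

theorem range_restrict_eq_img {R P : Subgroup Ω} (φ : R →* Ω) (h : P ≤ R) :
    (φ.comp (Subgroup.inclusion h)).range = img φ P := by
  ext x
  rw [mem_img]
  constructor
  · rintro ⟨y, rfl⟩
    exact ⟨⟨y, h y.2⟩, y.2, rfl⟩
  · rintro ⟨y, hy, rfl⟩
    exact ⟨⟨y, hy⟩, rfl⟩

theorem forall_good_of_gen (F : FusionSystem S) (ℋ : Set (Subgroup Ω))
    (hgen : ∀ E : FusionSystem S, (∀ P ∈ ℋ, F.Hom P ⊆ E.Hom P) → F ≤ E) (hSℋ : S ∈ ℋ)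
    (𝒞 : Set (Subgroup Ω)) (h𝒞conj : ∀ P ∈ 𝒞, ∀ Q, F.IsConj P Q → Q ∈ 𝒞)
    (Good : ∀ P : Subgroup Ω, (P →* Ω) → Prop)
    (hcomp : ∀ P ∈ 𝒞, ∀ (φ : P →* Ω) (ψ : φ.range →* Ω), φ ∈ F.Hom P → ψ ∈ F.Hom φ.range →
      Good P φ → Good φ.range ψ → Good P (ψ.comp φ.rangeRestrict))
    (hinv : ∀ P ∈ 𝒞, ∀ (φ : P →* Ω) (ψ : φ.range →* Ω), φ ∈ F.Hom P → ψ ∈ F.Hom φ.range →
      (∀ x : P, ψ ⟨φ x, ⟨x, rfl⟩⟩ = (x : Ω)) → Good P φ → Good φ.range ψ)
    (hbig : ∀ R ∈ ℋ, ∀ θ ∈ F.Hom R, ∀ P ∈ 𝒞, ∀ h : P ≤ R, Good P (θ.comp (Subgroup.inclusion h))) :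
    ∀ P ∈ 𝒞, ∀ φ ∈ F.Hom P, Good P φ := by
  let E : FusionSystem S :=
    { Hom := fun R => {φ | φ ∈ F.Hom R ∧ ∀ P ∈ 𝒞, ∀ h : P ≤ R, Good P (φ.comp (Subgroup.inclusion h))}
      le_of_mem := fun h => F.le_of_mem h.1
      injective_of_mem := fun h => F.injective_of_mem h.1
      conj_mem := by
        intro P' g hP' hg
        refine ⟨F.conj_mem hP' hg, fun P hP h => ?_⟩
        have h1 := hbig S hSℋ (conjHom S g) (F.conj_mem le_rfl hg) P hP (h.trans hP')
        exact good_congr Good rfl (fun x hx hx' => rfl) h1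
      comp_mem := by
        intro P' Q' φ ψ hφ hψ h
        refine ⟨F.comp_mem hφ.1 hψ.1 h, fun P hP hPP' => ?_⟩
        have hφ₀ : φ.comp (Subgroup.inclusion hPP') ∈ F.Hom P := Helper85.restrict_mem F hφ.1 hPP'
        have hr : (φ.comp (Subgroup.inclusion hPP')).range ≤ Q' := by
          rintro _ ⟨x, rfl⟩
          exact h _
        have hr𝒞 : (φ.comp (Subgroup.inclusion hPP')).range ∈ 𝒞 := h𝒞conj P hP _ ⟨_, hφ₀, rfl⟩
        have h1 := hcomp P hP (φ.comp (Subgroup.inclusion hPP')) (ψ.comp (Subgroup.inclusion hr)) hφ₀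
          (Helper85.restrict_mem F hψ.1 hr) (hφ.2 P hP hPP') (hψ.2 _ hr𝒞 hr)
        exact good_congr Good rfl (fun x hx hx' => rfl) h1
      inv_mem := by
        intro P' φ hφ
        obtain ⟨ψ, hψ, hψx⟩ := F.inv_mem hφ.1
        refine ⟨ψ, ⟨hψ, fun P₁ hP₁ h₁ => ?_⟩, hψx⟩
        -- the preimage of P₁
        have hP'S : P' ≤ S := (F.le_of_mem hφ.1).1
        have hψ₁ : ψ.comp (Subgroup.inclusion h₁) ∈ F.Hom P₁ := Helper85.restrict_mem F hψ h₁
        have hPle : img ψ P₁ ≤ P' := by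
          intro x hx
          obtain ⟨y, -, rfl⟩ := mem_img.1 hx
          obtain ⟨z, hz⟩ := y.2
          have : y = ⟨φ z, ⟨z, rfl⟩⟩ := Subtype.ext hz.symm
          rw [this, hψx]
          exact z.2
        have hP𝒞 : img ψ P₁ ∈ 𝒞 := by
          apply h𝒞conj P₁ hP₁
          refine ⟨_, hψ₁, range_restrict_eq_img ψ h₁⟩
        have hφ₀ : φ.comp (Subgroup.inclusion hPle) ∈ F.Hom (img ψ P₁) := Helper85.restrict_mem F hφ.1 hPle
        have hrange : (φ.comp (Subgroup.inclusion hPle)).range = P₁ := by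
          rw [range_restrict_eq_img]
          ext x
          rw [mem_img]
          constructor
          · rintro ⟨y, hy, rfl⟩
            obtain ⟨z, hz, hzy⟩ := mem_img.1 hy
            obtain ⟨w, hw⟩ := z.2
            have h2 : z = ⟨φ w, ⟨w, rfl⟩⟩ := Subtype.ext hw.symm
            rw [h2, hψx] at hzy
            have h3 : w = y := Subtype.ext hzy
            rw [← h3, hw]
            exact hz
          · intro hx
            obtain ⟨w, hw⟩ := h₁ hx
            refine ⟨w, ?_, hw⟩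
            rw [mem_img]
            refine ⟨⟨x, h₁ hx⟩, hx, ?_⟩
            have h2 : (⟨x, h₁ hx⟩ : φ.range) = ⟨φ w, ⟨w, rfl⟩⟩ := Subtype.ext hw.symm
            rw [h2, hψx]
        obtain ⟨ψ₀, hψ₀, hψ₀x⟩ := F.inv_mem hφ₀
        have h1 := hinv _ hP𝒞 (φ.comp (Subgroup.inclusion hPle)) ψ₀ hφ₀ hψ₀ hψ₀x (hφ.2 _ hP𝒞 hPle)
        refine good_congr Good hrange (fun x hx hx' => ?_) h1
        obtain ⟨w, hw⟩ : ∃ w, (φ.comp (Subgroup.inclusion hPle)) w = x := MonoidHom.mem_range.1 hx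
        have h2 : (⟨x, hx⟩ : (φ.comp (Subgroup.inclusion hPle)).range)
            = ⟨(φ.comp (Subgroup.inclusion hPle)) w, ⟨w, rfl⟩⟩ := Subtype.ext hw.symm
        rw [h2, hψ₀x]
        have h3 : (⟨x, h₁ hx'⟩ : φ.range) = ⟨φ ⟨w, hPle w.2⟩, ⟨_, rfl⟩⟩ := Subtype.ext hw.symm
        show ψ ⟨x, h₁ hx'⟩ = _
        rw [h3, hψx] }
  have hFE : F ≤ E := by
    apply hgen
    intro R hR θ hθ
    exact ⟨hθ, fun P hP h => hbig R hR θ hθ P hP h⟩
  intro P hP φ hφ
  have h1 := (hFE P hφ).2 P hP le_rfl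
  exact good_congr Good rfl (fun x hx hx' => rfl) h1

end Cfsg.Agent.Lib.Helper86.SatCrit
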