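import Cfsg.Agent.Lib.Helper86.SatCritSink
import Cfsg.Agent.Lib.Helper87.FusionKNorm

/-!
# The subgroup `N_S^K(P)` for `K = O_p(Aut_F(P))` (helper86)

`Kp F p P` is `O_p(Aut_F(P))` as a subgroup of `Aut(P)` and `nKp F p P` is the subgroup of the elements of `N_S(P)`
inducing on `P` an element of `Kp F p P`. Both are carried along by the maps of the system.
-/

set_option autoImplicit false

namespace Cfsg.Agent.Lib.Helper86.SatCrit

open Cfsg Cfsg.FusionSystem Cfsg.Agent.Lib.Helper85 Cfsg.Agent.Lib.Helper87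

variable {Ω : Type*} [Group Ω] {S : Subgroup Ω}

/-- `O_p(Aut_F(P))` as a subgroup of `Aut(P)`. -/
def Kp (F : FusionSystem S) (p : ℕ) (P : Subgroup Ω) : Subgroup (MulAut P) :=
  (pCore p (F.autGroup P)).map (F.autGroup P).subtype

theorem Kp_le_autGroup (F : FusionSystem S) (p : ℕ) (P : Subgroup Ω) : Kp F p P ≤ F.autGroup P := by
  rintro _ ⟨k, -, rfl⟩
  exact k.2

theorem Kp_isPGroup (F : FusionSystem S) (p : ℕ) [Fact p.Prime] (P : Subgroup Ω) : IsPGroup p (Kp F p P) := by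
  have h : IsPGroup p ↥(pCore p (F.autGroup P)) :=
    Sylow.sSup_of_normal _ (fun _ h => h.2) (fun _ h => h.1)
  exact h.map _

theorem Kp_conj_mem (F : FusionSystem S) (p : ℕ) {P : Subgroup Ω} {α κ : MulAut P} (hα : α ∈ F.autGroup P)
    (hκ : κ ∈ Kp F p P) : α * κ * α⁻¹ ∈ Kp F p P := by
  obtain ⟨k, hk, rfl⟩ := hκ
  have hn : (pCore p (F.autGroup P)).Normal := Subgroup.sSup_normal _ (fun _ h => h.1)
  exact ⟨_, hn.conj_mem k hk ⟨α, hα⟩, rfl⟩

theorem le_Kp (F : FusionSystem S) (p : ℕ) {P : Subgroup Ω} (N : Subgroup (MulAut P)) (hNA : N ≤ F.autGroup P)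
    (hNn : ∀ α ∈ F.autGroup P, ∀ ν ∈ N, α * ν * α⁻¹ ∈ N) (hNp : IsPGroup p N) : N ≤ Kp F p P := by
  have hnormal : (N.subgroupOf (F.autGroup P)).Normal := by
    constructor
    intro n hn g
    rw [Subgroup.mem_subgroupOf] at hn ⊢
    exact hNn g g.2 n hn
  have hp : IsPGroup p (N.subgroupOf (F.autGroup P)) := hNp.comap_subtype
  have hle : N.subgroupOf (F.autGroup P) ≤ pCore p (F.autGroup P) := le_sSup ⟨hnormal, hp⟩
  intro ν hν
  exact ⟨⟨ν, hNA hν⟩, hle (Subgroup.mem_subgroupOf.2 hν), rfl⟩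

theorem congr_mem_Kp (F : FusionSystem S) (p : ℕ) [Fact p.Prime] {P P' : Subgroup Ω} {e : P ≃* P'}
    (he : IsIso F e) {κ : MulAut P} (hκ : κ ∈ Kp F p P) : MulAut.congr e κ ∈ Kp F p P' := by
  have h := le_Kp F p ((Kp F p P).map (MulAut.congr e).toMonoidHom) ?_ ?_ ((Kp_isPGroup F p P).map _)
  · exact h ⟨κ, hκ, rfl⟩
  · rintro _ ⟨ν, hν, rfl⟩
    exact congr_mem_autGroup F he (Kp_le_autGroup F p P hν)
  · rintro α' hα' _ ⟨ν, hν, rfl⟩
    have hα : MulAut.congr e.symm α' ∈ F.autGroup P := congr_mem_autGroup F he.symm hα'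
    refine ⟨MulAut.congr e.symm α' * ν * (MulAut.congr e.symm α')⁻¹, Kp_conj_mem F p hα hν, ?_⟩
    ext x
    simp [MulAut.congr]

/-- `N_S^K(P)` for `K = O_p(Aut_F(P))`. -/
def nKp (F : FusionSystem S) (p : ℕ) (P : Subgroup Ω) : Subgroup Ω := nK S (Kp F p P) (MulEquiv.refl P)

theorem mem_nKp {F : FusionSystem S} {p : ℕ} {P : Subgroup Ω} {g : Ω} :
    g ∈ nKp F p P ↔ g ∈ S ∧ ∃ κ ∈ Kp F p P, ∀ u : P, ((κ u : P) : Ω) = g * (u : Ω) * g⁻¹ := Iff.rfl

theorem nKp_le_normalizerIn (F : FusionSystem S) (p : ℕ) (P : Subgroup Ω) : nKp F p P ≤ normalizerIn S P :=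
  le_inf (nK_le _ _) (nK_le_normalizer _ _)

theorem centralizerIn_le_nKp (F : FusionSystem S) (p : ℕ) (P : Subgroup Ω) : centralizerIn S P ≤ nKp F p P :=
  centralizerIn_le_nK _ _

/-- `N_S(P)` normalizes `N_S^K(P)`. -/
theorem normalizerIn_le_normalizer_nKp (F : FusionSystem S) (p : ℕ) {P : Subgroup Ω} (hPS : P ≤ S) :
    normalizerIn S P ≤ Subgroup.normalizer (nKp F p P : Set Ω) := by
  have key : ∀ n ∈ normalizerIn S P, ∀ g ∈ nKp F p P, n * g * n⁻¹ ∈ nKp F p P := by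
    intro n hn g hg
    obtain ⟨hgS, κ, hκ, hκg⟩ := mem_nKp.1 hg
    refine mem_nKp.2 ⟨S.mul_mem (S.mul_mem hn.1 hgS) (S.inv_mem hn.1), ?_⟩
    let ν : MulAut P := conjAut P n hn.2
    have hν : ν ∈ F.autGroup P :=
      Helper87.autInducedBy_le_autGroup F hPS (Helper87.mem_autInducedBy_iff.2 ⟨n, hn.1, fun _ => rfl⟩)
    refine ⟨ν * κ * ν⁻¹, Kp_conj_mem F p hν hκ, fun u => ?_⟩
    have h1 : ((ν⁻¹ u : P) : Ω) = n⁻¹ * (u : Ω) * n := by
      have h2 : ((ν (ν⁻¹ u) : P) : Ω) = n * ((ν⁻¹ u : P) : Ω) * n⁻¹ := rfl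
      rw [MulAut.apply_inv_self] at h2
      rw [h2]
      group
    show ((ν (κ (ν⁻¹ u)) : P) : Ω) = _
    have h3 : ((ν (κ (ν⁻¹ u)) : P) : Ω) = n * ((κ (ν⁻¹ u) : P) : Ω) * n⁻¹ := rfl
    rw [h3, hκg, h1]
    group
  intro n hn
  rw [Subgroup.mem_normalizer_iff]
  intro g
  constructor
  · exact key n hn g
  · intro h
    have := key n⁻¹ ((normalizerIn S P).inv_mem hn) _ h
    have h2 : n⁻¹ * (n * g * n⁻¹) * n⁻¹⁻¹ = g := by group
    rwa [h2] at this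

theorem normalizerIn_le_normalizerIn_nKp (F : FusionSystem S) (p : ℕ) {P : Subgroup Ω} (hPS : P ≤ S) :
    normalizerIn S P ≤ normalizerIn S (nKp F p P) :=
  le_inf (normalizerIn_le S P) (normalizerIn_le_normalizer_nKp F p hPS)

/-- the isomorphism `P ≃ φ(P)` induced by an injective `φ` defined on a subgroup containing `P` -/
noncomputable def imgEquiv {D P : Subgroup Ω} (ω : D →* Ω) (hω : Function.Injective ω) (hPD : P ≤ D) :
    P ≃* img ω P :=
  MulEquiv.ofBijective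
    ((ω.comp (Subgroup.inclusion hPD)).codRestrict (img ω P) (fun x => apply_mem_img ω _ x.2))
    ⟨fun x y hxy => by
      have h1 : ω ⟨x, hPD x.2⟩ = ω ⟨y, hPD y.2⟩ := congrArg Subtype.val hxy
      have h2 := hω h1
      exact Subtype.ext (congrArg (fun z : D => (z : Ω)) h2),
    fun y => by
      obtain ⟨z, hz, hzy⟩ := mem_img.1 y.2
      exact ⟨⟨z, hz⟩, Subtype.ext hzy⟩⟩

theorem imgEquiv_apply {D P : Subgroup Ω} (ω : D →* Ω) (hω : Function.Injective ω) (hPD : P ≤ D) (x : P) :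
    ((imgEquiv ω hω hPD x : img ω P) : Ω) = ω ⟨x, hPD x.2⟩ := rfl

theorem imgEquiv_isIso (F : FusionSystem S) {D P : Subgroup Ω} {ω : D →* Ω} (hω : ω ∈ F.Hom D) (hPD : P ≤ D) :
    IsIso F (imgEquiv ω (F.injective_of_mem hω) hPD) :=
  Helper85.restrict_mem' F hω hPD _ (fun _ => rfl)

/-- `N_S^K` is carried along by the maps of the system. -/
theorem map_mem_nKp (F : FusionSystem S) (p : ℕ) [Fact p.Prime] {D P : Subgroup Ω} {ω : D →* Ω}
    (hω : ω ∈ F.Hom D) (hPD : P ≤ D) (g : D) (hg : (g : Ω) ∈ nKp F p P) : ω g ∈ nKp F p (img ω P) := by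
  obtain ⟨-, κ, hκ, hκg⟩ := mem_nKp.1 hg
  refine mem_nKp.2 ⟨(F.le_of_mem hω).2 g, MulAut.congr (imgEquiv ω (F.injective_of_mem hω) hPD) κ,
    congr_mem_Kp F p (imgEquiv_isIso F hω hPD) hκ, fun u' => ?_⟩
  set e := imgEquiv ω (F.injective_of_mem hω) hPD with he
  obtain ⟨u, rfl⟩ := e.surjective u'
  have h1 : MulAut.congr e κ (e u) = e (κ u) := by simp [MulAut.congr]
  rw [h1, imgEquiv_apply, imgEquiv_apply]
  have h2 : (⟨((κ u : P) : Ω), hPD (κ u).2⟩ : D) = g * ⟨u, hPD u.2⟩ * g⁻¹ := by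
    apply Subtype.ext
    rw [hκg]
    rfl
  rw [h2]
  simp

end Cfsg.Agent.Lib.Helper86.SatCrit
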