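import Mathlib

/-!
# Sylow arguments for group actions (helper86)

Pure group theory used in the proof of the saturation criterion S5110 (BCGLO1, Theorem 2.2):
* `exists_smul_relIndex_stabilizer`: in every orbit there is a point `x₁` such that `T ∩ Stab(x₁)` is a Sylow
  `p`-subgroup of `Stab(x₁)`, for a given Sylow `p`-subgroup `T`;
* `exists_smul_eq_conj_mem`: such a point receives every other point of the orbit by an element which
  conjugates `T ∩ Stab(x')` into `T`;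
* `exists_ker_conj_mem`: Frattini-type adjustment by an element of the kernel of a homomorphism;
* `exists_mem_sylow_map_eq`: a normal `p`-subgroup of the image lies in the image of a Sylow `p`-subgroup.
-/

set_option autoImplicit false

namespace Cfsg.Agent.Lib.Helper86

open MulAction

section
variable {G : Type*} [Group G] [Finite G] {X : Type*} [MulAction G X] {p : ℕ} [Fact p.Prime]

theorem exists_smul_relIndex_stabilizer (T : Sylow p G) (x : X) :
    ∃ g : G, ¬ p ∣ (T : Subgroup G).relIndex (stabilizer G (g • x)) := by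
  classical
  set H := stabilizer G x with hH
  obtain ⟨Q⟩ : Nonempty (Sylow p H) := inferInstance
  have hQ' : IsPGroup p ((Q : Subgroup H).map H.subtype) := Q.isPGroup'.map _
  obtain ⟨T', hT'⟩ := hQ'.exists_le_sylow
  obtain ⟨g, hg⟩ := MulAction.exists_smul_eq G T' T
  refine ⟨g, ?_⟩
  have h1 : (T : Subgroup G) = (T' : Subgroup G).map (MulAut.conj g).toMonoidHom := by
    rw [← hg]
    rw [Sylow.coe_subgroup_smul]
    rfl
  have h2 : stabilizer G (g • x) = H.map (MulAut.conj g).toMonoidHom :=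
    MulAction.stabilizer_smul_eq_stabilizer_map_conj g x
  rw [h1, h2, Subgroup.relIndex_map_map_of_injective _ _ (MulAut.conj g).injective]
  intro hdvd
  have h3 : (T' : Subgroup G).relIndex H ∣ ((Q : Subgroup H).map H.subtype).relIndex H :=
    Subgroup.relIndex_dvd_of_le_left H hT'
  have h4 : ((Q : Subgroup H).map H.subtype).relIndex H = (Q : Subgroup H).index := by
    rw [Subgroup.relIndex, Subgroup.subgroupOf,
      Subgroup.comap_map_eq_self_of_injective (Subgroup.subtype_injective _)]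
  rw [h4] at h3
  exact Q.not_dvd_index (hdvd.trans h3)

theorem exists_smul_eq_conj_mem (T : Sylow p G) (x₁ : X)
    (h₁ : ¬ p ∣ (T : Subgroup G).relIndex (stabilizer G x₁)) (x' : X) (k : G) (hk : k • x' = x₁) :
    ∃ g : G, g • x' = x₁ ∧ ∀ t ∈ T, t • x' = x' → g * t * g⁻¹ ∈ T := by
  classical
  set H₁ := stabilizer G x₁ with hH₁
  have hU₁ : IsPGroup p ((T : Subgroup G).subgroupOf H₁) := T.isPGroup'.comap_subtype
  let U₁ : Sylow p H₁ := hU₁.toSylow h₁
  -- the p-subgroup k (T ⊓ Stab x') k⁻¹ of H₁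
  set A : Subgroup G := ((T : Subgroup G) ⊓ stabilizer G x').map (MulAut.conj k).toMonoidHom with hA
  have hAp : IsPGroup p A := (T.isPGroup'.to_le inf_le_left).map _
  have hAH : A ≤ H₁ := by
    rintro _ ⟨t, ⟨-, ht⟩, rfl⟩
    have ht' : t • x' = x' := ht
    rw [hH₁, mem_stabilizer_iff]
    change (k * t * k⁻¹) • x₁ = x₁
    rw [← hk, mul_smul, mul_smul, inv_smul_smul, ht']
  have hAp' : IsPGroup p (A.subgroupOf H₁) := hAp.comap_subtype
  obtain ⟨U₂, hU₂⟩ := hAp'.exists_le_sylow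
  obtain ⟨h, hh⟩ := MulAction.exists_smul_eq H₁ U₂ U₁
  refine ⟨(h : G) * k, ?_, ?_⟩
  · rw [mul_smul, hk]
    exact h.2
  · intro t ht htx
    have h1 : k * t * k⁻¹ ∈ A := ⟨t, ⟨ht, htx⟩, rfl⟩
    have h2 : (⟨k * t * k⁻¹, hAH h1⟩ : H₁) ∈ U₂ := hU₂ (by rw [Subgroup.mem_subgroupOf]; exact h1)
    have h3 : h * ⟨k * t * k⁻¹, hAH h1⟩ * h⁻¹ ∈ (U₁ : Subgroup H₁) := by
      rw [← hh, Sylow.coe_subgroup_smul]
      have := Subgroup.smul_mem_pointwise_smul _ (MulAut.conj h) _ h2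
      rwa [MulAut.smul_def, MulAut.conj_apply] at this
    have h4 : ((h * ⟨k * t * k⁻¹, hAH h1⟩ * h⁻¹ : H₁) : G) ∈ T := by
      have h3' : h * ⟨k * t * k⁻¹, hAH h1⟩ * h⁻¹ ∈ (T : Subgroup G).subgroupOf H₁ := h3
      rwa [Subgroup.mem_subgroupOf] at h3'
    have h5 : (h : G) * k * t * ((h : G) * k)⁻¹ = ((h * ⟨k * t * k⁻¹, hAH h1⟩ * h⁻¹ : H₁) : G) := by
      push_cast
      group
    rw [h5]
    exact h4

end

section
variable {G : Type*} [Group G] [Finite G] {H : Type*} [Group H] {p : ℕ} [Fact p.Prime]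

theorem exists_ker_conj_mem (U : Sylow p G) (f : G →* H) (γ : G) (V : Subgroup G) (hV : V ≤ U)
    (h : ∀ v ∈ V, ∃ u ∈ U, f (γ * v * γ⁻¹) = f u) :
    ∃ a ∈ f.ker, ∀ v ∈ V, a * (γ * v * γ⁻¹) * a⁻¹ ∈ U := by
  classical
  set L : Subgroup G := f.ker ⊔ U with hL
  have hUL : (U : Subgroup G) ≤ L := le_sup_right
  let U₁ : Sylow p L := U.subtype hUL
  set W : Subgroup G := V.map (MulAut.conj γ).toMonoidHom with hW
  have hWp : IsPGroup p W := (U.isPGroup'.to_le hV).map _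
  have hWL : W ≤ L := by
    rintro _ ⟨v, hv, rfl⟩
    obtain ⟨u, hu, hfu⟩ := h v hv
    have h1 : γ * v * γ⁻¹ * u⁻¹ ∈ f.ker := by
      rw [MonoidHom.mem_ker, map_mul, hfu, map_inv, mul_inv_cancel]
    have h2 : γ * v * γ⁻¹ = (γ * v * γ⁻¹ * u⁻¹) * u := by group
    change γ * v * γ⁻¹ ∈ L
    rw [h2]
    exact L.mul_mem (Subgroup.mem_sup_left h1) (Subgroup.mem_sup_right hu)
  have hWp' : IsPGroup p (W.subgroupOf L) := hWp.comap_subtype
  obtain ⟨U₂, hU₂⟩ := hWp'.exists_le_sylow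
  obtain ⟨l, hl⟩ := MulAction.exists_smul_eq L U₂ U₁
  -- decompose l = a * u
  have hlL : (l : G) ∈ (U : Subgroup G) ⊔ f.ker := by
    rw [sup_comm]
    exact l.2
  rw [← SetLike.mem_coe, Subgroup.mul_normal] at hlL
  obtain ⟨u, hu, a, ha, hau⟩ := hlL
  refine ⟨a, ha, fun v hv => ?_⟩
  have h1 : γ * v * γ⁻¹ ∈ W := ⟨v, hv, rfl⟩
  have h2 : (⟨γ * v * γ⁻¹, hWL h1⟩ : L) ∈ U₂ := hU₂ (by rw [Subgroup.mem_subgroupOf]; exact h1)
  have h3 : l * ⟨γ * v * γ⁻¹, hWL h1⟩ * l⁻¹ ∈ (U₁ : Subgroup L) := by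
    rw [← hl, Sylow.coe_subgroup_smul]
    have := Subgroup.smul_mem_pointwise_smul _ (MulAut.conj l) _ h2
    rwa [MulAut.smul_def, MulAut.conj_apply] at this
  have h4 : ((l * ⟨γ * v * γ⁻¹, hWL h1⟩ * l⁻¹ : L) : G) ∈ U := by
    have h3' : l * ⟨γ * v * γ⁻¹, hWL h1⟩ * l⁻¹ ∈ (U : Subgroup G).subgroupOf L := h3
    rwa [Subgroup.mem_subgroupOf] at h3'
  have hau' : (l : G) = u * a := hau.symm
  have h5 : a * (γ * v * γ⁻¹) * a⁻¹
      = u⁻¹ * ((l * ⟨γ * v * γ⁻¹, hWL h1⟩ * l⁻¹ : L) : G) * u := by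
    push_cast
    rw [hau']
    group
  rw [h5]
  exact U.mul_mem (U.mul_mem (U.inv_mem hu) h4) hu

theorem exists_mem_sylow_map_eq (U : Sylow p G) (f : G →* H) (K : Subgroup H) (hK : IsPGroup p K)
    (hKn : ∀ g : G, ∀ k ∈ K, f g * k * (f g)⁻¹ ∈ K) (g : G) (hg : f g ∈ K) :
    ∃ u ∈ U, f g = f u := by
  classical
  have hsurj : Function.Surjective f.rangeRestrict := f.rangeRestrict_surjective
  let U' : Sylow p f.range := U.mapSurjective hsurj
  have : (K.subgroupOf f.range).Normal := by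
    constructor
    rintro ⟨n, hn⟩ hnK ⟨_, g', rfl⟩
    rw [Subgroup.mem_subgroupOf] at hnK ⊢
    exact hKn g' n hnK
  have hN : IsPGroup p (K.subgroupOf f.range) := hK.comap_subtype
  have hle : K.subgroupOf f.range ≤ U' := hN.le_sylow_of_normal U'
  have h1 : (⟨f g, g, rfl⟩ : f.range) ∈ (U' : Subgroup f.range) := hle (by rw [Subgroup.mem_subgroupOf]; exact hg)
  rw [Sylow.coe_mapSurjective] at h1
  obtain ⟨u, hu, hfu⟩ := h1
  refine ⟨u, hu, ?_⟩
  have := congrArg Subtype.val hfu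
  exact this.symm

end

end Cfsg.Agent.Lib.Helper86
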