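import Cfsg.Agent.Lib.Helper86.SatCritBasic
import Cfsg.Agent.Lib.Helper86.SylowAct

/-!
# Pairs `(R, Q)` with `R` fully automized and receptive (helper86)

For a fully automized receptive subgroup `R` and `Q ≤ R`, the `Aut_F(R)`-orbit of `Q` contains a member `Q₁`
such that `Aut_S(R) ∩ Stab(Q₁)` is a Sylow `p`-subgroup of the stabilizer (`SylowCond`), and then every member `Q'` of
the orbit is carried to `Q₁` by an element of `Aut_F(R)` which extends to `N_S(R) ∩ N_S(Q')`.
-/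

set_option autoImplicit false

namespace Cfsg.Agent.Lib.Helper86.SatCrit

open Cfsg Cfsg.FusionSystem Cfsg.Agent.Lib.Helper85 Cfsg.Agent.Lib.Helper87

variable {Ω : Type*} [Group Ω] {S : Subgroup Ω}

/-- The homomorphism `R →* Ω` attached to an automorphism of `R`. -/
def autHom {R : Subgroup Ω} (α : MulAut R) : R →* Ω := R.subtype.comp α.toMonoidHom

@[simp] theorem autHom_apply {R : Subgroup Ω} (α : MulAut R) (x : R) : autHom α x = ((α x : R) : Ω) := rfl

theorem autHom_mem (F : FusionSystem S) {R : Subgroup Ω} (hRS : R ≤ S) {α : MulAut R} (hα : α ∈ F.autGroup R) :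
    autHom α ∈ F.Hom R := (Helper85.mem_autGroup_iff F hRS α).1 hα

theorem autHom_range {R : Subgroup Ω} (α : MulAut R) : (autHom α).range = R := by
  ext x
  constructor
  · rintro ⟨y, rfl⟩
    exact (α y).2
  · intro hx
    exact ⟨α.symm ⟨x, hx⟩, by simp⟩

theorem mem_img_autHom {R : Subgroup Ω} (α : MulAut R) (Q : Subgroup Ω) (x : R) :
    (x : Ω) ∈ img (autHom α) Q ↔ ((α.symm x : R) : Ω) ∈ Q := by
  rw [mem_img]
  constructor
  · rintro ⟨y, hy, hyx⟩
    have : α y = x := Subtype.ext hyx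
    rw [← this, MulEquiv.symm_apply_apply]
    exact hy
  · intro h
    exact ⟨α.symm x, h, by simp⟩

theorem img_autHom_le {R : Subgroup Ω} (α : MulAut R) (Q : Subgroup Ω) : img (autHom α) Q ≤ R := by
  intro x hx
  obtain ⟨y, -, rfl⟩ := mem_img.1 hx
  exact (α y).2

/-- The stabilizer of `Q` in `Aut_F(R)`. -/
def stabSub (F : FusionSystem S) (R Q : Subgroup Ω) : Subgroup (F.autGroup R) where
  carrier := {a | ∀ x : R, (((a : MulAut R) x : R) : Ω) ∈ Q ↔ (x : Ω) ∈ Q}
  one_mem' := fun x => Iff.rfl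
  mul_mem' := by
    intro a b ha hb x
    show ((((a : MulAut R) * (b : MulAut R)) x : R) : Ω) ∈ Q ↔ _
    rw [MulAut.mul_apply, ha, hb]
  inv_mem' := by
    intro a ha x
    have h := ha ((a : MulAut R)⁻¹ x)
    rw [MulAut.apply_inv_self] at h
    exact h.symm

theorem mem_stabSub {F : FusionSystem S} {R Q : Subgroup Ω} {a : F.autGroup R} :
    a ∈ stabSub F R Q ↔ ∀ x : R, (((a : MulAut R) x : R) : Ω) ∈ Q ↔ (x : Ω) ∈ Q := Iff.rfl

/-- `Aut_S(R) ∩ Stab(Q)` is a Sylow `p`-subgroup of the stabilizer of `Q` in `Aut_F(R)`. -/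
def SylowCond (F : FusionSystem S) (p : ℕ) (R Q : Subgroup Ω) : Prop :=
  ¬ p ∣ ((autInducedBy S R).subgroupOf (F.autGroup R)).relIndex (stabSub F R Q)

/-- The action of `Aut_F(R)` on the subgroups of `R`. -/
@[reducible] def autAction (F : FusionSystem S) (R : Subgroup Ω) : MulAction (F.autGroup R) (Subgroup R) where
  smul a H := H.map (a : MulAut R).toMonoidHom
  one_smul H := by
    show H.map ((1 : MulAut R)).toMonoidHom = H
    ext x
    simp
  mul_smul a b H := by
    show H.map (((a : MulAut R) * (b : MulAut R))).toMonoidHom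
      = (H.map (b : MulAut R).toMonoidHom).map (a : MulAut R).toMonoidHom
    rw [Subgroup.map_map]
    rfl

theorem autAction_smul_def (F : FusionSystem S) (R : Subgroup Ω) (a : F.autGroup R) (H : Subgroup R) :
    (autAction F R).smul a H = H.map (a : MulAut R).toMonoidHom := rfl

theorem map_subtype_smul (F : FusionSystem S) {R : Subgroup Ω} (a : F.autGroup R) (Q : Subgroup Ω) :
    (letI := autAction F R; (a • (Q.subgroupOf R) : Subgroup R)).map R.subtype = img (autHom (a : MulAut R)) Q := by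
  show ((Q.subgroupOf R).map (a : MulAut R).toMonoidHom).map R.subtype = _
  rw [Subgroup.map_map]
  rfl

theorem smul_subgroupOf_eq_iff (F : FusionSystem S) {R : Subgroup Ω} (a : F.autGroup R) {Q Q₁ : Subgroup Ω}
    (hQ₁ : Q₁ ≤ R) :
    (letI := autAction F R; (a • (Q.subgroupOf R) : Subgroup R)) = Q₁.subgroupOf R
      ↔ img (autHom (a : MulAut R)) Q = Q₁ := by
  rw [← map_subtype_smul]
  constructor
  · intro h
    rw [h]
    exact Subgroup.map_subgroupOf_eq_of_le hQ₁
  · intro h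
    apply Subgroup.map_injective (Subgroup.subtype_injective R)
    rw [h]
    exact (Subgroup.map_subgroupOf_eq_of_le hQ₁).symm

theorem stabilizer_autAction (F : FusionSystem S) (R Q : Subgroup Ω) :
    @MulAction.stabilizer _ _ _ (autAction F R) (Q.subgroupOf R) = stabSub F R Q := by
  ext a
  let _ := autAction F R
  rw [MulAction.mem_stabilizer_iff, mem_stabSub]
  constructor
  · intro h x
    have h1 : ∀ y : R, y ∈ (Q.subgroupOf R).map (a : MulAut R).toMonoidHom ↔ y ∈ Q.subgroupOf R := by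
      intro y
      have : (a • (Q.subgroupOf R) : Subgroup R) = (Q.subgroupOf R).map (a : MulAut R).toMonoidHom := rfl
      rw [← this, h]
    constructor
    · intro hx
      have h2 := (h1 ((a : MulAut R) x)).2 (Subgroup.mem_subgroupOf.2 hx)
      obtain ⟨y, hy, hyx⟩ := h2
      have : y = x := (a : MulAut R).injective hyx
      rw [← this]
      exact Subgroup.mem_subgroupOf.1 hy
    · intro hx
      have h2 : (a : MulAut R) x ∈ (Q.subgroupOf R).map (a : MulAut R).toMonoidHom :=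
        ⟨x, Subgroup.mem_subgroupOf.2 hx, rfl⟩
      exact Subgroup.mem_subgroupOf.1 ((h1 _).1 h2)
  · intro h
    show (Q.subgroupOf R).map (a : MulAut R).toMonoidHom = Q.subgroupOf R
    ext y
    constructor
    · rintro ⟨x, hx, rfl⟩
      exact Subgroup.mem_subgroupOf.2 ((h x).2 (Subgroup.mem_subgroupOf.1 hx))
    · intro hy
      refine ⟨(a : MulAut R).symm y, ?_, by simp⟩
      show (a : MulAut R).symm y ∈ Q.subgroupOf R
      rw [Subgroup.mem_subgroupOf]
      have := h ((a : MulAut R).symm y)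
      rw [MulEquiv.apply_symm_apply] at this
      exact this.1 (Subgroup.mem_subgroupOf.1 hy)

/-- Extension through receptivity: an automorphism `α ∈ Aut_F(R)` extends to a subgroup `D ≤ N_S(R)` all of whose
elements are carried into `Aut_S(R)` by `α`. -/
theorem exists_ext_of_receptive (F : FusionSystem S) {R : Subgroup Ω} (hRr : F.IsReceptive R) {α : MulAut R}
    (hα : α ∈ F.autGroup R) {D : Subgroup Ω} (hDS : D ≤ S) (hDN : D ≤ Subgroup.normalizer (R : Set Ω))
    (h : ∀ g ∈ D, ∃ h ∈ S, ∀ (x : R) (hx : g * (x : Ω) * g⁻¹ ∈ R),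
      ((α ⟨g * x * g⁻¹, hx⟩ : R) : Ω) = h * ((α x : R) : Ω) * h⁻¹) :
    ∃ θ ∈ F.Hom D, ∀ (x : Ω) (hx : x ∈ R) (hx' : x ∈ D), θ ⟨x, hx'⟩ = ((α ⟨x, hx⟩ : R) : Ω) := by
  have hφ : autHom α ∈ F.Hom R := autHom_mem F hRr.1 hα
  obtain ⟨ψ, hψ, hψx⟩ := hRr.2 R (autHom α) hφ (autHom_range α)
  have hD : D ≤ extender S R (autHom α) := by
    intro g hg
    rw [Helper85.mem_extender_iff]
    obtain ⟨k, hk, hkx⟩ := h g hg
    exact ⟨hDS hg, hDN hg, k, hk, fun x hx => hkx x hx⟩
  refine ⟨ψ.comp (Subgroup.inclusion hD), Helper85.restrict_mem F hψ hD, fun x hx hx' => ?_⟩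
  exact hψx x hx (hD hx')

/-- The element of `Aut_F(R)` induced by `g ∈ N_S(R)`. -/
noncomputable def cAut (F : FusionSystem S) {R : Subgroup Ω} (hRS : R ≤ S) (g : Ω) (hg : g ∈ normalizerIn S R) :
    F.autGroup R :=
  ⟨conjAut R g hg.2, Helper87.autInducedBy_le_autGroup F hRS
    (Helper87.mem_autInducedBy_iff.2 ⟨g, hg.1, fun _ => rfl⟩)⟩

theorem cAut_apply (F : FusionSystem S) {R : Subgroup Ω} (hRS : R ≤ S) (g : Ω) (hg : g ∈ normalizerIn S R) (x : R) :
    ((((cAut F hRS g hg : F.autGroup R) : MulAut R) x : R) : Ω) = g * (x : Ω) * g⁻¹ := rfl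

theorem cAut_mem (F : FusionSystem S) {R : Subgroup Ω} (hRS : R ≤ S) (g : Ω) (hg : g ∈ normalizerIn S R) :
    cAut F hRS g hg ∈ (autInducedBy S R).subgroupOf (F.autGroup R) :=
  Subgroup.mem_subgroupOf.2 (Helper87.mem_autInducedBy_iff.2 ⟨g, hg.1, fun _ => rfl⟩)

theorem cAut_mem_stabSub (F : FusionSystem S) {R Q : Subgroup Ω} (hRS : R ≤ S) (g : Ω) (hg : g ∈ normalizerIn S R)
    (hgQ : g ∈ Subgroup.normalizer (Q : Set Ω)) : cAut F hRS g hg ∈ stabSub F R Q := by
  intro x
  rw [cAut_apply]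
  exact (Subgroup.mem_normalizer_iff.1 hgQ (x : Ω)).symm

variable [Finite S] {p : ℕ} [Fact p.Prime]

theorem finite_autGroup (F : FusionSystem S) {R : Subgroup Ω} (hRS : R ≤ S) : Finite (F.autGroup R) := by
  have : Finite R := finite_of_le hRS
  have : Finite (MulAut R) := Finite.of_injective (fun α : MulAut R => (α : R → R)) DFunLike.coe_injective
  infer_instance

/-- In the `Aut_F(R)`-orbit of `Q` there is a member satisfying `SylowCond`. -/
theorem exists_sylowCond (F : FusionSystem S) {R : Subgroup Ω} (hRa : F.IsFullyAutomized p R) (Q : Subgroup Ω) :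
    ∃ α ∈ F.autGroup R, SylowCond F p R (img (autHom α) Q) := by
  obtain ⟨hRS, T, hT⟩ := hRa
  have := finite_autGroup F hRS
  letI := autAction F R
  obtain ⟨g, hg⟩ := exists_smul_relIndex_stabilizer T (Q.subgroupOf R)
  refine ⟨g, g.2, ?_⟩
  unfold SylowCond
  have h1 : (g • (Q.subgroupOf R) : Subgroup R) = (img (autHom (g : MulAut R)) Q).subgroupOf R :=
    (smul_subgroupOf_eq_iff F g (img_autHom_le _ _)).2 rfl
  rw [h1, stabilizer_autAction, hT] at hg
  exact hg

/-- **Sink of the orbit.** If `Q₁` satisfies `SylowCond` and `Q'` is in its `Aut_F(R)`-orbit, some element of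
`Aut_F(R)` carrying `Q'` to `Q₁` extends to `N_S(R) ∩ N_S(Q')`. -/
theorem exists_ext_to_sink (F : FusionSystem S) {R : Subgroup Ω} (hRa : F.IsFullyAutomized p R)
    (hRr : F.IsReceptive R) {Q₁ : Subgroup Ω} (hQ₁ : Q₁ ≤ R) (hsyl : SylowCond F p R Q₁) {Q' : Subgroup Ω}
    {β : MulAut R} (hβ : β ∈ F.autGroup R) (hβQ : img (autHom β) Q' = Q₁) :
    ∃ α ∈ F.autGroup R, img (autHom α) Q' = Q₁ ∧
      ∃ θ ∈ F.Hom (normalizerIn S R ⊓ normalizerIn S Q'),
        ∀ (x : Ω) (hx : x ∈ R) (hx' : x ∈ normalizerIn S R ⊓ normalizerIn S Q'),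
          θ ⟨x, hx'⟩ = ((α ⟨x, hx⟩ : R) : Ω) := by
  obtain ⟨hRS, T, hT⟩ := hRa
  have := finite_autGroup F hRS
  letI := autAction F R
  have h₁ : ¬ p ∣ (T : Subgroup (F.autGroup R)).relIndex (MulAction.stabilizer (F.autGroup R) (Q₁.subgroupOf R)) := by
    rw [stabilizer_autAction, hT]
    exact hsyl
  have hk : ((⟨β, hβ⟩ : F.autGroup R) • (Q'.subgroupOf R) : Subgroup R) = Q₁.subgroupOf R :=
    (smul_subgroupOf_eq_iff F ⟨β, hβ⟩ hQ₁).2 hβQ
  obtain ⟨g, hg1, hg2⟩ := exists_smul_eq_conj_mem T (Q₁.subgroupOf R) h₁ (Q'.subgroupOf R) ⟨β, hβ⟩ hk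
  refine ⟨g, g.2, (smul_subgroupOf_eq_iff F g hQ₁).1 hg1, ?_⟩
  apply exists_ext_of_receptive F hRr g.2 (inf_le_left.trans (normalizerIn_le S R))
    (inf_le_left.trans inf_le_right)
  intro g₀ hg₀
  have hg₀R : g₀ ∈ normalizerIn S R := hg₀.1
  have hg₀Q : g₀ ∈ normalizerIn S Q' := hg₀.2
  have ht : cAut F hRS g₀ hg₀R ∈ T := by
    have : cAut F hRS g₀ hg₀R ∈ (T : Subgroup (F.autGroup R)) := by
      rw [hT]
      exact cAut_mem F hRS g₀ hg₀R
    exact this
  have hst : cAut F hRS g₀ hg₀R • (Q'.subgroupOf R) = Q'.subgroupOf R := by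
    have : cAut F hRS g₀ hg₀R ∈ MulAction.stabilizer (F.autGroup R) (Q'.subgroupOf R) := by
      rw [stabilizer_autAction]
      exact cAut_mem_stabSub F hRS g₀ hg₀R hg₀Q.2
    exact this
  have h3 := hg2 _ ht hst
  have h4 : g * cAut F hRS g₀ hg₀R * g⁻¹ ∈ (T : Subgroup (F.autGroup R)) := h3
  rw [hT, Subgroup.mem_subgroupOf] at h4
  obtain ⟨k, hk, hkx⟩ := Helper87.mem_autInducedBy_iff.1 h4
  refine ⟨k, hk, fun x hx => ?_⟩
  have h5 := hkx ((g : MulAut R) x)
  rw [← h5]
  simp only [Subgroup.coe_mul, Subgroup.coe_inv, MulAut.mul_apply, MulAut.inv_apply_self]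
  congr 2

end Cfsg.Agent.Lib.Helper86.SatCrit
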