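import Cfsg.Agent.Lib.Helper86.SatCritDecomp
import Cfsg.Agent.Lib.Helper86.SatCritGen

/-!
# Fully normalized members of a maximal class outside `ℋ` are sinks (helper86)

Step B of the proof of S5110: if every subgroup of `S` of order larger than `n` has a fully automized receptive
conjugate, `Ph` is fully normalized of order `n` and `F` is `ℋ`-generated where `ℋ` contains no conjugate of `Ph`, then
every conjugate `P` of `Ph` is carried onto `Ph` by a map defined on `N_S(P)`.
-/

set_option autoImplicit false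

namespace Cfsg.Agent.Lib.Helper86.SatCrit

open Cfsg Cfsg.FusionSystem Cfsg.Agent.Lib.Helper85 Cfsg.Agent.Lib.Helper87

variable {Ω : Type*} [Group Ω] {S : Subgroup Ω}

/-- every subgroup of `S` of order larger than `n` has a fully automized receptive conjugate -/
def BigGood (F : FusionSystem S) (p n : ℕ) : Prop :=
  ∀ R : Subgroup Ω, R ≤ S → n < Nat.card R →
    ∃ R', F.IsConj R R' ∧ F.IsFullyAutomized p R' ∧ F.IsReceptive R'

variable [Finite S] {p : ℕ} [Fact p.Prime]

theorem card_le_card_of_le {A B : Subgroup Ω} (hB : B ≤ S) (h : A ≤ B) : Nat.card A ≤ Nat.card B := by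
  have : Finite B := finite_of_le hB
  exact Subgroup.card_le_of_le h

theorem eq_of_le_of_card_le {A B : Subgroup Ω} (hB : B ≤ S) (h : A ≤ B) (hc : Nat.card B ≤ Nat.card A) : A = B := by
  have : Finite B := finite_of_le hB
  exact Subgroup.eq_of_le_of_card_ge h hc

/-- normalizers grow: if `R < N ≤ S` then `R < N ∩ N(R)`; stated for `N = N_S(P)`. -/
theorem card_lt_card_inf_normalizerIn (hS : IsPGroup p S) {R P : Subgroup Ω}
    (hRN : R ≤ normalizerIn S P) (hne : R ≠ normalizerIn S P) :
    Nat.card R < Nat.card ↥(normalizerIn S R ⊓ normalizerIn S P) := by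
  have hNS : normalizerIn S P ≤ S := normalizerIn_le S P
  have : Finite ↥(normalizerIn S P) := finite_of_le hNS
  have hNp : IsPGroup p ↥(normalizerIn S P) := hS.to_le hNS
  have h1 := card_lt_card_normalizerIn (S := normalizerIn S P) hNp hRN hne
  have h2 : normalizerIn (normalizerIn S P) R ≤ normalizerIn S R ⊓ normalizerIn S P := by
    rintro x ⟨hx1, hx2⟩
    exact ⟨⟨hx1.1, hx2⟩, hx1⟩
  exact h1.trans_le (card_le_card_of_le (inf_le_left.trans (normalizerIn_le S R)) h2)

/-- **Step B, inductive claim.** -/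
theorem sink_of_map (hS : IsPGroup p S) (F : FusionSystem S) {n : ℕ} (hbig : BigGood F p n) {Ph : Subgroup Ω}
    (hPh : F.IsFullyNormalized Ph) (hPhn : Nat.card Ph = n) :
    ∀ (k : ℕ) (P R : Subgroup Ω) (θ : R →* Ω), Nat.card S - Nat.card R ≤ k → θ ∈ F.Hom R → P ≤ R →
      R ≤ Subgroup.normalizer (P : Set Ω) → Nat.card P < Nat.card R → img θ P = Ph → Sink F Ph P := by
  intro k
  induction k with
  | zero =>
    intro P R θ hk hθ hPR hRN hcard himg
    have hRS : R ≤ S := (F.le_of_mem hθ).1
    have hRNS : R ≤ normalizerIn S P := le_inf hRS hRN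
    have h1 : Nat.card S ≤ Nat.card R := by omega
    have h2 : R = S := eq_of_le_of_card_le le_rfl hRS h1
    have h3 : R = normalizerIn S P := le_antisymm hRNS (h2 ▸ normalizerIn_le S P)
    obtain ⟨χ, hχ, -, hχimg⟩ := exists_of_eq F h3 hθ
    exact ⟨χ, hχ, by rw [hχimg, himg]⟩
  | succ k ih =>
    intro P R θ hk hθ hPR hRN hcard himg
    have hRS : R ≤ S := (F.le_of_mem hθ).1
    have hRNS : R ≤ normalizerIn S P := le_inf hRS hRN
    by_cases hne : R = normalizerIn S P
    · obtain ⟨χ, hχ, -, hχimg⟩ := exists_of_eq F hne hθ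
      exact ⟨χ, hχ, by rw [hχimg, himg]⟩
    have hPS : P ≤ S := hPR.trans hRS
    have hconjP : F.IsConj P Ph := himg ▸ isConj_img F hθ hPR
    have hPn : Nat.card P = n := by rw [← hPhn]; exact Helper85.isConj_card_eq F hconjP
    have hinj : Function.Injective θ := F.injective_of_mem hθ
    have hR'S : θ.range ≤ S := Helper85.range_le_of_mem_Hom F hθ
    have hcardR' : Nat.card θ.range = Nat.card R := by
      rw [← img_self θ, card_img hinj le_rfl]
    -- M and M'
    have hM : Nat.card R < Nat.card ↥(normalizerIn S R ⊓ normalizerIn S P) :=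
      card_lt_card_inf_normalizerIn hS hRNS hne
    have hR'N : θ.range ≤ normalizerIn S (img θ P) := by
      rintro _ ⟨y, rfl⟩
      exact map_mem_normalizerIn_img F hθ y (hRN y.2)
    have hcardN : Nat.card ↥(normalizerIn S P) ≤ Nat.card ↥(normalizerIn S (img θ P)) := by
      rw [himg]
      exact hPh.2 P (Helper85.isConj_symm F hconjP)
    have hRlt : Nat.card R < Nat.card ↥(normalizerIn S P) := by
      rcases Nat.lt_or_ge (Nat.card R) (Nat.card ↥(normalizerIn S P)) with h | h
      · exact h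
      · exact absurd (eq_of_le_of_card_le (normalizerIn_le S P) hRNS h) hne
    have hne' : θ.range ≠ normalizerIn S (img θ P) := by
      intro h
      rw [← h, hcardR'] at hcardN
      omega
    have hM' : Nat.card θ.range < Nat.card ↥(normalizerIn S θ.range ⊓ normalizerIn S (img θ P)) :=
      card_lt_card_inf_normalizerIn hS hR'N hne'
    -- the good conjugate of R
    obtain ⟨Rs, hconj, hRsa, hRsr⟩ := hbig R hRS (hPn ▸ hcard)
    obtain ⟨P₂, ω, ω', γ, hP₂Rs, hRsN, -, hω, hωR, hωP, hω', hω'R, hω'P, -, -, -⟩ :=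
      exists_decomp hS F hθ hPR hRN hRsa hRsr hconj
    have hMS : normalizerIn S R ⊓ normalizerIn S P ≤ S := inf_le_left.trans (normalizerIn_le S R)
    have hM'S : normalizerIn S θ.range ⊓ normalizerIn S (img θ P) ≤ S :=
      inf_le_left.trans (normalizerIn_le S θ.range)
    have hcardMS := card_le_card_of_le le_rfl hMS
    have hcardM'S := card_le_card_of_le le_rfl hM'S
    -- P₂ is a sink
    have hsink₂ : Sink F Ph P₂ := by
      obtain ⟨ψ, hψ, -, hψimg⟩ := exists_inverse F hω'
      have hinj' : Function.Injective ω' := F.injective_of_mem hω'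
      have hP'M' : img θ P ≤ normalizerIn S θ.range ⊓ normalizerIn S (img θ P) :=
        (img_le_range θ P).trans (le_inf (le_normalizerIn hR'S) hR'N)
      have hcr : Nat.card ω'.range = Nat.card ↥(normalizerIn S θ.range ⊓ normalizerIn S (img θ P)) := by
        rw [← img_self ω', card_img hinj' le_rfl]
      apply ih P₂ ω'.range ψ ?_ hψ ?_ ?_ ?_ ?_
      · omega
      · rw [← hω'P]
        exact img_le_range ω' _
      · rw [← hω'P, ← img_self ω']
        exact img_le_normalizer_img ω' (inf_le_right.trans inf_le_right)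
      · have : Nat.card P₂ = Nat.card P := by
          rw [← hωP]
          exact card_img (F.injective_of_mem hω) (hPR.trans (le_inf (le_normalizerIn hRS) hRNS))
        omega
      · rw [← hω'P, hψimg _ hP'M', himg]
    obtain ⟨ρ₂, hρ₂, hρ₂img⟩ := hsink₂
    -- P is a sink
    have hωN : ∀ d : ↥(normalizerIn S R ⊓ normalizerIn S P), ω d ∈ normalizerIn S P₂ := by
      intro d
      have := map_mem_normalizerIn_img F hω (P := P) d d.2.2.2
      rwa [hωP] at this
    obtain ⟨χ, hχ, -, hχimg⟩ := exists_comp F hω hρ₂ hωN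
    apply ih P _ χ ?_ hχ (hPR.trans (le_inf (le_normalizerIn hRS) hRNS)) (inf_le_right.trans inf_le_right) ?_ ?_
    · omega
    · omega
    · rw [hχimg, hωP, hρ₂img]

theorem card_lt_card_of_lt {A B : Subgroup Ω} (hB : B ≤ S) (h : A ≤ B) (hne : A ≠ B) : Nat.card A < Nat.card B := by
  rcases Nat.lt_or_ge (Nat.card A) (Nat.card B) with h1 | h1
  · exact h1
  · exact absurd (eq_of_le_of_card_le hB h h1) hne

/-- a subgroup mapped onto a sink by a map defined on a strictly larger subgroup is a sink -/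
theorem sink_of_sink_img (hS : IsPGroup p S) (F : FusionSystem S) {n : ℕ} (hbig : BigGood F p n) {Ph : Subgroup Ω}
    (hPh : F.IsFullyNormalized Ph) (hPhn : Nat.card Ph = n) {R P : Subgroup Ω} {θ : R →* Ω} (hθ : θ ∈ F.Hom R)
    (hPR : P ≤ R) (hne : P ≠ R) (h : Sink F Ph (img θ P)) : Sink F Ph P := by
  have hRS : R ≤ S := (F.le_of_mem hθ).1
  have : Finite R := finite_of_le hRS
  obtain ⟨ρ', hρ', hρ'img⟩ := h
  have hlt : Nat.card P < Nat.card ↥(normalizerIn R P) := card_lt_card_normalizerIn (hS.to_le hRS) hPR hne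
  have hle : normalizerIn R P ≤ R := inf_le_left
  obtain ⟨θ₀, hθ₀, -, hθ₀img⟩ := exists_restrict (R₀ := normalizerIn R P) F hθ hle
  have hPR₀ : P ≤ normalizerIn R P := le_normalizerIn hPR
  have hθ₀N : ∀ d : ↥(normalizerIn R P), θ₀ d ∈ normalizerIn S (img θ P) := by
    intro d
    have := map_mem_normalizerIn_img F hθ₀ (P := P) d d.2.2
    rwa [hθ₀img P hPR₀] at this
  obtain ⟨χ, hχ, -, hχimg⟩ := exists_comp F hθ₀ hρ' hθ₀N
  exact sink_of_map hS F hbig hPh hPhn _ P (normalizerIn R P) χ le_rfl hχ hPR₀ inf_le_right hlt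
    (by rw [hχimg, hθ₀img P hPR₀, hρ'img])

omit [Finite S] in
theorem sink_self (F : FusionSystem S) {Ph : Subgroup Ω} (hPhS : Ph ≤ S) : Sink F Ph Ph :=
  ⟨_, Helper85.id_mem F (normalizerIn_le S Ph), img_subtype (le_normalizerIn hPhS)⟩

/-- **Step B.** Every conjugate of the fully normalized `Ph` is carried onto `Ph` by a map defined on its normalizer. -/
theorem sink_all (hS : IsPGroup p S) (F : FusionSystem S) (ℋ : Set (Subgroup Ω))
    (hgen : ∀ E : FusionSystem S, (∀ P ∈ ℋ, F.Hom P ⊆ E.Hom P) → F ≤ E) (hSℋ : S ∈ ℋ) {n : ℕ}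
    (hbig : BigGood F p n) {Ph : Subgroup Ω} (hPh : F.IsFullyNormalized Ph) (hPhn : Nat.card Ph = n)
    (hPhℋ : ∀ P, F.IsConj Ph P → P ∉ ℋ) : ∀ P, F.IsConj Ph P → Sink F Ph P := by
  have key := forall_good_of_gen F ℋ hgen hSℋ {P | F.IsConj Ph P}
    (fun P hP Q hPQ => Helper85.isConj_trans F hP hPQ)
    (fun P φ => Sink F Ph P ↔ Sink F Ph φ.range) ?_ ?_ ?_
  · intro P hP
    obtain ⟨φ, hφ, hφr⟩ := Helper85.isConj_symm F hP
    have h1 := key P hP φ hφ
    rw [hφr] at h1
    exact h1.2 (sink_self F hPh.1)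
  · -- composition
    intro P _ φ ψ _ _ h1 h2
    have : (ψ.comp φ.rangeRestrict).range = ψ.range := by
      ext x
      constructor
      · rintro ⟨y, rfl⟩
        exact ⟨_, rfl⟩
      · rintro ⟨⟨_, y, rfl⟩, rfl⟩
        exact ⟨y, rfl⟩
    rw [this]
    exact h1.trans h2
  · -- inverses
    intro P _ φ ψ _ _ hψx h1
    have : ψ.range = P := by
      ext x
      constructor
      · rintro ⟨⟨_, y, rfl⟩, rfl⟩
        rw [hψx]
        exact y.2
      · intro hx
        exact ⟨⟨φ ⟨x, hx⟩, ⟨_, rfl⟩⟩, hψx _⟩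
    rw [this]
    exact h1.symm
  · -- maps with source in ℋ
    intro R hR θ hθ P hP hPR
    have hRS : R ≤ S := (F.le_of_mem hθ).1
    have hne : P ≠ R := fun h => hPhℋ P hP (h ▸ hR)
    rw [range_restrict_eq_img]
    constructor
    · intro h
      obtain ⟨ψ, hψ, -, hψimg⟩ := exists_inverse F hθ
      have hne' : img θ P ≠ θ.range := by
        intro h'
        have h1 : Nat.card (img θ P) = Nat.card P := card_img (F.injective_of_mem hθ) hPR
        have h2 : Nat.card θ.range = Nat.card R := by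
          rw [← img_self θ, card_img (F.injective_of_mem hθ) le_rfl]
        have h3 := card_lt_card_of_lt hRS hPR hne
        rw [h'] at h1
        omega
      apply sink_of_sink_img hS F hbig hPh hPhn hψ (img_le_range θ P) hne'
      rw [hψimg P hPR]
      exact h
    · exact sink_of_sink_img hS F hbig hPh hPhn hθ hPR hne

end Cfsg.Agent.Lib.Helper86.SatCrit
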