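import Cfsg.Agent.Lib.Helper86.SatCritPrep
import Cfsg.Agent.Lib.Helper86.ResidualLimit

/-!
# The stabilizer of `P` in `Aut_F(R)` and its restriction to `P` (helper86)

`resStab` is the restriction homomorphism `Stab_{Aut_F(R)}(P) → Aut(P)`. Under `SylowCond` the subgroup of the
stabilizer induced by `S` is a Sylow `p`-subgroup, and Frattini-type arguments (`exists_adjust`) allow to modify an
element of the stabilizer by an element of the kernel of the restriction so that it extends to `N_S^K(P) ∩ N_S(R)`.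
-/

set_option autoImplicit false
set_option linter.unusedSectionVars false
set_option linter.unusedVariables false

namespace Cfsg.Agent.Lib.Helper86.SatCrit

open Cfsg Cfsg.FusionSystem Cfsg.Agent.Lib.Helper85 Cfsg.Agent.Lib.Helper87

variable {Ω : Type*} [Group Ω] {S : Subgroup Ω}

theorem stab_apply_mem {F : FusionSystem S} {R P : Subgroup Ω} (a : stabSub F R P) (u : R) (hu : (u : Ω) ∈ P) :
    ((((a : F.autGroup R) : MulAut R) u : R) : Ω) ∈ P := (a.2 u).2 hu

theorem stab_symm_apply_mem {F : FusionSystem S} {R P : Subgroup Ω} (a : stabSub F R P) (u : R) (hu : (u : Ω) ∈ P) :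
    ((((a : F.autGroup R) : MulAut R).symm u : R) : Ω) ∈ P := by
  have h := a.2 (((a : F.autGroup R) : MulAut R).symm u)
  rw [MulEquiv.apply_symm_apply] at h
  exact h.1 hu

/-- restriction to `P` of the elements of the stabilizer of `P` in `Aut_F(R)` -/
noncomputable def resStab (F : FusionSystem S) {R P : Subgroup Ω} (hPR : P ≤ R) : stabSub F R P →* MulAut P :=
  MonoidHom.mk' (fun a => Cfsg.Agent.Lib.Helper86.restrictAut ((a : F.autGroup R) : MulAut R) hPR
    (stab_apply_mem a) (stab_symm_apply_mem a)) (by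
      intro a b
      ext u
      rfl)

theorem resStab_apply (F : FusionSystem S) {R P : Subgroup Ω} (hPR : P ≤ R) (a : stabSub F R P) (u : P) :
    ((resStab F hPR a u : P) : Ω) = ((((a : F.autGroup R) : MulAut R) ⟨u, hPR u.2⟩ : R) : Ω) := rfl

theorem resStab_mem_autGroup (F : FusionSystem S) {R P : Subgroup Ω} (hRS : R ≤ S) (hPR : P ≤ R)
    (a : stabSub F R P) : resStab F hPR a ∈ F.autGroup P := by
  rw [Helper85.mem_autGroup_iff F (hPR.trans hRS)]
  have h1 : autHom ((a : F.autGroup R) : MulAut R) ∈ F.Hom R := autHom_mem F hRS (a : F.autGroup R).2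
  exact Helper85.restrict_mem' F h1 hPR _ (fun _ => rfl)

/-- the element of the stabilizer attached to an automorphism in `Aut_F(R)` stabilizing `P` -/
def toStab (F : FusionSystem S) {R P : Subgroup Ω} (γ : MulAut R) (hγ : γ ∈ F.autGroup R)
    (hγP : ∀ x : R, ((γ x : R) : Ω) ∈ P ↔ (x : Ω) ∈ P) : stabSub F R P := ⟨⟨γ, hγ⟩, hγP⟩

theorem stab_iff_of_img_eq {R P : Subgroup Ω} (hPR : P ≤ R) (γ : MulAut R) (h : img (autHom γ) P = P) (x : R) :
    ((γ x : R) : Ω) ∈ P ↔ (x : Ω) ∈ P := by
  have h1 := mem_img_autHom γ P (γ x)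
  rw [h, MulEquiv.symm_apply_apply] at h1
  exact h1

theorem img_eq_of_stab {R P : Subgroup Ω} (hPR : P ≤ R) (γ : MulAut R)
    (h : ∀ x : R, ((γ x : R) : Ω) ∈ P ↔ (x : Ω) ∈ P) : img (autHom γ) P = P := by
  ext y
  constructor
  · intro hy
    obtain ⟨x, hx, rfl⟩ := mem_img.1 hy
    exact (h x).2 hx
  · intro hy
    have := (mem_img_autHom γ P ⟨y, hPR hy⟩).2 ?_
    · exact this
    · have h2 := h (γ.symm ⟨y, hPR hy⟩)
      rw [MulEquiv.apply_symm_apply] at h2
      exact h2.1 hy

variable [Finite S] {p : ℕ} [Fact p.Prime]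

/-- the subgroup of the stabilizer induced by `S` -/
def stabS (F : FusionSystem S) (R P : Subgroup Ω) : Subgroup (stabSub F R P) :=
  ((autInducedBy S R).subgroupOf (F.autGroup R)).subgroupOf (stabSub F R P)

theorem mem_stabS {F : FusionSystem S} {R P : Subgroup Ω} {a : stabSub F R P} :
    a ∈ stabS F R P ↔ ((a : F.autGroup R) : MulAut R) ∈ autInducedBy S R := by
  unfold stabS
  rw [Subgroup.mem_subgroupOf, Subgroup.mem_subgroupOf]

theorem stabS_isPGroup (hS : IsPGroup p S) (F : FusionSystem S) (R P : Subgroup Ω) : IsPGroup p (stabS F R P) :=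
  ((autInducedBy_isPGroup hS R).comap_subtype).comap_subtype

/-- the Sylow `p`-subgroup of the stabilizer given by `SylowCond` -/
noncomputable def stabSylow (hS : IsPGroup p S) (F : FusionSystem S) {R P : Subgroup Ω} (hsyl : SylowCond F p R P) :
    Sylow p (stabSub F R P) :=
  (stabS_isPGroup hS F R P).toSylow hsyl

theorem mem_stabSylow (hS : IsPGroup p S) (F : FusionSystem S) {R P : Subgroup Ω} (hsyl : SylowCond F p R P)
    {a : stabSub F R P} : a ∈ stabSylow hS F hsyl ↔ ((a : F.autGroup R) : MulAut R) ∈ autInducedBy S R := by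
  show a ∈ stabS F R P ↔ _
  exact mem_stabS

theorem finite_stabSub (F : FusionSystem S) {R : Subgroup Ω} (hRS : R ≤ S) (P : Subgroup Ω) :
    Finite (stabSub F R P) := by
  have := finite_autGroup F hRS
  infer_instance

/-- the element of the stabilizer induced by `x ∈ N_S(R) ∩ N(P)` -/
noncomputable def cStab (F : FusionSystem S) {R P : Subgroup Ω} (hRS : R ≤ S) (x : Ω) (hx : x ∈ normalizerIn S R)
    (hxP : x ∈ Subgroup.normalizer (P : Set Ω)) : stabSub F R P :=
  ⟨cAut F hRS x hx, cAut_mem_stabSub F hRS x hx hxP⟩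

theorem cStab_apply (F : FusionSystem S) {R P : Subgroup Ω} (hRS : R ≤ S) (x : Ω) (hx : x ∈ normalizerIn S R)
    (hxP : x ∈ Subgroup.normalizer (P : Set Ω)) (r : R) :
    (((((cStab F hRS x hx hxP : stabSub F R P) : F.autGroup R) : MulAut R) r : R) : Ω) = x * (r : Ω) * x⁻¹ := rfl

/-- an automorphism `α` of `R` with `α c_x α⁻¹ ∈ Aut_S(R)` has `x` in its extender -/
theorem mem_extender_of_conj_mem (F : FusionSystem S) {R : Subgroup Ω} (hRS : R ≤ S) (α : F.autGroup R) (x : Ω)
    (hx : x ∈ normalizerIn S R)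
    (h : ((α * cAut F hRS x hx * α⁻¹ : F.autGroup R) : MulAut R) ∈ autInducedBy S R) :
    x ∈ extender S R (autHom (α : MulAut R)) := by
  rw [Helper85.mem_extender_iff]
  obtain ⟨k, hk, hkx⟩ := Helper87.mem_autInducedBy_iff.1 h
  refine ⟨hx.1, hx.2, k, hk, fun r hr => ?_⟩
  have h5 := hkx ((α : MulAut R) r)
  rw [autHom_apply, autHom_apply, ← h5]
  simp only [Subgroup.coe_mul, Subgroup.coe_inv, MulAut.mul_apply, MulAut.inv_apply_self]
  congr 2

theorem le_extender_self (F : FusionSystem S) {R : Subgroup Ω} (hRS : R ≤ S) (α : MulAut R) :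
    R ≤ extender S R (autHom α) := by
  intro r hr
  rw [Helper85.mem_extender_iff]
  refine ⟨hRS hr, Subgroup.le_normalizer hr, ((α ⟨r, hr⟩ : R) : Ω), hRS (α ⟨r, hr⟩).2, fun x hx => ?_⟩
  rw [autHom_apply, autHom_apply]
  have : (⟨r * (x : Ω) * r⁻¹, hx⟩ : R) = ⟨r, hr⟩ * x * ⟨r, hr⟩⁻¹ := rfl
  rw [this]
  simp

/-- **Frattini adjustment.** -/
theorem exists_adjust (hS : IsPGroup p S) (F : FusionSystem S) {R P : Subgroup Ω} (hRS : R ≤ S) (hPR : P ≤ R)
    (hsyl : SylowCond F p R P) (γ : stabSub F R P) :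
    ∃ γ' : stabSub F R P, resStab F hPR γ' = resStab F hPR γ ∧
      nKp F p P ⊓ normalizerIn S R ≤ extender S R (autHom (((γ' : stabSub F R P) : F.autGroup R) : MulAut R)) := by
  have := finite_stabSub F hRS P
  set U := stabSylow hS F hsyl with hU
  set f := resStab F hPR with hf
  let V : Subgroup (stabSub F R P) := (U : Subgroup (stabSub F R P)) ⊓ (Kp F p P).comap f
  have hKn : ∀ g : stabSub F R P, ∀ k ∈ Kp F p P, f g * k * (f g)⁻¹ ∈ Kp F p P :=
    fun g k hk => Kp_conj_mem F p (resStab_mem_autGroup F hRS hPR g) hk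
  have h1 : ∀ v ∈ V, ∃ u ∈ U, f (γ * v * γ⁻¹) = f u := by
    intro v hv
    apply exists_mem_sylow_map_eq U f (Kp F p P) (Kp_isPGroup F p P) hKn
    rw [map_mul, map_mul, map_inv]
    exact hKn γ _ hv.2
  obtain ⟨a, ha, hav⟩ := exists_ker_conj_mem U f γ V inf_le_left h1
  refine ⟨a * γ, ?_, ?_⟩
  · rw [map_mul, MonoidHom.mem_ker.1 ha, one_mul]
  · intro x hx
    have hxR : x ∈ normalizerIn S R := hx.2
    have hxP : x ∈ Subgroup.normalizer (P : Set Ω) := (nKp_le_normalizerIn F p P hx.1).2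
    obtain ⟨-, κ, hκ, hκx⟩ := mem_nKp.1 hx.1
    have hvV : cStab F hRS x hxR hxP ∈ V := by
      refine ⟨?_, ?_⟩
      · show cStab F hRS x hxR hxP ∈ U
        rw [hU, mem_stabSylow]
        exact Helper87.mem_autInducedBy_iff.2 ⟨x, hxR.1, fun _ => rfl⟩
      · show f (cStab F hRS x hxR hxP) ∈ Kp F p P
        have : f (cStab F hRS x hxR hxP) = κ := by
          ext u
          rw [hκx]
          rfl
        rw [this]
        exact hκ
    have h2 := hav _ hvV
    rw [hU, mem_stabSylow] at h2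
    apply mem_extender_of_conj_mem F hRS _ x hxR
    have h3 : a * (γ * cStab F hRS x hxR hxP * γ⁻¹) * a⁻¹ = a * γ * cStab F hRS x hxR hxP * (a * γ)⁻¹ := by
      group
    rw [h3] at h2
    exact h2

end Cfsg.Agent.Lib.Helper86.SatCrit
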