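/-
SLMD-[G-CONST] hedge (project SLMD = S2332, coordinator helper32): the Skel names, from
`Cfsg.Agent.Lib.Helper86.SlmdGConst` (SlmdGConstCore.lean).  Import this file ONLY if no other G-CONST is imported.
-/
import Mathlib
import Cfsg.Agent.Lib.Helper32.SLMD.Defs2
import Cfsg.Agent.Lib.Helper86.SlmdGConstCore

set_option autoImplicit false
set_option linter.unusedSectionVars false
set_option linter.unusedVariables false

namespace Cfsg.Agent.Lib.Helper32.SLMD

open Matrix Cfsg.Agent.Lib.Helper41 Cfsg.Agent.Lib.Helper39 Module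
open scoped LinearAlgebra.Projectivization

section generic

variable {G : Type*} [Group G] {N : Type*} [Group N] [Fintype N] {H : Type*} [Group H]
  {V : Type*} [AddCommGroup V] [Module ℂ V] [FiniteDimensional ℂ V]

/-- [G-CONST] -/
theorem const_mult (ρ : Representation ℂ G V) (ν : N →* G) (τ : ℂ)
    (hτ : ∀ n : N, n ≠ 1 → ρ.character (ν n) = τ) (lam : N →* ℂˣ) (hlam : lam ≠ 1) :
    (Fintype.card N : ℂ) * (finrank ℂ ↥(eigenSub ρ ν lam) : ℂ) = (finrank ℂ V : ℂ) - τ :=
  Cfsg.Agent.Lib.Helper86.SlmdGConst.const_mult ρ ν τ hτ lam hlam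

/-- [G-CONST] -/
theorem const_fix (ρ : Representation ℂ G V) (ν : N →* G) (τ : ℂ)
    (hτ : ∀ n : N, n ≠ 1 → ρ.character (ν n) = τ) :
    (Fintype.card N : ℂ) * (finrank ℂ ↥(eigenSub ρ ν 1) : ℂ) =
      (finrank ℂ V : ℂ) + ((Fintype.card N : ℂ) - 1) * τ :=
  Cfsg.Agent.Lib.Helper86.SlmdGConst.const_fix ρ ν τ hτ

end generic

end Cfsg.Agent.Lib.Helper32.SLMD
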