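/-
helper86, project S2281 (owner helper53): hedge of module [INST], second half: the hypotheses
`Gen R K c` for `K = ⟨u, g u g⁻¹, h u h⁻¹⟩`, for ANY root system `R` whose root elements are the
concrete `tauE (avec u a k) s`, `sigE (avec u a j) (avec u a k) s` and whose shift is conjugation
by `u`.  All declarations live in `Cfsg.Agent.Lib.Helper86.SpReg`.
-/
import Mathlib
import Cfsg.Agent.Lib.Helper53.SpReg.Defs
import Cfsg.Agent.Lib.Helper53.SpReg.Act
import Cfsg.Agent.Lib.Helper14.SpRegCalcComm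
import Cfsg.Agent.Lib.Helper11.SpRegGram

set_option autoImplicit false

namespace Cfsg.Agent.Lib.Helper86.SpReg

open Matrix
open Cfsg.Agent.Lib.Helper53.SpReg

section grp

variable {G : Type*} [Group G]

theorem pair_mem_of_conj (K : Subgroup G) (u g : G) (hu : u ∈ K) (hgu : g * u * g⁻¹ ∈ K) (r : ℤ) :
    g * (u ^ r * g * (u ^ r)⁻¹)⁻¹ ∈ K := by
  have h1 : g * u ^ r * g⁻¹ ∈ K := by
    rw [← conj_zpow]
    exact K.zpow_mem hgu r
  have h2 : (u ^ r)⁻¹ ∈ K := K.inv_mem (K.zpow_mem hu r)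
  have h3 : g * (u ^ r * g * (u ^ r)⁻¹)⁻¹ = g * u ^ r * g⁻¹ * (u ^ r)⁻¹ := by
    rw [_root_.mul_inv_rev, _root_.mul_inv_rev, inv_inv]
    simp only [mul_assoc]
  rw [h3]
  exact K.mul_mem h1 h2

theorem conj_zpow_mem_iff (K : Subgroup G) (u : G) (hu : u ∈ K) (k : ℤ) (x : G) :
    u ^ k * x * (u ^ k)⁻¹ ∈ K ↔ x ∈ K := by
  rw [K.mul_mem_cancel_right (K.inv_mem (K.zpow_mem hu k)), K.mul_mem_cancel_left (K.zpow_mem hu k)]

theorem inv_of_add {E : Type*} [AddGroup E] (f : E → G) (hf : ∀ s t, f (s + t) = f s * f t) (s : E) :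
    f (-s) = (f s)⁻¹ := by
  have h0 : f 0 = 1 := by
    have := hf 0 0
    rw [add_zero] at this
    exact (mul_eq_left.mp this.symm)
  rw [eq_inv_iff_mul_eq_one, ← hf, neg_add_cancel, h0]

end grp

variable {n : ℕ} {F : Type*} [Field F]

theorem tauE_neg (x : Fin n ⊕ Fin n → F) (s : F) :
    (tauE x (-s) : Matrix.symplecticGroup (Fin n) F) = (tauE x s)⁻¹ :=
  inv_of_add (fun t => (tauE x t : Matrix.symplecticGroup (Fin n) F))
    (Cfsg.Agent.Lib.Helper14.SpReg.tauE_add x) s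

theorem sigE_neg (x y : Fin n ⊕ Fin n → F) (s : F) :
    (sigE x y (-s) : Matrix.symplecticGroup (Fin n) F) = (sigE x y s)⁻¹ :=
  inv_of_add (fun t => (sigE x y t : Matrix.symplecticGroup (Fin n) F))
    (Cfsg.Agent.Lib.Helper14.SpReg.sigE_add x y) s

theorem conj_zpow_tauE (u : Matrix.symplecticGroup (Fin n) F) (a : Fin n ⊕ Fin n → F) (m k : ℤ)
    (s : F) : u ^ m * tauE (avec u a k) s * (u ^ m)⁻¹ = tauE (avec u a (k + m)) s := by
  rw [Cfsg.Agent.Lib.Helper14.SpReg.conj_tauE, Cfsg.Agent.Lib.Helper11.SpReg.avec_zpow]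

theorem conj_zpow_sigE (u : Matrix.symplecticGroup (Fin n) F) (a : Fin n ⊕ Fin n → F) (m j k : ℤ)
    (s : F) : u ^ m * sigE (avec u a j) (avec u a k) s * (u ^ m)⁻¹ =
      sigE (avec u a (j + m)) (avec u a (k + m)) s := by
  rw [Cfsg.Agent.Lib.Helper14.SpReg.conj_sigE, Cfsg.Agent.Lib.Helper11.SpReg.avec_zpow,
    Cfsg.Agent.Lib.Helper11.SpReg.avec_zpow]

/-- **S2281-[INST], second half, generic form.** -/
theorem gen_of_closure_core {u : Matrix.symplecticGroup (Fin n) F} {a : Fin n ⊕ Fin n → F} (c : F)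
    (R : RootSys F (Matrix.symplecticGroup (Fin n) F) n)
    (hT : ∀ (k : ℤ) (s : F), R.T k s = tauE (avec u a k) s)
    (hS : ∀ (j k : ℤ) (s : F), R.S j k s = sigE (avec u a j) (avec u a k) s)
    (hsh : ∀ x, R.sh x = u * x * u⁻¹) :
    Gen R (Subgroup.closure ({u, tauE a c * u * (tauE a c)⁻¹,
      sigE a (avec u a 1) c * u * (sigE a (avec u a 1) c)⁻¹} :
        Set (Matrix.symplecticGroup (Fin n) F))) c := by
  set K := Subgroup.closure ({u, tauE a c * u * (tauE a c)⁻¹,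
      sigE a (avec u a 1) c * u * (sigE a (avec u a 1) c)⁻¹} :
        Set (Matrix.symplecticGroup (Fin n) F)) with hK
  have hu : u ∈ K := Subgroup.subset_closure (Set.mem_insert _ _)
  have hgu : tauE a c * u * (tauE a c)⁻¹ ∈ K :=
    Subgroup.subset_closure (Set.mem_insert_of_mem _ (Set.mem_insert _ _))
  have hhu : sigE a (avec u a 1) c * u * (sigE a (avec u a 1) c)⁻¹ ∈ K :=
    Subgroup.subset_closure
      (Set.mem_insert_of_mem _ (Set.mem_insert_of_mem _ (Set.mem_singleton _)))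
  have ha0 : avec u a 0 = a := Cfsg.Agent.Lib.Helper11.SpReg.avec_zero u a
  refine ⟨?_, ?_, ?_⟩
  · intro x
    rw [hsh]
    rw [K.mul_mem_cancel_right (K.inv_mem hu), K.mul_mem_cancel_left hu]
  · intro j k
    rw [hT, hT]
    have h1 := pair_mem_of_conj K u (tauE a c) hu hgu (j - k)
    have h2 : u ^ (j - k) * tauE a c * (u ^ (j - k))⁻¹ = tauE (avec u a (j - k)) c := by
      have := conj_zpow_tauE u a (j - k) 0 c
      rw [ha0, zero_add] at this
      exact this
    rw [h2, ← tauE_neg] at h1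
    rw [← conj_zpow_mem_iff K u hu k] at h1
    rw [← conj_mul] at h1
    have h3 := conj_zpow_tauE u a k 0 c
    rw [ha0, zero_add] at h3
    rw [h3, conj_zpow_tauE, sub_add_cancel] at h1
    exact h1
  · intro j k
    rw [hS, hS]
    have h1 := pair_mem_of_conj K u (sigE a (avec u a 1) c) hu hhu (j - k)
    have h2 : u ^ (j - k) * sigE a (avec u a 1) c * (u ^ (j - k))⁻¹ =
        sigE (avec u a (j - k)) (avec u a (1 + (j - k))) c := by
      have := conj_zpow_sigE u a (j - k) 0 1 c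
      rw [ha0, zero_add] at this
      exact this
    rw [h2, ← sigE_neg] at h1
    rw [← conj_zpow_mem_iff K u hu k] at h1
    rw [← conj_mul] at h1
    have h3 := conj_zpow_sigE u a k 0 1 c
    rw [ha0, zero_add] at h3
    rw [h3, conj_zpow_sigE, sub_add_cancel] at h1
    have e1 : (1 : ℤ) + k = k + 1 := by ring
    have e2 : (1 : ℤ) + (j - k) + k = j + 1 := by ring
    rw [e1, e2] at h1
    exact h1

end Cfsg.Agent.Lib.Helper86.SpReg
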