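/-
helper86, project S2281 (owner helper53): hedge of module [INST]: the concrete root system
`rootSys hp` of a good pair `(u, a)` and the hypotheses `Gen (rootSys hp) ⟨u, g u g⁻¹, h u h⁻¹⟩ c`.
All declarations live in `Cfsg.Agent.Lib.Helper86.SpReg`.
-/
import Mathlib
import Cfsg.Agent.Lib.Helper53.SpReg.Defs
import Cfsg.Agent.Lib.Helper53.SpReg.Act
import Cfsg.Agent.Lib.Helper14.SpRegCalcComm
import Cfsg.Agent.Lib.Helper25.SpRegCalcRel
import Cfsg.Agent.Lib.Helper11.SpRegGram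
import Cfsg.Agent.Lib.Helper86.SpRegGenCore

set_option autoImplicit false

namespace Cfsg.Agent.Lib.Helper86.SpReg

open Matrix
open Cfsg.Agent.Lib.Helper53.SpReg

variable {n : ℕ} {F : Type*} [Field F]

theorem gram_neg_one {u : Matrix.symplecticGroup (Fin n) F} {a : Fin n ⊕ Fin n → F}
    (hp : GoodPair u a) (j : ℤ) :
    Cfsg.sympForm n F (avec u a (j + n)) (avec u a j) = -1 := by
  rw [Cfsg.Agent.Lib.Helper13.sympForm_swap, Cfsg.Agent.Lib.Helper11.SpReg.gram_one hp]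

theorem gram_one' {u : Matrix.symplecticGroup (Fin n) F} {a : Fin n ⊕ Fin n → F}
    (hp : GoodPair u a) (j : ℤ) :
    Cfsg.sympForm n F (avec u a (j - n)) (avec u a j) = 1 := by
  have h := Cfsg.Agent.Lib.Helper11.SpReg.gram_one hp (j - n)
  rwa [sub_add_cancel] at h

theorem gram_neg_one' {u : Matrix.symplecticGroup (Fin n) F} {a : Fin n ⊕ Fin n → F}
    (hp : GoodPair u a) (j : ℤ) :
    Cfsg.sympForm n F (avec u a j) (avec u a (j - n)) = -1 := by
  rw [Cfsg.Agent.Lib.Helper13.sympForm_swap, gram_one' hp]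

theorem inst_rel_TSp {u : Matrix.symplecticGroup (Fin n) F} {a : Fin n ⊕ Fin n → F}
    (hp : GoodPair u a) (l k : ℤ) (s t : F) (h1 : l < k) (h2 : k < l + (n : ℤ)) :
    (tauE (avec u a l) t : Matrix.symplecticGroup (Fin n) F) *
        sigE (avec u a (l + (n : ℤ))) (avec u a k) s =
      sigE (avec u a l) (avec u a k) (-(s * t)) * tauE (avec u a k) (-(s ^ 2 * t)) *
        sigE (avec u a (l + (n : ℤ))) (avec u a k) s * tauE (avec u a l) t := by
  have hxy := Cfsg.Agent.Lib.Helper11.SpReg.gram_zero hp (l + (n : ℤ)) k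
    (abs_lt.mpr ⟨by omega, by omega⟩)
  have hyz := Cfsg.Agent.Lib.Helper11.SpReg.gram_zero hp k l (abs_lt.mpr ⟨by omega, by omega⟩)
  have h := Cfsg.Agent.Lib.Helper25.SpReg.tau_sig_rel _ _ _ hxy hyz s t
  rw [gram_neg_one hp l] at h
  have e1 : s * t * (-1 : F) = -(s * t) := by ring
  have e2 : -(s ^ 2 * t * (-1 : F) ^ 2) = -(s ^ 2 * t) := by ring
  rw [e1, e2] at h
  exact h

theorem inst_rel_TSm {u : Matrix.symplecticGroup (Fin n) F} {a : Fin n ⊕ Fin n → F}
    (hp : GoodPair u a) (l k : ℤ) (s t : F) (h1 : l - (n : ℤ) < k) (h2 : k < l) :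
    (tauE (avec u a l) t : Matrix.symplecticGroup (Fin n) F) *
        sigE (avec u a (l - (n : ℤ))) (avec u a k) s =
      sigE (avec u a l) (avec u a k) (s * t) * tauE (avec u a k) (-(s ^ 2 * t)) *
        sigE (avec u a (l - (n : ℤ))) (avec u a k) s * tauE (avec u a l) t := by
  have hxy := Cfsg.Agent.Lib.Helper11.SpReg.gram_zero hp (l - (n : ℤ)) k
    (abs_lt.mpr ⟨by omega, by omega⟩)
  have hyz := Cfsg.Agent.Lib.Helper11.SpReg.gram_zero hp k l (abs_lt.mpr ⟨by omega, by omega⟩)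
  have h := Cfsg.Agent.Lib.Helper25.SpReg.tau_sig_rel _ _ _ hxy hyz s t
  rw [gram_one' hp l] at h
  have e1 : s * t * (1 : F) = s * t := by ring
  have e2 : -(s ^ 2 * t * (1 : F) ^ 2) = -(s ^ 2 * t) := by ring
  rw [e1, e2] at h
  exact h

theorem inst_rel_SS {u : Matrix.symplecticGroup (Fin n) F} {a : Fin n ⊕ Fin n → F}
    (hp : GoodPair u a) (j k m : ℤ) (s t : F) (h1 : k - (n : ℤ) < j) (h2 : j < k)
    (h3 : k - (n : ℤ) < m) (h4 : m < k) :
    (sigE (avec u a j) (avec u a k) s : Matrix.symplecticGroup (Fin n) F) *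
        sigE (avec u a (k - (n : ℤ))) (avec u a m) t =
      sigE (avec u a j) (avec u a m) (s * t) * sigE (avec u a (k - (n : ℤ))) (avec u a m) t *
        sigE (avec u a j) (avec u a k) s := by
  have hxy := Cfsg.Agent.Lib.Helper11.SpReg.gram_zero hp j k (abs_lt.mpr ⟨by omega, by omega⟩)
  have hzw := Cfsg.Agent.Lib.Helper11.SpReg.gram_zero hp (k - (n : ℤ)) m
    (abs_lt.mpr ⟨by omega, by omega⟩)
  have hxz := Cfsg.Agent.Lib.Helper11.SpReg.gram_zero hp j (k - (n : ℤ))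
    (abs_lt.mpr ⟨by omega, by omega⟩)
  have hxw := Cfsg.Agent.Lib.Helper11.SpReg.gram_zero hp j m (abs_lt.mpr ⟨by omega, by omega⟩)
  have hyw := Cfsg.Agent.Lib.Helper11.SpReg.gram_zero hp k m (abs_lt.mpr ⟨by omega, by omega⟩)
  have h := Cfsg.Agent.Lib.Helper25.SpReg.sig_sig_rel _ _ _ _ hxy hzw hxz hxw hyw s t
  rw [gram_neg_one' hp k] at h
  have e1 : -(s * t * (-1 : F)) = s * t := by ring
  rw [e1] at h
  exact h

/-- **S2281-[INST]**: the concrete root system of a good pair. -/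
noncomputable def rootSys {u : Matrix.symplecticGroup (Fin n) F} {a : Fin n ⊕ Fin n → F}
    (hp : GoodPair u a) : RootSys F (Matrix.symplecticGroup (Fin n) F) n where
  T k s := tauE (avec u a k) s
  S j k s := sigE (avec u a j) (avec u a k) s
  sh := MulAut.conj u
  T_add := fun k s t => Cfsg.Agent.Lib.Helper14.SpReg.tauE_add _ s t
  S_add := fun j k s t => Cfsg.Agent.Lib.Helper14.SpReg.sigE_add _ _ s t
  S_symm := fun j k s => Cfsg.Agent.Lib.Helper14.SpReg.sigE_symm _ _ s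
  sh_T := fun k s => by
    show u * tauE (avec u a k) s * u⁻¹ = tauE (avec u a (k + 1)) s
    rw [Cfsg.Agent.Lib.Helper14.SpReg.conj_tauE, Cfsg.Agent.Lib.Helper11.SpReg.avec_succ]
  sh_S := fun j k s => by
    show u * sigE (avec u a j) (avec u a k) s * u⁻¹ = sigE (avec u a (j + 1)) (avec u a (k + 1)) s
    rw [Cfsg.Agent.Lib.Helper14.SpReg.conj_sigE, Cfsg.Agent.Lib.Helper11.SpReg.avec_succ,
      Cfsg.Agent.Lib.Helper11.SpReg.avec_succ]
  TT_comm := fun j k s t h =>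
    Cfsg.Agent.Lib.Helper14.SpReg.tau_tau_comm _ _
      (Cfsg.Agent.Lib.Helper11.SpReg.gram_zero hp j k h) s t
  TS_comm := fun l j k t s h1 h2 =>
    Cfsg.Agent.Lib.Helper14.SpReg.tau_sig_comm _ _ _
      (Cfsg.Agent.Lib.Helper11.SpReg.gram_zero hp j l (by rwa [abs_sub_comm]))
      (Cfsg.Agent.Lib.Helper11.SpReg.gram_zero hp k l (by rwa [abs_sub_comm])) s t
  SS_comm := fun j k l m s t h1 h2 h3 h4 =>
    Cfsg.Agent.Lib.Helper14.SpReg.sig_sig_comm _ _ _ _
      (Cfsg.Agent.Lib.Helper11.SpReg.gram_zero hp j l h1)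
      (Cfsg.Agent.Lib.Helper11.SpReg.gram_zero hp j m h2)
      (Cfsg.Agent.Lib.Helper11.SpReg.gram_zero hp k l h3)
      (Cfsg.Agent.Lib.Helper11.SpReg.gram_zero hp k m h4) s t
  rel_TSp := fun l k s t h1 h2 => inst_rel_TSp hp l k s t h1 h2
  rel_TSm := fun l k s t h1 h2 => inst_rel_TSm hp l k s t h1 h2
  rel_SS := fun j k m s t h1 h2 h3 h4 _ => inst_rel_SS hp j k m s t h1 h2 h3 h4

theorem rootSys_T {u : Matrix.symplecticGroup (Fin n) F} {a : Fin n ⊕ Fin n → F}
    (hp : GoodPair u a) (k : ℤ) (s : F) : (rootSys hp).T k s = tauE (avec u a k) s := rfl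

theorem rootSys_S {u : Matrix.symplecticGroup (Fin n) F} {a : Fin n ⊕ Fin n → F}
    (hp : GoodPair u a) (j k : ℤ) (s : F) :
    (rootSys hp).S j k s = sigE (avec u a j) (avec u a k) s := rfl

theorem rootSys_sh {u : Matrix.symplecticGroup (Fin n) F} {a : Fin n ⊕ Fin n → F}
    (hp : GoodPair u a) (x : Matrix.symplecticGroup (Fin n) F) :
    (rootSys hp).sh x = u * x * u⁻¹ := rfl

/-- **S2281-[INST]**: the three conjugates of `u` generate a subgroup satisfying `Gen`. -/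
theorem gen_of_closure {u : Matrix.symplecticGroup (Fin n) F} {a : Fin n ⊕ Fin n → F}
    (hp : GoodPair u a) (c : F) :
    Gen (rootSys hp)
      (Subgroup.closure ({u, tauE a c * u * (tauE a c)⁻¹,
        sigE a (avec u a 1) c * u * (sigE a (avec u a 1) c)⁻¹} :
          Set (Matrix.symplecticGroup (Fin n) F))) c :=
  gen_of_closure_core c _ (fun _ _ => rfl) (fun _ _ _ => rfl) (fun _ => rfl)

end Cfsg.Agent.Lib.Helper86.SpReg
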