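/-
helper86: the strengthened Frobenius criterion for fusion systems (Díaz-Glesser-Mazza-Park): if `p` is odd or `F` is
`S₄`-free, and `Aut_F(Q)` is a `p`-group for every nontrivial characteristic subgroup `Q` of `S`, then `F` is inner.
* `paut_of_qpaut`: `Q` normal in `E`, `Aut_E(R)` acts on `R/Q` through `p`-elements and `Aut_E(Q)` is a `p`-group, then all
  automizers are `p`-groups.
* `paut_of_normal_char`, `frobenius_paut`, `frobenius_inner`.
-/
import Cfsg.Agent.Lib.Helper86.ThompsonFusD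

set_option autoImplicit false
set_option linter.unusedSectionVars false
set_option linter.style.haveILetI false

universe u

namespace Cfsg.Agent.Lib.Helper86.ThompsonFus

open Cfsg Cfsg.FusionSystem Cfsg.Agent.Lib.Helper87 Cfsg.Agent.Lib.Helper88.NilpRed

section stab

variable {Ω : Type*} [Group Ω]

theorem pow_apply_of_restrict {A B : Subgroup Ω} (hAB : A ≤ B) (β : MulAut B) (α : MulAut A)
    (h : ∀ x : A, ((β (Subgroup.inclusion hAB x) : B) : Ω) = ((α x : A) : Ω)) (n : ℕ) (x : A) :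
    (((β ^ n) (Subgroup.inclusion hAB x) : B) : Ω) = (((α ^ n) x : A) : Ω) := by
  induction n with
  | zero => simp
  | succ n ih =>
    rw [pow_succ', pow_succ', MulAut.mul_apply, MulAut.mul_apply]
    have e : (β ^ n) (Subgroup.inclusion hAB x) = Subgroup.inclusion hAB ((α ^ n) x) := Subtype.ext ih
    rw [e]
    exact h _

theorem stab_pow {R Q : Subgroup Ω} (δ : MulAut R) (h : ∀ x : R, (x : Ω)⁻¹ * ((δ x : R) : Ω) ∈ Q) (n : ℕ) :
    ∀ x : R, (x : Ω)⁻¹ * (((δ ^ n) x : R) : Ω) ∈ Q := by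
  induction n with
  | zero =>
    intro x
    simp
  | succ n ih =>
    intro x
    rw [pow_succ', MulAut.mul_apply]
    have h1 := ih x
    have h2 := h ((δ ^ n) x)
    have e : (x : Ω)⁻¹ * ((δ ((δ ^ n) x) : R) : Ω) =
        ((x : Ω)⁻¹ * (((δ ^ n) x : R) : Ω)) * ((((δ ^ n) x : R) : Ω)⁻¹ * ((δ ((δ ^ n) x) : R) : Ω)) := by group
    rw [e]
    exact Q.mul_mem h1 h2

/-- An automorphism of `R` acting trivially on `Q` and on `R/Q` has order dividing `|Q|`. -/
theorem pow_card_eq_one_of_stab {R Q : Subgroup Ω} [Finite Q] (γ : MulAut R)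
    (h1 : ∀ x : R, (x : Ω) ∈ Q → γ x = x) (h2 : ∀ x : R, (x : Ω)⁻¹ * ((γ x : R) : Ω) ∈ Q) :
    γ ^ Nat.card Q = 1 := by
  ext x
  have hq : ((x⁻¹ * γ x : R) : Ω) ∈ Q := h2 x
  have hγq : γ (x⁻¹ * γ x) = x⁻¹ * γ x := h1 _ hq
  have hγx : γ x = x * (x⁻¹ * γ x) := by group
  have key : ∀ n : ℕ, (γ ^ n) x = x * (x⁻¹ * γ x) ^ n := by
    intro n
    induction n with
    | zero => simp
    | succ n ih =>
      rw [pow_succ', MulAut.mul_apply, ih, map_mul, map_pow, hγq, pow_succ']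
      rw [← mul_assoc, ← hγx]
  have hpow : (x⁻¹ * γ x) ^ Nat.card Q = 1 := by
    have h3 : (⟨((x⁻¹ * γ x : R) : Ω), hq⟩ : Q) ^ Nat.card Q = 1 := pow_card_eq_one'
    have h4 : ((x⁻¹ * γ x : R) : Ω) ^ Nat.card Q = 1 := by
      have h5 : (((⟨((x⁻¹ * γ x : R) : Ω), hq⟩ : Q) ^ Nat.card Q : Q) : Ω) = ((1 : Q) : Ω) :=
        congrArg (fun z : Q => (z : Ω)) h3
      rw [Subgroup.coe_pow, Subgroup.coe_one] at h5
      exact h5
    apply Subtype.ext
    rw [Subgroup.coe_pow]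
    exact h4
  rw [key, hpow, mul_one]
  rfl

end stab

section main

variable {p : ℕ} [Fact p.Prime]

/-- If `Q` is normal in `E`, every `Aut_E(R)` acts on `R/Q` through `p`-elements, and `Aut_E(Q)` consists of
`p`-elements, then all automorphisms of `E` are `p`-elements. -/
theorem paut_of_qpaut {Ω : Type*} [Group Ω] {T : Subgroup Ω} [Finite T] (E : FusionSystem T) {Q : Subgroup Ω}
    (hQ : E.IsNormal Q) (hQP : QPAut E p Q) (hA : ∀ α ∈ E.autGroup Q, ∃ k : ℕ, α ^ p ^ k = 1)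
    (hQp : IsPGroup p Q) : PAut E p := by
  intro P hP α hα
  have hQT : Q ≤ T := hQ.1
  have hφ : P.subtype.comp (α : P ≃* P).toMonoidHom ∈ E.Hom P := (mem_autGroup_iff E hP).1 hα
  obtain ⟨ψ, hψ, hψ1, hψ2⟩ := hQ.2 P _ hφ
  have hψ2' := (map_subgroupOf_eq_iff ψ).1 hψ2
  have hPQ : P ⊔ Q ≤ T := sup_le hP hQT
  have hval : ∀ z, ψ z ∈ P ⊔ Q := by
    intro z
    refine map_sup_mem ψ (fun x => ?_) (fun x => ?_) z
    · rw [hψ1 x]
      exact le_sup_left (b := Q) (α x).2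
    · exact le_sup_right (a := P) (hψ2'.1 _ x.2)
  haveI : Finite ↥(P ⊔ Q) := finite_of_le hPQ
  haveI : Finite ↥Q := finite_of_le hQT
  obtain ⟨β, hβ, hβx⟩ := exists_aut_of_maps_into' E hψ hval
  have hψQ : ψ.comp (Subgroup.inclusion (le_sup_right : Q ≤ P ⊔ Q)) ∈ E.Hom Q :=
    Cfsg.Agent.Lib.Helper85.restrict_mem E hψ le_sup_right
  have hvalQ : ∀ x : Q, (ψ.comp (Subgroup.inclusion (le_sup_right : Q ≤ P ⊔ Q))) x ∈ Q :=
    fun x => hψ2'.1 _ x.2
  obtain ⟨βQ, hβQ, hβQx⟩ := exists_aut_of_maps_into' E hψQ hvalQ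
  obtain ⟨k₂, hk₂⟩ := hA βQ hβQ
  obtain ⟨k₁, hk₁⟩ := hQP (P ⊔ Q) le_sup_right hPQ β hβ
  obtain ⟨m, hm⟩ := IsPGroup.iff_card.1 hQp
  have hrelQ : ∀ x : Q, ((β (Subgroup.inclusion (le_sup_right : Q ≤ P ⊔ Q) x) : ↥(P ⊔ Q)) : Ω) =
      ((βQ x : Q) : Ω) := by
    intro x
    rw [hβx, hβQx]
    rfl
  have hrelP : ∀ x : P, ((β (Subgroup.inclusion (le_sup_left : P ≤ P ⊔ Q) x) : ↥(P ⊔ Q)) : Ω) =
      ((α x : P) : Ω) := by
    intro x
    rw [hβx, hψ1 x]
    rfl
  -- `γ = β ^ p ^ (k₁ + k₂)` acts trivially on `Q` and on `(P ⊔ Q)/Q`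
  have hβQpow : βQ ^ p ^ (k₁ + k₂) = 1 := by
    rw [add_comm, pow_add, pow_mul, hk₂, one_pow]
  have h1 : ∀ x : ↥(P ⊔ Q), (x : Ω) ∈ Q → (β ^ p ^ (k₁ + k₂)) x = x := by
    intro x hx
    apply Subtype.ext
    have h3 := pow_apply_of_restrict (le_sup_right : Q ≤ P ⊔ Q) β βQ hrelQ (p ^ (k₁ + k₂)) ⟨(x : Ω), hx⟩
    rw [hβQpow] at h3
    exact h3
  have h2 : ∀ x : ↥(P ⊔ Q), (x : Ω)⁻¹ * (((β ^ p ^ (k₁ + k₂)) x : ↥(P ⊔ Q)) : Ω) ∈ Q := by
    rw [pow_add, pow_mul]
    exact stab_pow _ hk₁ _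
  have h3 := pow_card_eq_one_of_stab (β ^ p ^ (k₁ + k₂)) h1 h2
  rw [hm, ← pow_mul, ← pow_add] at h3
  refine ⟨k₁ + k₂ + m, ?_⟩
  ext x
  have h4 := pow_apply_of_restrict (le_sup_left : P ≤ P ⊔ Q) β α hrelP (p ^ (k₁ + k₂ + m)) x
  rw [h3] at h4
  exact h4.symm

/-- Invariance under all automorphisms. -/
def CharHyp (p : ℕ) {Ω : Type*} [Group Ω] {S : Subgroup Ω} (F : FusionSystem S) : Prop :=
  ∀ Q : Subgroup Ω, Q ≤ S → Q ≠ ⊥ → (∀ (α : S ≃* S) (x : S), (x : Ω) ∈ Q → ((α x : S) : Ω) ∈ Q) →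
    ∀ γ ∈ F.autGroup Q, ∃ k : ℕ, γ ^ p ^ k = 1

theorem invariant_transport {Ω : Type*} [Group Ω] {T S : Subgroup Ω} (hTS : T = S) {Q R : Subgroup Ω}
    (hQ : ∀ (α : S ≃* S) (x : S), (x : Ω) ∈ Q → ((α x : S) : Ω) ∈ Q)
    (hR : ∀ α : T ≃* T, (∀ x : T, (x : Ω) ∈ Q ↔ ((α x : T) : Ω) ∈ Q) →
      ∀ x : T, (x : Ω) ∈ R → ((α x : T) : Ω) ∈ R) :
    ∀ (α : S ≃* S) (x : S), (x : Ω) ∈ R → ((α x : S) : Ω) ∈ R := by
  subst hTS
  intro α x hx
  refine hR α (fun y => ⟨hQ α y, fun h => ?_⟩) x hx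
  have h1 := hQ α.symm (α y) h
  rwa [MulEquiv.symm_apply_apply] at h1

/-- The inductive step at a normal subgroup `Q`. -/
theorem paut_of_normal_char (hI : FreeHyp.{u} p) {Ω : Type u} [Group Ω] {T : Subgroup Ω} [Finite T]
    (hT : IsPGroup p T)
    (IH : ∀ m < Nat.card T, ∀ {Ω' : Type u} [Group Ω'] {S' : Subgroup Ω'} [Finite S'], Nat.card S' = m →
      IsPGroup p S' → ∀ F' : FusionSystem S', F'.IsSaturated p → Free p F' → CharHyp p F' → PAut F' p)
    (E : FusionSystem T) (hE : E.IsSaturated p) (hfree : Free p E) (Q : Subgroup Ω) (hQ : E.IsNormal Q)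
    (hQne : Q ≠ ⊥)
    (hR : ∀ R : Subgroup Ω, Q ≤ R → R ≤ T →
      (∀ α : T ≃* T, (∀ x : T, (x : Ω) ∈ Q ↔ ((α x : T) : Ω) ∈ Q) →
        ∀ x : T, (x : Ω) ∈ R → ((α x : T) : Ω) ∈ R) →
      ∀ γ ∈ E.autGroup R, ∃ k : ℕ, γ ^ p ^ k = 1) : PAut E p := by
  have hQT : Q ≤ T := hQ.1
  have hQsc : E.StronglyClosed Q := Cfsg.Agent.Lib.Helper84.stronglyClosed_of_isNormal E hQ
  haveI hn : (Q.subgroupOf T).Normal :=
    ⟨fun n hn g => Subgroup.mem_subgroupOf.2 (StronglyClosed_conj_mem hQsc g.2 (Subgroup.mem_subgroupOf.1 hn))⟩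
  have hker : ∀ s : T, QuotientGroup.mk' (Q.subgroupOf T) s = 1 ↔ (s : Ω) ∈ Q := by
    intro s
    rw [QuotientGroup.mk'_apply, QuotientGroup.eq_one_iff]
    exact Subgroup.mem_subgroupOf
  have hrange : (QuotientGroup.mk' (Q.subgroupOf T)).range = ⊤ :=
    MonoidHom.range_eq_top.2 (QuotientGroup.mk'_surjective _)
  have hĒ := Cfsg.Agent.Lib.Helper85.isFactorSystem_factorSystem E Q hQsc
    (QuotientGroup.mk' (Q.subgroupOf T)) hker hrange
  have hpquot : IsPGroup p (T ⧸ Q.subgroupOf T) := hT.to_quotient _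
  have hptop : IsPGroup p (⊤ : Subgroup (T ⧸ Q.subgroupOf T)) := hpquot.to_subgroup _
  have hĒsat := Cfsg.Agent.Lib.Helper85.isSaturated_of_isFactorSystem hT E hE hQsc _ _ hĒ
  have hcard : Nat.card (⊤ : Subgroup (T ⧸ Q.subgroupOf T)) < Nat.card T := by
    rw [Subgroup.card_top]
    have h1 := Subgroup.card_eq_card_quotient_mul_card_subgroup (Q.subgroupOf T)
    have h2 : 1 < Nat.card (Q.subgroupOf T) := by
      rw [Subgroup.one_lt_card_iff_ne_bot]
      intro h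
      rw [Subgroup.subgroupOf_eq_bot] at h
      apply hQne
      rw [← inf_of_le_left hQT]
      exact disjoint_iff.1 h
    have h3 : 0 < Nat.card (T ⧸ Q.subgroupOf T) := Nat.card_pos
    nlinarith
  have hĒfree : Free p (Cfsg.Agent.Lib.Helper85.factorSystem E Q hQsc
      (QuotientGroup.mk' (Q.subgroupOf T)) hker hrange) := hI.quot hT E hE hfree Q hQ _ _ hĒ
  have hĒchar : CharHyp p (Cfsg.Agent.Lib.Helper85.factorSystem E Q hQsc
      (QuotientGroup.mk' (Q.subgroupOf T)) hker hrange) := by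
    intro R' hR'S _ hR'inv β' hβ'
    have hR'r : R' ≤ (QuotientGroup.mk' (Q.subgroupOf T)).range := hrange ▸ hR'S
    obtain ⟨-, -, -, hHom⟩ := hĒ
    obtain ⟨γ, hγ⟩ := Cfsg.Agent.Lib.Helper85.exists_autQuotHom_eq E hQsc _ hker _ hHom hR'S hR'r hβ'
    have hQR : Q ≤ preimageAlong (QuotientGroup.mk' (Q.subgroupOf T)) R' := by
      intro q hq
      rw [Cfsg.Agent.Lib.Helper85.mem_preimageAlong_iff]
      refine ⟨hQT hq, ?_⟩
      rw [(hker ⟨q, hQT hq⟩).2 hq]
      exact Subgroup.one_mem _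
    have hRT : preimageAlong (QuotientGroup.mk' (Q.subgroupOf T)) R' ≤ T :=
      Cfsg.Agent.Lib.Helper85.preimageAlong_le _ _
    obtain ⟨k, hk⟩ := hR _ hQR hRT (by
      intro α hαQ x hx
      have hmap : (Q.subgroupOf T).map α.toMonoidHom = Q.subgroupOf T := by
        ext y
        constructor
        · rintro ⟨z, hz, rfl⟩
          exact Subgroup.mem_subgroupOf.2 ((hαQ z).1 (Subgroup.mem_subgroupOf.1 hz))
        · intro hy
          refine ⟨α.symm y, Subgroup.mem_subgroupOf.2 ((hαQ _).2 ?_), α.apply_symm_apply y⟩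
          rw [α.apply_symm_apply]
          exact Subgroup.mem_subgroupOf.1 hy
      have hx' := (Cfsg.Agent.Lib.Helper85.mem_preimageAlong_iff _ _ _).1 hx
      obtain ⟨hxT, hxR⟩ := hx'
      have hx2 : (⟨(x : Ω), hxT⟩ : T) = x := rfl
      rw [hx2] at hxR
      have h1 := hR'inv ((Subgroup.topEquiv).trans
        ((QuotientGroup.congr (Q.subgroupOf T) (Q.subgroupOf T) α hmap).trans Subgroup.topEquiv.symm))
        ⟨QuotientGroup.mk' (Q.subgroupOf T) x, Subgroup.mem_top _⟩ hxR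
      rw [Cfsg.Agent.Lib.Helper85.mem_preimageAlong_iff]
      refine ⟨(α x).2, ?_⟩
      exact h1) (γ : MulAut _) γ.2
    refine ⟨k, ?_⟩
    have h5 : γ ^ p ^ k = 1 := Subtype.ext (by simpa using hk)
    rw [← hγ, ← map_pow, h5, map_one]
  have hPĒ : PAut (Cfsg.Agent.Lib.Helper85.factorSystem E Q hQsc
      (QuotientGroup.mk' (Q.subgroupOf T)) hker hrange) p :=
    IH _ hcard rfl hptop _ hĒsat hĒfree hĒchar
  have hQP : QPAut E p Q := qpaut_of_paut_factor E hQsc _ _ hĒ hPĒ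
  refine paut_of_qpaut E hQ hQP ?_ (hT.to_le hQT)
  intro α hα
  exact hR Q le_rfl hQT (fun α' hα' x hx => (hα' x).1 hx) α hα

/-- **Strengthened Frobenius criterion**, in `PAut` form. -/
theorem frobenius_paut (hI : FreeHyp.{u} p) :
    ∀ (n : ℕ) {Ω : Type u} [Group Ω] {S : Subgroup Ω} [Finite S], Nat.card S = n → IsPGroup p S →
      ∀ F : FusionSystem S, F.IsSaturated p → Free p F → CharHyp p F → PAut F p := by
  intro n
  induction n using Nat.strong_induction_on with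
  | _ n IH =>
  intro Ω _ S _ hn hS F hF hfree hchar
  by_cases hSbot : S = ⊥
  · intro P hP α _
    refine ⟨0, ?_⟩
    have hPbot : P ≤ ⊥ := hSbot ▸ hP
    have : Subsingleton P := by
      constructor
      intro a b
      apply Subtype.ext
      rw [Subgroup.mem_bot.1 (hPbot a.2), Subgroup.mem_bot.1 (hPbot b.2)]
    ext x
    exact congrArg Subtype.val (Subsingleton.elim _ _)
  -- every nontrivial invariant subgroup has a `PAut` normalizer system
  have claim : ∀ Q : Subgroup Ω, Q ≤ S → Q ≠ ⊥ →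
      (∀ (α : S ≃* S) (x : S), (x : Ω) ∈ Q → ((α x : S) : Ω) ∈ Q) → NPAut F p Q := by
    intro Q hQS hQne hQinv
    haveI : Finite Q := finite_of_le hQS
    have hQN : normalizerIn S Q = S := by
      apply le_antisymm inf_le_left
      intro s hs
      refine ⟨hs, ?_⟩
      apply Cfsg.Agent.Lib.Helper88.mem_normalizer_of_conj_mem_of_finite
      intro y hy
      have h1 := hQinv (conjAut S s (Subgroup.le_normalizer hs)) ⟨y, hQS hy⟩ hy
      rwa [conjAut_apply] at h1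
    have hQfn : F.IsFullyNormalized Q := by
      refine ⟨hQS, fun Q' _ => ?_⟩
      rw [hQN]
      exact Nat.card_le_card_of_injective (Subgroup.inclusion inf_le_left) (Subgroup.inclusion_injective _)
    have hE := Cfsg.Agent.Lib.Helper87.isNormalizerSystem_normalizerSystem F Q hQS
    have hEsat := isSaturated_of_isNormalizerSystem F hS hF hQfn hE
    have hTS : normalizerIn S Q ≤ S := inf_le_left
    haveI : Finite (normalizerIn S Q) := finite_of_le hTS
    have hcardT : Nat.card (normalizerIn S Q) = n := by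
      rw [hQN]
      exact hn
    apply npaut_of_paut F hE
    refine paut_of_normal_char hI (hS.to_le hTS) ?_ _ hEsat (hI.norm hS F hF hfree Q hQfn _ hE) Q
      (isNormal_of_isNormalizerSystem F hQS hE) hQne ?_
    · intro m hm
      exact IH m (hcardT ▸ hm)
    · intro R hQR hRT hRinv γ hγ
      have hRS : R ≤ S := hRT.trans hTS
      have hRne : R ≠ ⊥ := by
        rintro rfl
        exact hQne (le_bot_iff.1 hQR)
      refine hchar R hRS hRne (invariant_transport hQN hQinv hRinv) γ ?_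
      rw [mem_autGroup_iff F hRS]
      have h1 : R.subtype.comp (γ : R ≃* R).toMonoidHom ∈
          (Cfsg.Agent.Lib.Helper87.normalizerSystem F Q hQS).Hom R :=
        (mem_autGroup_iff (Cfsg.Agent.Lib.Helper87.normalizerSystem F Q hQS) hRT).1 hγ
      rw [hE R] at h1
      exact h1.1
  have hSne : S ≠ ⊥ := hSbot
  have hinvW : ∀ {W : ∀ (Q : Type u) [Group Q], Subgroup Q}, IsCharPFunctor p W →
      ∀ (α : S ≃* S) (x : S), (x : Ω) ∈ inducedFunctor W S → ((α x : S) : Ω) ∈ inducedFunctor W S :=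
    fun hW α x hx => (inducedFunctor_equiv hW hS α x).1 hx
  have hZ : NPAut F p (inducedFunctor zF S) :=
    claim _ (inducedFunctor_le zF S) (inducedFunctor_ne_bot (isCharPFunctor_zF p) hS hSne)
      (hinvW (isCharPFunctor_zF p))
  have hJ : NPAut F p (inducedFunctor jF S) :=
    claim _ (inducedFunctor_le jF S) (inducedFunctor_ne_bot (isCharPFunctor_jF p) hS hSne)
      (hinvW (isCharPFunctor_jF p))
  exact thompson_paut hI hS F hF ⟨hfree, cpaut_of_npaut F hZ, hJ⟩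

/-- **Strengthened Frobenius criterion** for fusion systems. -/
theorem frobenius_inner {Ω : Type u} [Group Ω] {S : Subgroup Ω} [Finite S] (hS : IsPGroup p S)
    (F : FusionSystem S) (hF : F.IsSaturated p) (hp : p ≠ 2 ∨ F.IsSectionFree p (Equiv.Perm (Fin 4)))
    (h : ∀ Q : Subgroup Ω, Q ≤ S → Q ≠ ⊥ → (Q.subgroupOf S).Characteristic → IsPGroup p (F.autGroup Q)) :
    ∀ P : Subgroup Ω, F.Hom P = (innerFusionSystem S).Hom P := by
  apply inner_of_paut hS F hF
  refine frobenius_paut (freeHyp p) (Nat.card S) rfl hS F hF hp ?_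
  intro Q hQS hQne hQinv γ hγ
  have hc : (Q.subgroupOf S).Characteristic := by
    rw [Subgroup.characteristic_iff_le_comap]
    intro φ x hx
    exact Subgroup.mem_subgroupOf.2 (hQinv φ x (Subgroup.mem_subgroupOf.1 hx))
  obtain ⟨k, hk⟩ := h Q hQS hQne hc ⟨γ, hγ⟩
  exact ⟨k, by simpa using congrArg Subtype.val hk⟩

end main

end Cfsg.Agent.Lib.Helper86.ThompsonFus
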