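/-
helper86: a `p`-group `H` with `A ≤ Aut(H)` such that `A / Inn(H)` has a strongly `p`-embedded subgroup cannot admit a
subgroup `U ≤ A` of "transvections" with a common centre `Z` of order `p` containing all `p`-th powers and commutators.
All declarations live in `Cfsg.Agent.Lib.Helper86`.
-/
import Cfsg.Agent.Lib.Helper86.EssChain
import Cfsg.Agent.Lib.Helper48.SPE
import Cfsg.Agent.Lib.Helper86.P4Two

set_option autoImplicit false

namespace Cfsg.Agent.Lib.Helper86

open Cfsg
open scoped commutatorElement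

/-- An automorphism in `A` stabilising an `A`-invariant chain from `H` to `1` is inner, if `A / Inn(H)` has a strongly
`p`-embedded subgroup. -/
theorem mem_inn_of_mem_chainStab {H : Type*} [Group H] [Finite H] {p : ℕ} [hp : Fact p.Prime] (hH : IsPGroup p H)
    (A : Subgroup (MulAut H)) [hn : ((Cfsg.Inn H).subgroupOf A).Normal]
    (E : Subgroup (A ⧸ (Cfsg.Inn H).subgroupOf A)) (hE : IsStronglyPEmbedded p E)
    (t : ℕ) (c : ℕ → Subgroup H) (h0 : c 0 = ⊤) (ht : c t = ⊥)
    (hinv : ∀ j ≤ t, ∀ α ∈ A, ∀ x ∈ c j, α x ∈ c j) (β : MulAut H)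
    (hβ : β ∈ Helper87.chainStab A t c hinv) : β ∈ Cfsg.Inn H := by
  classical
  have hfin : Finite (MulAut H) := Finite.of_injective (fun α : MulAut H => (α : H → H)) DFunLike.coe_injective
  set I := (Cfsg.Inn H).subgroupOf A with hI
  set N := Helper87.chainStab A t c hinv with hN
  have hNp : IsPGroup p N := Helper87.chainStab_isPGroup hH A t c h0 ht hinv
  set π := QuotientGroup.mk' I with hπ
  set N' : Subgroup A := N.subgroupOf A with hN'
  have hN'n : N'.Normal := ⟨fun n hn g => by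
    rw [hN', Subgroup.mem_subgroupOf]
    exact Helper87.chainStab_conj_mem A t c hinv g.2 (Subgroup.mem_subgroupOf.mp hn)⟩
  have hN'p : IsPGroup p N' := hNp.comap_subtype
  set N'' := N'.map π with hN''
  have hN''n : N''.Normal := Subgroup.Normal.map hN'n π (QuotientGroup.mk'_surjective I)
  have hN''p : IsPGroup p N'' := hN'p.map π
  have hbot : N'' = ⊥ := Helper84.normal_pgroup_eq_bot hE N'' hN''p
  have hβA : β ∈ A := hβ.1
  have h1 : π ⟨β, hβA⟩ ∈ N'' := Subgroup.mem_map_of_mem π (Subgroup.mem_subgroupOf.mpr hβ)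
  rw [hbot, Subgroup.mem_bot] at h1
  have h2 : (⟨β, hβA⟩ : A) ∈ I := (QuotientGroup.eq_one_iff _).mp h1
  exact Subgroup.mem_subgroupOf.mp h2

/-- **No transvection subgroups.** -/
theorem false_of_transvections {H : Type*} [Group H] [Finite H] {p : ℕ} [hp : Fact p.Prime] (hH : IsPGroup p H)
    (A : Subgroup (MulAut H)) [hn : ((Cfsg.Inn H).subgroupOf A).Normal]
    (M : Subgroup (A ⧸ (Cfsg.Inn H).subgroupOf A)) (hM : IsStronglyPEmbedded p M)
    (Z : Subgroup H) (hZ : Nat.card Z = p)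
    (hpow : ∀ x : H, x ^ p ∈ Z) (hcomm : ∀ x y : H, ⁅x, y⁆ ∈ Z)
    (U : Subgroup (MulAut H)) (hUA : U ≤ A)
    (hU1 : ∀ φ ∈ U, ∀ e : H, e⁻¹ * φ e ∈ Z) (hU2 : ∀ φ ∈ U, ∀ z ∈ Z, φ z = z)
    (hU4 : ∃ φ ∈ U, φ ∉ Cfsg.Inn H)
    (hU3 : (∀ x y : H, x * y = y * x) → ∀ w : H, ∃ φ ∈ U, φ ∉ Cfsg.Inn H ∧ φ w = w) : False := by
  classical
  have hp1 := hp.out.one_lt
  have hfin : Finite (MulAut H) := Finite.of_injective (fun α : MulAut H => (α : H → H)) DFunLike.coe_injective
  set K : Subgroup H := Subgroup.closure ({x | ∃ y : H, x = y ^ p} ∪ {x | ∃ a b : H, x = ⁅a, b⁆}) with hK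
  have hKZ : K ≤ Z := by
    rw [hK, Subgroup.closure_le]
    rintro x (⟨y, rfl⟩ | ⟨a, b, rfl⟩)
    · exact hpow y
    · exact hcomm a b
  have hKinv : ∀ α : MulAut H, ∀ x ∈ K, α x ∈ K := by
    intro α x hx
    have hle : K ≤ K.comap α.toMonoidHom := by
      rw [hK, Subgroup.closure_le]
      rintro x (⟨y, rfl⟩ | ⟨a, b, rfl⟩)
      · rw [SetLike.mem_coe, Subgroup.mem_comap]
        apply Subgroup.subset_closure
        left
        exact ⟨α y, by simp⟩
      · rw [SetLike.mem_coe, Subgroup.mem_comap]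
        apply Subgroup.subset_closure
        right
        exact ⟨α a, α b, by simp [map_commutatorElement]⟩
    exact hle hx
  by_cases hKbot : K = ⊥
  · -- `H` is elementary abelian
    have hexp : ∀ x : H, x ^ p = 1 := by
      intro x
      have : x ^ p ∈ K := Subgroup.subset_closure (Or.inl ⟨x, rfl⟩)
      rwa [hKbot, Subgroup.mem_bot] at this
    have hab : ∀ x y : H, x * y = y * x := by
      intro x y
      have : ⁅x, y⁆ ∈ K := Subgroup.subset_closure (Or.inr ⟨x, y, rfl⟩)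
      rw [hKbot, Subgroup.mem_bot] at this
      exact commutatorElement_eq_one_iff_mul_comm.mp this
    have hU3' := hU3 hab
    set I := (Cfsg.Inn H).subgroupOf A with hI
    set π := QuotientGroup.mk' I with hπ
    -- a generator of `Z`
    obtain ⟨z₀, hz₀Z, hz₀1⟩ : ∃ z₀ ∈ Z, z₀ ≠ 1 := by
      by_contra hcon
      push Not at hcon
      have : Z = ⊥ := by
        rw [eq_bot_iff]
        intro z hz
        rw [Subgroup.mem_bot]
        exact hcon z hz
      rw [this, Subgroup.card_bot] at hZ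
      omega
    have hZgen : ∀ z ∈ Z, ∃ k : ℕ, z₀ ^ k = z := by
      intro z hz
      have h1 : (⟨z₀, hz₀Z⟩ : Z) ≠ 1 := fun h => hz₀1 (congrArg Subtype.val h)
      obtain ⟨k, hk⟩ := mem_powers_of_prime_card (G := Z) hZ (g := ⟨z₀, hz₀Z⟩) (g' := ⟨z, hz⟩) h1
      exact ⟨k, by simpa using congrArg Subtype.val hk⟩
    -- elements of `U` have order dividing `p`
    have hUp : ∀ φ ∈ U, φ ^ p = 1 := by
      intro φ hφ
      ext e
      have h1 : φ e = e * (e⁻¹ * φ e) := by group
      have h2 := Helper87.pow_apply_mul_pow' φ e _ h1 (hU2 φ hφ _ (hU1 φ hφ e)) p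
      rw [h2]
      have h3 : (⟨e⁻¹ * φ e, hU1 φ hφ e⟩ : Z) ^ Nat.card Z = 1 := pow_card_eq_one'
      rw [hZ] at h3
      have h4 : (e⁻¹ * φ e) ^ p = 1 := congrArg Subtype.val h3
      rw [h4, mul_one]
      rfl
    -- the image of `U` in the quotient, a `p`-group
    set T₀ : Subgroup (A ⧸ I) := (U.subgroupOf A).map π with hT₀
    have hUp' : IsPGroup p U := by
      rintro ⟨φ, hφ⟩
      refine ⟨1, Subtype.ext ?_⟩
      rw [pow_one]
      exact hUp φ hφ
    have hT₀p : IsPGroup p T₀ := (hUp'.comap_subtype).map π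
    obtain ⟨-, hMtop, P, -, hPM, hP⟩ := Cfsg.Agent.Lib.Helper48.spe_data hM
    obtain ⟨u, -, hu⟩ := Cfsg.Agent.Lib.Helper48.exists_conj_le_sylow (⊤ : Subgroup (A ⧸ I)) P le_top T₀ le_top hT₀p
    have huT : ∀ φ (hφ : φ ∈ U), u * π ⟨φ, hUA hφ⟩ * u⁻¹ ∈ (P : Subgroup (A ⧸ I)) := by
      intro φ hφ
      apply hu
      refine ⟨π ⟨φ, hUA hφ⟩, ?_, by simp⟩
      exact Subgroup.mem_map_of_mem π (Subgroup.mem_subgroupOf.mpr hφ)
    have hord : ∀ φ (hφ : φ ∈ U), φ ∉ Cfsg.Inn H → orderOf (u * π ⟨φ, hUA hφ⟩ * u⁻¹) = p := by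
      intro φ hφ hφI
      apply orderOf_eq_prime
      · rw [conj_pow, ← map_pow]
        have : (⟨φ, hUA hφ⟩ : A) ^ p = 1 := Subtype.ext (by simpa using hUp φ hφ)
        rw [this, map_one, mul_one, mul_inv_cancel]
      · intro h
        apply hφI
        have h1 : π ⟨φ, hUA hφ⟩ = 1 := by
          have := congrArg (fun y => u⁻¹ * y * u) h
          simpa [mul_assoc] using this
        have h2 : (⟨φ, hUA hφ⟩ : A) ∈ I := (QuotientGroup.eq_one_iff _).mp h1
        exact Subgroup.mem_subgroupOf.mp h2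
    apply hMtop
    rw [eq_top_iff]
    intro g _
    -- it suffices to treat `u⁻¹ * g * u`
    obtain ⟨α, hα⟩ := QuotientGroup.mk'_surjective I (u⁻¹ * g * u)
    obtain ⟨φx, hφxU, hφxI, hφxw⟩ := hU3' (((α⁻¹ : A) : MulAut H) z₀)
    obtain ⟨φy, hφyU, hφyI, hφyw⟩ := hU3' (((α : A) : MulAut H) z₀)
    have hfixx : ∀ z ∈ Z, φx (((α⁻¹ : A) : MulAut H) z) = ((α⁻¹ : A) : MulAut H) z := by
      intro z hz
      obtain ⟨k, rfl⟩ := hZgen z hz
      rw [map_pow, map_pow, hφxw]
    have hfixy : ∀ z ∈ Z, φy (((α : A) : MulAut H) z) = ((α : A) : MulAut H) z := by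
      intro z hz
      obtain ⟨k, rfl⟩ := hZgen z hz
      rw [map_pow, map_pow, hφyw]
    set a : A := ⟨φx, hUA hφxU⟩ with ha
    set b : A := ⟨φy, hUA hφyU⟩ with hb
    have hcommute : (α * a * α⁻¹) * b = b * (α * a * α⁻¹) := by
      apply Subtype.ext
      ext e
      show ((α : A) : MulAut H) (φx (((α⁻¹ : A) : MulAut H) (φy e))) =
        φy (((α : A) : MulAut H) (φx (((α⁻¹ : A) : MulAut H) e)))
      set αm : MulAut H := ((α : A) : MulAut H) with hαm
      have hαinv : ((α⁻¹ : A) : MulAut H) = αm⁻¹ := rfl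
      rw [hαinv] at hfixx ⊢
      -- write things as products
      set z₁ := (αm⁻¹ e)⁻¹ * φx (αm⁻¹ e) with hz₁
      have hz₁Z : z₁ ∈ Z := hU1 φx hφxU _
      set z₂ := e⁻¹ * φy e with hz₂
      have hz₂Z : z₂ ∈ Z := hU1 φy hφyU _
      have h1 : φx (αm⁻¹ e) = αm⁻¹ e * z₁ := by rw [hz₁]; group
      have h2 : φy e = e * z₂ := by rw [hz₂]; group
      have h3 : αm (φx (αm⁻¹ e)) = e * αm z₁ := by
        rw [h1, map_mul, MulAut.apply_inv_self]
      have h4 : φy (αm z₁) = αm z₁ := hfixy z₁ hz₁Z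
      have h5 : φx (αm⁻¹ z₂) = αm⁻¹ z₂ := hfixx z₂ hz₂Z
      rw [h3, map_mul, h4, h2, map_mul, map_mul, map_mul, h1, h5, map_mul, MulAut.apply_inv_self,
        MulAut.apply_inv_self]
      rw [mul_assoc, mul_assoc, hab (αm z₁) z₂]
    -- pass to the quotient
    set g₀ := u⁻¹ * g * u with hg₀
    have hcq : (g₀ * π a * g₀⁻¹) * π b = π b * (g₀ * π a * g₀⁻¹) := by
      have := congrArg π hcommute
      simp only [map_mul, map_inv] at this
      rw [hα] at this
      exact this
    set a' := u * π a * u⁻¹ with ha'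
    set b' := u * π b * u⁻¹ with hb'
    have ha'P : a' ∈ (P : Subgroup (A ⧸ I)) := huT φx hφxU
    have hb'P : b' ∈ (P : Subgroup (A ⧸ I)) := huT φy hφyU
    have ha'o : orderOf a' = p := hord φx hφxU hφxI
    have hb'o : orderOf b' = p := hord φy hφyU hφyI
    have hs : g * a' * g⁻¹ * b' = b' * (g * a' * g⁻¹) := by
      have := congrArg (fun y => u * y * u⁻¹) hcq
      simp only [hg₀, ha', hb'] at this ⊢
      have e1 : u * (u⁻¹ * g * u * π a * (u⁻¹ * g * u)⁻¹ * π b) * u⁻¹ =
          g * (u * π a * u⁻¹) * g⁻¹ * (u * π b * u⁻¹) := by group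
      have e2 : u * (π b * (u⁻¹ * g * u * π a * (u⁻¹ * g * u)⁻¹)) * u⁻¹ =
          u * π b * u⁻¹ * (g * (u * π a * u⁻¹) * g⁻¹) := by group
      rw [e1, e2] at this
      exact this
    have hb'1 : Subgroup.zpowers b' ≠ ⊥ := by
      intro h
      have : b' = 1 := by
        have hm : b' ∈ Subgroup.zpowers b' := Subgroup.mem_zpowers b'
        rwa [h, Subgroup.mem_bot] at hm
      rw [this, orderOf_one] at hb'o
      omega
    have hsM : g * a' * g⁻¹ ∈ M := by
      apply hP (Subgroup.zpowers b') (by rw [Subgroup.zpowers_le]; exact hb'P) hb'1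
      rw [Subgroup.mem_normalizer_iff]
      intro n
      have hc : Commute (g * a' * g⁻¹) b' := hs
      constructor
      · intro hn
        obtain ⟨k, rfl⟩ := Subgroup.mem_zpowers_iff.mp hn
        have : g * a' * g⁻¹ * b' ^ k * (g * a' * g⁻¹)⁻¹ = b' ^ k := by
          rw [(hc.zpow_right k).eq, mul_inv_cancel_right]
        rw [this]
        exact hn
      · intro hn
        obtain ⟨k, hk⟩ := Subgroup.mem_zpowers_iff.mp hn
        have : n = b' ^ k := by
          have h1 : n = (g * a' * g⁻¹)⁻¹ * (g * a' * g⁻¹ * n * (g * a' * g⁻¹)⁻¹) * (g * a' * g⁻¹) := by group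
          rw [h1, ← hk]
          have hc' : Commute (g * a' * g⁻¹)⁻¹ (b' ^ k) := (hc.zpow_right k).inv_left
          rw [hc'.eq, inv_mul_cancel_right]
        rw [this]
        exact Subgroup.zpow_mem_zpowers b' k
    exact Cfsg.Agent.Lib.Helper48.spe_elem' hM g a' ha'o (hPM ha'P) hsM
  · -- `Z` is characteristic
    have hKeq : K = Z := by
      apply Subgroup.eq_of_le_of_card_ge hKZ
      have h1 : Nat.card K ∣ p := hZ ▸ Subgroup.card_dvd_of_le hKZ
      rcases (Nat.dvd_prime hp.out).mp h1 with h | h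
      · exact absurd (Subgroup.card_eq_one.mp h) hKbot
      · rw [hZ, h]
    have hZinv : ∀ α : MulAut H, ∀ x ∈ Z, α x ∈ Z := hKeq ▸ hKinv
    obtain ⟨φ, hφU, hφI⟩ := hU4
    let c : ℕ → Subgroup H := fun j =>
      match j with
      | 0 => ⊤
      | 1 => Z
      | _ => ⊥
    have hinv : ∀ j ≤ 2, ∀ α ∈ A, ∀ x ∈ c j, α x ∈ c j := by
      intro j _ α _ x hx
      match j with
      | 0 => exact Subgroup.mem_top _
      | 1 => exact hZinv α x hx
      | (k + 2) =>
        have hx' : x ∈ (⊥ : Subgroup H) := hx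
        rw [Subgroup.mem_bot] at hx'
        show α x ∈ (⊥ : Subgroup H)
        rw [hx', map_one]
        exact Subgroup.one_mem _
    apply hφI
    refine mem_inn_of_mem_chainStab hH A M hM 2 c rfl rfl hinv φ ⟨hUA hφU, ?_⟩
    intro j hj r hr
    have hj' : j = 0 ∨ j = 1 := by omega
    rcases hj' with rfl | rfl
    · exact hU1 φ hφU r
    · show r⁻¹ * φ r ∈ (⊥ : Subgroup H)
      rw [Subgroup.mem_bot, hU2 φ hφU r hr, inv_mul_cancel]

/-- conjugation by an element normalising `E`, as an automorphism of `E` -/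
def conjAutOfMem {Ω : Type*} [Group Ω] (E : Subgroup Ω) (g : Ω) (hg : ∀ e ∈ E, g * e * g⁻¹ ∈ E)
    (hg' : ∀ e ∈ E, g⁻¹ * e * g ∈ E) : MulAut E where
  toFun x := ⟨g * x * g⁻¹, hg x x.2⟩
  invFun x := ⟨g⁻¹ * x * g, hg' x x.2⟩
  left_inv x := by
    apply Subtype.ext
    show g⁻¹ * (g * x * g⁻¹) * g = x
    group
  right_inv x := by
    apply Subtype.ext
    show g * (g⁻¹ * x * g) * g⁻¹ = x
    group
  map_mul' x y := by
    apply Subtype.ext
    show g * (x * y) * g⁻¹ = (g * x * g⁻¹) * (g * y * g⁻¹)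
    group

theorem conjAutOfMem_apply {Ω : Type*} [Group Ω] (E : Subgroup Ω) (g : Ω) (hg : ∀ e ∈ E, g * e * g⁻¹ ∈ E)
    (hg' : ∀ e ∈ E, g⁻¹ * e * g ∈ E) (x : E) : ((conjAutOfMem E g hg hg' x : E) : Ω) = g * x * g⁻¹ := rfl

/-- A `p`-group of class at most two with centre of order `p` and an abelian subgroup of index at most `p` has order
at most `p ^ 3`. -/
theorem card_le_of_abelian_of_index_le {G : Type*} [Group G] [Finite G] {p : ℕ} [hp : Fact p.Prime] (hG : IsPGroup p G)
    (hcZ : commutator G ≤ Subgroup.center G) (hZ : Nat.card (Subgroup.center G) = p)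
    (B : Subgroup G) (hB : ∀ a ∈ B, ∀ b ∈ B, a * b = b * a) (hidx : B.index ≤ p) : Nat.card G ≤ p ^ 3 := by
  have hp1 := hp.out.one_lt
  have hp0 := hp.out.pos
  by_cases hBtop : B = ⊤
  · have hcen : Subgroup.center G = ⊤ := by
      rw [eq_top_iff]
      intro x _
      rw [Subgroup.mem_center_iff]
      intro g
      exact hB g (hBtop ▸ Subgroup.mem_top g) x (hBtop ▸ Subgroup.mem_top x)
    rw [hcen, Subgroup.card_top] at hZ
    rw [hZ]
    calc p = p ^ 1 := (pow_one p).symm
      _ ≤ p ^ 3 := Nat.pow_le_pow_right hp0 (by norm_num)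
  · obtain ⟨q, hq⟩ : ∃ q : G, q ∉ B := by
      by_contra hcon
      push Not at hcon
      exact hBtop (eq_top_iff.mpr fun x _ => hcon x)
    obtain ⟨n, hn⟩ := IsPGroup.iff_card.mp hG
    have hBidx : B.index = p := by
      obtain ⟨j, hjn, hj⟩ := (Nat.dvd_prime_pow hp.out).mp (hn ▸ Subgroup.index_dvd_card B)
      have hj1 : j ≤ 1 := by
        rw [hj] at hidx
        have : p ^ j ≤ p ^ 1 := by rwa [pow_one]
        exact (Nat.pow_le_pow_iff_right hp1).mp this
      interval_cases j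
      · rw [pow_zero] at hj
        exact absurd (Subgroup.index_eq_one.mp hj) hBtop
      · rw [hj, pow_one]
    have hqc : ∀ x : G, ⁅q, x⁆ ∈ Subgroup.center G := fun x =>
      hcZ (Subgroup.commutator_mem_commutator (Subgroup.mem_top q) (Subgroup.mem_top x))
    set φ := commHom q hqc with hφ
    have hKidx : φ.ker.index ≤ p := by
      rw [Subgroup.index_ker, ← hZ]
      apply Subgroup.card_le_of_le
      rintro _ ⟨x, rfl⟩
      exact hqc x
    have hcl : Subgroup.closure (insert q (B : Set G)) = ⊤ := by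
      apply eq_top_of_index_prime B _ ?_ hBidx q ?_ hq
      · exact fun b hb => Subgroup.subset_closure (Set.mem_insert_of_mem q hb)
      · exact Subgroup.subset_closure (Set.mem_insert q _)
    have hle : φ.ker ⊓ B ≤ Subgroup.center G := by
      intro e he
      rw [Subgroup.mem_center_iff]
      intro g
      have hle' : Subgroup.closure (insert q (B : Set G)) ≤ Subgroup.centralizer ({e} : Set G) := by
        rw [Subgroup.closure_le]
        intro t ht
        rw [SetLike.mem_coe, Subgroup.mem_centralizer_singleton_iff]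
        rcases ht with rfl | ht
        · have := (mem_commHom_ker t hqc e).mp he.1
          exact this
        · exact hB t ht e he.2
      have hg : g ∈ Subgroup.centralizer ({e} : Set G) := hle' (hcl ▸ Subgroup.mem_top g)
      rw [Subgroup.mem_centralizer_singleton_iff] at hg
      exact hg
    have h1 : Nat.card (φ.ker ⊓ B : Subgroup G) ≤ p := hZ ▸ Subgroup.card_le_of_le hle
    have h2 : (φ.ker ⊓ B).index ≤ p * p :=
      (Subgroup.index_inf_le).trans (Nat.mul_le_mul hKidx hBidx.le)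
    have h3 := Subgroup.card_mul_index (φ.ker ⊓ B)
    calc Nat.card G = Nat.card (φ.ker ⊓ B : Subgroup G) * (φ.ker ⊓ B).index := h3.symm
      _ ≤ p * (p * p) := Nat.mul_le_mul h1 h2
      _ = p ^ 3 := by ring

end Cfsg.Agent.Lib.Helper86
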